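import Mathlib

/-! Basic facts about transitive and primitive permutation groups. -/

set_option autoImplicit false

namespace Cfsg.Agent.PermGp

open MulAction

section general

variable {G : Type*} [Group G] {α : Type*} [MulAction G α]

/-- Orbit-stabiliser for a transitive action, with `Nat.card`. -/
theorem card_mul_card_stabilizer [IsPretransitive G α] (a : α) :
    Nat.card α * Nat.card (stabilizer G a) = Nat.card G := by
  rw [← index_stabilizer_of_transitive G a, Subgroup.index_mul_card]

theorem two_trans_exists (h : IsMultiplyPretransitive G α 2) {a b c d : α}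
    (hab : a ≠ b) (hcd : c ≠ d) : ∃ g : G, g • a = c ∧ g • b = d :=
  is_two_pretransitive_iff.mp h hab hcd

/-- A transitive group with an abelian transitive subgroup: semiregularity of centralisers. -/
theorem stabilizer_eq_bot_of_commute (N : Subgroup G) [FaithfulSMul G α]
    [IsPretransitive N α] {g : G} (hg : ∀ n ∈ N, g * n = n * g) {a : α} (ha : g • a = a) :
    g = 1 := by
  apply FaithfulSMul.eq_of_smul_eq_smul (α := α)
  intro x
  obtain ⟨n, rfl⟩ := exists_smul_eq N a x
  rw [one_smul]
  show g • ((n : G) • a) = (n : G) • a
  rw [← mul_smul, hg n n.2, mul_smul, ha]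

/-- A nontrivial normal subgroup of a faithful primitive action is transitive. -/
theorem normal_transitive [IsPreprimitive G α] [FaithfulSMul G α] (N : Subgroup G) [N.Normal]
    (hN : N ≠ ⊥) : IsPretransitive N α := by
  apply IsQuasiPreprimitive.isPretransitive_of_normal (G := G)
  intro h
  apply hN
  rw [Subgroup.eq_bot_iff_forall]
  intro n hn
  apply FaithfulSMul.eq_of_smul_eq_smul (α := α)
  intro x
  have : x ∈ fixedPoints N α := by rw [h]; trivial
  simpa using mem_fixedPoints.mp this ⟨n, hn⟩

theorem stabilizer_subgroup_eq (H : Subgroup G) (a : α) :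
    (stabilizer H a).map H.subtype = H ⊓ stabilizer G a := by
  ext g
  simp [Subgroup.mem_map, Subgroup.mem_inf, mem_stabilizer_iff, Subgroup.smul_def, and_comm]

theorem card_stabilizer_subgroup (H : Subgroup G) (a : α) :
    Nat.card (stabilizer H a) = Nat.card ↥(H ⊓ stabilizer G a) := by
  rw [← stabilizer_subgroup_eq]
  exact Nat.card_congr (Subgroup.equivMapOfInjective _ _ H.subtype_injective).toEquiv

end general

section perm

variable {α : Type*}

theorem perm_smul_def {G : Subgroup (Equiv.Perm α)} (g : G) (a : α) :
    g • a = (g : Equiv.Perm α) a := rfl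

theorem perm_ext {G : Subgroup (Equiv.Perm α)} {g h : G} (e : ∀ a : α, g • a = h • a) : g = h :=
  Subtype.ext (Equiv.ext e)

end perm

end Cfsg.Agent.PermGp
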