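import Cfsg.Prelude.Def_Perm
import Cfsg.Agent.Lib.PermGp.Basic

/-! The permutation module in the characteristic of the degree. -/

set_option autoImplicit false
set_option linter.unusedSectionVars false

namespace Cfsg.Agent.PermGp

open MulAction

section fixedvec

variable {K : Type*} [Field K] {P : Type*} [Group P] [Finite P] {M : Type*} [AddCommGroup M]
  [Module K M] {p : ℕ} [Fact p.Prime] [CharP K p]

/-- A `p`-group fixes a non-zero vector in every non-zero invariant subspace, in characteristic `p`. -/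
theorem exists_fixed_vector (hP : IsPGroup p P) (ρ : Representation K P M) (W : Submodule K M)
    (hW : ∀ g : P, ∀ v ∈ W, ρ g v ∈ W) (hne : W ≠ ⊥) :
    ∃ v ∈ W, v ≠ 0 ∧ ∀ g : P, ρ g v = v := by
  classical
  have := Fintype.ofFinite P
  obtain ⟨w, hw, hw0⟩ := (Submodule.ne_bot_iff W).mp hne
  let c : ZMod p →+* K := ZMod.castHom (dvd_refl p) K
  let Φ : (P → ZMod p) →+ M := AddMonoidHom.mk' (fun f => ∑ h : P, c (f h) • ρ h w) (by
    intro f f'
    simp [add_smul, Finset.sum_add_distrib])
  let S : AddSubgroup M := Φ.range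
  have hSW : ∀ v ∈ S, v ∈ W := by
    rintro v ⟨f, rfl⟩
    exact Submodule.sum_mem _ fun h _ => W.smul_mem _ (hW h w hw)
  have hinv : ∀ k : P, ∀ v ∈ S, ρ k v ∈ S := by
    rintro k v ⟨f, rfl⟩
    refine ⟨fun h => f (k⁻¹ * h), ?_⟩
    show (∑ h : P, c (f (k⁻¹ * h)) • ρ h w) = ρ k (∑ h : P, c (f h) • ρ h w)
    rw [map_sum]
    refine Fintype.sum_equiv (Equiv.mulLeft k⁻¹) _ _ fun h => ?_
    simp only [Equiv.coe_mulLeft, map_smul]
    rw [← Module.End.mul_apply, ← map_mul, mul_inv_cancel_left]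
  let act : MulAction P S :=
    { smul := fun k v => ⟨ρ k v.1, hinv k v.1 v.2⟩
      one_smul := fun v => Subtype.ext (show ρ 1 v.1 = v.1 by simp)
      mul_smul := fun k l v => Subtype.ext (show ρ (k * l) v.1 = ρ k (ρ l v.1) by
        rw [map_mul, Module.End.mul_apply]) }
  have : Finite S := Finite.of_surjective Φ.rangeRestrict Φ.rangeRestrict_surjective
  have hwS : w ∈ S := by
    refine ⟨Pi.single 1 1, ?_⟩
    show (∑ h : P, c ((Pi.single 1 1 : P → ZMod p) h) • ρ h w) = w
    rw [Finset.sum_eq_single 1]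
    · simp
    · intro h _ hh; simp [Pi.single_eq_of_ne hh]
    · simp
  have hdvd : p ∣ Nat.card S := by
    have hord : addOrderOf (⟨w, hwS⟩ : S) = p := by
      refine addOrderOf_eq_prime ?_ ?_
      · apply Subtype.ext
        show p • w = 0
        rw [← Nat.cast_smul_eq_nsmul K, CharP.cast_eq_zero, zero_smul]
      · exact fun h => hw0 (congrArg Subtype.val h)
    rw [← hord]
    exact addOrderOf_dvd_natCard _
  obtain ⟨b, hb, hne0⟩ := hP.exists_fixed_point_of_prime_dvd_card_of_fixed_point S hdvd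
    (a := (0 : S)) (fun k => Subtype.ext (map_zero (ρ k)))
  exact ⟨b.1, hSW _ b.2, fun h => hne0 (Subtype.ext h.symm), fun k => congrArg Subtype.val (hb k)⟩

end fixedvec

section perm

variable {K : Type*} [Field K] {G : Type*} [Group G] {Ω : Type*} [MulAction G Ω]

theorem permRep_apply (g : G) (f : Ω → K) (x : Ω) :
    Cfsg.permRep K G Ω g f x = f (g⁻¹ • x) := rfl

theorem mem_permConstants {f : Ω → K} :
    f ∈ (Cfsg.permConstants K G Ω).toSubmodule ↔ ∃ c : K, ∀ x, f x = c := by
  show f ∈ Submodule.span K {fun _ : Ω => (1 : K)} ↔ _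
  rw [Submodule.mem_span_singleton]
  constructor
  · rintro ⟨c, rfl⟩
    exact ⟨c, fun x => mul_one c⟩
  · rintro ⟨c, hc⟩
    exact ⟨c, funext fun x => (mul_one c).trans (hc x).symm⟩

theorem mem_permSumZero [Fintype Ω] {f : Ω → K} :
    f ∈ (Cfsg.permSumZero K G Ω).toSubmodule ↔ ∑ x, f x = 0 := Iff.rfl

variable [Finite G] {p f : ℕ} [Fact p.Prime] [Fintype Ω] [IsPretransitive G Ω]

/-- A Sylow `p`-subgroup is transitive on a transitive set of `p`-power size. -/
theorem sylow_transitive (hcard : Fintype.card Ω = p ^ f) (P : Sylow p G) :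
    IsPretransitive (P : Subgroup G) Ω := by
  classical
  have hne : Nonempty Ω := Fintype.card_pos_iff.mp (hcard ▸ pow_pos (Nat.Prime.pos Fact.out) f)
  obtain ⟨a⟩ := hne
  rw [isPretransitive_iff_orbit_eq_univ a]
  have hG := card_mul_card_stabilizer (G := G) a
  rw [Nat.card_eq_fintype_card (α := Ω), hcard] at hG
  have hP := Sylow.card_eq_multiplicity P
  obtain ⟨k, hk⟩ := (P.isPGroup'.to_subgroup (stabilizer (P : Subgroup G) a)).exists_card_eq
  have hk' : p ^ k ∣ Nat.card (stabilizer G a) := by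
    rw [← hk, card_stabilizer_subgroup]
    exact Subgroup.card_dvd_of_le inf_le_right
  have hle : f + k ≤ (Nat.card G).factorization p := by
    refine ((Fact.out : p.Prime).pow_dvd_iff_le_factorization Nat.card_pos.ne').mp ?_
    rw [pow_add, ← hG]
    exact Nat.mul_dvd_mul_left _ hk'
  have := Fintype.ofFinite (P : Subgroup G)
  have := Fintype.ofFinite (stabilizer (P : Subgroup G) a)
  have hPc := card_orbit_mul_card_stabilizer_eq_card_group (P : Subgroup G) a
  simp only [← Nat.card_eq_fintype_card] at hPc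
  rw [hP, hk] at hPc
  have h1 : p ^ f * p ^ k ≤ Nat.card (orbit (P : Subgroup G) a) * p ^ k := by
    rw [hPc, ← pow_add]
    exact Nat.pow_le_pow_right (Nat.Prime.pos Fact.out) hle
  have h2 := Nat.le_of_mul_le_mul_right h1 (pow_pos (Nat.Prime.pos Fact.out) k)
  refine Set.eq_univ_iff_forall.mpr ?_
  by_contra! hx
  obtain ⟨x, hx⟩ := hx
  have : Nat.card (orbit (P : Subgroup G) a) < p ^ f := by
    rw [← hcard, Nat.card_eq_fintype_card]
    exact Fintype.card_subtype_lt hx
  omega

variable [CharP K p]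

/-- Every non-zero submodule contains the constants. -/
theorem constants_le (hcard : Fintype.card Ω = p ^ f) (W : Submodule K (Ω → K))
    (hW : ∀ g : G, ∀ v ∈ W, Cfsg.permRep K G Ω g v ∈ W) (hne : W ≠ ⊥) :
    (Cfsg.permConstants K G Ω).toSubmodule ≤ W := by
  obtain ⟨P⟩ : Nonempty (Sylow p G) := inferInstance
  have := sylow_transitive hcard P
  obtain ⟨v, hvW, hv0, hv⟩ := exists_fixed_vector P.isPGroup'
    ((Cfsg.permRep K G Ω).comp (P : Subgroup G).subtype) W (fun g v hv => hW g v hv) hne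
  obtain ⟨a, ha⟩ : ∃ a, v a ≠ 0 := by
    by_contra! h
    exact hv0 (funext h)
  have hconst : ∀ x, v x = v a := by
    intro x
    obtain ⟨g, rfl⟩ := exists_smul_eq (P : Subgroup G) a x
    have h : v ((g : G)⁻¹ • ((g : G) • a)) = v ((g : G) • a) := congrFun (hv g) ((g : G) • a)
    rw [inv_smul_smul] at h
    exact h.symm
  intro u hu
  obtain ⟨c, hc⟩ := mem_permConstants.mp hu
  have : u = (c / v a) • v := by
    funext x
    rw [Pi.smul_apply, smul_eq_mul, hconst x, div_mul_cancel₀ _ ha, hc]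
  rw [this]
  exact W.smul_mem _ hvW

/-- Every proper submodule consists of functions with sum zero. -/
theorem le_sumZero (hcard : Fintype.card Ω = p ^ f) (W : Submodule K (Ω → K))
    (hW : ∀ g : G, ∀ v ∈ W, Cfsg.permRep K G Ω g v ∈ W) (hne : W ≠ ⊤) :
    W ≤ (Cfsg.permSumZero K G Ω).toSubmodule := by
  classical
  let D : Submodule K (Ω → K) :=
    { carrier := {v | ∀ w ∈ W, ∑ x, w x * v x = 0}
      add_mem' := fun {u v} hu hv w hw => by
        simp [mul_add, Finset.sum_add_distrib, hu w hw, hv w hw]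
      zero_mem' := fun w _ => by simp
      smul_mem' := fun c v hv w hw => by
        simp only [Pi.smul_apply, smul_eq_mul, mul_left_comm _ c, ← Finset.mul_sum, hv w hw, mul_zero] }
  have hD : ∀ g : G, ∀ v ∈ D, Cfsg.permRep K G Ω g v ∈ D := by
    intro g v hv w hw
    have h := hv _ (hW g⁻¹ w hw)
    rw [← h]
    refine Fintype.sum_equiv (MulAction.toPerm g⁻¹) _ _ fun x => ?_
    simp [permRep_apply]
  have hDne : D ≠ ⊥ := by
    obtain ⟨φ, hφ, hWφ⟩ := W.exists_le_ker_of_lt_top (lt_top_iff_ne_top.mpr hne)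
    rw [Submodule.ne_bot_iff]
    refine ⟨fun x => φ (Pi.single x 1), fun w hw => ?_, fun h => hφ ?_⟩
    · have hw' : φ w = 0 := hWφ hw
      rw [← hw']
      conv_rhs => rw [pi_eq_sum_univ' w, map_sum]
      exact Finset.sum_congr rfl fun x _ => by rw [map_smul, smul_eq_mul]
    · refine LinearMap.ext fun w => ?_
      rw [pi_eq_sum_univ' w, map_sum, LinearMap.zero_apply]
      exact Finset.sum_eq_zero fun x _ => by rw [map_smul, congrFun h x]; simp
  intro w hw
  have h1 : (fun _ => (1 : K)) ∈ D :=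
    constants_le hcard D hD hDne (mem_permConstants.mpr ⟨1, fun _ => rfl⟩)
  simpa [mem_permSumZero] using h1 w hw

theorem constants_le_sumZero (hf : 1 ≤ f) (hcard : Fintype.card Ω = p ^ f) :
    (Cfsg.permConstants K G Ω).toSubmodule ≤ (Cfsg.permSumZero K G Ω).toSubmodule := by
  intro u hu
  obtain ⟨c, hc⟩ := mem_permConstants.mp hu
  rw [mem_permSumZero]
  simp only [hc, Finset.sum_const, Finset.card_univ, hcard, nsmul_eq_mul, Nat.cast_pow,
    CharP.cast_eq_zero, zero_pow (by omega : f ≠ 0), zero_mul]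

end perm

end Cfsg.Agent.PermGp
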