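import Cfsg.Agent.Lib.PermGp.SharplyThree
import Cfsg.Agent.Lib.LinearGroups.P1

/-! Sharply triply transitive groups with commutative two-point stabiliser are `PGL 2`. -/

set_option autoImplicit false
set_option linter.unusedSectionVars false

namespace Cfsg.Agent.PermGp

open MulAction Matrix
open scoped LinearAlgebra.Projectivization

universe u

variable {α : Type u} [Fintype α] [DecidableEq α] {G : Subgroup (Equiv.Perm α)}
variable {i o e : α} {T : Subgroup G} {p j : ℕ}

/-- A coordinate system: the points other than `i` as a field. -/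
structure Coord (G : Subgroup (Equiv.Perm α)) (i o e : α) (T : Subgroup G) (w : G) (K : Type*) [Field K] where
  f : K ≃ {x : α // x ≠ i}
  zero : (f 0 : α) = o
  one : (f 1 : α) = e
  translate : ∀ t ∈ T, ∃ b : K, ∀ x : K, t • (f x : α) = f (b + x)
  dilate : ∀ g : G, g • i = i → g • o = o → ∃ c : K, c ≠ 0 ∧ ∀ x : K, g • (f x : α) = f (c * x)
  invol : ∀ x : K, x ≠ 0 → w • (f x : α) = f x⁻¹

/-- The coordinate map on the projective line. -/
noncomputable def Coord.point {K : Type*} [Field K] {w : G} (C : Coord G i o e T w K) :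
    ℙ K (Fin 2 → K) → α :=
  open Classical in
  Projectivization.lift (fun v => if (v : Fin 2 → K) 1 = 0 then i else (C.f ((v : Fin 2 → K) 0 / (v : Fin 2 → K) 1) : α))
    (by
      rintro ⟨v, hv⟩ ⟨u, hu⟩ c (rfl : v = c • u)
      have hc : c ≠ 0 := fun h => hv (by rw [h, zero_smul])
      by_cases h1 : u 1 = 0
      · simp [h1]
      · simp [h1, hc, mul_div_mul_left])

theorem Coord.point_mk {K : Type*} [Field K] [DecidableEq K] {w : G} (C : Coord G i o e T w K) (v : Fin 2 → K)
    (hv : v ≠ 0) : C.point (Projectivization.mk K v hv) = if v 1 = 0 then i else (C.f (v 0 / v 1) : α) := by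
  rw [Coord.point, Projectivization.lift_mk]
  split_ifs <;> first | rfl | (simp_all)

theorem Coord.point_bijective {K : Type*} [Field K] {w : G} (C : Coord G i o e T w K) :
    Function.Bijective C.point := by
  classical
  constructor
  · intro P Q h
    induction P using Projectivization.ind with | _ v hv =>
    induction Q using Projectivization.ind with | _ u hu =>
    rw [C.point_mk, C.point_mk] at h
    rw [LinGrp.mk_eq_mk_iff_crossTerm, LinGrp.crossTerm]
    by_cases h1 : v 1 = 0 <;> by_cases h2 : u 1 = 0 <;> simp only [h1, h2, if_true, if_false] at h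
    · rw [h1, h2]; ring
    · exact absurd h.symm (C.f _).2
    · exact absurd h (C.f _).2
    · have h3 := C.f.injective (Subtype.ext h)
      field_simp at h3
      linear_combination h3
  · intro x
    by_cases hx : x = i
    · exact ⟨.mk K ![1, 0] LinGrp.e1_ne, by rw [C.point_mk]; simp [hx]⟩
    · refine ⟨.mk K ![C.f.symm ⟨x, hx⟩, 1] (LinGrp.diag_ne _), ?_⟩
      rw [C.point_mk]
      simp

theorem Sharp3.iso_of_coord {K : Type*} [Field K] {w : G} (S : Sharp3 G) (D : TransData G i T p j)
    (C : Coord G i o e T w K) (hio : i ≠ o) (hwi : w • i = o) (hwo : w • o = i) :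
    Nonempty (G ≃* Matrix.ProjGenLinGroup (Fin 2) K) := by
  classical
  set ψ := C.point with hψdef
  have hψ := C.point_bijective
  let Good : G → Prop := fun g => ∃ m : GL (Fin 2) K, ∀ P, ψ (m • P) = g • ψ P
  have hmul : ∀ g k, Good g → Good k → Good (g * k) := by
    rintro g k ⟨m, hm⟩ ⟨n, hn⟩
    exact ⟨m * n, fun P => by rw [mul_smul, hm, hn, mul_smul]⟩
  have hinv : ∀ g, Good g → Good g⁻¹ := by
    rintro g ⟨m, hm⟩
    refine ⟨m⁻¹, fun P => ?_⟩
    rw [eq_inv_smul_iff, ← hm, smul_inv_smul]
  have hT : ∀ t ∈ T, Good t := by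
    intro t ht
    obtain ⟨b, hb⟩ := C.translate t ht
    refine ⟨GeneralLinearGroup.mkOfDetNeZero !![1, b; 0, 1] (by simp), fun P => ?_⟩
    induction P using Projectivization.ind with | _ v hv =>
    rw [Projectivization.smul_mk, hψdef, C.point_mk, C.point_mk]
    by_cases h1 : v 1 = 0
    · simp [LinGrp.GL_smul_vec, GeneralLinearGroup.mkOfDetNeZero, h1, D.fix t ht]
    · simp [LinGrp.GL_smul_vec, GeneralLinearGroup.mkOfDetNeZero, h1]
      rw [hb]
      congr 2
      field_simp
      ring
  have hH : ∀ g : G, g • i = i → g • o = o → Good g := by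
    intro g gi go
    obtain ⟨c, hc0, hc⟩ := C.dilate g gi go
    refine ⟨GeneralLinearGroup.mkOfDetNeZero !![c, 0; 0, 1] (by simp [hc0]), fun P => ?_⟩
    induction P using Projectivization.ind with | _ v hv =>
    rw [Projectivization.smul_mk, hψdef, C.point_mk, C.point_mk]
    by_cases h1 : v 1 = 0
    · simp [LinGrp.GL_smul_vec, GeneralLinearGroup.mkOfDetNeZero, h1, gi]
    · simp [LinGrp.GL_smul_vec, GeneralLinearGroup.mkOfDetNeZero, h1, hc]
      rw [mul_div_assoc]
  have hw : Good w := by
    refine ⟨GeneralLinearGroup.mkOfDetNeZero !![0, 1; 1, 0] (by simp), fun P => ?_⟩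
    induction P using Projectivization.ind with | _ v hv =>
    rw [Projectivization.smul_mk, hψdef, C.point_mk, C.point_mk]
    by_cases h1 : v 1 = 0
    · have h0 : v 0 ≠ 0 := fun h0 => hv (by ext k; fin_cases k <;> assumption)
      simp [LinGrp.GL_smul_vec, GeneralLinearGroup.mkOfDetNeZero, h1, h0, hwi, C.zero]
    · by_cases h0 : v 0 = 0
      · simp [LinGrp.GL_smul_vec, GeneralLinearGroup.mkOfDetNeZero, h1, h0, hwo, C.zero]
      · simp [LinGrp.GL_smul_vec, GeneralLinearGroup.mkOfDetNeZero, h1, h0]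
        rw [C.invol _ (div_ne_zero h0 h1), inv_div]
  have hfixi : ∀ g : G, g • i = i → Good g := by
    intro g gi
    obtain ⟨t, ht, hto⟩ := D.exists_eq o (g • o) hio.symm (fun h => hio
      (MulAction.injective g (h.trans gi.symm)).symm)
    have := hmul _ _ (hT t ht) (hH (t⁻¹ * g) (by rw [mul_smul, gi, inv_smul_eq_iff, D.fix t ht])
      (by rw [mul_smul, inv_smul_eq_iff, hto]))
    rwa [mul_inv_cancel_left] at this
  have hall : ∀ g, Good g := by
    intro g
    by_cases gi : g • i = i
    · exact hfixi g gi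
    obtain ⟨t, ht, hto⟩ := D.exists_eq o (g • i) hio.symm gi
    have h1 := hfixi (w * t⁻¹ * g) (by rw [mul_smul, mul_smul, ← hto, inv_smul_smul, hwo])
    have h2 := hmul _ _ (hT t ht) (hmul _ _ (hinv _ hw) h1)
    rwa [show t * (w⁻¹ * (w * t⁻¹ * g)) = g by group] at h2
  choose m hm using hall
  have hmk : ∀ (x : GL (Fin 2) K) (P : ℙ K (Fin 2 → K)), ProjGenLinGroup.mk x • P = x • P := fun _ _ => rfl
  have huniq : ∀ (g : G) (n : GL (Fin 2) K), (∀ P, ψ (n • P) = g • ψ P) →
      ProjGenLinGroup.mk n = ProjGenLinGroup.mk (m g) := by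
    intro g n hn
    have hfix : ∀ P : ℙ K (Fin 2 → K), ((m g)⁻¹ * n) • P = P := fun P => by
      rw [mul_smul, inv_smul_eq_iff]
      exact hψ.1 ((hn P).trans (hm g P).symm)
    have h := LinGrp.PGL2_eq_one_of_fix (ProjGenLinGroup.mk ((m g)⁻¹ * n))
      (LinGrp.stdTriple K 0) (LinGrp.stdTriple K 1) (LinGrp.stdTriple K 2)
      (LinGrp.stdTriple_injective.ne (by decide)) (LinGrp.stdTriple_injective.ne (by decide))
      (LinGrp.stdTriple_injective.ne (by decide)) ((hmk _ _).trans (hfix _)) ((hmk _ _).trans (hfix _)) ((hmk _ _).trans (hfix _))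
    rw [map_mul, map_inv, inv_mul_eq_one] at h
    exact h.symm
  let Φ : G →* Matrix.ProjGenLinGroup (Fin 2) K := MonoidHom.mk' (fun g => ProjGenLinGroup.mk (m g))
    fun g k => by
      rw [← map_mul]
      exact (huniq (g * k) _ fun P => by rw [mul_smul, hm, hm, mul_smul]).symm
  refine ⟨MulEquiv.ofBijective Φ ⟨?_, ?_⟩⟩
  · intro g k h
    refine perm_ext fun x => ?_
    obtain ⟨P, rfl⟩ := hψ.2 x
    rw [← hm, ← hm]
    obtain ⟨z, hz, hzeq⟩ := ProjGenLinGroup.mk_eq_mk_iff'.mp h
    have : (ProjGenLinGroup.mk (m g)) • P = (ProjGenLinGroup.mk (m k)) • P := by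
      rw [show ProjGenLinGroup.mk (m g) = ProjGenLinGroup.mk (m k) from h]
    exact congrArg ψ this
  · intro q
    induction q using Matrix.ProjGenLinGroup.induction_on with | mk n =>
    have hne : ∀ a b : Fin 3, a ≠ b → ψ (n • LinGrp.stdTriple K a) ≠ ψ (n • LinGrp.stdTriple K b) :=
      fun a b hab h => hab (LinGrp.stdTriple_injective (MulAction.injective n (hψ.1 h)))
    have hne' : ∀ a b : Fin 3, a ≠ b → ψ (LinGrp.stdTriple K a) ≠ ψ (LinGrp.stdTriple K b) :=
      fun a b hab h => hab (LinGrp.stdTriple_injective (hψ.1 h))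
    obtain ⟨g, g1, g2, g3⟩ := S.trans _ _ _ _ _ _ (hne' 0 1 (by decide)) (hne' 0 2 (by decide))
      (hne' 1 2 (by decide)) (hne 0 1 (by decide)) (hne 0 2 (by decide)) (hne 1 2 (by decide))
    refine ⟨g, ?_⟩
    show ProjGenLinGroup.mk (m g) = ProjGenLinGroup.mk n
    have hfix : ∀ k, ψ (LinGrp.stdTriple K k) = ψ ((((m g)⁻¹ * n)) • LinGrp.stdTriple K k) →
        ((m g)⁻¹ * n) • LinGrp.stdTriple K k = LinGrp.stdTriple K k := fun k h => (hψ.1 h).symm
    have h := LinGrp.PGL2_eq_one_of_fix (ProjGenLinGroup.mk ((m g)⁻¹ * n))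
      (LinGrp.stdTriple K 0) (LinGrp.stdTriple K 1) (LinGrp.stdTriple K 2)
      (LinGrp.stdTriple_injective.ne (by decide)) (LinGrp.stdTriple_injective.ne (by decide))
      (LinGrp.stdTriple_injective.ne (by decide)) ?_ ?_ ?_
    · rw [map_mul, map_inv, inv_mul_eq_one] at h
      exact h
    all_goals
      rw [hmk, mul_smul, inv_smul_eq_iff]
      refine hψ.1 ?_
      first | exact g1.symm.trans (hm g _).symm | exact g2.symm.trans (hm g _).symm | exact g3.symm.trans (hm g _).symm

/-- The coordinates, from a commutative two-point stabiliser inverted by the involution. -/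
theorem Sharp3.exists_coord (S : Sharp3 G) (D : TransData G i T p j) (hio : i ≠ o) (hie : i ≠ e)
    (hoe : o ≠ e) {w : G} (hwi : w • i = o) (hwo : w • o = i) (hwe : w • e = e)
    (hcomm : ∀ g k : G, g • i = i → g • o = o → k • i = i → k • o = o → g * k = k * g)
    (hinv : ∀ g : G, g • i = i → g • o = o → w * g * w = g⁻¹) :
    ∃ (K : Type) (_ : Field K) (_ : Fintype K), Fintype.card K = p ^ j ∧ Nonempty (Coord G i o e T w K) := by
  classical
  let X := {x : α // x ≠ i}
  have hτex : ∀ x : X, ∃ t ∈ T, t • o = (x : α) := fun x => D.exists_eq o x hio.symm x.2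
  choose τ hτT hτo using hτex
  have hτu : ∀ (x : X) (t : G), t ∈ T → t • o = (x : α) → t = τ x := fun x t ht h =>
    D.translate_inj hio.symm ht (hτT x) (h.trans (hτo x).symm)
  have hhex : ∀ x : X, (x : α) ≠ o → ∃ g : G, g • i = i ∧ g • o = o ∧ g • e = (x : α) := fun x hx =>
    S.trans i o e i o x hio hie hoe hio x.2.symm (Ne.symm hx)
  choose η hηi hηo hηe using hhex
  have huniq : ∀ g k : G, g • i = i → g • o = o → k • i = i → k • o = o → g • e = k • e → g = k := by
    intro g k a b c d h
    have := S.fix (k⁻¹ * g) i o e hio hie hoe (by rw [mul_smul, a, inv_smul_eq_iff, c])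
      (by rw [mul_smul, b, inv_smul_eq_iff, d]) (by rw [mul_smul, h, inv_smul_smul])
    exact (inv_mul_eq_one.mp this).symm
  have hstab : ∀ (g : G), g • i = i → ∀ x : X, g • (x : α) ≠ i := fun g gi x h =>
    x.2 (MulAction.injective g (h.trans gi.symm))
  let addX : X → X → X := fun x y => ⟨τ x • (y : α), hstab _ (D.fix _ (hτT x)) y⟩
  have hτadd : ∀ x y, τ (addX x y) = τ x * τ y := fun x y => (hτu _ _ (T.mul_mem (hτT x) (hτT y))
    (by rw [mul_smul, hτo])).symm
  let zeroX : X := ⟨o, hio.symm⟩
  have hτ0 : τ zeroX = 1 := (hτu _ _ T.one_mem (one_smul _ _)).symm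
  let negX : X → X := fun x => ⟨(τ x)⁻¹ • o, hstab _ (by rw [inv_smul_eq_iff, D.fix _ (hτT x)]) zeroX⟩
  let nr : ℕ → X → X := fun n x => Nat.rec zeroX (fun _ ih => addX ih x) n
  letI iadd : AddCommGroup X :=
    { add := addX
      zero := zeroX
      neg := negX
      nsmul := nr
      zsmul := fun n x => match n with
        | Int.ofNat k => nr k x
        | Int.negSucc k => negX (nr (k + 1) x)
      add_assoc := fun x y z => Subtype.ext (by
        show τ (addX x y) • (z : α) = τ x • τ y • (z : α)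
        rw [hτadd, mul_smul])
      zero_add := fun x => Subtype.ext (by show τ zeroX • (x : α) = x; rw [hτ0, one_smul])
      add_zero := fun x => Subtype.ext (by show τ x • o = x; exact hτo x)
      neg_add_cancel := fun x => Subtype.ext (by
        show τ (negX x) • (x : α) = o
        rw [← hτu (negX x) _ (T.inv_mem (hτT x)) rfl, inv_smul_eq_iff, hτo])
      add_comm := fun x y => Subtype.ext (by
        show τ x • (y : α) = τ y • (x : α)
        rw [← hτo y, ← hτo x, ← mul_smul, ← mul_smul, D.comm _ (hτT x) _ (hτT y)]) }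
  let oneX : X := ⟨e, hie.symm⟩
  let mulX : X → X → X := fun x y => if hx : (x : α) = o then zeroX else
    ⟨η x hx • (y : α), hstab _ (hηi x hx) y⟩
  have hmul0 : ∀ x y : X, (x : α) = o → mulX x y = zeroX := fun x y h => dif_pos h
  have hmul1 : ∀ (x y : X) (h : (x : α) ≠ o), (mulX x y : α) = η x h • (y : α) := fun x y h => by
    simp only [mulX, dif_neg h]
  have hmulne : ∀ (x y : X), (x : α) ≠ o → (y : α) ≠ o → (mulX x y : α) ≠ o := fun x y hx hy h => by
    rw [hmul1 x y hx] at h
    exact hy (MulAction.injective (η x hx) (h.trans (hηo x hx).symm))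
  have hmulz : ∀ x : X, mulX x zeroX = zeroX := fun x => by
    by_cases hx : (x : α) = o
    · exact hmul0 _ _ hx
    · exact Subtype.ext (by rw [hmul1 _ _ hx]; exact hηo x hx)
  have hη_mul : ∀ (x y : X) (hx : (x : α) ≠ o) (hy : (y : α) ≠ o) (h : (mulX x y : α) ≠ o),
      η (mulX x y) h = η x hx * η y hy := fun x y hx hy h => huniq _ _ (hηi _ _) (hηo _ _)
    (by rw [mul_smul, hηi, hηi]) (by rw [mul_smul, hηo, hηo]) (by rw [mul_smul, hηe, hηe, hmul1 x y hx])
  have hcommX : ∀ x y : X, mulX x y = mulX y x := fun x y => by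
    by_cases hx : (x : α) = o
    · rw [hmul0 x y hx, show x = zeroX from Subtype.ext hx, hmulz]
    by_cases hy : (y : α) = o
    · rw [hmul0 y x hy, show y = zeroX from Subtype.ext hy, hmulz]
    refine Subtype.ext ?_
    rw [hmul1 x y hx, hmul1 y x hy, ← hηe y hy, ← hηe x hx, ← mul_smul, ← mul_smul,
      hcomm _ _ (hηi x hx) (hηo x hx) (hηi y hy) (hηo y hy)]
  have hassoc : ∀ x y z : X, mulX (mulX x y) z = mulX x (mulX y z) := fun x y z => by
    by_cases hx : (x : α) = o
    · rw [hmul0 x y hx, hmul0 x _ hx, hmul0 zeroX z rfl]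
    by_cases hy : (y : α) = o
    · rw [hmul0 y z hy, show y = zeroX from Subtype.ext hy, hmulz, hmul0 zeroX z rfl]
    refine Subtype.ext ?_
    rw [hmul1 _ _ (hmulne x y hx hy), hη_mul x y hx hy, hmul1 x _ hx, hmul1 y z hy, mul_smul]
  have hone : ∀ x : X, mulX oneX x = x := fun x => by
    refine Subtype.ext ?_
    rw [hmul1 oneX x (Ne.symm hoe), huniq _ 1 (hηi oneX (Ne.symm hoe)) (hηo oneX (Ne.symm hoe))
      (one_smul _ _) (one_smul _ _) (by rw [hηe, one_smul]), one_smul]
  have hdist : ∀ x y z : X, mulX x (addX y z) = addX (mulX x y) (mulX x z) := fun x y z => by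
    by_cases hx : (x : α) = o
    · rw [hmul0 x _ hx, hmul0 x y hx, hmul0 x z hx]
      exact (add_zero (zeroX : X)).symm
    refine Subtype.ext ?_
    rw [hmul1 x _ hx]
    show η x hx • τ y • (z : α) = τ (mulX x y) • (mulX x z : α)
    have : η x hx * τ y * (η x hx)⁻¹ = τ (mulX x y) := hτu _ _ (D.conj _ (hηi x hx) _ (hτT y))
      (by rw [D.conj_smul_base (hηo x hx), hτo, hmul1 x y hx])
    rw [hmul1 x z hx, ← this, mul_smul, mul_smul, inv_smul_smul]
  letI iring : CommRing X :=
    { iadd with
      mul := mulX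
      one := oneX
      left_distrib := hdist
      right_distrib := fun x y z => by
        show mulX (addX x y) z = addX (mulX x z) (mulX y z)
        rw [hcommX _ z, hdist, hcommX z x, hcommX z y]
      zero_mul := fun x => hmul0 zeroX x rfl
      mul_zero := hmulz
      mul_assoc := hassoc
      one_mul := hone
      mul_one := fun x => (hcommX x oneX).trans (hone x)
      npow := fun n x => Nat.rec oneX (fun _ ih => mulX ih x) n
      mul_comm := hcommX }
  have hfield : IsField X :=
    { exists_pair_ne := ⟨zeroX, oneX, fun h => hoe (congrArg Subtype.val h)⟩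
      mul_comm := hcommX
      mul_inv_cancel := fun {x} hx => by
        have hxo : (x : α) ≠ o := fun h => hx (Subtype.ext h)
        refine ⟨⟨(η x hxo)⁻¹ • e, hstab _ (by rw [inv_smul_eq_iff, hηi]) oneX⟩, Subtype.ext ?_⟩
        show (mulX x _ : α) = e
        rw [hmul1 x _ hxo, smul_inv_smul] }
  letI : Field X := hfield.toField
  have hcard : Fintype.card X = p ^ j := by
    rw [Fintype.card_subtype_compl, Fintype.card_subtype_eq, D.card, Nat.add_sub_cancel]
  let g : {k : Fin (p ^ j) // True} ≃ X :=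
    (Equiv.subtypeUnivEquiv fun _ => trivial).trans (Fintype.equivFinOfCardEq hcard).symm
  letI : Field {k : Fin (p ^ j) // True} := g.field
  let R : {k : Fin (p ^ j) // True} ≃+* X :=
    { g with map_add' := fun x y => g.apply_symm_apply (g x + g y), map_mul' := fun x y => g.apply_symm_apply (g x * g y) }
  refine ⟨{k : Fin (p ^ j) // True}, inferInstance, inferInstance,
    (Fintype.card_congr (Equiv.subtypeUnivEquiv fun _ => trivial)).trans (Fintype.card_fin _), ⟨
    { f := R.toEquiv
      zero := by show ((R 0 : X) : α) = o; rw [map_zero]; rfl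
      one := by show ((R 1 : X) : α) = e; rw [map_one]; rfl
      translate := ?_
      dilate := ?_
      invol := ?_ }⟩⟩
  · intro t ht
    refine ⟨R.symm ⟨t • o, hstab t (D.fix t ht) zeroX⟩, fun x => ?_⟩
    show t • ((R x : X) : α) = ((R (_ + x) : X) : α)
    rw [map_add, RingEquiv.apply_symm_apply]
    show t • ((R x : X) : α) = τ _ • ((R x : X) : α)
    rw [← hτu ⟨t • o, _⟩ t ht rfl]
  · intro k ki ko
    have hne : k • e ≠ o := fun h => hoe (MulAction.injective k (ko.trans h.symm))
    refine ⟨R.symm ⟨k • e, hstab k ki oneX⟩, fun h => hne ?_, fun x => ?_⟩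
    · have h' := congrArg R h
      rw [RingEquiv.apply_symm_apply, map_zero] at h'
      exact congrArg Subtype.val h'
    · show k • ((R x : X) : α) = ((R (_ * x) : X) : α)
      rw [map_mul, RingEquiv.apply_symm_apply]
      show k • ((R x : X) : α) = (mulX _ (R x) : α)
      rw [hmul1 _ _ hne, ← huniq k _ ki ko (hηi _ _) (hηo _ _) (by rw [hηe])]
  · intro x hx
    show w • ((R x : X) : α) = ((R x⁻¹ : X) : α)
    have hxo : ((R x : X) : α) ≠ o := fun h => hx (R.injective (by
      rw [map_zero]; exact Subtype.ext h))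
    set k := η (R x) hxo with hk
    have hwk : w • ((R x : X) : α) = k⁻¹ • e := by
      rw [← hinv k (hηi _ _) (hηo _ _), mul_smul, mul_smul, hwe, hk, hηe]
    have hmem : k⁻¹ • e ≠ i := hstab _ (by rw [inv_smul_eq_iff, hk, hηi]) oneX
    have : R x * ⟨k⁻¹ • e, hmem⟩ = 1 := Subtype.ext (by
      show (mulX (R x) _ : α) = e
      rw [hmul1 _ _ hxo]; exact smul_inv_smul k e)
    rw [hwk, map_inv₀, inv_eq_of_mul_eq_one_right this]

end Cfsg.Agent.PermGp
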