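import Cfsg.Agent.Lib.PermGp.SharplyTwo

/-! Finite sharply triply transitive groups. -/

set_option autoImplicit false
set_option linter.unusedSectionVars false

namespace Cfsg.Agent.PermGp

open MulAction

variable {α : Type*} [Fintype α] [DecidableEq α] {G : Subgroup (Equiv.Perm α)}

/-- Only the identity fixes three points, and all triples are equivalent. -/
structure Sharp3 (G : Subgroup (Equiv.Perm α)) : Prop where
  fix : ∀ (g : G) (a b c : α), a ≠ b → a ≠ c → b ≠ c → g • a = a → g • b = b → g • c = c → g = 1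
  trans : ∀ a b c a' b' c' : α, a ≠ b → a ≠ c → b ≠ c → a' ≠ b' → a' ≠ c' → b' ≠ c' →
    ∃ g : G, g • a = a' ∧ g • b = b' ∧ g • c = c'

theorem sharp3_of_sharp (h3 : IsMultiplyPretransitive G α 3)
    (hs : ∀ x : Fin 3 ↪ α, stabilizer G x = ⊥) : Sharp3 G := by
  have inj : ∀ {a b c : α}, a ≠ b → a ≠ c → b ≠ c → Function.Injective ![a, b, c] := by
    intro a b c h1 h2 h3 i j h
    fin_cases i <;> fin_cases j <;> simp_all
  refine ⟨fun g a b c h1 h2 h3' ha hb hc => ?_, fun a b c a' b' c' h1 h2 h3' h4 h5 h6 => ?_⟩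
  · have hmem : g ∈ stabilizer G (⟨_, inj h1 h2 h3'⟩ : Fin 3 ↪ α) := by
      rw [mem_stabilizer_iff]
      ext i
      fin_cases i <;> assumption
    rw [hs] at hmem
    exact hmem
  · obtain ⟨g, hg⟩ := h3.exists_smul_eq (⟨_, inj h1 h2 h3'⟩ : Fin 3 ↪ α) ⟨_, inj h4 h5 h6⟩
    exact ⟨g, DFunLike.congr_fun hg 0, DFunLike.congr_fun hg 1, DFunLike.congr_fun hg 2⟩

theorem Sharp3.card_eq (S : Sharp3 G) {i o e : α} (hio : i ≠ o) (hie : i ≠ e) (hoe : o ≠ e) :
    Nat.card G = Nat.card {t : α × α × α // t.1 ≠ t.2.1 ∧ t.1 ≠ t.2.2 ∧ t.2.1 ≠ t.2.2} := by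
  refine Nat.card_eq_of_bijective (fun g : G => (⟨(g • i, g • o, g • e),
    fun h => hio (MulAction.injective g h), fun h => hie (MulAction.injective g h),
    fun h => hoe (MulAction.injective g h)⟩ :
      {t : α × α × α // t.1 ≠ t.2.1 ∧ t.1 ≠ t.2.2 ∧ t.2.1 ≠ t.2.2})) ⟨fun g k h => ?_, ?_⟩
  · simp only [Subtype.mk.injEq, Prod.mk.injEq] at h
    have := S.fix (k⁻¹ * g) i o e hio hie hoe (by rw [mul_smul, h.1, inv_smul_smul])
      (by rw [mul_smul, h.2.1, inv_smul_smul]) (by rw [mul_smul, h.2.2, inv_smul_smul])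
    exact (inv_mul_eq_one.mp this).symm
  · rintro ⟨⟨a, b, c⟩, h1, h2, h3⟩
    obtain ⟨g, rfl, rfl, rfl⟩ := S.trans i o e a b c hio hie hoe h1 h2 h3
    exact ⟨g, rfl⟩

/-- The translations at a point. -/
structure TransData (G : Subgroup (Equiv.Perm α)) (i : α) (T : Subgroup G) (p j : ℕ) : Prop where
  prime : p.Prime
  pos : 1 ≤ j
  card : Fintype.card α = p ^ j + 1
  fix : ∀ t ∈ T, t • i = i
  exists_eq : ∀ x y : α, x ≠ i → y ≠ i → ∃ t ∈ T, t • x = y
  semi : ∀ t ∈ T, ∀ x : α, x ≠ i → t • x = x → t = 1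
  comm : ∀ s ∈ T, ∀ t ∈ T, s * t = t * s
  exp : ∀ t ∈ T, t ^ p = 1
  conj : ∀ g : G, g • i = i → ∀ t ∈ T, g * t * g⁻¹ ∈ T

theorem Sharp3.exists_translations (S : Sharp3 G) (h4 : 3 ≤ Fintype.card α) (i : α) :
    ∃ (T : Subgroup G) (p j : ℕ), TransData G i T p j := by
  classical
  let X := SubMulAction.ofStabilizer G i
  have : Fintype X := Fintype.ofFinite _
  let φ : stabilizer G i →* Equiv.Perm X := MulAction.toPermHom _ _
  have hφ : ∀ g x, ((φ g x : X) : α) = (g : G) • (x : α) := fun _ _ => rfl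
  have hcardX : Fintype.card X + 1 = Fintype.card α := by
    rw [← Nat.card_eq_fintype_card, ← Nat.card_eq_fintype_card]
    exact SubMulAction.nat_card_ofStabilizer_add_one_eq G i
  have hval : ∀ (g : φ.range) (x : X), g • x = (g : Equiv.Perm X) x := fun _ _ => rfl
  have h2t : IsMultiplyPretransitive φ.range X 2 := is_two_pretransitive_iff.mpr fun {a b c d} hab hcd => by
    obtain ⟨g, gi, ga, gb⟩ := S.trans i a b i c d (Ne.symm a.2) (Ne.symm b.2)
      (fun h => hab (Subtype.ext h)) (Ne.symm c.2) (Ne.symm d.2) (fun h => hcd (Subtype.ext h))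
    exact ⟨⟨φ ⟨g, gi⟩, ⟨g, gi⟩, rfl⟩, Subtype.ext ga, Subtype.ext gb⟩
  have hsh : ∀ x : Fin 2 ↪ X, stabilizer φ.range x = ⊥ := fun x => by
    rw [Subgroup.eq_bot_iff_forall]
    rintro ⟨_, g, rfl⟩ hg
    have h1 := congrArg Subtype.val (DFunLike.congr_fun (mem_stabilizer_iff.mp hg) 0)
    have h2 := congrArg Subtype.val (DFunLike.congr_fun (mem_stabilizer_iff.mp hg) 1)
    have hg1 : g = 1 := Subtype.ext (S.fix g i (x 0) (x 1) (Ne.symm (x 0).2) (Ne.symm (x 1).2)
      (fun h => absurd (x.injective (Subtype.ext h)) (by decide)) g.2 h1 h2)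
    exact Subtype.ext (show φ g = 1 by rw [hg1, map_one])
  obtain ⟨p, j, hp, hj, hn⟩ := sharp_exists_prime_pow φ.range hsh (by omega)
  have := Fact.mk hp
  obtain ⟨P⟩ : Nonempty (Sylow p φ.range) := inferInstance
  obtain ⟨hnor, hcomm, hexp, htr, hsemi, -⟩ := sharp_structure φ.range hsh (by omega) hj hn P
  have hinj : Function.Injective φ := fun g g' h => by
    apply Subtype.ext
    refine perm_ext fun x => ?_
    by_cases hx : x = i
    · subst hx; exact g.2.trans g'.2.symm
    · exact congrArg (fun f : Equiv.Perm X => ((f ⟨x, hx⟩ : X) : α)) h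
  let ψ : stabilizer G i →* φ.range := φ.rangeRestrict
  have hψ : Function.Injective ψ := fun a b h => hinj (congrArg Subtype.val h)
  let T : Subgroup G := ((P : Subgroup φ.range).comap ψ).map (stabilizer G i).subtype
  refine ⟨T, p, j, hp, hj, by omega, ?_, ?_, ?_, ?_, ?_, ?_⟩
  · rintro _ ⟨g, -, rfl⟩; exact g.2
  · intro x y hx hy
    obtain ⟨⟨⟨_, g, rfl⟩, hg⟩, hgx⟩ := htr.exists_smul_eq (⟨x, hx⟩ : X) ⟨y, hy⟩
    exact ⟨g, ⟨g, hg, rfl⟩, congrArg Subtype.val hgx⟩
  · rintro _ ⟨g, hg, rfl⟩ x hx hgx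
    have hmem : (⟨ψ g, hg⟩ : (P : Subgroup φ.range)) ∈ stabilizer (P : Subgroup φ.range) (⟨x, hx⟩ : X) :=
      Subtype.ext hgx
    rw [hsemi, Subgroup.mem_bot] at hmem
    have : ψ g = ψ 1 := by rw [map_one]; exact congrArg Subtype.val hmem
    rw [hψ this]; rfl
  · rintro _ ⟨g, hg, rfl⟩ _ ⟨g', hg', rfl⟩
    have : ψ (g * g') = ψ (g' * g) := by rw [map_mul, map_mul]; exact hcomm _ hg _ hg'
    exact congrArg Subtype.val (hψ this)
  · rintro _ ⟨g, hg, rfl⟩
    have : ψ (g ^ p) = ψ 1 := by rw [map_pow, map_one]; exact hexp _ hg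
    exact congrArg Subtype.val (hψ this)
  · rintro c hc _ ⟨g, hg, rfl⟩
    refine ⟨⟨c, hc⟩ * g * ⟨c, hc⟩⁻¹, ?_, rfl⟩
    show ψ _ ∈ (P : Subgroup φ.range)
    rw [map_mul, map_mul, map_inv]
    exact hnor.conj_mem _ hg _

variable {i o : α} {T : Subgroup G} {p j : ℕ}

theorem TransData.translate_inj (D : TransData G i T p j) {x : α} (hx : x ≠ i) {s t : G} (hs : s ∈ T)
    (ht : t ∈ T) (h : s • x = t • x) : s = t := by
  have := D.semi (t⁻¹ * s) (T.mul_mem (T.inv_mem ht) hs) x hx (by rw [mul_smul, h, inv_smul_smul])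
  exact (inv_mul_eq_one.mp this).symm

/-- An element fixing the two base points moves translations as it moves their images. -/
theorem TransData.conj_smul_base (D : TransData G i T p j) {g : G} (hgo : g • o = o) (t : G) :
    (g * t * g⁻¹) • o = g • t • o := by
  rw [mul_smul, mul_smul, inv_smul_eq_iff.mpr hgo.symm]

theorem TransData.commute_iff (D : TransData G i T p j) (hoi : o ≠ i) {g t : G} (hgi : g • i = i)
    (hgo : g • o = o) (ht : t ∈ T) : g * t * g⁻¹ = t ↔ g • t • o = t • o :=
  ⟨fun h => by rw [← D.conj_smul_base hgo, h],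
    fun h => D.translate_inj hoi (D.conj g hgi t ht) ht (by rw [D.conj_smul_base hgo, h])⟩

/-- An involution fixing two points inverts the translations. -/
theorem TransData.invert (D : TransData G i T p j) (S : Sharp3 G) (hoi : o ≠ i) {z : G} (hz : z * z = 1) (hz1 : z ≠ 1)
    (hzi : z • i = i) (hzo : z • o = o) {t : G} (ht : t ∈ T) : z * t * z = t⁻¹ := by
  have hzinv : z⁻¹ = z := inv_eq_of_mul_eq_one_right hz
  have hc : z * t * z⁻¹ ∈ T := D.conj z hzi t ht
  rw [hzinv] at hc
  set u := t * (z * t * z) with hu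
  have huT : u ∈ T := T.mul_mem ht hc
  have hfix : z * u * z⁻¹ = u := by
    rw [hzinv, hu]
    calc z * (t * (z * t * z)) * z = (z * t * z) * (t * (z * z)) := by group
    _ = (z * t * z) * t := by rw [hz, mul_one]
    _ = t * (z * t * z) := D.comm _ hc _ ht
  have := (D.commute_iff hoi hzi hzo huT).mp hfix
  have hne : u = 1 := by
    by_contra hne
    have h1 : u • o ≠ o := fun h => hne (D.semi u huT o hoi h)
    have h2 : u • o ≠ i := fun h => hoi (MulAction.injective u (h.trans (D.fix u huT).symm))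
    exact hz1 (S.fix z i o (u • o) hoi.symm h2.symm h1.symm hzi hzo this)
  exact eq_inv_of_mul_eq_one_right hne

/-- The involution fixing two given points is central in their stabiliser. -/
theorem Sharp3.involution_unique (S : Sharp3 G) (D : TransData G i T p j) (hoi : o ≠ i) {z z' : G}
    (hz : z * z = 1) (hz1 : z ≠ 1) (hzi : z • i = i) (hzo : z • o = o)
    (hz' : z' * z' = 1) (hz1' : z' ≠ 1) (hzi' : z' • i = i) (hzo' : z' • o = o) : z = z' := by
  refine perm_ext fun x => ?_
  by_cases hx : x = i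
  · rw [hx, hzi, hzi']
  obtain ⟨t, ht, rfl⟩ := D.exists_eq o x hoi hx
  have h1 := D.invert S hoi hz hz1 hzi hzo ht
  have h2 := D.invert S hoi hz' hz1' hzi' hzo' ht
  calc z • t • o = (z * t * z) • o := by rw [mul_smul, mul_smul, hzo]
  _ = (z' * t * z') • o := by rw [h1, h2]
  _ = z' • t • o := by rw [mul_smul, mul_smul, hzo']

/-- Three translates of a point by an element of order three add up to nothing. -/
theorem TransData.order_three (D : TransData G i T p j) (S : Sharp3 G) (hoi : o ≠ i) {a t : G}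
    (ha : a * a * a = 1) (ha1 : a ≠ 1) (hai : a • i = i) (hao : a • o = o) (ht : t ∈ T) :
    t * (a * t * a⁻¹) * (a * (a * t * a⁻¹) * a⁻¹) = 1 := by
  set u := a * t * a⁻¹ with hu
  set v := a * u * a⁻¹ with hv
  have huT : u ∈ T := D.conj a hai t ht
  have hvT : v ∈ T := D.conj a hai u huT
  have hav : a * v * a⁻¹ = t := by
    rw [hv, hu]
    calc a * (a * (a * t * a⁻¹) * a⁻¹) * a⁻¹ = (a * a * a) * t * (a * a * a)⁻¹ := by group
    _ = t := by rw [ha, inv_one, one_mul, mul_one]
  have hwT : t * u * v ∈ T := T.mul_mem (T.mul_mem ht huT) hvT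
  have hfix : a * (t * u * v) * a⁻¹ = t * u * v := by
    calc a * (t * u * v) * a⁻¹ = (a * t * a⁻¹) * (a * u * a⁻¹) * (a * v * a⁻¹) := by group
    _ = u * v * t := by rw [← hu, ← hv, hav]
    _ = t * (u * v) := D.comm _ (T.mul_mem huT hvT) _ ht
    _ = t * u * v := (mul_assoc _ _ _).symm
  have := (D.commute_iff hoi hai hao hwT).mp hfix
  by_contra hne
  have h1 : (t * u * v) • o ≠ o := fun h => hne (D.semi _ hwT o hoi h)
  have h2 : (t * u * v) • o ≠ i := fun h =>
    hoi (MulAction.injective (t * u * v) (h.trans (D.fix _ hwT).symm))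
  exact ha1 (S.fix a i o _ hoi.symm h2.symm h1.symm hai hao this)

variable {e : α}

/-- The element of order two interchanging `i` and `o` inverts all elements of order three fixing both. -/
theorem Sharp3.inverts_order_three (S : Sharp3 G) (D : TransData G i T p j) (hodd : p ≠ 2) (hio : i ≠ o)
    (hie : i ≠ e) (hoe : o ≠ e) {w : G} (hwi : w • i = o) (hwo : w • o = i) (hwe : w • e = e)
    {a : G} (ha : a * a * a = 1) (ha1 : a ≠ 1) (hai : a • i = i) (hao : a • o = o) :
    w * a * w = a⁻¹ := by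
  obtain ⟨t, ht, hte⟩ := D.exists_eq o e hio.symm hie.symm
  have h5 : Even (Nat.card ↥(stabilizer G i ⊓ stabilizer G o)) := by
    have hbij : Nat.card ↥(stabilizer G i ⊓ stabilizer G o) = Nat.card {x : α // x ≠ i ∧ x ≠ o} := by
      refine Nat.card_eq_of_bijective (fun g => ⟨(g : G) • e, fun h => hie.symm (MulAction.injective (g : G)
        (h.trans (Subgroup.mem_inf.mp g.2).1.symm)), fun h => hoe.symm (MulAction.injective (g : G)
        (h.trans (Subgroup.mem_inf.mp g.2).2.symm))⟩) ⟨fun g g' h => ?_, fun x => ?_⟩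
      · have h' : (g : G) • e = (g' : G) • e := congrArg Subtype.val h
        have := S.fix ((g' : G)⁻¹ * g) i o e hio hie hoe
          (by rw [mul_smul, (Subgroup.mem_inf.mp g.2).1, inv_smul_eq_iff]; exact (Subgroup.mem_inf.mp g'.2).1.symm)
          (by rw [mul_smul, (Subgroup.mem_inf.mp g.2).2, inv_smul_eq_iff]; exact (Subgroup.mem_inf.mp g'.2).2.symm)
          (by rw [mul_smul, h', inv_smul_smul])
        exact Subtype.ext (inv_mul_eq_one.mp this).symm
      · obtain ⟨g, g1, g2, g3⟩ := S.trans i o e i o x hio hie hoe hio x.2.1.symm x.2.2.symm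
        exact ⟨⟨g, g1, g2⟩, Subtype.ext g3⟩
    rw [hbij, Nat.card_eq_fintype_card, Fintype.card_subtype,
      show Finset.univ.filter (fun c => c ≠ i ∧ c ≠ o) = ({i, o} : Finset α)ᶜ by ext c; simp,
      Finset.card_compl, Finset.card_pair hio, D.card]
    obtain ⟨k, hk⟩ := (D.prime.odd_of_ne_two hodd).pow (n := j)
    exact ⟨k, by omega⟩
  obtain ⟨z₀, hz₀⟩ := exists_prime_orderOf_dvd_card' (G := ↥(stabilizer G i ⊓ stabilizer G o)) 2
    (even_iff_two_dvd.mp h5)
  set z : G := (z₀ : G)
  have hzz : z * z = 1 := by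
    have := congrArg Subtype.val (hz₀ ▸ pow_orderOf_eq_one z₀)
    simpa [pow_two] using this
  have hz1 : z ≠ 1 := fun h => by
    rw [show z₀ = 1 from Subtype.ext h, orderOf_one] at hz₀
    exact absurd hz₀ (by decide)
  have hzi : z • i = i := (Subgroup.mem_inf.mp z₀.2).1
  have hzo : z • o = o := (Subgroup.mem_inf.mp z₀.2).2
  have hzt := D.invert S hio.symm hzz hz1 hzi hzo ht
  have hze : z • e = t⁻¹ • o := by
    rw [← hte, ← hzt, mul_smul, mul_smul, hzo]
  have hcent : ∀ g : G, g • i = i → g • o = o → g * z = z * g := by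
    intro g gi go
    have h := S.involution_unique D hio.symm (z := g * z * g⁻¹) (z' := z)
      (by rw [show g * z * g⁻¹ * (g * z * g⁻¹) = g * (z * z) * g⁻¹ by group, hzz, mul_one, mul_inv_cancel])
      (fun h => hz1 (by
        have := congrArg (fun x => g⁻¹ * x * g) h
        simp only [mul_one, inv_mul_cancel] at this
        rwa [show g⁻¹ * (g * z * g⁻¹) * g = z by group] at this))
      (by rw [mul_smul, mul_smul, inv_smul_eq_iff.mpr gi.symm, hzi, gi])
      (by rw [mul_smul, mul_smul, inv_smul_eq_iff.mpr go.symm, hzo, go]) hzz hz1 hzi hzo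
    exact mul_inv_eq_iff_eq_mul.mp h
  -- the involution `x ↦ 1 - x`
  set r := t * z with hr
  have hri : r • i = i := by rw [hr, mul_smul, hzi, D.fix t ht]
  have hro : r • o = e := by rw [hr, mul_smul, hzo, hte]
  have hre : r • e = o := by rw [hr, mul_smul, hze, smul_inv_smul]
  have hrr : r * r = 1 := S.fix _ i o e hio hie hoe (by rw [mul_smul, hri, hri])
    (by rw [mul_smul, hro, hre]) (by rw [mul_smul, hre, hro])
  have hww : w * w = 1 := S.fix _ i o e hio hie hoe (by rw [mul_smul, hwi, hwo])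
    (by rw [mul_smul, hwo, hwi]) (by rw [mul_smul, hwe, hwe])
  have hbraid : w * r * w = r * w * r := by
    have h3 : (w * r) * ((w * r) * (w * r)) = 1 := S.fix _ i o e hio hie hoe
      (by simp only [mul_smul, hri, hwi, hro, hwe, hre, hwo])
      (by simp only [mul_smul, hri, hwi, hro, hwe, hre, hwo])
      (by simp only [mul_smul, hri, hwi, hro, hwe, hre, hwo])
    have e1 : w * r * w = ((w * r) * ((w * r) * (w * r))) * (r⁻¹ * w⁻¹ * r⁻¹) := by group
    rw [e1, h3, one_mul, inv_eq_of_mul_eq_one_right hrr, inv_eq_of_mul_eq_one_right hww]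
  have key : ∀ c : G, c * c * c = 1 → c ≠ 1 → c • i = i → c • o = o →
      r • z • (c * c) • e = z • c • e := by
    intro c hc hc1 hci hco
    have h3 := D.order_three S hio.symm hc hc1 hci hco ht
    set u := c * t * c⁻¹ with hu
    set v := c * u * c⁻¹ with hv
    have huT : u ∈ T := D.conj c hci t ht
    have hvT : v ∈ T := D.conj c hci u huT
    have huv : t * v = u⁻¹ := by
      have h4 : t * v * u = 1 := by
        rw [mul_assoc, D.comm v hvT u huT, ← mul_assoc]; exact h3
      exact eq_inv_of_mul_eq_one_left h4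
    have hcc : (c * c) • e = v • o := by
      rw [hv, D.conj_smul_base hco, hu, D.conj_smul_base hco, hte, mul_smul]
    have hzc : z • c • e = u⁻¹ • o := by
      rw [← mul_smul, ← hcent c hci hco, mul_smul, hze,
        show u⁻¹ = c * t⁻¹ * c⁻¹ by rw [hu]; group, D.conj_smul_base hco]
    rw [hzc, ← huv, hr, mul_smul, ← mul_smul z z, hzz, one_smul, hcc]
    exact (mul_smul t v o).symm
  set b := a * a with hb
  have hb3 : b * b * b = 1 := by rw [hb, show a * a * (a * a) * (a * a) = (a * a * a) * (a * a * a) by group, ha, one_mul]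
  have hbb : b * b = a := by rw [hb, show a * a * (a * a) = (a * a * a) * a by group, ha, one_mul]
  have hb1 : b ≠ 1 := fun h => ha1 (by rw [← hbb, h, one_mul])
  have hbi : b • i = i := by rw [hb, mul_smul, hai, hai]
  have hbo : b • o = o := by rw [hb, mul_smul, hao, hao]
  -- conjugates by `w`
  set a' := w * a * w with ha'
  have hwinv : w⁻¹ = w := inv_eq_of_mul_eq_one_right hww
  have ha'3 : a' * a' * a' = 1 := by
    rw [ha', show w * a * w * (w * a * w) * (w * a * w) = w * a * (w * w) * a * (w * w) * a * w by group,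
      hww, mul_one, mul_one, show w * a * a * a * w = w * (a * a * a) * w by group, ha, mul_one, hww]
  have ha'1 : a' ≠ 1 := fun h => ha1 (by
    have := congrArg (fun x => w * x * w) h
    simp only [ha', mul_one, hww] at this
    rw [show w * (w * a * w) * w = (w * w) * a * (w * w) by group, hww, one_mul, mul_one] at this
    exact this)
  have ha'i : a' • i = i := by rw [ha', mul_smul, mul_smul, hwi, hao, hwo]
  have ha'o : a' • o = o := by rw [ha', mul_smul, mul_smul, hwo, hai, hwi]
  set b' := a' * a' with hb'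
  have hb'3 : b' * b' * b' = 1 := by
    rw [hb', show a' * a' * (a' * a') * (a' * a') = (a' * a' * a') * (a' * a' * a') by group, ha'3, one_mul]
  have hb'b' : b' * b' = a' := by rw [hb', show a' * a' * (a' * a') = (a' * a' * a') * a' by group, ha'3, one_mul]
  have hb'1 : b' ≠ 1 := fun h => ha'1 (by rw [← hb'b', h, one_mul])
  have hb'i : b' • i = i := by rw [hb', mul_smul, ha'i, ha'i]
  have hb'o : b' • o = o := by rw [hb', mul_smul, ha'o, ha'o]
  have hwz : w * z * w = z := S.involution_unique D hio.symm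
    (by rw [show w * z * w * (w * z * w) = w * z * (w * w) * z * w by group, hww, mul_one,
      show w * z * z * w = w * (z * z) * w by group, hzz, mul_one, hww])
    (fun h => hz1 (by
      have := congrArg (fun x => w * x * w) h
      simp only [mul_one, hww] at this
      rw [show w * (w * z * w) * w = (w * w) * z * (w * w) by group, hww, one_mul, mul_one] at this
      exact this))
    (by rw [mul_smul, mul_smul, hwi, hzo, hwo]) (by rw [mul_smul, mul_smul, hwo, hzi, hwi]) hzz hz1 hzi hzo
  have wact : ∀ g : G, w • z • g • e = z • (w * g * w) • e := fun g => by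
    rw [mul_smul (w * g), hwe, ← mul_smul, ← mul_smul, ← mul_smul]
    congr 1
    calc w * (z * g) = (w * z * w) * (w * g) := by
          rw [show w * z * w * (w * g) = w * z * (w * w) * g by group, hww, mul_one, mul_assoc]
    _ = z * (w * g) := by rw [hwz]
  have wa : w * a * w = a' := rfl
  have wb : w * b * w = b' := by
    rw [hb', ha', hb, show w * a * w * (w * a * w) = w * a * (w * w) * a * w by group, hww, mul_one]; group
  have wa' : w * a' * w = a := by
    rw [ha', show w * (w * a * w) * w = (w * w) * a * (w * w) by group, hww, one_mul, mul_one]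
  have hkey1 := key a ha ha1 hai hao
  have hkey2 : r • z • a' • e = z • b' • e := by
    have := key b' hb'3 hb'1 hb'i hb'o
    rwa [hb'b'] at this
  -- evaluate both sides of the braid relation
  have L : (w * r * w) • z • b • e = z • a • e := by
    rw [mul_smul, mul_smul, wact b, wb, key a' ha'3 ha'1 ha'i ha'o, wact a', wa']
  have R : (r * w * r) • z • b • e = z • b' • e := by
    rw [mul_smul, mul_smul, hkey1, wact a, wa, hkey2]
  have hae : a • e = b' • e := MulAction.injective z (L.symm.trans ((congrArg (fun g : G => g • z • b • e) hbraid).trans R))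
  have hfin : b'⁻¹ * a = 1 := S.fix _ i o e hio hie hoe
    (by rw [mul_smul, hai, inv_smul_eq_iff, hb'i]) (by rw [mul_smul, hao, inv_smul_eq_iff, hb'o])
    (by rw [mul_smul, hae, inv_smul_smul])
  have hab : a = b' := (inv_mul_eq_one.mp hfin).symm
  have h9 : a' * a = 1 := by rw [hab, hb', ← mul_assoc]; exact ha'3
  exact eq_inv_of_mul_eq_one_left h9

end Cfsg.Agent.PermGp
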