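import Cfsg.Agent.Lib.PermGp.SubThree

/-!
# Primitive groups with a suborbit of length 3
-/

set_option autoImplicit false

namespace Cfsg.Agent.SubThree

open MulAction

variable {G Ω : Type*} [Group G] [MulAction G Ω]

/-- An element of odd order fixing one of three points permuted by it fixes all. -/
theorem fix_of_three (x : G) (hx : Odd (orderOf x)) (T : Set Ω) (hT : T.ncard = 3)
    (hinv : ∀ y ∈ T, x • y ∈ T) {p : Ω} (hp : p ∈ T) (hfix : x • p = p) {z : Ω} (hz : z ∈ T) :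
    x • z = z := by
  by_contra hne
  have hfin : T.Finite := Set.finite_of_ncard_ne_zero (by omega)
  have h1 : z ≠ p := fun h => hne (h ▸ hfix)
  have h2 : x • z ≠ p := fun h => h1 (by
    have := h.trans hfix.symm; exact (smul_left_cancel_iff x).1 this)
  have h3 : x • x • z ≠ p := fun h => h2 (by
    have := h.trans hfix.symm; exact (smul_left_cancel_iff x).1 this)
  have h4 : x • x • z ≠ x • z := fun h => hne ((smul_left_cancel_iff x).1 h)
  have h5 : x • x • z = z := by
    by_contra h5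
    have hsub : ({p, z, x • z, x • x • z} : Set Ω) ⊆ T := by
      rintro y (rfl | rfl | rfl | rfl)
      exacts [hp, hz, hinv _ hz, hinv _ (hinv _ hz)]
    have hcard := Set.ncard_le_ncard hsub hfin
    rw [hT, Set.ncard_insert_of_notMem (by simp [Ne.symm h1, Ne.symm h2, Ne.symm h3]),
      Set.ncard_insert_of_notMem (by simp [Ne.symm hne, Ne.symm h5]),
      Set.ncard_insert_of_notMem (by simp [Ne.symm h4]), Set.ncard_singleton] at hcard
    omega
  obtain ⟨j, hj⟩ := hx
  have h6 : ∀ i : ℕ, x ^ (2 * i) • z = z := by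
    intro i
    induction i with
    | zero => simp
    | succ i ih => rw [show 2 * (i + 1) = 2 * i + 1 + 1 by ring, pow_succ, pow_succ, mul_smul, mul_smul, h5, ih]
  have h7 : x ^ (2 * j + 1) = 1 := by rw [← hj]; exact pow_orderOf_eq_one x
  have h8 := h6 j
  have h9 : x • z = x • x ^ (2 * j) • z := by rw [h8]
  rw [← mul_smul, ← pow_succ', h7, one_smul] at h9
  exact hne h9

/-- The reduction to the abstract set-up. -/
theorem setup_of_suborbit [Finite G] [FaithfulSMul G Ω] (hprim : IsPreprimitive G Ω) (a b : Ω)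
    (h3 : Nat.card (orbit (stabilizer G a) b) = 3) :
    Nat.card (stabilizer G a) = 3 ∨ ∃ (h : G) (k : ℕ), Setup (stabilizer G a) h k := by
  classical
  haveI : Fact (Nat.Prime 2) := ⟨Nat.prime_two⟩
  haveI := hprim
  have hab : a ≠ b := by
    intro hab
    subst hab
    have : orbit (stabilizer G a) a = {a} := by
      ext y
      refine ⟨?_, fun hy => by rw [Set.mem_singleton_iff] at hy; subst hy; exact mem_orbit_self _⟩
      rintro ⟨⟨g, hg⟩, rfl⟩
      exact hg
    rw [this] at h3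
    simp at h3
  haveI : Nontrivial Ω := ⟨⟨a, b, hab⟩⟩
  set H := stabilizer G a with hH
  set K := stabilizer G b with hK
  have hmax : ∀ L, H < L → L = ⊤ := (IsPreprimitive.isCoatom_stabilizer_of_isPreprimitive G a).2
  have hcore : ∀ X : Subgroup G, X.Normal → X ≤ H → X = ⊥ := by
    intro X hX hXH
    refine (Subgroup.eq_bot_iff_forall _).2 fun x hx => ?_
    refine eq_of_smul_eq_smul (α := Ω) fun y => ?_
    obtain ⟨g, rfl⟩ := exists_smul_eq G a y
    have h1 := hXH (hX.conj_mem x hx g⁻¹)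
    rw [inv_inv, hH, mem_stabilizer_iff, mul_smul, mul_smul, inv_smul_eq_iff] at h1
    rw [h1, one_smul]
  obtain ⟨g₀, hg₀⟩ := exists_smul_eq G a b
  have hKcj : ∀ g : G, g • a = b → cj g H = K := by
    intro g hg
    ext y
    rw [mem_cj, hH, hK, mem_stabilizer_iff, mem_stabilizer_iff, mul_smul, mul_smul, hg,
      inv_smul_eq_iff, hg]
  have hHS : Nat.card H = 3 * Nat.card ↥(H ⊓ K) := by
    have h1 := Subgroup.card_mul_index ((H ⊓ K).subgroupOf H)
    have h2 : (H ⊓ K).subgroupOf H = stabilizer H b := by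
      ext y; simp [Subgroup.mem_subgroupOf, hK, mem_stabilizer_iff, Subgroup.smul_def]
    rw [Nat.card_congr (Subgroup.subgroupOfEquivOfLe inf_le_left).toEquiv, h2, index_stabilizer] at h1
    rw [← h1, ← Nat.card_coe_set_eq, h3, mul_comm]
  have hKS : (orbit K a).ncard = 3 := by
    have h1 := Subgroup.card_mul_index ((H ⊓ K).subgroupOf K)
    have h2 : (H ⊓ K).subgroupOf K = stabilizer K a := by
      ext y; simp [Subgroup.mem_subgroupOf, hH, mem_stabilizer_iff, Subgroup.smul_def]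
    rw [Nat.card_congr (Subgroup.subgroupOfEquivOfLe inf_le_right).toEquiv, h2, index_stabilizer,
      ← hKcj g₀ hg₀, card_cj, hHS, mul_comm 3] at h1
    exact Nat.eq_of_mul_eq_mul_left Nat.card_pos (by rw [hKcj g₀ hg₀] at h1; exact h1)
  have hne : H ≠ K := by
    intro he
    have : Nat.card H = 3 * Nat.card H := by conv_lhs => rw [hHS, ← he, inf_idem]
    have := Nat.card_pos (α := H)
    omega
  have horb : ∀ c ∈ H, ∀ y ∈ orbit H b, c • y ∈ orbit H b := by
    rintro c hc y ⟨d, rfl⟩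
    exact ⟨⟨c, hc⟩ * d, by simp [Subgroup.smul_def, mul_smul]⟩
  have hΔ : (orbit H b).ncard = 3 := by rw [← Nat.card_coe_set_eq]; exact h3
  -- odd order elements fixing `a` and `b` fix the orbit
  have hfixΔ : ∀ x : G, Odd (orderOf x) → x ∈ H → x ∈ K → ∀ y ∈ orbit H b, x • y = y :=
    fun x hodd hxH hxK y hy => fix_of_three x hodd _ hΔ (horb x hxH) (mem_orbit_self b) hxK hy
  let X₀ : Set G := {x | Odd (orderOf x) ∧ x ∈ H ∧ x ∈ K}
  have hX₀H : X₀ ⊆ H := fun x hx => hx.2.1
  have hnormH : ∀ c ∈ H, ∀ x ∈ X₀, c * x * c⁻¹ ∈ X₀ := by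
    intro c hc x hx
    have hxH : c * x * c⁻¹ ∈ H := H.mul_mem (H.mul_mem hc hx.2.1) (H.inv_mem hc)
    refine ⟨by rw [show c * x * c⁻¹ = MulAut.conj c x from rfl, MulEquiv.orderOf_eq]; exact hx.1, hxH, ?_⟩
    show (c * x * c⁻¹) • b = b
    have := hfixΔ x hx.1 hx.2.1 hx.2.2 (c⁻¹ • b) (horb _ (H.inv_mem hc) _ (mem_orbit_self b))
    rw [mul_smul, mul_smul, this, smul_inv_smul]
  have hnormK : ∀ c ∈ K, ∀ x ∈ X₀, c * x * c⁻¹ ∈ X₀ := by
    intro c hc x hx
    refine ⟨by rw [show c * x * c⁻¹ = MulAut.conj c x from rfl, MulEquiv.orderOf_eq]; exact hx.1, ?_,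
      K.mul_mem (K.mul_mem hc hx.2.2) (K.inv_mem hc)⟩
    show (c * x * c⁻¹) • a = a
    have hinv : ∀ y ∈ orbit K a, x • y ∈ orbit K a := by
      rintro y ⟨d, rfl⟩
      exact ⟨⟨x, hx.2.2⟩ * d, by simp [Subgroup.smul_def, mul_smul]⟩
    have := fix_of_three x hx.1 _ hKS hinv (mem_orbit_self a) hx.2.1
      (z := c⁻¹ • a) ⟨⟨c⁻¹, K.inv_mem hc⟩, rfl⟩
    rw [mul_smul, mul_smul, this, smul_inv_smul]
  have hN : ∀ c : G, (∀ x ∈ X₀, c * x * c⁻¹ ∈ X₀) → (∀ x ∈ X₀, c⁻¹ * x * c ∈ X₀) →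
      c ∈ Subgroup.normalizer (Subgroup.closure X₀ : Set G) := by
    intro c h1 h2
    refine mem_normalizer_of_cj (le_antisymm ?_ ?_)
    · exact Subgroup.map_le_iff_le_comap.2 ((Subgroup.closure_le _).2 fun x hx => Subgroup.subset_closure (h1 x hx))
    · exact (Subgroup.closure_le _).2 fun x hx => mem_cj.2 (Subgroup.subset_closure (h2 x hx))
  have hX₀ : Subgroup.closure X₀ = ⊥ := by
    obtain ⟨c, hcK, hcH⟩ : ∃ c ∈ K, c ∉ H := by
      refine SetLike.not_le_iff_exists.1 fun hle => hne ?_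
      exact (Subgroup.eq_of_le_of_card_ge hle (by rw [← hKcj g₀ hg₀, card_cj])).symm
    refine hcore _ (eq_top_of_normalizer hmax (fun d hd => hN d (hnormH d hd) fun x hx => by
      simpa using hnormH d⁻¹ (H.inv_mem hd) x hx) (g := c) (hN c (hnormK c hcK) fun x hx => by
      simpa using hnormK c⁻¹ (K.inv_mem hcK) x hx) hcH) ((Subgroup.closure_le _).2 hX₀H)
  obtain ⟨k, hk⟩ : ∃ k, Nat.card ↥(H ⊓ K) = 2 ^ k := by
    refine IsPGroup.iff_card.1 fun x => ?_
    obtain ⟨e, o, ho, hxo⟩ := Nat.exists_eq_pow_mul_and_not_dvd (orderOf_pos x).ne' 2 (by norm_num)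
    refine ⟨e, ?_⟩
    have h1 : orderOf ((x : G) ^ (2 ^ e)) = o := by
      rw [orderOf_pow' _ (by positivity), Subgroup.orderOf_coe, hxo, Nat.gcd_mul_right_left,
        Nat.mul_div_cancel_left _ (by positivity)]
    have h2 : ((x : G) ^ (2 ^ e)) ∈ X₀ :=
      ⟨by rw [h1, Nat.odd_iff]; omega, pow_mem x.2.1 _, pow_mem x.2.2 _⟩
    exact Subtype.ext (by simpa using (Subgroup.eq_bot_iff_forall _).1 hX₀ _ (Subgroup.subset_closure h2))
  -- Sylow 2-subgroups and the shift
  set S := H ⊓ K with hS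
  have hKc : Nat.card K = 3 * 2 ^ k := by rw [← hKcj g₀ hg₀, card_cj, hHS, hk]
  have hfac : (Nat.card K).factorization 2 = k := by
    rw [hKc, Nat.factorization_mul (by norm_num) (by positivity), Finsupp.add_apply,
      Nat.Prime.factorization_pow Nat.prime_two, Finsupp.single_eq_same,
      Nat.factorization_eq_zero_of_not_dvd (by norm_num), zero_add]
  have hSK : S ≤ K := inf_le_right
  have hS'K : cj g₀ S ≤ K := hKcj g₀ hg₀ ▸ cj_mono g₀ inf_le_left
  obtain ⟨c, hc⟩ := MulAction.exists_smul_eq K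
    (Sylow.ofCard ((cj g₀ S).subgroupOf K) (by
      rw [hfac, Nat.card_congr (Subgroup.subgroupOfEquivOfLe hS'K).toEquiv, card_cj, hk]))
    (Sylow.ofCard (S.subgroupOf K) (by
      rw [hfac, Nat.card_congr (Subgroup.subgroupOfEquivOfLe hSK).toEquiv, hk]))
  obtain ⟨g, hg⟩ : ∃ g, g = (c : G) * g₀ := ⟨_, rfl⟩
  have hga : g • a = b := by rw [hg, mul_smul, hg₀]; exact c.2
  have hgS : cj g S = S := by
    rw [hg, ← cj_cj]
    refine Subgroup.eq_of_le_of_card_ge ?_ (by rw [card_cj, card_cj])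
    rintro y ⟨z, hz, rfl⟩
    have hmem : c * (⟨z, hS'K hz⟩ : K) * c⁻¹ ∈ (S.subgroupOf K) := by
      have : c * (⟨z, hS'K hz⟩ : K) * c⁻¹ ∈
          ((c • Sylow.ofCard ((cj g₀ S).subgroupOf K) (by
            rw [hfac, Nat.card_congr (Subgroup.subgroupOfEquivOfLe hS'K).toEquiv, card_cj, hk]) :
            Sylow 2 K) : Subgroup K) :=
        Subgroup.mem_map.2 ⟨⟨z, hS'K hz⟩, Subgroup.mem_subgroupOf.2 hz, rfl⟩
      rw [hc] at this
      exact this
    exact Subgroup.mem_subgroupOf.1 hmem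
  have hgH : g ∉ H := fun h => hab (by rw [← hga]; exact (mem_stabilizer_iff.1 h).symm)
  by_cases hnorm : H ≤ Subgroup.normalizer (S : Set G)
  · left
    have hbot := hcore S (eq_top_of_normalizer hmax hnorm (mem_normalizer_of_cj hgS) hgH) inf_le_left
    rw [hHS, hbot, Subgroup.card_bot]
  · right
    obtain ⟨t, ht, htS⟩ := SetLike.not_le_iff_exists.1 hnorm
    have hta : (g * t) • a = b := by rw [mul_smul, mem_stabilizer_iff.1 ht, hga]
    refine ⟨g * t, k, hmax, hcore, fun he => hne (he.symm.trans (hKcj _ hta)), ?_, by rw [hHS, hk],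
      by rw [hKcj _ hta, ← hS, hk], fun he => htS (mem_normalizer_of_cj (cj_inj (g := g) ?_))⟩
    · by_contra hk0
      refine htS ?_
      have : S = ⊥ := Subgroup.eq_bot_of_card_eq _ (by rw [hk, show k = 0 by omega, pow_zero])
      rw [this]
      exact mem_normalizer_of_cj (by rw [cj, Subgroup.map_bot])
    · rw [hKcj _ hta, ← hS, ← cj_cj] at he
      rw [he, hgS]

end Cfsg.Agent.SubThree
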