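import Mathlib

/-! Small index subgroups of alternating groups. -/

set_option autoImplicit false

namespace Cfsg.Agent.PermGp

variable {α : Type*} [Fintype α] [DecidableEq α]

/-- A proper subgroup of the alternating group of degree `n ≥ 5` has index at least `n`. -/
theorem alternating_index_ge (h5 : 5 ≤ Fintype.card α) {K : Subgroup (alternatingGroup α)}
    (hK : K ≠ ⊤) : Fintype.card α ≤ K.index := by
  have h5' : 5 ≤ Nat.card α := by rw [Nat.card_eq_fintype_card]; exact h5
  have := alternatingGroup.isSimpleGroup h5'
  have hcore : K.normalCore = ⊥ := by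
    rcases Subgroup.Normal.eq_bot_or_eq_top K.normalCore_normal with h | h
    · exact h
    · exact absurd (eq_top_iff.mpr (h ▸ K.normalCore_le)) hK
  have hinj : Function.Injective (MulAction.toPermHom (alternatingGroup α) (alternatingGroup α ⧸ K)) := by
    rw [← MonoidHom.ker_eq_bot_iff, ← Subgroup.normalCore_eq_ker, hcore]
  have hd := Nat.card_le_card_of_injective _ hinj
  rw [Nat.card_perm, ← Subgroup.index] at hd
  have : Nontrivial α := Fintype.one_lt_card_iff_nontrivial.mp (by omega)
  have hA := two_mul_card_alternatingGroup (α := α)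
  rw [Fintype.card_perm, ← Nat.card_eq_fintype_card] at hA
  by_contra hlt
  have h1 : K.index.factorial ≤ (Fintype.card α - 1).factorial := Nat.factorial_le (by omega)
  have h2 : (Fintype.card α).factorial = Fintype.card α * (Fintype.card α - 1).factorial :=
    (Nat.mul_factorial_pred (by omega)).symm
  have h3 : 5 * (Fintype.card α - 1).factorial ≤ Fintype.card α * (Fintype.card α - 1).factorial :=
    Nat.mul_le_mul_right _ h5
  have := Nat.factorial_pos (Fintype.card α - 1)
  omega

/-- A subgroup of even permutations that is not the alternating group is small. -/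
theorem card_le_of_le_alternating (h5 : 5 ≤ Fintype.card α) {H : Subgroup (Equiv.Perm α)}
    (hle : H ≤ alternatingGroup α) (hne : H ≠ alternatingGroup α) :
    2 * Fintype.card α * Nat.card H ≤ (Fintype.card α).factorial := by
  have : Nontrivial α := Fintype.one_lt_card_iff_nontrivial.mp (by omega)
  have hK : H.subgroupOf (alternatingGroup α) ≠ ⊤ := fun h =>
    hne (le_antisymm hle (Subgroup.subgroupOf_eq_top.mp h))
  have h1 := alternating_index_ge h5 hK
  have h2 := Subgroup.card_mul_index (H.subgroupOf (alternatingGroup α))
  rw [Nat.card_congr (Subgroup.subgroupOfEquivOfLe hle).toEquiv] at h2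
  have hA := two_mul_card_alternatingGroup (α := α)
  rw [Fintype.card_perm, ← Nat.card_eq_fintype_card] at hA
  calc 2 * Fintype.card α * Nat.card H
      ≤ 2 * (H.subgroupOf (alternatingGroup α)).index * Nat.card H := by gcongr
    _ = 2 * (Nat.card H * (H.subgroupOf (alternatingGroup α)).index) := by ring
    _ = _ := by rw [h2, hA]

/-- Half of a subgroup consists of even permutations. -/
theorem card_le_two_mul_inf_alternating (G : Subgroup (Equiv.Perm α)) :
    Nat.card G ≤ 2 * Nat.card ↥(G ⊓ alternatingGroup α) ∧
      (¬ Group.IsSolvable G → ¬ Group.IsSolvable ↥(G ⊓ alternatingGroup α)) := by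
  set S : Subgroup G := (Equiv.Perm.sign.comp G.subtype).ker
  have heq : G ⊓ alternatingGroup α = S.map G.subtype := by
    ext g
    constructor
    · rintro ⟨hg, ha⟩
      exact ⟨⟨g, hg⟩, ha, rfl⟩
    · rintro ⟨h, hh, rfl⟩
      exact ⟨h.2, hh⟩
  have hc : Nat.card ↥(G ⊓ alternatingGroup α) = Nat.card S := by
    rw [heq]
    exact (Nat.card_congr (Subgroup.equivMapOfInjective _ _ G.subtype_injective).toEquiv).symm
  refine ⟨?_, fun hG hS => hG ?_⟩
  · rw [hc, ← Subgroup.card_mul_index S, mul_comm 2]
    refine Nat.mul_le_mul_left _ ?_
    rw [Subgroup.index_ker]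
    refine le_trans (Nat.card_le_card_of_injective Subtype.val Subtype.val_injective) ?_
    simp [Fintype.card_units_int]
  · rw [heq] at hS
    have : Group.IsSolvable S :=
      Group.isSolvable_of_isSolvable_injective (G := S) (G' := S.map G.subtype)
        (f := (Subgroup.equivMapOfInjective _ _ G.subtype_injective).toMonoidHom)
        (MulEquiv.injective _)
    exact Group.isSolvable_of_ker_le_range S.subtype (Equiv.Perm.sign.comp G.subtype)
      (by rw [Subgroup.range_subtype])

end Cfsg.Agent.PermGp
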