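import Cfsg.Agent.Lib.PermGp.Basic

/-! Half-transitive stabilisers and imprimitive groups (Wielandt 10.4). -/

set_option autoImplicit false

namespace Cfsg.Agent.PermGp

open MulAction

open scoped Pointwise

variable {G : Type*} [Group G] {α : Type*} [MulAction G α]

/-- An invariant set all of whose orbits have length divisible by `m` has cardinality divisible by `m`. -/
theorem dvd_card_invariant [Finite α] (K : Subgroup G) (T : Set α) (m : ℕ)
    (hT : ∀ g ∈ K, ∀ w ∈ T, g • w ∈ T) (h : ∀ w ∈ T, m ∣ Nat.card (orbit K w)) :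
    m ∣ Nat.card T := by
  classical
  let act : MulAction K T :=
    { smul := fun g w => ⟨g • (w : α), hT g g.2 w w.2⟩
      one_smul := fun w => Subtype.ext (one_smul _ (w : α))
      mul_smul := fun g g' w => Subtype.ext (mul_smul g g' (w : α)) }
  have := Fintype.ofFinite α
  rw [Nat.card_congr (selfEquivSigmaOrbits' K T), Nat.card_sigma]
  refine Finset.dvd_sum fun o _ => ?_
  induction o using Quotient.inductionOn' with
  | h w =>
    rw [orbitRel.Quotient.orbit_mk]
    refine dvd_trans (h w w.2) (dvd_of_eq ?_)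
    rw [Nat.card_coe_set_eq, Nat.card_coe_set_eq, ← Set.ncard_image_of_injective (orbit K w) Subtype.val_injective]
    congr 1
    ext a
    constructor
    · rintro ⟨g, rfl⟩; exact ⟨g • w, ⟨g, rfl⟩, rfl⟩
    · rintro ⟨b, ⟨g, rfl⟩, rfl⟩; exact ⟨g, rfl⟩

theorem card_orbit_mul_card_inf [Finite G] (K : Subgroup G) (b : α) :
    Nat.card (orbit K b) * Nat.card ↥(K ⊓ stabilizer G b) = Nat.card K := by
  rw [← card_stabilizer_subgroup, ← Nat.card_prod]
  exact Nat.card_congr (orbitProdStabilizerEquivGroup K b)

/-- All orbits of the point stabilisers off their point have length `m`. -/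
def HalfTrans (G : Type*) [Group G] (α : Type*) [MulAction G α] (m : ℕ) : Prop :=
  ∀ a b : α, a ≠ b → Nat.card (orbit (stabilizer G a) b) = m

/-- In an imprimitive group with half-transitive stabilisers, two-point stabilisers are trivial. -/
theorem two_point_trivial_of_block [Finite G] [Finite α] [IsPretransitive G α] {m : ℕ}
    (hm : HalfTrans G α m) {B : Set α} (hB : IsBlock G B) (hnt : B.Nontrivial) (hne : B ≠ Set.univ)
    {a b : α} (hab : a ≠ b) {g : G} (ga : g • a = a) (gb : g • b = b) :
    ∀ x : α, g • x = x := by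
  classical
  -- every point lies in a translate of the block
  have htrans : ∀ x : α, ∃ C : Set α, IsBlock G C ∧ x ∈ C ∧ C.Nontrivial ∧ C ≠ Set.univ := by
    intro x
    obtain ⟨y, hy, -⟩ := id hnt
    obtain ⟨k, hk⟩ := exists_smul_eq G y x
    refine ⟨k • B, hB.translate k, ⟨y, hy, hk⟩, hnt.image (MulAction.injective k), fun h => hne ?_⟩
    rw [← inv_smul_smul k B, h, Set.smul_set_univ]
  have hfix : ∀ {C : Set α}, IsBlock G C → ∀ {x : α}, x ∈ C → ∀ {k : G}, k • x = x → k • C = C :=
    fun {C} hC {x} hx {k} hk => isBlock_iff_smul_eq_of_nonempty.mp hC ⟨x, ⟨x, hx, hk⟩, hx⟩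
  -- `m` is coprime to the block size
  have hmod : ∀ (C : Set α), IsBlock G C → ∀ x ∈ C, m ∣ C.ncard - 1 := by
    intro C hC x hx
    have := dvd_card_invariant (stabilizer G x) (C \ {x}) m (fun k hk w hw => by
      have hk' : k • x = x := hk
      refine ⟨by rw [← hfix hC hx hk']; exact Set.smul_mem_smul_set hw.1, fun e => hw.2 ?_⟩
      exact MulAction.injective k (e.trans hk'.symm)) (fun w hw => dvd_of_eq (hm x w fun e => hw.2 e.symm).symm)
    rwa [Nat.card_coe_set_eq, Set.ncard_sdiff_singleton_of_mem hx] at this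
  -- a two-point stabiliser fixes the block of either point outside the other block
  have key : ∀ {C D : Set α}, IsBlock G C → IsBlock G D → ∀ {x y : α}, x ∈ C → y ∈ D → x ∉ D →
      ∀ k : G, k • x = x → k • y = y → ∀ z ∈ D, k • z = z := by
    intro C D hC hD x y hx hy hxD k kx ky z hz
    set K : Subgroup G := stabilizer G x ⊓ stabilizer G D
    have hyx : x ≠ y := fun e => hxD (e ▸ hy)
    -- the orbit of each point of `D` under `K` has one length
    set Kc := Nat.card K
    have hsub : ∀ w ∈ D, stabilizer G x ⊓ stabilizer G w ≤ K := fun w hw u hu =>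
      ⟨hu.1, hfix hD hw hu.2⟩
    have horb : ∀ w ∈ D, Nat.card (orbit K w) * Nat.card (stabilizer G x) = m * Kc := by
      intro w hw
      have h1 := card_orbit_mul_card_inf K w
      rw [show K ⊓ stabilizer G w = stabilizer G x ⊓ stabilizer G w from
        le_antisymm (fun u hu => ⟨hu.1.1, hu.2⟩) (fun u hu => ⟨hsub w hw hu, hu.2⟩)] at h1
      have h2 := card_orbit_mul_card_inf (stabilizer G x) w
      rw [hm x w (fun e => hxD (e ▸ hw))] at h2
      rw [← h2, show Kc = Nat.card (orbit K w) * Nat.card ↥(stabilizer G x ⊓ stabilizer G w) from h1.symm]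
      ring
    set l := Nat.card (orbit K y) with hl
    have hall : ∀ w ∈ D, Nat.card (orbit K w) = l := fun w hw =>
      Nat.eq_of_mul_eq_mul_right Nat.card_pos ((horb w hw).trans (horb y hy).symm)
    have hlD : l ∣ D.ncard := by
      rw [← Nat.card_coe_set_eq]
      refine dvd_card_invariant K D l (fun u hu w hw => ?_) fun w hw => (hall w hw).symm ▸ dvd_rfl
      have : u • D = D := hu.2
      rw [← this]; exact Set.smul_mem_smul_set hw
    have hlm : l ∣ m := by
      -- orbit lengths multiply along the inclusion of stabilisers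
      refine ⟨(K.subgroupOf (stabilizer G x)).index, ?_⟩
      have h1 := Subgroup.card_mul_index (K.subgroupOf (stabilizer G x))
      rw [Nat.card_congr (Subgroup.subgroupOfEquivOfLe (inf_le_left : K ≤ stabilizer G x)).toEquiv] at h1
      have h2 := horb y hy
      refine Nat.eq_of_mul_eq_mul_right (Nat.card_pos (α := K)) ?_
      rw [← h2, mul_assoc, mul_comm (K.subgroupOf (stabilizer G x)).index, h1]
    have hl1 : l = 1 := by
      have h1 := hlm.trans (hmod D hD y hy)
      have hpos : 0 < D.ncard := (Set.ncard_pos (Set.toFinite _)).mpr ⟨y, hy⟩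
      have h2 := Nat.dvd_sub hlD h1
      rw [show D.ncard - (D.ncard - 1) = 1 by omega] at h2
      exact Nat.dvd_one.mp h2
    have hz1 := hall z hz
    rw [hl1, Nat.card_eq_one_iff_unique] at hz1
    obtain ⟨⟨hz1⟩, -⟩ := hz1
    exact congrArg Subtype.val (hz1 ⟨k • z, ⟨⟨k, ⟨kx, hfix hD hy ky⟩⟩, rfl⟩⟩ ⟨z, mem_orbit_self z⟩)
  -- for two points in different blocks their stabiliser fixes both blocks pointwise
  obtain ⟨C, hC, haC, hCnt, hCne⟩ := htrans a
  -- the stabiliser of `a` and a point of its block equals the one with a point outside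
  have hequal : ∀ c ∈ C, c ≠ a → ∀ d ∉ C, ∀ k : G, k • a = a → (k • c = c ↔ k • d = d) := by
    intro c hc hca d hd
    obtain ⟨D₀, hD₀, hdD₀, -, -⟩ := htrans d
    have hle : stabilizer G a ⊓ stabilizer G d ≤ stabilizer G a ⊓ stabilizer G c := fun k hk =>
      ⟨hk.1, key hD₀ hC hdD₀ haC hd k hk.2 hk.1 c hc⟩
    have h1 := card_orbit_mul_card_inf (stabilizer G a) d
    have h2 := card_orbit_mul_card_inf (stabilizer G a) c
    rw [hm a d (fun e => hd (e ▸ haC))] at h1
    rw [hm a c hca.symm] at h2
    have hm0 : 0 < m := by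
      rw [← hm a c hca.symm]
      have : Nonempty (orbit (stabilizer G a) c) := ⟨⟨c, mem_orbit_self c⟩⟩
      exact Nat.card_pos
    have heq := Subgroup.eq_of_le_of_card_ge hle (Nat.eq_of_mul_eq_mul_left hm0 (h2.trans h1.symm)).le
    intro k hk
    constructor
    · intro h
      have : k ∈ stabilizer G a ⊓ stabilizer G d := by rw [heq]; exact ⟨hk, h⟩
      exact this.2
    · intro h
      exact (hle ⟨hk, h⟩).2
  obtain ⟨c, hc, hca⟩ := hCnt.exists_ne a
  obtain ⟨d, hd⟩ : ∃ d, d ∉ C := by
    by_contra! h
    exact hCne (Set.eq_univ_iff_forall.mpr h)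
  -- fixing `a` and one further point implies fixing everything
  have hall : ∀ k : G, k • a = a → k • c = c → ∀ x : α, k • x = x := by
    intro k ka kc x
    by_cases hx : x ∈ C
    · by_cases hxa : x = a
      · rw [hxa, ka]
      · exact (hequal x hx hxa d hd k ka).mpr ((hequal c hc hca d hd k ka).mp kc)
    · exact (hequal c hc hca x hx k ka).mp kc
  intro x
  by_cases hb : b ∈ C
  · refine hall g ga ?_ x
    exact (hequal c hc hca d hd g ga).mpr ((hequal b hb hab.symm d hd g ga).mp gb)
  · exact hall g ga ((hequal c hc hca b hb g ga).mpr gb) x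

end Cfsg.Agent.PermGp
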