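import Cfsg.Agent.Lib.SmallSimple.Basic

/-!
# Groups of order 7920 with a disconnected prime graph
-/

set_option autoImplicit false

namespace Cfsg.Agent.PermGp.Order7920

open Subgroup MulAction Cfsg.Agent.SmallSimple
open scoped Pointwise

variable {G : Type*} [Group G] [Finite G]

/-- Adjacency in the prime graph respects the partition. -/
def Sides (G : Type*) [Group G] (A : Set ℕ) : Prop :=
  ∀ u v : G, (orderOf u).Prime → (orderOf v).Prime → Commute u v → (orderOf u ∈ A ↔ orderOf v ∈ A)

theorem sides_of_graph {A : Set ℕ}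
    (h : ∀ a ∈ A, ∀ b ∉ A, a.Prime → b.Prime → a ∣ Nat.card G → b ∣ Nat.card G → ¬ ∃ g : G, orderOf g = a * b) :
    Sides G A := by
  intro u v hu hv hc
  by_cases he : orderOf u = orderOf v
  · rw [he]
  have ho : orderOf (u * v) = orderOf u * orderOf v :=
    hc.orderOf_mul_eq_mul_orderOf_of_coprime ((Nat.coprime_primes hu hv).mpr he)
  constructor
  · intro ha
    by_contra hb
    exact h _ ha _ hb hu hv (orderOf_dvd_natCard u) (orderOf_dvd_natCard v) ⟨_, ho⟩
  · intro hb
    by_contra ha
    exact h _ hb _ ha hv hu (orderOf_dvd_natCard v) (orderOf_dvd_natCard u) ⟨_, ho.trans (mul_comm _ _)⟩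

/-- Every nontrivial element of a finite group has a power of prime order. -/
theorem exists_prime_pow {u : G} (hu : u ≠ 1) :
    ∃ (p k : ℕ), p.Prime ∧ orderOf (u ^ k) = p ∧ p ∣ orderOf u := by
  obtain ⟨p, hp, hd⟩ := Nat.exists_prime_and_dvd (mt orderOf_eq_one_iff.mp hu)
  refine ⟨p, orderOf u / p, hp, ?_, hd⟩
  have h0 := orderOf_pos u
  rw [orderOf_pow' u (Nat.div_pos (Nat.le_of_dvd h0 hd) hp.pos).ne',
    Nat.gcd_eq_right (Nat.div_dvd_of_dvd hd), Nat.div_div_self hd h0.ne']

/-- An element of prime order `q` normalising a subgroup commutes with an element of order `p`. -/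
theorem exists_commute {M : Subgroup G} {p q : ℕ} [Fact p.Prime] [Fact q.Prime] {y : G} (hy : orderOf y = q)
    (hyM : y ∈ normalizer (M : Set G)) (hn : ¬ q ∣ Nat.card (Sylow p M))
    (hpow : ∀ j, 0 < j → p ^ j ∣ Nat.card M → p ^ j % q ≠ 1) (hp : p ∣ Nat.card M) :
    ∃ u : G, u ∈ M ∧ orderOf u = p ∧ Commute u y := by
  classical
  -- the group generated by `y` acts on the subgroup and on its Sylow subgroups
  have hYle : zpowers y ≤ normalizer (M : Set G) := zpowers_le.mpr hyM
  let act : zpowers y →* MulAut M := M.normalizerMonoidHom.comp (inclusion hYle)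
  have hact : ∀ (s : zpowers y) (m : M), ((act s m : M) : G) = (s : G) * m * (s : G)⁻¹ := fun s m => rfl
  letI : MulDistribMulAction (zpowers y) M := MulDistribMulAction.compHom M act
  have hYp : IsPGroup q (zpowers y) := IsPGroup.of_card (n := 1) (by rw [Nat.card_zpowers, hy, pow_one])
  obtain ⟨P, hP⟩ := hYp.nonempty_fixed_point_of_prime_not_dvd_card (Sylow p M) hn
  obtain ⟨j, hj⟩ := P.2.exists_card_eq
  have hj0 : 0 < j := Nat.pos_of_ne_zero fun e => by
    rw [e, pow_zero] at hj
    exact P.ne_bot_of_dvd_card hp (Subgroup.card_eq_one.mp hj)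
  have hjM : p ^ j ∣ Nat.card M := hj ▸ Subgroup.card_subgroup_dvd_card _
  have hinv : ∀ (s : zpowers y) (m : M), m ∈ (P : Subgroup M) → act s m ∈ (P : Subgroup M) := fun s m hm => by
    have h1 : s • m ∈ s • (P : Subgroup M) := Subgroup.smul_mem_pointwise_smul m s _ hm
    rwa [← Sylow.pointwise_smul_def, mem_fixedPoints.mp hP s] at h1
  letI : MulAction (zpowers y) (P : Subgroup M) :=
    { smul := fun s m => ⟨act s m, hinv s m m.2⟩
      one_smul := fun m => Subtype.ext (by show act 1 m.1 = m.1; rw [map_one]; rfl)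
      mul_smul := fun s t m => Subtype.ext (by show act (s * t) m.1 = act s (act t m.1); rw [map_mul]; rfl) }
  have hmod := hYp.card_modEq_card_fixedPoints (P : Subgroup M)
  rw [hj] at hmod
  obtain ⟨m, hm, hm1⟩ : ∃ m ∈ fixedPoints (zpowers y) (P : Subgroup M), m ≠ 1 := by
    by_contra! hall
    have hfix : fixedPoints (zpowers y) (P : Subgroup M) = {1} :=
      Set.eq_singleton_iff_unique_mem.mpr ⟨fun s => Subtype.ext (map_one (act s)), hall⟩
    rw [hfix, show Nat.card ({1} : Set (P : Subgroup M)) = 1 by simp] at hmod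
    exact hpow j hj0 hjM (Eq.trans (show p ^ j % q = 1 % q from hmod) (Nat.one_mod_eq_one.mpr (Fact.out : q.Prime).ne_one))
  obtain ⟨r, k, hr, hk, hrd⟩ := exists_prime_pow hm1
  have hrp : r = p := (Nat.prime_dvd_prime_iff_eq hr (Fact.out : p.Prime)).mp
    (hr.dvd_of_dvd_pow (hj ▸ hrd.trans (orderOf_dvd_natCard m)))
  refine ⟨((m ^ k : (P : Subgroup M)) : M), ((m ^ k : (P : Subgroup M)) : M).2, ?_, ?_⟩
  · rw [Subgroup.orderOf_coe, Subgroup.orderOf_coe, hk, hrp]
  · have h1 : act ⟨y, mem_zpowers y⟩ m.1 = m.1 := congrArg Subtype.val (hm ⟨y, mem_zpowers y⟩)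
    have h2 : y * (m.1 : G) * y⁻¹ = m.1 := (hact _ _).symm.trans (congrArg Subtype.val h1)
    have h3 : Commute (m.1 : G) y := (mul_inv_eq_iff_eq_mul.mp h2).symm
    rw [Subgroup.coe_pow, Subgroup.coe_pow]
    exact h3.pow_left k

/-- A `q`-group acting on a subgroup without commuting pairs has order dividing `|M| - 1`. -/
theorem card_dvd_of_free {M S : Subgroup G} [M.Normal]
    (hfree : ∀ s ∈ S, ∀ m ∈ M, s ≠ 1 → m ≠ 1 → ¬ Commute s m) : Nat.card S ∣ Nat.card M - 1 := by
  classical
  let β := {m : M // m ≠ 1}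
  let act : S →* MulAut M := MulAut.conjNormal.comp S.subtype
  letI : MulAction S β :=
    { smul := fun s m => ⟨act s m, fun e => m.2 ((act s).injective (e.trans (map_one (act s)).symm))⟩
      one_smul := fun m => Subtype.ext (by show act 1 m.1 = m.1; rw [map_one]; rfl)
      mul_smul := fun s t m => Subtype.ext (by show act (s * t) m.1 = act s (act t m.1); rw [map_mul]; rfl) }
  have hfr : ∀ b : β, stabilizer S b = ⊥ := fun b => by
    rw [Subgroup.eq_bot_iff_forall]
    intro s hs
    by_contra hs1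
    have h1 : act s b.1 = b.1 := congrArg Subtype.val hs
    have h2 : (s : G) * b.1 * (s : G)⁻¹ = b.1 := congrArg Subtype.val h1
    exact hfree s s.2 b.1 b.1.2 (fun e => hs1 (Subtype.ext e)) (fun e => b.2 (Subtype.ext e))
      (mul_inv_eq_iff_eq_mul.mp h2)
  have hc := Nat.card_congr (selfEquivOrbitsQuotientProd hfr)
  rw [Nat.card_prod] at hc
  have hβ : Nat.card β = Nat.card M - 1 := by
    haveI := Fintype.ofFinite M
    rw [Nat.card_eq_fintype_card, Nat.card_eq_fintype_card, Fintype.card_subtype_compl]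
    simp
  exact ⟨_, hβ ▸ hc.trans (mul_comm _ _)⟩

section
variable {A : Set ℕ}

/-- Elements from both sides do not commute. -/
theorem not_commute_sides (hs : Sides G A) {s m : G} {q : ℕ} (hq : ∀ r : ℕ, r.Prime → r ∣ orderOf s → r = q)
    (hm : ∀ r : ℕ, r.Prime → r ∣ orderOf m → ¬ (r ∈ A ↔ q ∈ A)) (hs1 : s ≠ 1) (hm1 : m ≠ 1) : ¬ Commute s m := by
  intro hc
  obtain ⟨p, k, hp, hk, hkd⟩ := exists_prime_pow hs1
  obtain ⟨p', k', hp', hk', hkd'⟩ := exists_prime_pow hm1
  have h := hs (s ^ k) (m ^ k') (hk ▸ hp) (hk' ▸ hp') (hc.pow_pow k k')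
  rw [hk, hk', hq p hp hkd] at h
  exact hm p' hp' hkd' h.symm

/-- The part of the graph containing eleven is everything if the Sylow eleven is normal. -/
theorem not_normal_eleven (hord : Nat.card G = 7920) (hs : Sides G A) {q : ℕ} (hq : q = 2 ∨ q = 3 ∨ q = 5)
    (hqA : ¬ (q ∈ A ↔ 11 ∈ A)) (P : Subgroup G) [P.Normal] (hP : Nat.card P = 11) : False := by
  classical
  haveI : Fact (Nat.Prime 11) := ⟨by norm_num⟩
  set C := centralizer (P : Set G) with hC
  have hCn : C.Normal := Subgroup.normal_centralizer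
  have hidx : C.index ∣ 10 := by
    have := relIndex_dvd_of_card_prime (p := 11) P hP
    rwa [normalizer_eq_top, relIndex_top_right] at this
  have hside : ∀ r : ℕ, r.Prime → r ∣ Nat.card C → (r ∈ A ↔ 11 ∈ A) := fun r hr hd => by
    haveI := Fact.mk hr
    obtain ⟨u, hu⟩ := exists_prime_orderOf_dvd_card' r hd
    obtain ⟨v, hv⟩ := exists_prime_orderOf_dvd_card' 11 (G := P) (dvd_of_eq hP.symm)
    rw [← Subgroup.orderOf_coe] at hu hv
    have hc : Commute (v : G) u := Subgroup.mem_centralizer_iff.mp u.2 v v.2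
    have := hs v u (by rw [hv]; norm_num) (hu ▸ hr) hc
    rw [hu, hv] at this
    exact this.symm
  have hCc := C.card_mul_index
  rw [hord] at hCc
  have hnd : ¬ q ∣ Nat.card C := fun hd =>
    hqA (hside q (by rcases hq with rfl | rfl | rfl <;> norm_num) hd)
  have hcases : C.index = 1 ∨ C.index = 2 ∨ C.index = 5 ∨ C.index = 10 := by
    have := Nat.le_of_dvd (by norm_num) hidx
    revert hidx
    interval_cases C.index <;> omega
  -- only five can be isolated
  obtain rfl : q = 5 := by
    rcases hq with rfl | rfl | rfl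
    · exfalso; rcases hcases with e | e | e | e <;> rw [e] at hCc <;> omega
    · exfalso; rcases hcases with e | e | e | e <;> rw [e] at hCc <;> omega
    · rfl
  haveI : Fact (Nat.Prime 5) := ⟨by norm_num⟩
  obtain ⟨y, hy⟩ := exists_prime_orderOf_dvd_card' 5 (G := G) (by rw [hord]; norm_num)
  have h5 := card_dvd_of_free (M := C) (S := zpowers y) fun s hsy m hm hs1 hm1 => by
    refine not_commute_sides hs (q := 5) (fun r hr hd => ?_) (fun r hr hd h => hqA ?_) hs1 hm1
    · have := Subgroup.orderOf_dvd_natCard (zpowers y) hsy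
      rw [Nat.card_zpowers, hy] at this
      exact (Nat.prime_dvd_prime_iff_eq hr (by norm_num)).mp (hd.trans this)
    · exact h.symm.trans (hside r hr (hd.trans (Subgroup.orderOf_dvd_natCard C hm)))
  rw [Nat.card_zpowers, hy] at h5
  rcases hcases with e | e | e | e <;> rw [e] at hCc <;> omega

/-- A normal subgroup of order prime to eleven forces a connected graph. -/
theorem eleven_dvd_of_normal (hord : Nat.card G = 7920) (hs : Sides G A) {q : ℕ} (hq : q = 2 ∨ q = 3 ∨ q = 5)
    (hqA : ¬ (q ∈ A ↔ 11 ∈ A)) (M : Subgroup G) [M.Normal] (hM : M ≠ ⊥) : 11 ∣ Nat.card M := by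
  classical
  by_contra h11
  haveI : Fact (Nat.Prime 11) := ⟨by norm_num⟩
  have hMd : Nat.card M ∣ 720 := by
    have h := Subgroup.card_subgroup_dvd_card M
    rw [hord, show 7920 = 720 * 11 by norm_num] at h
    exact ((Nat.Prime.coprime_iff_not_dvd (by norm_num)).mpr h11).symm.dvd_of_dvd_mul_right h
  have hMdiv : Nat.card M ∈ Nat.divisors 720 := Nat.mem_divisors.mpr ⟨hMd, by norm_num⟩
  have hpr : ∀ p : ℕ, p.Prime → p ∣ Nat.card M → p = 2 ∨ p = 3 ∨ p = 5 := fun p hp hd => by
    have h : p ∈ Nat.divisors 720 := Nat.mem_divisors.mpr ⟨hd.trans hMd, by norm_num⟩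
    revert hp
    have key : ∀ r ∈ Nat.divisors 720, r = 2 ∨ r = 3 ∨ r = 5 ∨ r = 1 ∨ ∃ a < r, 1 < a ∧ a ∣ r := by decide +kernel
    intro hp
    rcases key p h with e | e | e | e | ⟨a, ha, ha1, had⟩
    · exact Or.inl e
    · exact Or.inr (Or.inl e)
    · exact Or.inr (Or.inr e)
    · exact absurd e hp.ne_one
    · rcases hp.eq_one_or_self_of_dvd a had with e | e <;> omega
  have hnorm : ∀ {K : Subgroup G} [K.Normal] (g : G), g ∈ normalizer (K : Set G) := fun {K} _ g => by
    rw [normalizer_eq_top]; exact Subgroup.mem_top g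
  obtain ⟨x, hx⟩ := exists_prime_orderOf_dvd_card' 11 (G := G) (by rw [hord]; norm_num)
  -- the primes of `M` are on the side of eleven
  have hside : ∀ p : ℕ, p.Prime → p ∣ Nat.card M → (p ∈ A ↔ 11 ∈ A) := fun p hp hd => by
    haveI := Fact.mk hp
    obtain ⟨P⟩ : Nonempty (Sylow p M) := inferInstance
    have hn : ¬ 11 ∣ Nat.card (Sylow p M) := fun h =>
      h11 (h.trans ((Sylow.card_dvd_index P).trans (Subgroup.index_dvd_card _)))
    obtain ⟨u, -, hu, huy⟩ := exists_commute (M := M) (p := p) hx (hnorm x) hn (fun j hj hjd => by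
      have hin : p ^ j ∈ Nat.divisors 720 := Nat.mem_divisors.mpr ⟨hjd.trans hMd, by norm_num⟩
      have key : ∀ r ∈ Nat.divisors 720, r % 11 = 1 → r = 1 ∨ r = 12 ∨ r = 45 ∨ r = 144 := by decide +kernel
      intro h1
      have hdv : ∀ {t : ℕ}, t.Prime → t ∣ p ^ j → t = p := fun ht h =>
        (Nat.prime_dvd_prime_iff_eq ht hp).mp (ht.dvd_of_dvd_pow h)
      rcases key _ hin h1 with e | e | e | e
      · exact (Nat.one_lt_pow hj.ne' hp.one_lt).ne' e
      · have := hdv Nat.prime_two (by rw [e]; norm_num); have := hdv Nat.prime_three (by rw [e]; norm_num); omega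
      · have := hdv Nat.prime_three (by rw [e]; norm_num); have := hdv (t := 5) (by norm_num) (by rw [e]; norm_num); omega
      · have := hdv Nat.prime_two (by rw [e]; norm_num); have := hdv Nat.prime_three (by rw [e]; norm_num); omega) hd
    have := hs u x (hu ▸ hp) (by rw [hx]; norm_num) huy
    rwa [hu, hx] at this
  have hnq : ¬ q ∣ Nat.card M := fun h => hqA (hside q (by rcases hq with rfl | rfl | rfl <;> norm_num) h)
  have hM1 : Nat.card M ≠ 1 := fun e => hM (Subgroup.card_eq_one.mp e)
  have hfreeS : ∀ [Fact q.Prime] (S : Sylow q G), Nat.card (S : Subgroup G) ∣ Nat.card M - 1 := fun {_} S =>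
    card_dvd_of_free fun s hsS m hm hs1 hm1 => by
      refine not_commute_sides hs (q := q) (fun r hr hd => ?_) (fun r hr hd h => hqA ?_) hs1 hm1
      · obtain ⟨k, hk⟩ := S.2.exists_card_eq
        exact (Nat.prime_dvd_prime_iff_eq hr Fact.out).mp
          (hr.dvd_of_dvd_pow (hk ▸ hd.trans (Subgroup.orderOf_dvd_natCard _ hsS)))
      · exact h.symm.trans (hside r hr (hd.trans (Subgroup.orderOf_dvd_natCard M hm)))
  have hedge : ∀ (p : ℕ), p.Prime → p ∣ Nat.card M → ∀ (y : G), orderOf y = q → q.Prime →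
      ¬ ∃ u : G, u ∈ M ∧ orderOf u = p ∧ Commute u y := by
    rintro p hp hpd y hy hq' ⟨u, -, hu, huy⟩
    have h := hs u y (hu ▸ hp) (hy ▸ hq') huy
    rw [hu, hy] at h
    exact hqA (h.symm.trans (hside p hp hpd))
  rcases hq with rfl | rfl | rfl
  · haveI : Fact (Nat.Prime 2) := ⟨Nat.prime_two⟩
    obtain ⟨S⟩ : Nonempty (Sylow 2 G) := inferInstance
    have h16 := hfreeS S
    rw [card_sylow_of_eq S (k := 4) (m := 495) (by rw [hord]; norm_num) (by norm_num)] at h16
    have key : ∀ r ∈ Nat.divisors 720, r ≠ 1 → 2 ^ 4 ∣ r - 1 → r % 2 = 0 ∨ 720 < r := by decide +kernel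
    rcases key _ hMdiv hM1 h16 with e | e
    · exact hnq (Nat.dvd_of_mod_eq_zero e)
    · exact absurd (Nat.le_of_dvd (by norm_num) hMd) (by omega)
  · haveI : Fact (Nat.Prime 3) := ⟨Nat.prime_three⟩
    obtain ⟨S⟩ : Nonempty (Sylow 3 G) := inferInstance
    have h9 := hfreeS S
    rw [card_sylow_of_eq S (k := 2) (m := 880) (by rw [hord]; norm_num) (by norm_num)] at h9
    have key : ∀ r ∈ Nat.divisors 720, r ≠ 1 → 3 ^ 2 ∣ r - 1 → ¬ 3 ∣ r → r = 10 := by decide +kernel
    have h10 := key _ hMdiv hM1 h9 hnq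
    obtain ⟨y, hy⟩ := exists_prime_orderOf_dvd_card' 3 (G := G) (by rw [hord]; norm_num)
    haveI : Fact (Nat.Prime 5) := ⟨by norm_num⟩
    obtain ⟨P⟩ : Nonempty (Sylow 5 M) := inferInstance
    refine hedge 5 (by norm_num) (by rw [h10]; norm_num) y hy (by norm_num)
      (exists_commute (M := M) hy (hnorm y) (fun h => ?_) (fun j hj hjd => ?_) (by rw [h10]; norm_num))
    · have := h.trans ((Sylow.card_dvd_index P).trans (Subgroup.index_dvd_card _))
      rw [h10] at this
      omega
    · rw [h10] at hjd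
      have hle := Nat.le_of_dvd (by norm_num) hjd
      have hj1 : j = 1 := by
        by_contra hne
        have : 5 ^ 2 ≤ 5 ^ j := Nat.pow_le_pow_right (by norm_num) (by omega)
        omega
      subst hj1
      norm_num
  · haveI : Fact (Nat.Prime 5) := ⟨by norm_num⟩
    haveI : Fact (Nat.Prime 3) := ⟨Nat.prime_three⟩
    obtain ⟨S⟩ : Nonempty (Sylow 5 G) := inferInstance
    have h5 := hfreeS S
    rw [card_sylow_of_eq S (k := 1) (m := 1584) (by rw [hord]; norm_num) (by norm_num), pow_one] at h5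
    obtain ⟨y, hy⟩ := exists_prime_orderOf_dvd_card' 5 (G := G) (by rw [hord]; norm_num)
    -- a three-element would commute with `y`
    have h3 : ∀ (K : Subgroup G), K.Normal → ¬ 5 ∣ Nat.card K → 3 ∣ Nat.card K →
        ∃ u : G, u ∈ K ∧ orderOf u = 3 ∧ Commute u y := fun K hKn h5K h3K => by
      haveI := hKn
      obtain ⟨Q⟩ : Nonempty (Sylow 3 K) := inferInstance
      refine exists_commute hy (hnorm y) (fun h => h5K (h.trans ((Sylow.card_dvd_index Q).trans (Subgroup.index_dvd_card _))))
        (fun j hj hjd => ?_) h3K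
      have hd := hjd.trans (Subgroup.card_subgroup_dvd_card K)
      rw [hord] at hd
      have hj2 : j ≤ 2 := by
        by_contra hne
        have h27 : 3 ^ 3 ∣ 7920 := (pow_dvd_pow 3 (by omega)).trans hd
        omega
      interval_cases j <;> norm_num
    have h16 : Nat.card M = 16 := by
      have key : ∀ r ∈ Nat.divisors 720, r ≠ 1 → 5 ∣ r - 1 → ¬ 5 ∣ r → r = 16 ∨ 3 ∣ r := by decide +kernel
      refine (key _ hMdiv hM1 h5 hnq).resolve_right fun h => ?_
      exact hedge 3 (by norm_num) h y hy (by norm_num) (h3 M inferInstance hnq h)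
    haveI hCn : (centralizer (M : Set G)).Normal := Subgroup.normal_centralizer
    -- an element of order eleven centralises `M`
    have hxC : x ∈ centralizer (M : Set G) := by
      let act : zpowers x →* MulAut M := MulAut.conjNormal.comp (zpowers x).subtype
      letI : MulDistribMulAction (zpowers x) M := MulDistribMulAction.compHom M act
      have hXp : IsPGroup 11 (zpowers x) := IsPGroup.of_card (n := 1) (by rw [Nat.card_zpowers, hx, pow_one])
      have hmod := hXp.card_modEq_card_fixedPoints M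
      let F : Subgroup M :=
        { carrier := fixedPoints (zpowers x) M
          one_mem' := fun s => smul_one s
          mul_mem' := fun {a b} ha hb s => by rw [smul_mul', ha s, hb s]
          inv_mem' := fun {a} ha s => by rw [smul_inv', ha s] }
      have hF : Nat.card F ∣ 16 := h16 ▸ Subgroup.card_subgroup_dvd_card F
      rw [h16, show Nat.card (fixedPoints (zpowers x) M) = Nat.card F from rfl] at hmod
      have hF16 : Nat.card F = 16 := by
        have hle := Nat.le_of_dvd (by norm_num) hF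
        generalize Nat.card F = f at *
        unfold Nat.ModEq at hmod
        interval_cases f <;> omega
      have htop : F = ⊤ := Subgroup.eq_top_of_card_eq _ (hF16.trans h16.symm)
      rw [Subgroup.mem_centralizer_iff]
      intro m hm
      have h1 : (⟨m, hm⟩ : M) ∈ F := htop ▸ Subgroup.mem_top _
      have h2 : x * m * x⁻¹ = m := congrArg Subtype.val (h1 ⟨x, mem_zpowers x⟩)
      exact (mul_inv_eq_iff_eq_mul.mp h2).symm
    set C := centralizer (M : Set G) with hC
    have hsideC : ∀ r : ℕ, r.Prime → r ∣ Nat.card C → (r ∈ A ↔ 11 ∈ A) := fun r hr hd => by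
      haveI := Fact.mk hr
      haveI : Fact (Nat.Prime 2) := ⟨Nat.prime_two⟩
      obtain ⟨u, hu⟩ := exists_prime_orderOf_dvd_card' r hd
      obtain ⟨v, hv⟩ := exists_prime_orderOf_dvd_card' 2 (G := M) (by rw [h16]; norm_num)
      rw [← Subgroup.orderOf_coe] at hu hv
      have hc : Commute (v : G) u := Subgroup.mem_centralizer_iff.mp u.2 v v.2
      have := hs v u (by rw [hv]; norm_num) (hu ▸ hr) hc
      rw [hu, hv] at this
      exact this.symm.trans (hside 2 Nat.prime_two (by rw [h16]; norm_num))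
    have hC5 : ¬ 5 ∣ Nat.card C := fun h => hqA (hsideC 5 (by norm_num) h)
    have hC3 : ¬ 3 ∣ Nat.card C := fun h => by
      obtain ⟨u, -, hu, huy⟩ := h3 C hCn hC5 h
      have := hs u y (by rw [hu]; norm_num) (by rw [hy]; norm_num) huy
      rw [hu, hy] at this
      exact hqA (this.symm.trans (hsideC 3 (by norm_num) h))
    have hC11 : 11 ∣ Nat.card C := hx ▸ Subgroup.orderOf_dvd_natCard C hxC
    have hCd : Nat.card C ∈ Nat.divisors 7920 :=
      Nat.mem_divisors.mpr ⟨hord ▸ Subgroup.card_subgroup_dvd_card C, by norm_num⟩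
    obtain ⟨Q⟩ : Nonempty (Sylow 11 C) := inferInstance
    have hQc : Nat.card (Q : Subgroup C) = 11 ∧ Nat.card (Sylow 11 C) ∣ 16 := by
      have key : ∀ r ∈ Nat.divisors 7920, 11 ∣ r → ¬ 5 ∣ r → ¬ 3 ∣ r → r / 11 ∣ 16 ∧ r = 11 * (r / 11) := by
        decide +kernel
      obtain ⟨h1, h2⟩ := key _ hCd hC11 hC5 hC3
      have hnd : ¬ 11 ∣ Nat.card C / 11 := fun h => by have := h.trans h1; omega
      have hQ := card_sylow_of_eq Q (k := 1) (m := Nat.card C / 11) (by rw [pow_one]; exact h2) hnd
      rw [pow_one] at hQ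
      refine ⟨hQ, (Sylow.card_dvd_index Q).trans ?_⟩
      have h4 := (Q : Subgroup C).card_mul_index
      rw [hQ, h2] at h4
      rw [Nat.eq_of_mul_eq_mul_left (by norm_num) h4]
      exact h1
    have hn1 : Nat.card (Sylow 11 C) = 1 := by
      have hm : Nat.card (Sylow 11 C) % 11 = 1 := card_sylow_modEq_one 11 C
      have hd := hQc.2
      have hle := Nat.le_of_dvd (by norm_num) hd
      generalize Nat.card (Sylow 11 C) = k at *
      interval_cases k <;> omega
    haveI : Subsingleton (Sylow 11 C) := (Nat.card_eq_one_iff_unique.mp hn1).1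
    haveI : (Q : Subgroup C).Normal := Sylow.normal_of_subsingleton Q
    haveI : (Q : Subgroup C).Characteristic := Sylow.characteristic_of_subsingleton Q
    exact not_normal_eleven hord hs (Or.inr (Or.inr rfl)) hqA ((Q : Subgroup C).map C.subtype)
      (by rw [Subgroup.card_map_of_injective C.subtype_injective, hQc.1])

end

/-- The sign of a fourth root of unity whose square moves all but one point. -/
theorem sign_of_square_moves {α : Type*} [Fintype α] [DecidableEq α] (σ : Equiv.Perm α) (h4 : σ ^ 4 = 1)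
    (hα : Fintype.card α = 45) (h2 : (σ ^ 2).support.card = 44) : Equiv.Perm.sign σ = -1 := by
  have hord : orderOf σ ∣ 4 := orderOf_dvd_of_pow_eq_one h4
  have hlen : ∀ l ∈ σ.cycleType, l = 2 ∨ l = 4 := fun l hl => by
    have h1 := (Equiv.Perm.dvd_of_mem_cycleType hl).trans hord
    have h2' := Equiv.Perm.two_le_of_mem_cycleType hl
    have := Nat.le_of_dvd (by norm_num) h1
    interval_cases l <;> omega
  have hsum : 2 ∣ σ.cycleType.sum := Multiset.dvd_sum fun l hl => by rcases hlen l hl with e | e <;> omega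
  rw [Equiv.Perm.sum_cycleType] at hsum
  have hsub : (σ ^ 2).support ⊆ σ.support := Equiv.Perm.support_pow_le σ 2
  have hle := Finset.card_le_card hsub
  have hle' : σ.support.card ≤ 45 := hα ▸ Finset.card_le_univ _
  have hs44 : σ.support.card = 44 := by omega
  have heq : (σ ^ 2).support = σ.support := Finset.eq_of_subset_of_card_le hsub (by omega)
  have hall : ∀ l ∈ σ.cycleType, l = 4 := fun l hl => by
    rcases hlen l hl with e | e
    · exfalso
      subst e
      rw [Equiv.Perm.cycleType_def, Multiset.mem_map] at hl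
      obtain ⟨c, hc, hc2⟩ := hl
      rw [Finset.mem_val, Equiv.Perm.mem_cycleFactorsFinset_iff] at hc
      obtain ⟨hcyc, hag⟩ := hc
      obtain ⟨z, hz⟩ := Finset.card_pos.mp (show 0 < c.support.card by
        have := hc2; simp only [Function.comp_apply] at this; omega)
      have hzσ : z ∈ (σ ^ 2).support := by
        rw [heq, Equiv.Perm.mem_support, ← hag z hz]
        exact Equiv.Perm.mem_support.mp hz
      have hcz : c z ∈ c.support := Equiv.Perm.apply_mem_support.mpr hz
      have hcc : c ^ 2 = 1 := by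
        rw [← orderOf_dvd_iff_pow_eq_one, hcyc.orderOf]
        exact dvd_of_eq hc2
      apply Equiv.Perm.mem_support.mp hzσ
      rw [pow_two, Equiv.Perm.mul_apply, ← hag z hz, ← hag _ hcz, ← Equiv.Perm.mul_apply, ← pow_two, hcc,
        Equiv.Perm.one_apply]
    · exact e
  have hrep := Multiset.eq_replicate.mpr ⟨rfl, hall⟩
  have hs := Equiv.Perm.sum_cycleType σ
  rw [hrep, Multiset.sum_replicate, smul_eq_mul] at hs
  rw [Equiv.Perm.sign_of_cycleType, hrep, Multiset.sum_replicate, Multiset.card_replicate, smul_eq_mul]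
  have : Multiset.card σ.cycleType = 11 := by omega
  rw [this]
  decide

theorem sign_eq_one_of_perfect {H α : Type*} [Group H] [Fintype α] [DecidableEq α] [MulAction H α]
    (hperf : commutator H = ⊤) (h : H) : Equiv.Perm.sign (MulAction.toPermHom H α h) = 1 := by
  have hle : commutator H ≤ (Equiv.Perm.sign.comp (MulAction.toPermHom H α)).ker := Abelianization.commutator_subset_ker _
  exact hle (hperf ▸ Subgroup.mem_top h)

theorem not_le_centralizer_of_perfect {H : Type*} [Group H] [Finite H] (hperf : commutator H = ⊤) {p : ℕ}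
    [Fact p.Prime] (P : Sylow p H) (hP : Nat.card (P : Subgroup H) = p) :
    ¬ normalizer ((P : Subgroup H) : Set H) ≤ centralizer ((P : Subgroup H) : Set H) := fun hle => by
  haveI : IsCyclic (P : Subgroup H) := isCyclic_of_prime_card hP
  letI : CommGroup (P : Subgroup H) := IsCyclic.commGroup
  have hker : (MonoidHom.transferSylow P hle).ker = ⊤ :=
    top_le_iff.mp (hperf ▸ Abelianization.commutator_subset_ker _)
  have hc := MonoidHom.ker_transferSylow_isComplement' P hle
  rw [hker] at hc
  have := congrArg (fun K : Subgroup H => Nat.card K) (isComplement'_top_left.1 hc)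
  simp only [Subgroup.card_bot, hP] at this
  exact (Fact.out : p.Prime).ne_one this

theorem zpowers_eq_of_prime_mem {H : Type*} [Group H] [Finite H] {Q : Subgroup H} (hQ : Nat.card Q = 11) {w : H}
    (hw : w ∈ Q) (hw1 : w ≠ 1) : zpowers w = Q := by
  refine eq_of_le_of_card_ge (zpowers_le.2 hw) ?_
  have h := Subgroup.orderOf_dvd_natCard Q hw
  rw [hQ] at h
  rw [hQ, Nat.card_zpowers]
  rcases (Nat.dvd_prime (by norm_num)).mp h with e | e
  · exact absurd (orderOf_eq_one_iff.mp e) hw1
  · omega

/-- A perfect group with forty-five Sylow elevens. -/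
theorem no_forty_five {H : Type*} [Group H] [Finite H] (hperf : commutator H = ⊤) (hZ : center H = ⊥)
    [Fact (Nat.Prime 11)] (hn : Nat.card (Sylow 11 H) = 45) {a : ℕ} (ha : a ≤ 3)
    (hcard : Nat.card H = 495 * 2 ^ a) : False := by
  classical
  haveI : Fact (Nat.Prime 2) := ⟨Nat.prime_two⟩
  haveI := Fintype.ofFinite (Sylow 11 H)
  obtain ⟨P⟩ : Nonempty (Sylow 11 H) := inferInstance
  have h11 : ¬ 11 ∣ 45 * 2 ^ a := by interval_cases a <;> norm_num
  have hPc : Nat.card (P : Subgroup H) = 11 := by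
    rw [card_sylow_of_eq P (k := 1) (m := 45 * 2 ^ a) (by rw [hcard]; ring) h11, pow_one]
  set NP := normalizer ((P : Subgroup H) : Set H) with hNP
  set C := centralizer ((P : Subgroup H) : Set H) with hC
  have hCN : C ≤ NP := SmallSimple.centralizer_le_normalizer _
  have hNc : Nat.card NP = 11 * 2 ^ a := by
    have := card_sylow_mul P
    rw [hn, hcard] at this
    rw [hNP]
    omega
  have hidx : C.relIndex NP = 2 := by
    have h1 : C.relIndex NP ∣ 10 := relIndex_dvd_of_card_prime (p := 11) _ hPc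
    have h2 : C.relIndex NP ∣ 11 * 2 ^ a := hNc ▸ Subgroup.index_dvd_card _
    have h3 : C.relIndex NP ≠ 1 := fun e => not_le_centralizer_of_perfect hperf P hPc (relIndex_eq_one.mp e)
    have := Nat.le_of_dvd (by norm_num) h1
    generalize C.relIndex NP = e at *
    interval_cases a <;> interval_cases e <;> omega
  have hCc : 2 * Nat.card C = 11 * 2 ^ a := by
    rw [← hNc, ← hidx]; exact card_normalizer_eq _
  have hPC : (P : Subgroup H) ≤ C := by
    haveI : IsCyclic (P : Subgroup H) := isCyclic_of_prime_card hPc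
    letI : CommGroup (P : Subgroup H) := IsCyclic.commGroup
    intro u hu
    rw [hC, Subgroup.mem_centralizer_iff]
    exact fun v hv => congrArg Subtype.val (mul_comm (⟨v, hv⟩ : (P : Subgroup H)) ⟨u, hu⟩)
  have hfix : ∀ (g : H) (Q : Sylow 11 H), g • Q = Q ↔ g ∈ normalizer ((Q : Subgroup H) : Set H) := fun g Q =>
    Sylow.smul_eq_iff_mem_normalizer
  have hnormQ : ∀ Q : Sylow 11 H, (P : Subgroup H) ≤ normalizer ((Q : Subgroup H) : Set H) → P = Q := fun Q h =>
    Sylow.ext (Subgroup.eq_of_le_of_card_ge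
      (le_trans (le_inf le_rfl h) (le_of_eq (P.2.inf_normalizer_sylow Q)) |>.trans inf_le_right)
      (le_of_eq (by rw [Q.card_eq_multiplicity, P.card_eq_multiplicity])))
  -- the Sylow elevens generate
  have hgen : ∀ K : Subgroup H, (∀ Q : Sylow 11 H, (Q : Subgroup H) ≤ K) → K = ⊤ := fun K hK => by
    set L : Subgroup H := ⨆ Q : Sylow 11 H, (Q : Subgroup H) with hL
    haveI : L.Normal := ⟨fun l hl g => by
      have hmap : L.map (MulAut.conj g).toMonoidHom ≤ L := by
        rw [hL, Subgroup.map_iSup]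
        exact iSup_le fun Q => le_iSup_of_le (g • Q) (le_of_eq rfl)
      exact hmap ⟨l, hl, rfl⟩⟩
    suffices L = ⊤ by rw [eq_top_iff, ← this]; exact iSup_le hK
    have hPL : (P : Subgroup H) ≤ L := le_iSup (fun Q : Sylow 11 H => (Q : Subgroup H)) P
    have hnL : Nat.card (Sylow 11 L) = 45 := by
      rw [← hn]
      refine Nat.card_congr (Equiv.ofBijective (fun Q => Sylow.ofCard ((Q : Subgroup L).map L.subtype) ?_) ⟨?_, ?_⟩)
      · rw [Subgroup.card_map_of_injective L.subtype_injective, Q.card_eq_multiplicity, ← P.card_eq_multiplicity,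
          ← Nat.card_congr (Subgroup.subgroupOfEquivOfLe hPL).toEquiv]
        exact ((P.subtype hPL).card_eq_multiplicity).symm.trans rfl
      · intro Q Q' h
        exact Sylow.ext (Subgroup.map_injective L.subtype_injective (congrArg (fun R : Sylow 11 H => (R : Subgroup H)) h))
      · intro Q
        have hQL : (Q : Subgroup H) ≤ L := le_iSup (fun Q : Sylow 11 H => (Q : Subgroup H)) Q
        exact ⟨Q.subtype hQL, Sylow.ext (Subgroup.map_subgroupOf_eq_of_le hQL)⟩
    have h1 := card_sylow_subgroup_mul P L hPL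
    rw [hnL] at h1
    obtain ⟨c, hc⟩ : 11 ∣ Nat.card ↥(NP ⊓ L) := hPc ▸ Subgroup.card_dvd_of_le (le_inf Subgroup.le_normalizer hPL)
    have h2 : L.index ∣ 2 ^ a := by
      refine ⟨c, Nat.eq_of_mul_eq_mul_left (show 0 < 495 by norm_num) ?_⟩
      have h3 := L.card_mul_index
      rw [← h1, hc, hcard] at h3
      rw [← h3]; ring
    obtain ⟨i, -, hi⟩ := (Nat.dvd_prime_pow Nat.prime_two).mp h2
    have hQp : IsPGroup 2 (H ⧸ L) := IsPGroup.of_card (n := i) hi
    haveI : Group.IsNilpotent (H ⧸ L) := hQp.isNilpotent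
    by_contra hne
    haveI : Nontrivial (H ⧸ L) := by
      rw [← Finite.one_lt_card_iff_nontrivial]
      have h4 : L.index ≠ 1 := mt Subgroup.index_eq_one.mp hne
      have h5 : L.index ≠ 0 := Subgroup.FiniteIndex.index_ne_zero
      rw [← Subgroup.index]; omega
    refine (Group.IsSolvable.commutator_lt_top_of_nontrivial (H ⧸ L)).ne ?_
    rw [eq_top_iff, ← Subgroup.map_top_of_surjective (QuotientGroup.mk' L) (QuotientGroup.mk'_surjective L), ← hperf,
      commutator_def, Subgroup.map_commutator, commutator_def]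
    exact Subgroup.commutator_mono le_top le_top
  -- the centraliser of a two-element of `C` lies in `NP`
  have hcent : ∀ r ∈ C, ∀ k : ℕ, r ^ 2 ^ k = 1 → r ≠ 1 → centralizer ({r} : Set H) ≤ NP ∧ r ^ 4 = 1 := by
    intro r hr k hk hr1
    obtain ⟨S, hS⟩ := (IsPGroup.of_card (p := 2) (G := zpowers (⟨r, hr⟩ : C)) (n := _) (by
      rw [Nat.card_zpowers]
      exact ((Nat.dvd_prime_pow Nat.prime_two).mp (orderOf_dvd_of_pow_eq_one (Subtype.ext hk))).choose_spec.2)).exists_le_sylow
    have ha1 : 1 ≤ a := by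
      rcases a.eq_zero_or_pos with rfl | h
      · omega
      · exact h
    have hSc : Nat.card (S : Subgroup C) = 2 ^ (a - 1) := card_sylow_of_eq S (k := a - 1) (m := 11)
      (by interval_cases a <;> omega) (by norm_num)
    have hcomm : ∀ u ∈ (S : Subgroup C), ∀ v ∈ (S : Subgroup C), u * v = v * u := by
      intro u hu v hv
      have : IsMulCommutative (S : Subgroup C) := by
        interval_cases a
        · haveI : Subsingleton (S : Subgroup C) := (Nat.card_eq_one_iff_unique.mp hSc).1
          exact ⟨⟨fun u v => Subsingleton.elim _ _⟩⟩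
        · haveI : IsCyclic (S : Subgroup C) := isCyclic_of_prime_card (p := 2) hSc
          letI : CommGroup (S : Subgroup C) := IsCyclic.commGroup
          exact ⟨⟨mul_comm⟩⟩
        · exact IsPGroup.isMulCommutative_of_card_eq_prime_sq (p := 2) hSc
      exact congrArg Subtype.val (this.is_comm.comm (⟨u, hu⟩ : (S : Subgroup C)) ⟨v, hv⟩)
    have hrS : (⟨r, hr⟩ : C) ∈ (S : Subgroup C) := hS (mem_zpowers _)
    set K := centralizer ({r} : Set H) with hK
    have hSK : (S : Subgroup C).map C.subtype ≤ NP ⊓ K := by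
      rintro _ ⟨u, hu, rfl⟩
      exact ⟨hCN u.2, Subgroup.mem_centralizer_singleton_iff.mpr
        (congrArg Subtype.val (hcomm u hu ⟨r, hr⟩ hrS))⟩
    have hPK : (P : Subgroup H) ≤ K := fun u hu => Subgroup.mem_centralizer_singleton_iff.mpr
      (Subgroup.mem_centralizer_iff.mp hr u hu)
    have hdvd : 11 * 2 ^ (a - 1) ∣ Nat.card ↥(NP ⊓ K) := by
      refine Nat.Coprime.mul_dvd_of_dvd_of_dvd (Nat.Coprime.pow_right _ (by norm_num))
        (hPc ▸ Subgroup.card_dvd_of_le (le_inf Subgroup.le_normalizer hPK)) ?_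
      rw [← hSc, ← Subgroup.card_map_of_injective C.subtype_injective]
      exact Subgroup.card_dvd_of_le hSK
    have h1 := card_sylow_subgroup_mul P K hPK
    have hKd : Nat.card (Sylow 11 K) * (11 * 2 ^ (a - 1)) ∣ 495 * 2 ^ a :=
      ((Nat.mul_dvd_mul_left _ hdvd).trans (dvd_of_eq h1)).trans (hcard ▸ Subgroup.card_subgroup_dvd_card K)
    have hn90 : Nat.card (Sylow 11 K) ∣ 90 := by
      have e : 495 * 2 ^ a = 90 * (11 * 2 ^ (a - 1)) := by interval_cases a <;> norm_num
      rw [e] at hKd
      exact (Nat.mul_dvd_mul_iff_right (by positivity)).mp hKd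
    have hmod : Nat.card (Sylow 11 K) % 11 = 1 := card_sylow_modEq_one 11 K
    have hn1 : Nat.card (Sylow 11 K) = 1 ∨ Nat.card (Sylow 11 K) = 45 := by
      have key : ∀ m ∈ Nat.divisors 90, m % 11 = 1 → m = 1 ∨ m = 45 := by decide +kernel
      exact key _ (Nat.mem_divisors.mpr ⟨hn90, by norm_num⟩) hmod
    refine ⟨?_, ?_⟩
    · rcases hn1 with e | e
      · rw [e, one_mul] at h1
        exact le_trans (le_of_eq (Subgroup.eq_of_le_of_card_ge inf_le_right h1.ge).symm) inf_le_left
      · exfalso
        refine hr1 ((Subgroup.mem_bot).mp (hZ ▸ ?_))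
        have hall : ∀ Q : Sylow 11 H, (Q : Subgroup H) ≤ K := by
          let f : Sylow 11 K → Sylow 11 H := fun Q => Sylow.ofCard ((Q : Subgroup K).map K.subtype) (by
            rw [Subgroup.card_map_of_injective K.subtype_injective, Q.card_eq_multiplicity, ← P.card_eq_multiplicity,
              ← Nat.card_congr (Subgroup.subgroupOfEquivOfLe hPK).toEquiv]
            exact ((P.subtype hPK).card_eq_multiplicity).symm.trans rfl)
          have hf : Function.Injective f := fun Q Q' h =>
            Sylow.ext (Subgroup.map_injective K.subtype_injective (congrArg (fun R : Sylow 11 H => (R : Subgroup H)) h))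
          haveI := Fintype.ofFinite (Sylow 11 K)
          intro Q
          obtain ⟨Q', rfl⟩ := ((Fintype.bijective_iff_injective_and_card f).mpr
            ⟨hf, by rw [← Nat.card_eq_fintype_card, ← Nat.card_eq_fintype_card, e, hn]⟩).2 Q
          exact Subgroup.map_subtype_le _
        refine Subgroup.mem_center_iff.mpr fun g => ?_
        exact Subgroup.mem_centralizer_singleton_iff.mp (hgen K hall ▸ Subgroup.mem_top g : g ∈ K)
    · have h4 : (⟨⟨r, hr⟩, hrS⟩ : (S : Subgroup C)) ^ 4 = 1 := by
        have h5 := pow_card_eq_one' (x := (⟨⟨r, hr⟩, hrS⟩ : (S : Subgroup C)))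
        rw [hSc] at h5
        have h6 : 2 ^ (a - 1) ∣ 4 := (show 4 = 2 ^ 2 by norm_num) ▸ pow_dvd_pow 2 (by omega)
        obtain ⟨d, hd⟩ := h6
        rw [hd, pow_mul, h5, one_pow]
      exact congrArg (fun z : (S : Subgroup C) => ((z : C) : H)) h4
  -- elements of `C` of order two fix one point only
  let σ : H → Equiv.Perm (Sylow 11 H) := fun g => MulAction.toPermHom H (Sylow 11 H) g
  have hσ : ∀ g Q, σ g Q = g • Q := fun g Q => rfl
  have hcardS : Fintype.card (Sylow 11 H) = 45 := by rw [← Nat.card_eq_fintype_card, hn]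
  have hinv : ∀ r ∈ C, r ≠ 1 → r ^ 2 = 1 → ∀ Q : Sylow 11 H, r • Q = Q → Q = P := by
    intro r hr hr1 hr2 Q hQ
    by_contra hne
    set F := {Q : Sylow 11 H | r • Q = Q} with hF
    have hcom : ∀ p : (P : Subgroup H), r * p = p * r := fun p =>
      (Subgroup.mem_centralizer_iff.mp hr p.1 p.2).symm
    letI : MulAction (P : Subgroup H) F :=
      { smul := fun p Q => ⟨(p : H) • Q.1, by
          show r • ((p : H) • Q.1) = (p : H) • Q.1
          rw [smul_smul, hcom, ← smul_smul, Q.2]⟩
        one_smul := fun Q => Subtype.ext (one_smul H Q.1)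
        mul_smul := fun p p' Q => Subtype.ext (mul_smul (p : H) p' Q.1) }
    have hmod := (IsPGroup.of_card (p := 11) (n := 1) (G := (P : Subgroup H)) (by rw [hPc, pow_one])).card_modEq_card_fixedPoints F
    have hfp : Nat.card (fixedPoints (P : Subgroup H) F) = 1 := by
      refine Nat.card_eq_one_iff_unique.mpr ⟨⟨fun u v => ?_⟩, ⟨⟨⟨P, (hfix r P).mpr (hCN hr)⟩, fun p =>
        Subtype.ext ((hfix p.1 P).mpr (Subgroup.le_normalizer p.2))⟩⟩⟩
      have h1 : ∀ w : fixedPoints (P : Subgroup H) F, w.1.1 = P := fun w => (hnormQ w.1.1 fun p hp =>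
        (hfix p w.1.1).mp (congrArg Subtype.val (w.2 ⟨p, hp⟩))).symm
      exact Subtype.ext (Subtype.ext ((h1 u).trans (h1 v).symm))
    rw [hfp] at hmod
    have hsupp : (σ r).support.card + Nat.card F = 45 := by
      haveI := Fintype.ofFinite F
      rw [← hcardS, Nat.card_eq_fintype_card, ← Set.toFinset_card,
        show F.toFinset = (σ r).supportᶜ by ext Q; simp [hF, hσ], Finset.card_add_card_compl]
    have hs : Equiv.Perm.sign (σ r) = 1 := sign_eq_one_of_perfect hperf r
    have hσ2 : σ r * σ r = 1 := by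
      show MulAction.toPermHom H (Sylow 11 H) r * MulAction.toPermHom H (Sylow 11 H) r = 1
      rw [← map_mul, ← pow_two, hr2, map_one]
    have hev : 2 ∣ (σ r).support.card := Equiv.Perm.two_dvd_card_support (by rw [pow_two]; exact hσ2)
    have hcyc : ∀ n ∈ (σ r).cycleType, n = 2 := fun n hn' => by
      have h3 := (Equiv.Perm.dvd_of_mem_cycleType hn').trans (orderOf_dvd_of_pow_eq_one (n := 2) (by rw [pow_two]; exact hσ2))
      have := Equiv.Perm.two_le_of_mem_cycleType hn'
      have := Nat.le_of_dvd (by norm_num) h3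
      omega
    have hrep := Multiset.eq_replicate.mpr ⟨rfl, hcyc⟩
    have hsum := Equiv.Perm.sum_cycleType (σ r)
    rw [hrep, Multiset.sum_replicate, smul_eq_mul] at hsum
    rw [Equiv.Perm.sign_of_cycleType, hrep, Multiset.sum_replicate, Multiset.card_replicate, smul_eq_mul,
      neg_one_pow_eq_one_iff_even (by decide)] at hs
    obtain ⟨e, he⟩ := hs
    have h12 : 2 ≤ Nat.card F := by
      haveI : Nontrivial F := ⟨⟨⟨Q, hQ⟩, ⟨P, (hfix r P).mpr (hCN hr)⟩, fun h => hne (congrArg Subtype.val h)⟩⟩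
      exact Finite.one_lt_card
    have hF45 : Nat.card F = 45 := by
      have h13 : Nat.card F % 11 = 1 := hmod
      omega
    -- `r` would lie in the kernel of the action
    set K0 := (MulAction.toPermHom H (Sylow 11 H)).ker with hK0
    have hrK : r ∈ K0 := by
      rw [hK0, MonoidHom.mem_ker]
      have h14 : (σ r).support = ∅ := Finset.card_eq_zero.mp (by omega)
      exact Equiv.Perm.support_eq_empty_iff.mp h14
    have hK0C : ∀ Q : Sylow 11 H, ∀ p ∈ (Q : Subgroup H), p * r = r * p := by
      intro Q p hp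
      have hKQ : Disjoint K0 (Q : Subgroup H) := by
        rw [Subgroup.disjoint_def]
        intro u hu huQ
        by_contra hu1
        have hQc : Nat.card (Q : Subgroup H) = 11 := by rw [Q.card_eq_multiplicity, ← P.card_eq_multiplicity, hPc]
        have hall : ∀ R : Sylow 11 H, R = Q := fun R => by
          have hmem : u ∈ normalizer ((R : Subgroup H) : Set H) :=
            (hfix u R).mp (congrArg (fun f : Equiv.Perm (Sylow 11 H) => f R) (MonoidHom.mem_ker.mp hu))
          have hle : (Q : Subgroup H) ≤ normalizer ((R : Subgroup H) : Set H) := by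
            rw [← zpowers_eq_of_prime_mem hQc huQ hu1]; exact zpowers_le.mpr hmem
          refine Sylow.ext (Subgroup.eq_of_le_of_card_ge
            (le_trans (le_inf le_rfl hle) (le_of_eq (Q.2.inf_normalizer_sylow R)) |>.trans inf_le_right)
            (le_of_eq (by rw [R.card_eq_multiplicity, Q.card_eq_multiplicity]))).symm
        haveI : Subsingleton (Sylow 11 H) := ⟨fun u v => (hall u).trans (hall v).symm⟩
        rw [Nat.card_eq_one_iff_unique.mpr ⟨inferInstance, inferInstance⟩] at hn
        omega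
      have h15 : r * p * r⁻¹ * p⁻¹ = 1 := (Subgroup.disjoint_def.mp hKQ) ((mul_assoc r p r⁻¹ ▸ mul_assoc r (p * r⁻¹) p⁻¹) ▸
          K0.mul_mem hrK ((MonoidHom.normal_ker _).conj_mem _ (K0.inv_mem hrK) p) : r * p * r⁻¹ * p⁻¹ ∈ K0)
        ((Q : Subgroup H).mul_mem (((Subgroup.mem_normalizer_iff.mp ((hfix r Q).mp
          (congrArg (fun f : Equiv.Perm (Sylow 11 H) => f Q) (MonoidHom.mem_ker.mp hrK))) p).mp hp)) ((Q : Subgroup H).inv_mem hp))
      rw [mul_inv_eq_one, mul_inv_eq_iff_eq_mul] at h15
      exact h15.symm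
    refine hr1 ((Subgroup.mem_bot).mp (hZ ▸ Subgroup.mem_center_iff.mpr fun g => ?_))
    exact Subgroup.mem_centralizer_singleton_iff.mp (hgen (centralizer ({r} : Set H))
      (fun Q p hp => Subgroup.mem_centralizer_singleton_iff.mpr (hK0C Q p hp)) ▸ Subgroup.mem_top g)
  have hsign4 : ∀ g : H, g ^ 4 = 1 → g ^ 2 ∈ C → g ^ 2 ≠ 1 → False := by
    intro g hg4 hg2 hg21
    have hsup : (σ (g ^ 2)).support = Finset.univ.erase P := by
      ext Q
      rw [Equiv.Perm.mem_support, hσ, Finset.mem_erase, and_iff_left (Finset.mem_univ Q)]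
      refine ⟨fun h e => h (by rw [e]; exact (hfix _ P).mpr (hCN hg2)), fun h e => h (hinv _ hg2 hg21 (by rw [← pow_mul]; exact hg4) Q e)⟩
    have h1 := sign_of_square_moves (σ g) (by show (MulAction.toPermHom H _ g) ^ 4 = 1; rw [← map_pow, hg4, map_one]) hcardS
      (by rw [show σ g ^ 2 = σ (g ^ 2) from (map_pow _ g 2).symm, hsup, Finset.card_erase_of_mem (Finset.mem_univ _), Finset.card_univ, hcardS])
    rw [show σ g = MulAction.toPermHom H _ g from rfl, sign_eq_one_of_perfect hperf g] at h1
    exact absurd h1 (by decide)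
  have hC2 : ∀ r ∈ C, ∀ k : ℕ, r ^ 2 ^ k = 1 → r ^ 2 = 1 := fun r hr k hk => by
    by_cases hr1 : r = 1
    · rw [hr1, one_pow]
    by_contra h2
    exact hsign4 r (hcent r hr k hk hr1).2 (C.pow_mem hr 2) h2
  -- the element outside
  obtain ⟨u, huN, huC⟩ := SetLike.not_le_iff_exists.mp (not_le_centralizer_of_perfect hperf P hPc)
  have hu2 : u * u ∈ C := by
    have h1 := Subgroup.mul_self_mem_of_index_two (H := C.subgroupOf NP) hidx ⟨u, huN⟩
    exact h1
  set x := u ^ 11 with hx
  have hxN : x ∈ NP := NP.pow_mem huN 11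
  have hxC : x ∉ C := fun h => huC (by
    have h1 : x = (u * u) ^ 5 * u := by rw [hx, ← pow_two, ← pow_mul, ← pow_succ]
    rw [h1] at h
    exact (C.mul_mem_cancel_left (C.pow_mem hu2 5)).mp h)
  have hxk : x ^ 2 ^ a = 1 := by
    rw [hx, ← pow_mul, ← hNc]
    exact congrArg Subtype.val (pow_card_eq_one' (x := (⟨u, huN⟩ : NP)))
  have hx2C : x ^ 2 ∈ C := by
    rw [hx, ← pow_mul, show 11 * 2 = 2 * 11 by norm_num, pow_mul, pow_two]
    exact C.pow_mem hu2 11
  have hx4 : x ^ 4 = 1 := by
    have := hC2 (x ^ 2) hx2C a (by rw [← pow_mul, mul_comm, pow_mul, hxk, one_pow])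
    rwa [← pow_mul] at this
  by_cases hx1 : x ^ 2 = 1
  · haveI := Fintype.ofFinite (H ⧸ C)
    have hfree : ∀ c : H ⧸ C, MulAction.toPermHom H (H ⧸ C) x c ≠ c := by
      intro c hc
      obtain ⟨g, rfl⟩ := QuotientGroup.mk_surjective c
      have hy : g⁻¹ * x * g ∈ C := by
        have h1 : x • (g : H ⧸ C) = g := hc
        rw [MulAction.Quotient.smul_mk, smul_eq_mul, QuotientGroup.eq] at h1
        have := C.inv_mem h1
        rwa [mul_inv_rev, inv_inv, ← mul_assoc] at this
      have hy1 : g⁻¹ * x * g ≠ 1 := fun e => hxC (by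
        have : x = 1 := by
          calc x = g * (g⁻¹ * x * g) * g⁻¹ := by group
            _ = 1 := by rw [e]; group
        rw [this]; exact C.one_mem)
      have hgP := hinv _ hy hy1 (by
        rw [pow_two] at hx1 ⊢
        calc g⁻¹ * x * g * (g⁻¹ * x * g) = g⁻¹ * (x * x) * g := by group
          _ = 1 := by rw [hx1]; group) (g⁻¹ • P) (by
        rw [smul_smul, mul_inv_cancel_right, mul_smul, (hfix x P).mpr hxN])
      have hgN : g ∈ NP := by
        have := (hfix g⁻¹ P).mp hgP
        exact NP.inv_mem_iff.mp this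
      apply hxC
      haveI : (C.subgroupOf NP).Normal := Subgroup.normal_of_index_eq_two hidx
      have := (inferInstance : (C.subgroupOf NP).Normal).conj_mem
        ⟨g⁻¹ * x * g, NP.mul_mem (NP.mul_mem (NP.inv_mem hgN) hxN) hgN⟩ hy ⟨g, hgN⟩
      have h2 : g * (g⁻¹ * x * g) * g⁻¹ ∈ C := this
      rwa [show g * (g⁻¹ * x * g) * g⁻¹ = x by group] at h2
    set τ := MulAction.toPermHom H (H ⧸ C) x with hτ
    have hsupp : τ.support = Finset.univ := Finset.eq_univ_of_forall fun c => Equiv.Perm.mem_support.mpr (hfree c)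
    have h90 : Fintype.card (H ⧸ C) = 90 := by
      rw [← Nat.card_eq_fintype_card]
      have h1 := C.card_mul_index
      rw [hcard, Subgroup.index] at h1
      have h2 : 11 * 2 ^ a * Nat.card (H ⧸ C) = 11 * 2 ^ a * 90 := by
        rw [← hCc, mul_assoc, h1, hCc]; ring
      exact Nat.eq_of_mul_eq_mul_left (by positivity) h2
    have hτ2 : τ * τ = 1 := by rw [hτ, ← map_mul, ← pow_two, hx1, map_one]
    have hcyc : ∀ n ∈ τ.cycleType, n = 2 := fun n hn' => by
      have h3 := (Equiv.Perm.dvd_of_mem_cycleType hn').trans (orderOf_dvd_of_pow_eq_one (n := 2) (by rw [pow_two]; exact hτ2))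
      have := Equiv.Perm.two_le_of_mem_cycleType hn'
      have := Nat.le_of_dvd (by norm_num) h3
      omega
    have hrep := Multiset.eq_replicate.mpr ⟨rfl, hcyc⟩
    have hsum := Equiv.Perm.sum_cycleType τ
    rw [hrep, Multiset.sum_replicate, smul_eq_mul, hsupp, Finset.card_univ, h90] at hsum
    have hs : Equiv.Perm.sign τ = 1 := sign_eq_one_of_perfect hperf x
    rw [Equiv.Perm.sign_of_cycleType, hrep, Multiset.sum_replicate, Multiset.card_replicate, smul_eq_mul,
      neg_one_pow_eq_one_iff_even (by decide)] at hs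
    obtain ⟨e, he⟩ := hs
    omega
  · exact hsign4 x hx4 hx2C hx1

/-- **A group of order 7920 with disconnected prime graph is simple.** -/
theorem simple_of_graph (hord : Nat.card G = 7920) {A : Set ℕ}
    (ha : ∃ a ∈ A, a.Prime ∧ a ∣ Nat.card G) (hb : ∃ b ∉ A, b.Prime ∧ b ∣ Nat.card G) (hs : Sides G A) :
    IsSimpleGroup G := by
  classical
  haveI : Fact (Nat.Prime 11) := ⟨by norm_num⟩
  obtain ⟨q, hq, hqA⟩ : ∃ q, (q = 2 ∨ q = 3 ∨ q = 5) ∧ ¬ (q ∈ A ↔ 11 ∈ A) := by
    by_contra! hall
    have key : ∀ r : ℕ, r.Prime → r ∣ Nat.card G → (r ∈ A ↔ 11 ∈ A) := fun r hr hd => by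
      rw [hord, show 7920 = 2 ^ 4 * (3 ^ 2 * (5 * 11)) by norm_num] at hd
      rcases hr.dvd_mul.mp hd with h | h
      · rw [(Nat.prime_dvd_prime_iff_eq hr Nat.prime_two).mp (hr.dvd_of_dvd_pow h)]; exact hall 2 (Or.inl rfl)
      rcases hr.dvd_mul.mp h with h | h
      · rw [(Nat.prime_dvd_prime_iff_eq hr Nat.prime_three).mp (hr.dvd_of_dvd_pow h)]; exact hall 3 (Or.inr (Or.inl rfl))
      rcases hr.dvd_mul.mp h with h | h
      · rw [(Nat.prime_dvd_prime_iff_eq hr (by norm_num)).mp h]; exact hall 5 (Or.inr (Or.inr rfl))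
      · rw [(Nat.prime_dvd_prime_iff_eq hr (by norm_num)).mp h]
    obtain ⟨a, haA, hap, had⟩ := ha
    obtain ⟨b, hbA, hbp, hbd⟩ := hb
    exact hbA ((key b hbp hbd).mpr ((key a hap had).mp haA))
  haveI : Nontrivial G := by rw [← Finite.one_lt_card_iff_nontrivial, hord]; norm_num
  by_contra hns
  obtain ⟨N₀, hN₀, hb0, ht0⟩ : ∃ N : Subgroup G, N.Normal ∧ N ≠ ⊥ ∧ N ≠ ⊤ := by
    by_contra! hall
    exact hns ⟨fun N hN => (em (N = ⊥)).imp_right (hall N hN)⟩
  have hex : ∃ n, ∃ N : Subgroup G, N.Normal ∧ N ≠ ⊥ ∧ Nat.card N = n := ⟨_, N₀, hN₀, hb0, rfl⟩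
  obtain ⟨N, hN, hNb, hNc⟩ := Nat.find_spec hex
  haveI := hN
  have hmin : ∀ M : Subgroup G, M.Normal → M ≤ N → M ≠ ⊥ → M = N := fun M hM hMN hMb =>
    Subgroup.eq_of_le_of_card_ge hMN (hNc.trans_le (Nat.find_min' hex ⟨M, hM, hMb, rfl⟩))
  have hNlt : Nat.card N < 7920 := by
    have h1 := hNc.trans_le (Nat.find_min' hex ⟨N₀, hN₀, hb0, rfl⟩)
    have h2 : Nat.card N₀ < 7920 := by
      rw [← hord]
      exact lt_of_le_of_ne (Subgroup.card_le_card_group N₀) fun e => ht0 (Subgroup.eq_top_of_card_eq _ e)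
    omega
  have h11N := eleven_dvd_of_normal hord hs hq hqA N hNb
  have hsylN : ∀ R : Sylow 11 N, Nat.card (R : Subgroup N) = 11 := fun R => by
    have h1 : Nat.card (R : Subgroup N) ∣ 7920 :=
      hord ▸ (Subgroup.card_subgroup_dvd_card _).trans (Subgroup.card_subgroup_dvd_card N)
    obtain ⟨j, hj⟩ := R.2.exists_card_eq
    have h2 := R.ne_bot_of_dvd_card h11N
    rw [hj] at h1 ⊢
    rcases j with _ | _ | j
    · exact absurd (Subgroup.card_eq_one.mp hj) h2
    · norm_num
    · have : 11 ^ 2 ∣ 7920 := (pow_dvd_pow 11 (by omega)).trans h1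
      omega
  have hnn : Nat.card (Sylow 11 N) ≠ 1 := fun e => by
    obtain ⟨R⟩ : Nonempty (Sylow 11 N) := inferInstance
    haveI : Subsingleton (Sylow 11 N) := (Nat.card_eq_one_iff_unique.mp e).1
    haveI : (R : Subgroup N).Characteristic := Sylow.characteristic_of_subsingleton R
    exact not_normal_eleven hord hs hq hqA ((R : Subgroup N).map N.subtype)
      (by rw [Subgroup.card_map_of_injective N.subtype_injective, hsylN])
  have hperf : commutator N = ⊤ := by
    have hmap : (commutator N).map N.subtype = ⁅N, N⁆ := Subgroup.map_subtype_commutator N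
    by_cases h0 : ⁅N, N⁆ = ⊥
    · exfalso
      apply hnn
      obtain ⟨R⟩ : Nonempty (Sylow 11 N) := inferInstance
      haveI : (R : Subgroup N).Normal := ⟨fun u hu v => by
        have hc : u * v = v * u := by
          have h1 : ((u * v * u⁻¹ * v⁻¹ : N) : G) ∈ ⁅N, N⁆ := Subgroup.commutator_mem_commutator u.2 v.2
          rw [h0, Subgroup.mem_bot] at h1
          have h2 : u * v * u⁻¹ * v⁻¹ = 1 := Subtype.ext h1
          rwa [mul_inv_eq_one, mul_inv_eq_iff_eq_mul] at h2
        rwa [← hc, mul_inv_cancel_right]⟩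
      haveI := Sylow.unique_of_normal R inferInstance
      exact Nat.card_unique
    · have := hmin ⁅N, N⁆ inferInstance (Subgroup.commutator_le_self N) h0
      refine Subgroup.map_injective N.subtype_injective ?_
      rw [hmap, this, ← MonoidHom.range_eq_map, Subgroup.range_subtype]
  have hZ : center N = ⊥ := by
    by_contra hne
    have h1 := hmin ((center N).map N.subtype) inferInstance (Subgroup.map_subtype_le _)
      (fun e => hne ((Subgroup.map_eq_bot_iff_of_injective _ N.subtype_injective).mp e))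
    have htop : center N = ⊤ := Subgroup.map_injective N.subtype_injective
      (h1.trans (by rw [← MonoidHom.range_eq_map, Subgroup.range_subtype]))
    have h2 : commutator N = ⊥ := by
      rw [commutator_eq_bot_iff_center_eq_top]; exact htop
    rw [hperf] at h2
    have h3 : Nat.card N = 1 := by rw [← Subgroup.card_top, h2, Subgroup.card_bot]
    omega
  -- all Sylow elevens lie in `N`
  obtain ⟨R⟩ : Nonempty (Sylow 11 N) := inferInstance
  have hPG : ∀ Q : Sylow 11 G, Nat.card (Q : Subgroup G) = 11 := fun Q => by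
    rw [card_sylow_of_eq Q (k := 1) (m := 720) (by rw [hord]; norm_num) (by norm_num), pow_one]
  let f : Sylow 11 N → Sylow 11 G := fun Q => Sylow.ofCard ((Q : Subgroup N).map N.subtype) (by
    rw [Subgroup.card_map_of_injective N.subtype_injective]
    exact (hsylN Q).trans ((hPG (Classical.arbitrary (Sylow 11 G))).symm.trans (Sylow.card_eq_multiplicity _)))
  have hf : Function.Bijective f := by
    refine ⟨fun Q Q' h => Sylow.ext (Subgroup.map_injective N.subtype_injective
      (congrArg (fun T : Sylow 11 G => (T : Subgroup G)) h)), fun Q => ?_⟩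
    obtain ⟨g, hg⟩ := MulAction.exists_smul_eq G (f R) Q
    have hQN : (Q : Subgroup G) ≤ N := by
      rw [← hg, Sylow.coe_subgroup_smul]
      intro z hz
      rw [Subgroup.mem_pointwise_smul_iff_inv_smul_mem, MulAut.smul_def, MulAut.conj_inv_apply] at hz
      have h1 : g⁻¹ * z * g ∈ N := Subgroup.map_subtype_le (R : Subgroup N) hz
      have := hN.conj_mem _ h1 g
      rwa [show g * (g⁻¹ * z * g) * g⁻¹ = z by group] at this
    exact ⟨Q.subtype hQN, Sylow.ext (Subgroup.map_subgroupOf_eq_of_le hQN)⟩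
  have hnG : Nat.card (Sylow 11 N) = Nat.card (Sylow 11 G) := Nat.card_congr (Equiv.ofBijective f hf)
  set P := f R with hP
  have hG1 := card_sylow_mul P
  rw [hord] at hG1
  have hN1 := card_sylow_mul R
  have hm1 : Nat.card (Sylow 11 N) % 11 = 1 := card_sylow_modEq_one 11 N
  have h11R : 11 ∣ Nat.card (normalizer ((R : Subgroup N) : Set N)) :=
    (dvd_of_eq (hsylN R).symm).trans (Subgroup.card_dvd_of_le Subgroup.le_normalizer)
  have hnmem : Nat.card (Sylow 11 N) = 12 ∨ Nat.card (Sylow 11 N) = 45 ∨ Nat.card (Sylow 11 N) = 144 := by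
    have hd : Nat.card (Sylow 11 N) ∈ Nat.divisors 720 := by
      refine Nat.mem_divisors.mpr ⟨(hnG.dvd.trans (Sylow.card_dvd_index P)).trans ?_, by norm_num⟩
      have := (P : Subgroup G).card_mul_index
      rw [hPG, hord] at this
      exact ⟨1, by omega⟩
    have key : ∀ r ∈ Nat.divisors 720, r % 11 = 1 → r = 1 ∨ r = 12 ∨ r = 45 ∨ r = 144 := by decide +kernel
    exact (key _ hd hm1).resolve_left hnn
  have hNd : Nat.card N ∣ 7920 := hord ▸ Subgroup.card_subgroup_dvd_card N
  rcases hnmem with h12 | h45 | h144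
  · -- the action on twelve points is faithful
    haveI := Fintype.ofFinite (Sylow 11 G)
    set φ := MulAction.toPermHom G (Sylow 11 G)
    have hφ : φ.ker = ⊥ := by
      by_contra hne
      obtain ⟨u, hu⟩ := exists_prime_orderOf_dvd_card' 11 (eleven_dvd_of_normal hord hs hq hqA φ.ker hne)
      rw [← Subgroup.orderOf_coe] at hu
      have hup : IsPGroup 11 (zpowers (u : G)) := IsPGroup.of_card (n := 1) (by rw [Nat.card_zpowers, hu, pow_one])
      have hall : ∀ T : Sylow 11 G, (T : Subgroup G) = zpowers (u : G) := fun T => by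
        have hmem : zpowers (u : G) ≤ normalizer ((T : Subgroup G) : Set G) := zpowers_le.mpr
          (Sylow.smul_eq_iff_mem_normalizer.mp (congrArg (fun g : Equiv.Perm (Sylow 11 G) => g T) (MonoidHom.mem_ker.mp u.2)))
        refine (Subgroup.eq_of_le_of_card_ge
          (le_trans (le_inf le_rfl hmem) (le_of_eq (hup.inf_normalizer_sylow T)) |>.trans inf_le_right)
          (by rw [hPG, Nat.card_zpowers, hu])).symm
      haveI : Subsingleton (Sylow 11 G) := ⟨fun v w => Sylow.ext ((hall v).trans (hall w).symm)⟩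
      rw [hnG, Nat.card_eq_one_iff_unique.mpr ⟨inferInstance, inferInstance⟩] at h12
      omega
    have hinj : Function.Injective φ := (MonoidHom.ker_eq_bot_iff φ).mp hφ
    obtain ⟨w, hw⟩ := exists_prime_orderOf_dvd_card' 11 (G := (P : Subgroup G)) (dvd_of_eq (hPG P).symm)
    rw [← Subgroup.orderOf_coe] at hw
    have hφw : orderOf (φ w) = 11 := by rw [orderOf_injective φ hinj, hw]
    have hct : (φ w).cycleType = {11} := by
      obtain ⟨m, hm⟩ := Equiv.Perm.cycleType_prime_order (hφw ▸ (by norm_num : Nat.Prime 11))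
      rw [hφw] at hm
      have h1 := Finset.card_le_univ (φ w).support
      rw [← Equiv.Perm.sum_cycleType, hm, Multiset.sum_replicate, smul_eq_mul, ← Nat.card_eq_fintype_card, ← hnG, h12] at h1
      rw [hm, show m = 0 by omega]
      rfl
    have hcen : Nat.card (centralizer ({φ w} : Set (Equiv.Perm (Sylow 11 G)))) = 11 := by
      rw [Equiv.Perm.nat_card_centralizer, hct, ← Nat.card_eq_fintype_card, ← hnG, h12]
      rfl
    have hle : Nat.card (centralizer ((P : Subgroup G) : Set G)) ≤ 11 := by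
      refine le_of_le_of_eq (Nat.card_le_card_of_injective (fun c => ⟨φ c.1, Subgroup.mem_centralizer_singleton_iff.mpr
        (by rw [← map_mul, ← map_mul, Subgroup.mem_centralizer_iff.mp c.2 w w.2])⟩) fun c d h => ?_) hcen
      exact Subtype.ext (hinj (congrArg Subtype.val h))
    have h10 := relIndex_dvd_of_card_prime (p := 11) (P : Subgroup G) (hPG P)
    have heq := card_normalizer_eq (P : Subgroup G)
    have := Nat.mul_le_mul (Nat.le_of_dvd (by norm_num) h10) hle
    rw [← hnG, h12] at hG1
    omega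
  · rw [← hnG, h45] at hG1
    rw [h45] at hN1
    have hd176 : Nat.card (normalizer ((R : Subgroup N) : Set N)) ∣ 176 := by
      have h1 : 45 * Nat.card (normalizer ((R : Subgroup N) : Set N)) ∣ 45 * 176 := by
        rw [hN1]; norm_num; exact hNd
      exact (Nat.mul_dvd_mul_iff_left (by norm_num)).mp h1
    obtain ⟨c, hc⟩ := h11R
    rw [hc] at hd176 hN1
    have hc16 : c ∣ 2 ^ 4 := (Nat.mul_dvd_mul_iff_left (show 0 < 11 by norm_num)).mp (by norm_num; exact hd176)
    obtain ⟨a, ha4, rfl⟩ := (Nat.dvd_prime_pow Nat.prime_two).mp hc16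
    have ha3 : a ≤ 3 := by
      by_contra hne
      have : a = 4 := by omega
      subst this
      omega
    exact no_forty_five hperf hZ h45 ha3 (by rw [← hN1]; ring)
  · rw [← hnG, h144] at hG1
    rw [h144] at hN1
    have hd55 : Nat.card (normalizer ((R : Subgroup N) : Set N)) ∣ 55 := by
      have h1 : 144 * Nat.card (normalizer ((R : Subgroup N) : Set N)) ∣ 144 * 55 := by
        rw [hN1]; norm_num; exact hNd
      exact (Nat.mul_dvd_mul_iff_left (by norm_num)).mp h1
    have hle := Nat.le_of_dvd (by norm_num) hd55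
    have hNR : Nat.card (normalizer ((R : Subgroup N) : Set N)) = 11 := by
      obtain ⟨c, hc⟩ := h11R
      rw [hc] at hd55 hN1 hle ⊢
      have : c ≤ 5 := by omega
      interval_cases c <;> omega
    refine not_le_centralizer_of_perfect hperf R (hsylN R) ?_
    rw [← Subgroup.eq_of_le_of_card_ge Subgroup.le_normalizer (by rw [hNR, hsylN R])]
    haveI : IsCyclic (R : Subgroup N) := isCyclic_of_prime_card (hsylN R)
    letI : CommGroup (R : Subgroup N) := IsCyclic.commGroup
    intro u hu
    rw [Subgroup.mem_centralizer_iff]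
    exact fun v hv => congrArg Subtype.val (mul_comm (⟨v, hv⟩ : (R : Subgroup N)) ⟨u, hu⟩)

end Cfsg.Agent.PermGp.Order7920
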