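import Mathlib

/-! Translation invariant spaces of functions on `ZMod p` in characteristic `p`. -/

set_option autoImplicit false
set_option linter.unusedSectionVars false

namespace Cfsg.Agent.PermGp

variable {p : ℕ} [hp : Fact p.Prime] {K : Type*} [Field K] [CharP K p]

/-- The cast from `ZMod p` to a field of characteristic `p`. -/
noncomputable def pcast (p : ℕ) (K : Type*) [Field K] [CharP K p] : ZMod p →+* K :=
  ZMod.castHom (dvd_refl p) K

theorem pcast_eq (i : ZMod p) : pcast p K i = (ZMod.cast i : K) := rfl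

/-- Evaluation of polynomials on the prime field. -/
noncomputable def pev (p : ℕ) (K : Type*) [Field K] [CharP K p] :
    Polynomial K →ₗ[K] (ZMod p → K) :=
  LinearMap.pi fun i => Polynomial.leval (pcast p K i)

theorem pev_apply (P : Polynomial K) (i : ZMod p) : pev p K P i = P.eval (pcast p K i) := rfl

theorem pev_inj {P Q : Polynomial K} (hP : P.degree < p) (hQ : Q.degree < p)
    (h : pev p K P = pev p K Q) : P = Q := by
  classical
  refine Polynomial.eq_of_degrees_lt_of_eval_index_eq (s := (Finset.univ : Finset (ZMod p)))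
    (v := fun i => pcast p K i) ((pcast p K).injective.injOn) ?_ ?_ fun i _ => congrFun h i
  · simpa using hP
  · simpa using hQ

/-- The functions given by polynomials of degree less than `r`. -/
noncomputable def polyFun (p : ℕ) (K : Type*) [Field K] [CharP K p] (r : ℕ) :
    Submodule K (ZMod p → K) :=
  (Polynomial.degreeLT K r).map (pev p K)

theorem mem_polyFun {r : ℕ} {f : ZMod p → K} :
    f ∈ polyFun p K r ↔ ∃ P : Polynomial K, P.degree < r ∧ ∀ j, f j = P.eval (pcast p K j) := by
  constructor
  · rintro ⟨P, hP, rfl⟩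
    exact ⟨P, Polynomial.mem_degreeLT.mp hP, fun j => rfl⟩
  · rintro ⟨P, hP, hf⟩
    exact ⟨P, Polynomial.mem_degreeLT.mpr hP, (funext hf).symm⟩

theorem polyFun_mono {r s : ℕ} (h : r ≤ s) : polyFun p K r ≤ polyFun p K s :=
  Submodule.map_mono (Polynomial.degreeLT_mono h)

theorem monomial_mem_polyFun {r n : ℕ} (h : n < r) :
    (fun i => pcast p K i ^ n) ∈ polyFun p K r :=
  mem_polyFun.mpr ⟨Polynomial.X ^ n, by rw [Polynomial.degree_X_pow]; exact_mod_cast h,
    fun j => by simp⟩

theorem polyFun_eq_span (r : ℕ) :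
    polyFun p K r = Submodule.span K (Set.range fun n : Fin r => fun i => pcast p K i ^ (n : ℕ)) := by
  refine le_antisymm ?_ (Submodule.span_le.mpr ?_)
  · intro f hf
    obtain ⟨P, hP, hf⟩ := mem_polyFun.mp hf
    have hf' : f = ∑ n : Fin r, P.coeff n • fun i => pcast p K i ^ (n : ℕ) := by
      funext i
      simp only [Finset.sum_apply, Pi.smul_apply, smul_eq_mul, hf]
      by_cases hP0 : P = 0
      · simp [hP0]
      rw [Polynomial.eval_eq_sum_range' (n := r)
        ((Polynomial.natDegree_lt_iff_degree_lt hP0).mpr hP), Finset.sum_range]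
    rw [hf']
    exact Submodule.sum_mem _ fun n _ => Submodule.smul_mem _ _ (Submodule.subset_span ⟨n, rfl⟩)
  · rintro _ ⟨n, rfl⟩
    exact monomial_mem_polyFun n.2

theorem finrank_polyFun {r : ℕ} (hr : r ≤ p) : Module.finrank K (polyFun p K r) = r := by
  have hinj : Function.Injective ((pev p K).comp (Polynomial.degreeLT K r).subtype) := by
    intro P Q h
    have hr' : (r : WithBot ℕ) ≤ p := by exact_mod_cast hr
    exact Subtype.ext (pev_inj ((Polynomial.mem_degreeLT.mp P.2).trans_le hr')
      ((Polynomial.mem_degreeLT.mp Q.2).trans_le hr') h)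
  have e := LinearMap.finrank_range_of_inj hinj
  rw [LinearMap.range_comp, Submodule.range_subtype] at e
  rw [polyFun, e, (Polynomial.degreeLTEquiv K r).finrank_eq, Module.finrank_fintype_fun_eq_card,
    Fintype.card_fin]

/-- The difference operator of the translation. -/
noncomputable def shiftDiff (p : ℕ) (K : Type*) [Field K] :
    (ZMod p → K) →ₗ[K] (ZMod p → K) :=
  LinearMap.funLeft K K (fun j : ZMod p => j - 1) - LinearMap.id

theorem shiftDiff_apply (f : ZMod p → K) (j : ZMod p) : shiftDiff p K f j = f (j - 1) - f j := rfl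

theorem shiftDiff_polyFun (n : ℕ) :
    (polyFun p K (n + 1)).map (shiftDiff p K) ≤ polyFun p K n := by
  rw [polyFun_eq_span (n + 1), Submodule.map_span, Submodule.span_le]
  rintro _ ⟨_, ⟨m, rfl⟩, rfl⟩
  refine mem_polyFun.mpr ⟨∑ k ∈ Finset.range m,
    Polynomial.C ((-1 : K) ^ ((m : ℕ) - k) * ((m : ℕ).choose k : K)) * Polynomial.X ^ k, ?_, fun j => ?_⟩
  · refine lt_of_le_of_lt (Polynomial.degree_sum_le _ _) ?_
    rw [Finset.sup_lt_iff (WithBot.bot_lt_coe _)]
    intro k hk
    refine lt_of_le_of_lt (Polynomial.degree_C_mul_X_pow_le _ _) ?_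
    have := m.2
    have := Finset.mem_range.mp hk
    exact_mod_cast (by omega : k < n)
  · simp only [shiftDiff_apply, map_sub, map_one, Polynomial.eval_finset_sum, Polynomial.eval_mul,
      Polynomial.eval_C, Polynomial.eval_pow, Polynomial.eval_X]
    rw [sub_eq_add_neg (pcast p K j) 1, add_pow, Finset.sum_range_succ]
    simp only [Nat.sub_self, pow_zero, mul_one, Nat.choose_self, Nat.cast_one]
    rw [add_sub_cancel_right]
    exact Finset.sum_congr rfl fun k _ => by ring

theorem const_of_shiftDiff_eq_zero {f : ZMod p → K} (h : shiftDiff p K f = 0) (j : ZMod p) :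
    f j = f 0 := by
  have key : ∀ n : ℕ, f (n : ZMod p) = f 0 := by
    intro n
    induction n with
    | zero => simp
    | succ n ih =>
      have := congrFun h ((n + 1 : ℕ) : ZMod p)
      rw [shiftDiff_apply, Pi.zero_apply, sub_eq_zero] at this
      rw [← this]
      push_cast
      simpa using ih
  have := key j.val
  rwa [ZMod.natCast_zmod_val] at this

theorem finrank_ker_pow_shiftDiff (r : ℕ) :
    Module.finrank K (LinearMap.ker (shiftDiff p K ^ r)) ≤ r := by
  induction r with
  | zero => simp [Module.End.one_eq_id]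
  | succ r ih =>
    set D := shiftDiff p K
    let F : LinearMap.ker (D ^ (r + 1)) →ₗ[K] LinearMap.ker (D ^ r) :=
      (D.comp (LinearMap.ker (D ^ (r + 1))).subtype).codRestrict _ fun v => by
        have hv : ((D ^ r) * D) (v : ZMod p → K) = 0 := by
          rw [← pow_succ]
          exact v.2
        exact hv
    have h1 : Module.finrank K (LinearMap.range F) ≤ r := (Submodule.finrank_le _).trans ih
    have h2 : Module.finrank K (LinearMap.ker F) ≤ 1 := by
      let ev : LinearMap.ker F →ₗ[K] K :=
        (LinearMap.proj (0 : ZMod p)).comp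
          ((LinearMap.ker (D ^ (r + 1))).subtype.comp (LinearMap.ker F).subtype)
      refine le_trans (LinearMap.finrank_le_finrank_of_injective (f := ev) ?_) (le_of_eq (Module.finrank_self K))
      intro u v huv
      apply Subtype.ext
      apply Subtype.ext
      funext j
      have hu : D (u : LinearMap.ker (D ^ (r + 1))).1 = 0 := congrArg Subtype.val u.2
      have hv : D (v : LinearMap.ker (D ^ (r + 1))).1 = 0 := congrArg Subtype.val v.2
      rw [const_of_shiftDiff_eq_zero hu j, const_of_shiftDiff_eq_zero hv j]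
      exact huv
    have := LinearMap.finrank_range_add_finrank_ker F
    omega

theorem polyFun_le_ker (r : ℕ) : polyFun p K r ≤ LinearMap.ker (shiftDiff p K ^ r) := by
  induction r with
  | zero =>
    intro f hf
    obtain ⟨P, hP, hf⟩ := mem_polyFun.mp hf
    have : P = 0 := Polynomial.degree_eq_bot.mp (Nat.WithBot.lt_zero_iff.mp (by simpa using hP))
    simp [funext hf, this]
    rfl
  | succ r ih =>
    intro f hf
    rw [LinearMap.mem_ker, pow_succ, Module.End.mul_apply]
    exact ih (shiftDiff_polyFun r ⟨f, hf, rfl⟩)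

/-- The translation invariant subspaces are the spaces of polynomial functions of bounded degree. -/
theorem shift_invariant_eq_polyFun (W : Submodule K (ZMod p → K))
    (hW : ∀ f ∈ W, (fun j => f (j - 1)) ∈ W) :
    ∃ r, r ≤ p ∧ W = polyFun p K r := by
  set r := Module.finrank K W with hr
  have hrp : r ≤ p := by
    have := Submodule.finrank_le W
    rwa [Module.finrank_fintype_fun_eq_card, ZMod.card] at this
  have hker : polyFun p K r = LinearMap.ker (shiftDiff p K ^ r) :=
    Submodule.eq_of_le_of_finrank_le (polyFun_le_ker r)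
      (by rw [finrank_polyFun hrp]; exact finrank_ker_pow_shiftDiff r)
  refine ⟨r, hrp, ?_⟩
  have hDW : ∀ f ∈ W, shiftDiff p K f ∈ W := fun f hf => W.sub_mem (hW f hf) hf
  -- every vector is killed by the p-th power
  have htop : ∀ f : ZMod p → K, (shiftDiff p K ^ p) f = 0 := fun f => by
    have h1 : polyFun p K p = ⊤ := Submodule.eq_top_of_finrank_eq
      (by rw [finrank_polyFun le_rfl, Module.finrank_fintype_fun_eq_card, ZMod.card])
    exact polyFun_le_ker p (h1 ▸ Submodule.mem_top)
  have hnil : IsNilpotent ((shiftDiff p K).restrict hDW) := by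
    refine ⟨p, LinearMap.ext fun v => Subtype.ext ?_⟩
    rw [Module.End.pow_restrict]
    exact htop v
  obtain ⟨-, hr0⟩ : True ∧ ((shiftDiff p K).restrict hDW) ^ r = 0 :=
    ⟨trivial, by
      have hch := hnil.charpoly_eq_X_pow_finrank
      have h := LinearMap.aeval_self_charpoly ((shiftDiff p K).restrict hDW)
      rwa [hch, map_pow, Polynomial.aeval_X] at h⟩
  refine Submodule.eq_of_le_of_finrank_le ?_ (by rw [finrank_polyFun hrp])
  intro f hf
  rw [hker, LinearMap.mem_ker]
  have := LinearMap.congr_fun hr0 ⟨f, hf⟩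
  rw [Module.End.pow_restrict] at this
  exact congrArg Subtype.val this

/-- Power sums over the prime field. -/
theorem sum_pow_pcast {k : ℕ} (hk : k < p - 1) : ∑ i : ZMod p, pcast p K i ^ k = 0 := by
  simp only [← map_pow, ← map_sum]
  rw [FiniteField.sum_pow_lt_card_sub_one (K := ZMod p) k (by rwa [ZMod.card]), map_zero]

theorem sum_pow_pcast_top : ∑ i : ZMod p, pcast p K i ^ (p - 1) = -1 := by
  classical
  simp only [← map_pow, ← map_sum]
  have h1 := FiniteField.sum_pow_units (K := ZMod p) (p - 1)
  rw [if_pos (by rw [ZMod.card])] at h1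
  have h2 : ∑ i : ZMod p, i ^ (p - 1) = -1 := by
    rw [← h1]
    rw [← Finset.add_sum_erase _ _ (Finset.mem_univ (0 : ZMod p)),
      zero_pow (Nat.sub_ne_zero_of_lt hp.out.one_lt), zero_add]
    symm
    refine Finset.sum_bij (fun u _ => (u : ZMod p)) (fun u _ => ?_) (fun u _ v _ h => Units.ext h)
      (fun i hi => ?_) (fun u _ => by simp)
    · simp
    · simp only [Finset.mem_erase] at hi
      exact ⟨Units.mk0 i hi.1, Finset.mem_univ _, rfl⟩
  rw [h2, map_neg, map_one]

end Cfsg.Agent.PermGp
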