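import Cfsg.Agent.Lib.PermGp.PrimeDegree
import Cfsg.Agent.Lib.PermGp.PermModule
import Cfsg.Agent.Lib.PermGp.TransPoly
import Cfsg.Agent.S0671

/-! Burnside's theorem on transitive groups of prime degree, through the permutation module. -/

set_option autoImplicit false
set_option linter.unusedSectionVars false

namespace Cfsg.Agent.PermGp

open MulAction

theorem perm_affine_two :
    ∀ σ : Equiv.Perm (ZMod 2), ∃ k b : ZMod 2, k ≠ 0 ∧ ∀ i, σ i = k * i + b := by decide

theorem perm_affine_three :
    ∀ σ : Equiv.Perm (ZMod 3), ∃ k b : ZMod 3, k ≠ 0 ∧ ∀ i, σ i = k * i + b := by decide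

variable {α : Type*} [Fintype α] [DecidableEq α] {p : ℕ} [hp : Fact p.Prime]
  (hα : Fintype.card α = p) (G : Subgroup (Equiv.Perm α)) [IsPretransitive G α]

include hα

/-- If every element is affine in a frame the group is solvable. -/
theorem isSolvable_of_affine (e : ZMod p ≃ α)
    (h : ∀ g : G, ∃ k b : ZMod p, k ≠ 0 ∧ ∀ i, g • e i = e (k * i + b)) : Group.IsSolvable G := by
  choose k b hk hkb using h
  have hlin : ∀ g g', k (g * g') = k g * k g' := by
    intro g g'
    have h0 := hkb (g * g') 0
    have h1 := hkb (g * g') 1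
    rw [mul_smul, hkb, hkb] at h0 h1
    linear_combination e.injective h0 - e.injective h1
  let F : G →* (ZMod p)ˣ := MonoidHom.mk' (fun g => Units.mk0 (k g) (hk g)) fun g g' =>
    Units.ext (hlin g g')
  have hker : ∀ u v : G, u ∈ F.ker → v ∈ F.ker → u * v = v * u := by
    intro u v hu hv
    apply perm_ext
    intro x
    obtain ⟨i, rfl⟩ := e.surjective x
    have ku : k u = 1 := congrArg Units.val hu
    have kv : k v = 1 := congrArg Units.val hv
    rw [mul_smul, mul_smul, hkb, hkb, hkb, hkb, ku, kv]
    congr 1; ring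
  have hs : Group.IsSolvable F.ker :=
    Group.isSolvable_of_comm fun u v => Subtype.ext (hker u v u.2 v.2)
  exact Group.isSolvable_of_ker_le_range F.ker.subtype F (by rw [Subgroup.range_subtype])

omit hα [IsPretransitive G α] in
theorem affine_of_polyFun (e : ZMod p ≃ α) {K : Type*} [Field K] [CharP K p] {r : ℕ}
    (hr : 2 ≤ r) (hr2 : 2 * r ≤ p + 1)
    (hinv : ∀ g : G, ∀ f ∈ polyFun p K r, (fun i => f (e.symm (g • e i))) ∈ polyFun p K r) (g : G) :
    ∃ k b : ZMod p, k ≠ 0 ∧ ∀ i, g • e i = e (k * i + b) := by
  let γ : ZMod p → ZMod p := fun i => e.symm (g • e i)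
  have hrp : r ≤ p := by have := hp.out.two_le; omega
  have hrp' : (r : WithBot ℕ) ≤ p := by exact_mod_cast hrp
  obtain ⟨Q, hQ, hQe⟩ : ∃ Q : Polynomial K, Q.degree < r ∧ ∀ i, pcast p K (γ i) = Q.eval (pcast p K i) := by
    have := hinv g _ (monomial_mem_polyFun (K := K) (p := p) (show 1 < r by omega))
    simp only [pow_one] at this
    exact mem_polyFun.mp this
  have hdeg : Q.natDegree ≤ 1 := by
    by_contra hd
    push Not at hd
    have hQ0 : Q ≠ 0 := fun h => by simp [h] at hd
    set d := Q.natDegree
    have hdr : d < r := (Polynomial.natDegree_lt_iff_degree_lt hQ0).mpr hQ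
    -- the first power of `Q` of degree at least `r`
    set j := (r - 1) / d + 1
    have hj1 : r ≤ j * d := by
      have h1 := Nat.div_add_mod (r - 1) d
      have h2 := Nat.mod_lt (r - 1) (show 0 < d by omega)
      show r ≤ ((r - 1) / d + 1) * d
      rw [Nat.add_mul, Nat.one_mul, Nat.mul_comm]
      omega
    have hj2 : j * d < p := by
      have h1 := Nat.div_add_mod (r - 1) d
      show ((r - 1) / d + 1) * d < p
      rw [Nat.add_mul, Nat.one_mul, Nat.mul_comm]
      omega
    have hj3 : j < r := by
      have := Nat.div_mul_le_self (r - 1) d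
      show (r - 1) / d + 1 < r
      have : (r - 1) / d ≤ (r - 1) / 2 := Nat.div_le_div_left hd (by norm_num)
      omega
    obtain ⟨R, hR, hRe⟩ := mem_polyFun.mp (hinv g _ (monomial_mem_polyFun (K := K) (p := p) hj3))
    have hQj : (Q ^ j).degree = ((j * d : ℕ) : WithBot ℕ) := by
      rw [Polynomial.degree_eq_natDegree (pow_ne_zero _ hQ0), Polynomial.natDegree_pow]
    have heq : Q ^ j = R := by
      refine pev_inj ?_ (hR.trans_le hrp') (funext fun i => ?_)
      · rw [hQj]; exact_mod_cast hj2
      · rw [pev_apply, pev_apply, Polynomial.eval_pow, ← hQe, ← hRe]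
    rw [← heq, hQj, Nat.cast_lt] at hR
    omega
  obtain ⟨u, v, rfl⟩ := Polynomial.exists_eq_X_add_C_of_natDegree_le_one hdeg
  simp only [Polynomial.eval_add, Polynomial.eval_mul, Polynomial.eval_C, Polynomial.eval_X] at hQe
  have hγ : ∀ i, γ i = (γ 1 - γ 0) * i + γ 0 := by
    intro i
    apply (pcast p K).injective
    rw [map_add, map_mul, map_sub, hQe, hQe 1, hQe 0, map_one, map_zero]
    ring
  refine ⟨γ 1 - γ 0, γ 0, fun h => ?_, fun i => ?_⟩
  · have hinj : Function.Injective γ := e.symm.injective.comp ((MulAction.injective g).comp e.injective)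
    exact one_ne_zero (hinj (sub_eq_zero.mp h))
  · rw [← hγ, Equiv.apply_symm_apply]

/-- A non-solvable group of prime degree has irreducible heart. -/
theorem heart_irreducible (hG : ¬ Group.IsSolvable G) {K : Type*} [Field K] [CharP K p]
    (W : Subrepresentation (Cfsg.permRep K G α))
    (h₁ : (Cfsg.permConstants K G α).toSubmodule ≤ W.toSubmodule)
    (h₂ : W.toSubmodule ≤ (Cfsg.permSumZero K G α).toSubmodule) :
    W = Cfsg.permConstants K G α ∨ W = Cfsg.permSumZero K G α := by
  classical
  by_contra hcon
  apply hG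
  obtain ⟨P⟩ : Nonempty (Sylow p G) := inferInstance
  obtain ⟨x, e, -, hx⟩ := exists_frame hα G P
  have hp2 := hp.out.two_le
  -- transport to functions on `ZMod p`
  let L : (α → K) ≃ₗ[K] (ZMod p → K) := LinearEquiv.funCongrLeft K K e
  have hL : ∀ f i, L f i = f (e i) := fun f i => rfl
  have hLg : ∀ (g : G) f i, L (Cfsg.permRep K G α g⁻¹ f) i = L f (e.symm (g • e i)) := by
    intro g f i
    rw [hL, hL, permRep_apply, inv_inv, Equiv.apply_symm_apply]
  let V : Submodule K (ZMod p → K) := W.toSubmodule.map L.toLinearMap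
  have hVinv : ∀ g : G, ∀ f ∈ V, (fun i => f (e.symm (g • e i))) ∈ V := by
    rintro g _ ⟨f, hf, rfl⟩
    exact ⟨_, W.apply_mem_toSubmodule g⁻¹ hf, funext fun i => hLg g f i⟩
  have hshift : ∀ i, e.symm (x⁻¹ • e i) = i - 1 := by
    intro i
    have := frame_pow G hx (-1) i
    rw [zpow_neg_one] at this
    rw [this, Equiv.symm_apply_apply]; push_cast; ring
  obtain ⟨r, hrp, hV⟩ := shift_invariant_eq_polyFun V fun f hf => by
    have := hVinv x⁻¹ f hf
    simpa only [hshift] using this
  have hU : ∀ f : α → K, f ∈ (Cfsg.permSumZero K G α).toSubmodule ↔ ∑ i, L f i = 0 := by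
    intro f
    rw [mem_permSumZero]
    rw [show ∑ i, L f i = ∑ y, f y from Fintype.sum_equiv e _ _ fun i => rfl]
  -- `r` lies strictly between `1` and `p - 1`
  have hr2 : 2 ≤ r := by
    by_contra hr
    apply hcon
    left
    refine Subrepresentation.toSubmodule_injective (le_antisymm ?_ h₁)
    intro f hf
    have h' : L f ∈ V := ⟨f, hf, rfl⟩
    rw [hV] at h'
    obtain ⟨Q, hQ, hQe⟩ := mem_polyFun.mp (polyFun_mono (show r ≤ 1 by omega) h')
    have hQ' : Q.degree ≤ 0 := by
      by_cases h : Q.degree = ⊥
      · simp [h]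
      · obtain ⟨n, hn⟩ := WithBot.ne_bot_iff_exists.mp h
        rw [← hn] at hQ ⊢
        have : n < 1 := WithBot.coe_lt_coe.mp hQ
        interval_cases n
        simp
    refine mem_permConstants.mpr ⟨Q.coeff 0, fun y => ?_⟩
    have := hQe (e.symm y)
    rw [hL, Equiv.apply_symm_apply, Polynomial.eq_C_of_degree_le_zero hQ', Polynomial.eval_C] at this
    exact this
  have hrlt : r < p - 1 := by
    by_contra hr
    apply hcon
    right
    refine Subrepresentation.toSubmodule_injective (le_antisymm h₂ ?_)
    intro f hf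
    have hlt : Module.finrank K ((Cfsg.permSumZero K G α).toSubmodule) < p := by
      have hne : (Cfsg.permSumZero K G α).toSubmodule ≠ ⊤ := by
        intro htop
        have h' : (Pi.single (e 0) (1 : K)) ∈ (Cfsg.permSumZero K G α).toSubmodule := htop ▸ Submodule.mem_top
        rw [mem_permSumZero] at h'
        simp at h'
      have := Submodule.finrank_lt hne
      rwa [Module.finrank_fintype_fun_eq_card, hα] at this
    have hWr : Module.finrank K W.toSubmodule = r := by
      rw [← LinearEquiv.finrank_map_eq L W.toSubmodule]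
      show Module.finrank K V = r
      rw [hV, finrank_polyFun hrp]
    rw [Submodule.eq_of_le_of_finrank_le h₂ (by omega)]
    exact hf
  -- choose the smaller of `V` and its orthogonal space
  obtain ⟨s, hs, hs2, hsinv⟩ : ∃ s, 2 ≤ s ∧ 2 * s ≤ p + 1 ∧
      ∀ g : G, ∀ f ∈ polyFun p K s, (fun i => f (e.symm (g • e i))) ∈ polyFun p K s := by
    by_cases h : 2 * r ≤ p + 1
    · exact ⟨r, hr2, h, hV ▸ hVinv⟩
    let D : Submodule K (ZMod p → K) :=
      { carrier := {v | ∀ w ∈ V, ∑ i, w i * v i = 0}
        add_mem' := fun {u v} hu hv w hw => by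
          simp [mul_add, Finset.sum_add_distrib, hu w hw, hv w hw]
        zero_mem' := fun w _ => by simp
        smul_mem' := fun c v hv w hw => by
          simp only [Pi.smul_apply, smul_eq_mul, mul_left_comm _ c, ← Finset.mul_sum, hv w hw, mul_zero] }
    have hDinv : ∀ g : G, ∀ f ∈ D, (fun i => f (e.symm (g • e i))) ∈ D := by
      intro g f hf w hw
      rw [← hf _ (hVinv g⁻¹ w hw)]
      refine Fintype.sum_equiv (e.trans ((MulAction.toPerm g).trans e.symm)) _ _ fun i => ?_
      simp
    obtain ⟨s, hsp, hD⟩ := shift_invariant_eq_polyFun D fun f hf => by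
      have := hDinv x⁻¹ f hf
      simpa only [hshift] using this
    refine ⟨s, ?_, ?_, hD ▸ hDinv⟩
    · -- the coordinate function is orthogonal to `V`
      have hx1 : (fun i => pcast p K i ^ 1) ∈ D := by
        intro w hw
        rw [hV, polyFun_eq_span] at hw
        induction hw using Submodule.span_induction with
        | mem w hw =>
          obtain ⟨n, rfl⟩ := hw
          simp only [← pow_add]
          exact sum_pow_pcast (by have := n.2; omega)
        | zero => simp
        | add u v _ _ hu hv =>
          simp only [Pi.add_apply, add_mul, Finset.sum_add_distrib]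
          rw [hu, hv, add_zero]
        | smul c u _ hu =>
          simp only [Pi.smul_apply, smul_eq_mul, mul_assoc, ← Finset.mul_sum, hu, mul_zero]
      rw [hD] at hx1
      by_contra hs
      obtain ⟨Q, hQ, hQe⟩ := mem_polyFun.mp (polyFun_mono (show s ≤ 1 by omega) hx1)
      have heq : Q = Polynomial.X ^ 1 := by
        refine pev_inj (hQ.trans_le (by exact_mod_cast (show 1 ≤ p by omega))) ?_ ?_
        · rw [Polynomial.degree_X_pow]; exact_mod_cast (show 1 < p by omega)
        · funext i
          rw [pev_apply, pev_apply, Polynomial.eval_pow, Polynomial.eval_X, hQe]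
      rw [heq, Polynomial.degree_X_pow] at hQ
      exact lt_irrefl _ hQ
    · -- otherwise two monomials pair to `-1`
      by_contra hs
      have hm1 : (fun i => pcast p K i ^ (r - 1)) ∈ V := hV ▸ monomial_mem_polyFun (by omega)
      have hm2 : (fun i => pcast p K i ^ (p - r)) ∈ D := hD ▸ monomial_mem_polyFun (by omega)
      have := hm2 _ hm1
      simp only [← pow_add] at this
      rw [show r - 1 + (p - r) = p - 1 by omega, sum_pow_pcast_top] at this
      exact one_ne_zero (neg_eq_zero.mp this)
  exact isSolvable_of_affine hα G e (affine_of_polyFun G e hs hs2 hsinv)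

theorem five_le_of_not_solvable (hG : ¬ Group.IsSolvable G) : 5 ≤ p := by
  by_contra hp5
  apply hG
  have hp2 := hp.out.two_le
  have hsmall : p = 2 ∨ p = 3 := by
    have h4 : p ≠ 4 := fun h => by
      have := hp.out
      rw [h] at this
      norm_num at this
    omega
  let e : ZMod p ≃ α := Fintype.equivOfCardEq (by rw [ZMod.card, hα])
  refine isSolvable_of_affine hα G e fun g => ?_
  have key : ∀ σ : Equiv.Perm (ZMod p), ∃ k b : ZMod p, k ≠ 0 ∧ ∀ i, σ i = k * i + b := by
    rcases hsmall with rfl | rfl
    · exact perm_affine_two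
    · exact perm_affine_three
  obtain ⟨k, b, hk, hkb⟩ := key ((e.trans (MulAction.toPerm g)).trans e.symm)
  exact ⟨k, b, hk, fun i => by rw [← hkb i]; simp⟩

/-- Burnside: non-solvable of prime degree implies doubly transitive. -/
theorem two_transitive_of_not_solvable (hG : ¬ Group.IsSolvable G) :
    IsMultiplyPretransitive G α 2 := by
  classical
  have hp5 := five_le_of_not_solvable hα G hG
  obtain ⟨P⟩ : Nonempty (Sylow p G) := inferInstance
  obtain ⟨x, e, -, hx⟩ := exists_frame hα G P
  refine Cfsg.Agent.S0671.result (K := ZMod p) (p := p) (f := 1) le_rfl (by rw [pow_one]; exact hα) ?_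
  intro W W' hW hlt hW'
  have hWC := (heart_irreducible hα G hG W hW (hlt.le.trans hW')).resolve_right fun h => by
    rw [h] at hlt
    exact lt_irrefl _ (hlt.trans_le hW')
  have hWU := (heart_irreducible hα G hG W' (hW.trans hlt.le) hW').resolve_left fun h => by
    rw [h] at hlt
    exact lt_irrefl _ (hW.trans_lt hlt)
  -- the square of the coordinate has non-constant difference under the translation
  let v : α → ZMod p := fun y => (e.symm y) ^ 2
  have hv : v ∈ W'.toSubmodule := by
    rw [hWU, mem_permSumZero]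
    rw [show ∑ y, v y = ∑ i : ZMod p, i ^ 2 from
      Fintype.sum_equiv e.symm _ _ fun y => rfl]
    exact FiniteField.sum_pow_lt_card_sub_one (K := ZMod p) 2 (by rw [ZMod.card]; omega)
  refine ⟨x, v, hv, fun hmem => ?_⟩
  rw [hWC] at hmem
  obtain ⟨c, hc⟩ := mem_permConstants.mp hmem
  have hval : ∀ i : ZMod p, (i - 1) ^ 2 - i ^ 2 = c := by
    intro i
    rw [← hc (e i), Pi.sub_apply, permRep_apply]
    have : x⁻¹ • e i = e (i - 1) := by
      rw [inv_smul_eq_iff, hx, sub_add_cancel]
    rw [this]
    simp [v]
  have h := (hval 1).trans (hval 0).symm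
  have h2 : (2 : ZMod p) = 0 := by linear_combination -h
  have h2' : ((2 : ℕ) : ZMod p) = 0 := by exact_mod_cast h2
  rw [ZMod.natCast_eq_zero_iff] at h2'
  have := Nat.le_of_dvd (by norm_num) h2'
  omega

end Cfsg.Agent.PermGp
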