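import Mathlib

/-!
The inequality of Ree and Scott: if `x y z = 1` and `⟨x, y, z⟩` is transitive on `n` points, the
numbers of orbits of `x`, `y` and `z` sum to at most `n + 2`.
-/

set_option autoImplicit false
set_option linter.style.haveILetI false

namespace Cfsg.Agent.PermGp.ScottBound

open Equiv

variable {Ω : Type*} [Fintype Ω] [DecidableEq Ω]

/-- Precomposition with `g⁻¹`, minus the identity. -/
def moveMap (g : Perm Ω) : (Ω → ℚ) →ₗ[ℚ] (Ω → ℚ) :=
  LinearMap.funLeft ℚ ℚ (g⁻¹ : Perm Ω) - LinearMap.id

omit [Fintype Ω] [DecidableEq Ω] in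
theorem moveMap_apply (g : Perm Ω) (v : Ω → ℚ) (i : Ω) :
    moveMap g v i = v (g⁻¹ i) - v i := rfl

/-- The number of orbits of the group generated by `g`. -/
noncomputable def orbCount (g : Perm Ω) : ℕ :=
  Nat.card (MulAction.orbitRel.Quotient (Subgroup.zpowers g) Ω)

/-- The image of the difference map is annihilated by the orbit sums. -/
theorem finrank_moveMap_add (g : Perm Ω) :
    Module.finrank ℚ (LinearMap.range (moveMap g)) + orbCount g ≤ Fintype.card Ω := by
  classical
  let Q := MulAction.orbitRel.Quotient (Subgroup.zpowers g) Ω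
  haveI : Fintype Q := Fintype.ofFinite Q
  let π : Ω → Q := Quotient.mk''
  let S : (Ω → ℚ) →ₗ[ℚ] (Q → ℚ) :=
    { toFun := fun v q => ∑ i, if π i = q then v i else 0
      map_add' := fun u v => by
        funext q
        simp only [Pi.add_apply, ← Finset.sum_add_distrib]
        exact Finset.sum_congr rfl fun i _ => by split <;> simp
      map_smul' := fun c v => by
        funext q
        simp [Finset.mul_sum] }
  have hS : Function.Surjective S := by
    intro w
    let rep : Q → Ω := Function.surjInv (f := π) Quotient.mk''_surjective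
    have hrep : ∀ q, π (rep q) = q := Function.surjInv_eq _
    refine ⟨fun i => if rep (π i) = i then w (π i) else 0, ?_⟩
    funext q
    show (∑ i, if π i = q then (if rep (π i) = i then w (π i) else 0) else 0) = w q
    rw [Finset.sum_eq_single (rep q) (fun i _ hi => ?_) (by simp)]
    · simp [hrep]
    · split
      · next h => rw [h, if_neg (Ne.symm hi)]
      · rfl
  have hle : LinearMap.range (moveMap g) ≤ LinearMap.ker S := by
    rintro _ ⟨v, rfl⟩
    rw [LinearMap.mem_ker]
    funext q
    show (∑ i, if π i = q then moveMap g v i else 0) = 0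
    have hπ : ∀ i, π (g i) = π i := fun i =>
      Quotient.sound' (MulAction.orbitRel_apply.2 ⟨⟨g, Subgroup.mem_zpowers g⟩, rfl⟩)
    have e : (∑ i, if π i = q then v (g⁻¹ i) else 0) = ∑ i, if π i = q then v i else 0 := by
      rw [← Equiv.sum_comp g fun i => if π i = q then v (g⁻¹ i) else 0]
      exact Finset.sum_congr rfl fun i _ => by rw [hπ]; simp
    have : (∑ i, if π i = q then moveMap g v i else 0) =
        (∑ i, if π i = q then v (g⁻¹ i) else 0) - ∑ i, if π i = q then v i else 0 := by
      rw [← Finset.sum_sub_distrib]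
      exact Finset.sum_congr rfl fun i _ => by split <;> simp [moveMap_apply]
    rw [this, e, sub_self]
  have h1 := S.finrank_range_add_finrank_ker
  rw [LinearMap.range_eq_top.2 hS, finrank_top, Module.finrank_fintype_fun_eq_card,
    Module.finrank_fintype_fun_eq_card, ← Nat.card_eq_fintype_card (α := Q)] at h1
  have h2 := Submodule.finrank_mono hle
  show _ + Nat.card Q ≤ _
  omega

/-- The inequality. -/
theorem orbCount_le (x y z : Perm Ω) (h : x * y * z = 1)
    (ht : MulAction.IsPretransitive ↥(Subgroup.closure ({x, y, z} : Set (Perm Ω))) Ω) [Nonempty Ω] :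
    orbCount x + orbCount y + orbCount z ≤ Fintype.card Ω + 2 := by
  classical
  have hstep : ∀ (g : Perm Ω) (S : Submodule ℚ (Ω → ℚ)), LinearMap.range (moveMap g) ≤ S →
      ∀ i, Pi.single (g i) 1 - Pi.single i (1 : ℚ) ∈ S := by
    intro g S hS i
    refine hS ⟨Pi.single i 1, ?_⟩
    funext j
    rw [moveMap_apply, Pi.sub_apply, Pi.single_apply, Pi.single_apply, Pi.single_apply]
    congr 1
    exact if_congr (by rw [Perm.coe_inv, Equiv.symm_apply_eq]) rfl rfl
  set n := Fintype.card Ω
  let f₁ : (Ω → ℚ) →ₗ[ℚ] LinearMap.range (moveMap x) :=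
    (moveMap x).rangeRestrict ∘ₗ (LinearMap.funLeft ℚ ℚ (y⁻¹ : Perm Ω) ∘ₗ LinearMap.funLeft ℚ ℚ (z⁻¹ : Perm Ω))
  let f₂ : (Ω → ℚ) →ₗ[ℚ] LinearMap.range (moveMap y) :=
    (moveMap y).rangeRestrict ∘ₗ LinearMap.funLeft ℚ ℚ (z⁻¹ : Perm Ω)
  let f₃ : (Ω → ℚ) →ₗ[ℚ] LinearMap.range (moveMap z) := (moveMap z).rangeRestrict
  let β := f₁.prod (f₂.prod f₃)
  let δ : ↥(LinearMap.range (moveMap x)) × ↥(LinearMap.range (moveMap y)) ×
      ↥(LinearMap.range (moveMap z)) →ₗ[ℚ] (Ω → ℚ) :=
    (Submodule.subtype _).coprod ((Submodule.subtype _).coprod (Submodule.subtype _))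
  have hδβ : LinearMap.range β ≤ LinearMap.ker δ := by
    rintro _ ⟨v, rfl⟩
    rw [LinearMap.mem_ker]
    show moveMap x _ + (moveMap y _ + moveMap z v) = 0
    funext i
    simp only [Pi.add_apply, Pi.zero_apply, moveMap_apply, LinearMap.coe_comp, Function.comp_apply,
      LinearMap.funLeft_apply]
    have hi : z⁻¹ (y⁻¹ (x⁻¹ i)) = i := by
      have := congrArg (fun g : Perm Ω => g⁻¹ i) h
      simpa [mul_inv_rev, Perm.mul_apply] using this
    rw [hi]; ring
  have hker : Module.finrank ℚ (LinearMap.ker β) ≤ 1 := by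
    have hle : LinearMap.ker β ≤ Submodule.span ℚ {fun _ => (1 : ℚ)} := by
      intro v hv
      obtain ⟨i₀⟩ := ‹Nonempty Ω›
      have hβ : β v = 0 := hv
      have h3 : moveMap z v = 0 := congrArg Subtype.val (congrArg (fun t => t.2.2) hβ)
      have hz : ∀ i, v (z⁻¹ i) = v i := fun i =>
        sub_eq_zero.1 (by rw [← moveMap_apply, h3]; rfl)
      have e3 : LinearMap.funLeft ℚ ℚ (z⁻¹ : Perm Ω) v = v := funext hz
      have h2 : moveMap y v = 0 := by
        have := congrArg Subtype.val (congrArg (fun t => t.2.1) hβ)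
        change moveMap y (LinearMap.funLeft ℚ ℚ (z⁻¹ : Perm Ω) v) = 0 at this
        rwa [e3] at this
      have hy : ∀ i, v (y⁻¹ i) = v i := fun i =>
        sub_eq_zero.1 (by rw [← moveMap_apply, h2]; rfl)
      have h1 : moveMap x v = 0 := by
        have := congrArg Subtype.val (congrArg (fun t => t.1) hβ)
        change moveMap x (LinearMap.funLeft ℚ ℚ (y⁻¹ : Perm Ω)
          (LinearMap.funLeft ℚ ℚ (z⁻¹ : Perm Ω) v)) = 0 at this
        rwa [e3, show LinearMap.funLeft ℚ ℚ (y⁻¹ : Perm Ω) v = v from funext hy] at this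
      have hx : ∀ i, v (x⁻¹ i) = v i := fun i =>
        sub_eq_zero.1 (by rw [← moveMap_apply, h1]; rfl)
      have hinv : ∀ g ∈ Subgroup.closure ({x, y, z} : Set (Perm Ω)), ∀ i, v (g i) = v i := by
        intro g hg
        induction hg using Subgroup.closure_induction with
        | mem g hg =>
          intro i
          rcases hg with rfl | rfl | rfl
          · simpa using (hx (g i)).symm
          · simpa using (hy (g i)).symm
          · simpa using (hz (g i)).symm
        | one => simp
        | mul a b _ _ ha hb => intro i; rw [Perm.mul_apply, ha, hb]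
        | inv a _ ha => intro i; simpa using (ha (a⁻¹ i)).symm
      rw [Submodule.mem_span_singleton]
      refine ⟨v i₀, funext fun i => ?_⟩
      obtain ⟨⟨g, hg⟩, hgi⟩ := ht.exists_smul_eq i₀ i
      show v i₀ * 1 = v i
      rw [mul_one, ← hinv g hg i₀, show g i₀ = i from hgi]
    refine le_trans (Submodule.finrank_mono hle) ?_
    exact le_trans (finrank_span_le_card _) (by simp)
  have hrange : n ≤ Module.finrank ℚ (LinearMap.range δ) + 1 := by
    obtain ⟨i₀⟩ := ‹Nonempty Ω›
    set S := LinearMap.range δ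
    have hxS : LinearMap.range (moveMap x) ≤ S := fun u hu => ⟨(⟨u, hu⟩, 0, 0), by simp [δ]⟩
    have hyS : LinearMap.range (moveMap y) ≤ S := fun u hu => ⟨(0, ⟨u, hu⟩, 0), by simp [δ]⟩
    have hzS : LinearMap.range (moveMap z) ≤ S := fun u hu => ⟨(0, 0, ⟨u, hu⟩), by simp [δ]⟩
    have hinv : ∀ g ∈ Subgroup.closure ({x, y, z} : Set (Perm Ω)), ∀ i,
        Pi.single (g i) 1 - Pi.single i (1 : ℚ) ∈ S := by
      intro g hg
      induction hg using Subgroup.closure_induction with
      | mem g hg =>
        rcases hg with rfl | rfl | rfl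
        · exact hstep _ S hxS
        · exact hstep _ S hyS
        · exact hstep _ S hzS
      | one => simp
      | mul a b _ _ ha hb =>
        intro i
        have := S.add_mem (ha (b i)) (hb i)
        rwa [sub_add_sub_cancel] at this
      | inv a _ ha =>
        intro i
        have := S.neg_mem (ha (a⁻¹ i))
        simpa using this
    have htop : (⊤ : Submodule ℚ (Ω → ℚ)) ≤ S ⊔ Submodule.span ℚ {(Pi.single i₀ (1 : ℚ) : Ω → ℚ)} := by
      rw [← (Pi.basisFun ℚ Ω).span_eq, Submodule.span_le]
      rintro _ ⟨i, rfl⟩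
      rw [Pi.basisFun_apply]
      obtain ⟨⟨g, hg⟩, hgi⟩ := ht.exists_smul_eq i₀ i
      have := hinv g hg i₀
      rw [show g i₀ = i from hgi] at this
      have e := Submodule.add_mem_sup this (Submodule.mem_span_singleton_self (Pi.single i₀ (1 : ℚ) : Ω → ℚ))
      rwa [sub_add_cancel] at e
    have h1 := Submodule.finrank_mono htop
    rw [finrank_top, Module.finrank_fintype_fun_eq_card] at h1
    have h2 := Submodule.finrank_add_le_finrank_add_finrank S (Submodule.span ℚ {(Pi.single i₀ (1 : ℚ) : Ω → ℚ)})
    have h3 : Module.finrank ℚ (Submodule.span ℚ {(Pi.single i₀ (1 : ℚ) : Ω → ℚ)}) ≤ 1 :=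
      le_trans (finrank_span_le_card _) (by simp)
    omega
  have h1 := β.finrank_range_add_finrank_ker
  have h2 := δ.finrank_range_add_finrank_ker
  have h3 := Submodule.finrank_mono hδβ
  rw [Module.finrank_fintype_fun_eq_card] at h1
  rw [Module.finrank_prod, Module.finrank_prod] at h2
  have hx := finrank_moveMap_add x
  have hy := finrank_moveMap_add y
  have hz := finrank_moveMap_add z
  omega

/-- An element of prime order with many fixed points has many orbits. -/
theorem orbCount_ge {p : ℕ} {g : Perm Ω} (hg : orderOf g = p) :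
    Fintype.card Ω + (p - 1) * (Finset.univ.filter fun i => g i = i).card ≤ orbCount g * p := by
  classical
  set Z := Subgroup.zpowers g
  haveI : Fintype Z := Fintype.ofFinite Z
  haveI : Fintype (MulAction.orbitRel.Quotient Z Ω) := Fintype.ofFinite _
  have hZ : Fintype.card Z = p := by rw [← Nat.card_eq_fintype_card, Nat.card_zpowers, hg]
  have h := MulAction.sum_card_fixedBy_eq_card_orbits_mul_card_group Z Ω
  rw [hZ] at h
  show _ ≤ Nat.card (MulAction.orbitRel.Quotient Z Ω) * p
  rw [Nat.card_eq_fintype_card, show Fintype.card (MulAction.orbitRel.Quotient Z Ω) * p =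
    Fintype.card (Quotient (MulAction.orbitRel Z Ω)) * p from rfl, ← h]
  have hlow : ∀ a : Z, (if a = 1 then Fintype.card Ω else
      (Finset.univ.filter fun i => g i = i).card) ≤ Fintype.card (MulAction.fixedBy Ω a) := by
    intro a
    rw [← Set.toFinset_card]
    split
    · next h => subst h; exact le_of_eq (by simp [← Finset.card_univ])
    · refine Finset.card_le_card fun i hi => ?_
      rw [Set.mem_toFinset]
      obtain ⟨k, hk⟩ := a.2
      show (a : Perm Ω) i = i
      rw [← hk]
      exact Equiv.Perm.zpow_apply_eq_self_of_apply_eq_self (Finset.mem_filter.1 hi).2 k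
  refine le_trans (le_of_eq ?_) (Finset.sum_le_sum fun a _ => hlow a)
  rw [Finset.sum_ite, Finset.sum_const, Finset.sum_const, Finset.filter_eq', if_pos (Finset.mem_univ _),
    Finset.filter_ne', Finset.card_erase_of_mem (Finset.mem_univ _), Finset.card_univ, hZ]
  simp

end Cfsg.Agent.PermGp.ScottBound
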