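import Cfsg.Agent.Lib.PermGp.SmallSupport

/-! Jordan's theorem on primitive groups containing a cycle of prime length. -/

set_option autoImplicit false
set_option linter.unusedSectionVars false

namespace Cfsg.Agent.PermGp

open MulAction Equiv

variable {α : Type*} [Fintype α] [DecidableEq α]

theorem zpowers_normalizes_of_fix {G : Subgroup (Perm α)} {p : ℕ} (hp : p.Prime) {g : Perm α}
    (hgc : g.IsCycle) (hgp : g.support.card = p) (hg : g ∈ G) {g' : Perm α} (hg' : g' ∈ G)
    (ho : orderOf g' = p) (hfix : ∀ x, g x = x → g' x = x) :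
    ∃ u ∈ G, (∀ x, g x = x → u x = x) ∧ u * g' * u⁻¹ ∈ Subgroup.zpowers g := by
  have := Fact.mk hp
  set S := fixingSubgroup (Perm α) {x : α | g x = x}
  set K := G ⊓ S with hK
  have hmem : ∀ {v : Perm α}, v ∈ K ↔ v ∈ G ∧ ∀ x, g x = x → v x = x := fun {v} => by
    simp [hK, S, mem_fixingSubgroup_iff, Perm.smul_def]
  have hgK : g ∈ K := hmem.mpr ⟨hg, fun x hx => hx⟩
  have hg'K : g' ∈ K := hmem.mpr ⟨hg', hfix⟩
  have hle : K ≤ (Perm.ofSubtype : Perm {x // x ∈ g.support} →* Perm α).range := fun v hv => by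
    have hsupp : ∀ x, v x ≠ x → x ∈ g.support := fun x hx =>
      Perm.mem_support.mpr fun e => hx ((hmem.mp hv).2 x e)
    have hiff : ∀ x, v x ∈ g.support ↔ x ∈ g.support := fun x => by
      by_cases hx : v x = x
      · rw [hx]
      · exact ⟨fun _ => hsupp x hx, fun _ => hsupp _ fun e => hx (v.injective e)⟩
    exact ⟨v.subtypePerm hiff, Perm.ofSubtype_subtypePerm hiff hsupp⟩
  have hcard : Nat.card (Perm.ofSubtype : Perm {x // x ∈ g.support} →* Perm α).range = p.factorial := by
    rw [Nat.card_congr (MonoidHom.ofInjective Perm.ofSubtype_injective).symm.toEquiv, Nat.card_perm,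
      Nat.card_eq_fintype_card, Fintype.card_coe, hgp]
  have hdvd : Nat.card K ∣ p.factorial := hcard ▸ Subgroup.card_dvd_of_le hle
  have og : orderOf g = p := hgc.orderOf.trans hgp
  have hpK : p ∣ Nat.card K := by
    rw [← og, ← Subgroup.orderOf_mk g hgK]
    exact orderOf_dvd_natCard _
  have hfac : (Nat.card K).factorization p = 1 := by
    obtain ⟨m, hm⟩ := hpK
    have hKpos : Nat.card K ≠ 0 := Nat.card_pos.ne'
    have hm0 : m ≠ 0 := fun e => hKpos (by simp [hm, e])
    have hm' : ¬ p ∣ m := by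
      intro hpm
      have h1 : p * m ∣ p * (p - 1).factorial := by
        rw [← hm, Nat.mul_factorial_pred hp.ne_zero]; exact hdvd
      have h2 := hp.dvd_factorial.mp (hpm.trans (Nat.dvd_of_mul_dvd_mul_left hp.pos h1))
      have := hp.pos
      omega
    rw [hm, Nat.factorization_mul hp.ne_zero hm0, Finsupp.add_apply, hp.factorization_self,
      Nat.factorization_eq_zero_of_not_dvd hm']
  have mk : ∀ v : K, orderOf (v : Perm α) = p → Nat.card (Subgroup.zpowers v) = p ^ (Nat.card K).factorization p := by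
    intro v hv
    rw [hfac, pow_one, Nat.card_zpowers, ← Subgroup.orderOf_coe, hv]
  let P : Sylow p K := Sylow.ofCard _ (mk ⟨g, hgK⟩ og)
  let Q : Sylow p K := Sylow.ofCard _ (mk ⟨g', hg'K⟩ ho)
  obtain ⟨⟨u, hu⟩, hPQ⟩ := MulAction.exists_smul_eq K Q P
  refine ⟨u, (hmem.mp hu).1, (hmem.mp hu).2, ?_⟩
  have h1 : MulAut.conj (⟨u, hu⟩ : K) ⟨g', hg'K⟩ ∈ ((⟨u, hu⟩ : K) • Q : Sylow p K) := by
    show MulAut.conj (⟨u, hu⟩ : K) ⟨g', hg'K⟩ ∈ (((⟨u, hu⟩ : K) • Q : Sylow p K) : Subgroup K)
    rw [Sylow.coe_subgroup_smul]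
    exact Subgroup.smul_mem_pointwise_smul _ _ _ (by simp [Q])
  rw [hPQ] at h1
  have h2 : _ ∈ (P : Subgroup K) := h1
  obtain ⟨i, hi⟩ := Subgroup.mem_zpowers_iff.mp h2
  exact Subgroup.mem_zpowers_iff.mpr ⟨i, by simpa using congrArg Subtype.val hi⟩

/-- Any permutation of the fixed points of a cycle of prime length is induced by an element
normalising the cyclic group, given enough transitivity. -/
theorem exists_normalizing_induced {G : Subgroup (Perm α)} {p : ℕ} (hp : p.Prime) {g : Perm α}
    (hgc : g.IsCycle) (hgp : g.support.card = p) (hg : g ∈ G) {k : ℕ}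
    (hG : IsMultiplyPretransitive G α k) (hk : Fintype.card α ≤ k + p) (hkn : k ≤ Fintype.card α)
    (σ : Perm α) (hσ : ∀ x, g x = x → g (σ x) = σ x) :
    ∃ v ∈ G, (∀ x, g x = x → v x = σ x) ∧ v * g * v⁻¹ ∈ Subgroup.zpowers g := by
  have hcard : g.supportᶜ.card ≤ k := by rw [Finset.card_compl, hgp]; omega
  have hG' : IsMultiplyPretransitive G α g.supportᶜ.card :=
    isMultiplyPretransitive_of_le (n := k) hcard (by rw [Nat.card_eq_fintype_card]; exact hkn)
  let u : Fin g.supportᶜ.card ↪ α :=
    (g.supportᶜ).equivFin.symm.toEmbedding.trans (Function.Embedding.subtype _)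
  obtain ⟨⟨h, hh⟩, hhu⟩ := hG'.exists_smul_eq u (u.trans σ.toEmbedding)
  have hh' : ∀ x, g x = x → h x = σ x := fun x hx => by
    have := DFunLike.congr_fun hhu ((g.supportᶜ).equivFin ⟨x, by simp [hx]⟩)
    simpa [u, Function.Embedding.smul_apply, Subgroup.smul_def] using this
  have hfix : ∀ x, g x = x → (h * g * h⁻¹) x = x := fun x hx => by
    have hmaps : Set.MapsTo σ {x | g x = x} {x | g x = x} := fun y hy => hσ y hy
    obtain ⟨y, hy, rfl⟩ : ∃ y, g y = y ∧ σ y = x := by
      have hsurj : (Finset.univ.filter fun y => g y = y).image σ = Finset.univ.filter fun y => g y = y :=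
        Finset.eq_of_subset_of_card_le (fun z hz => by
          obtain ⟨y, hy, rfl⟩ := Finset.mem_image.mp hz
          simp only [Finset.mem_filter, Finset.mem_univ, true_and] at hy ⊢
          exact hmaps hy) (by rw [Finset.card_image_of_injective _ σ.injective])
      have : x ∈ (Finset.univ.filter fun y => g y = y).image σ := by rw [hsurj]; simp [hx]
      simpa using this
    simp only [Perm.mul_apply]
    rw [← hh' y hy]
    simp [hy]
  have ho : orderOf (h * g * h⁻¹) = p := by
    rw [show h * g * h⁻¹ = MulAut.conj h g from rfl, MulEquiv.orderOf_eq, hgc.orderOf, hgp]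
  obtain ⟨u', hu', hu'fix, hz⟩ := zpowers_normalizes_of_fix hp hgc hgp hg
    (G.mul_mem (G.mul_mem hh hg) (G.inv_mem hh)) ho hfix
  refine ⟨u' * h, G.mul_mem hu' hh, fun x hx => ?_, ?_⟩
  · rw [Perm.mul_apply, hh' x hx, hu'fix _ (hσ x hx)]
  · have e : u' * h * g * (u' * h)⁻¹ = u' * (h * g * h⁻¹) * u'⁻¹ := by group
    exact e ▸ hz

/-- Jordan: a primitive group containing a cycle of prime length fixing at least three points
contains the alternating group. -/
theorem alternating_le_of_prime_cycle {G : Subgroup (Perm α)} (hG : IsPreprimitive G α) {p : ℕ}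
    (hp : p.Prime) (hpn : p + 3 ≤ Fintype.card α) {g : Perm α} (hgc : g.IsCycle)
    (hgp : g.support.card = p) (hg : g ∈ G) : alternatingGroup α ≤ G := by
  by_cases hp3 : p = 3
  · exact alternating_le_of_small_support hG hg hgc.ne_one (by omega)
  have hpp := hp.one_lt
  set s : Set α := (g.support : Set α)ᶜ with hs
  have hsn : s.ncard = (Fintype.card α - p - 1) + 1 := by
    rw [hs, Set.ncard_compl, Set.ncard_coe_finset, hgp, Nat.card_eq_fintype_card]; omega
  have htr : IsPretransitive (fixingSubgroup G s) (SubMulAction.ofFixingSubgroup G s) :=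
    Perm.isPretransitive_of_isCycle_mem hgc hg
  have hprim : IsPreprimitive (fixingSubgroup G s) (SubMulAction.ofFixingSubgroup G s) := by
    apply IsPreprimitive.of_prime_card
    convert hp
    change Nat.card (sᶜ : Set α) = p
    rw [hs, compl_compl, Nat.card_coe_set_eq, Set.ncard_coe_finset, hgp]
  have hmp := hG.isMultiplyPreprimitive hsn (by rw [Nat.card_eq_fintype_card]; omega) hprim
  have hk : IsMultiplyPretransitive G α (Fintype.card α - p - 1 + 2) := by
    exact hmp.isMultiplyPretransitive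
  -- three fixed points
  obtain ⟨a, ha, b, hb, c, hc, hab, hac, hbc⟩ := Finset.two_lt_card.mp
    (show 2 < g.supportᶜ.card by rw [Finset.card_compl, hgp]; omega)
  simp only [Finset.mem_compl, Perm.notMem_support] at ha hb hc
  have hfixswap : ∀ {a b : α}, g a = a → g b = b → ∀ x, g x = x → g (swap a b x) = swap a b x := by
    intro a b ha hb x hx
    rw [swap_apply_def]; split_ifs <;> assumption
  obtain ⟨v, hv, hvx, hvg⟩ := exists_normalizing_induced hp hgc hgp hg hk (by omega) (by omega) (swap a b)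
    (hfixswap ha hb)
  obtain ⟨w, hw, hwx, hwg⟩ := exists_normalizing_induced hp hgc hgp hg hk (by omega) (by omega) (swap a c)
    (hfixswap ha hc)
  obtain ⟨i, hi⟩ := Subgroup.mem_zpowers_iff.mp hvg
  obtain ⟨j, hj⟩ := Subgroup.mem_zpowers_iff.mp hwg
  have e1 : MulAut.conj (v * w) g = g ^ (i * j) := by
    rw [map_mul, MulAut.mul_apply, show MulAut.conj w g = g ^ j from hj.symm, map_zpow,
      show MulAut.conj v g = g ^ i from hi.symm, ← zpow_mul]
  have e2 : MulAut.conj (w * v) g = g ^ (i * j) := by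
    rw [map_mul, MulAut.mul_apply, show MulAut.conj v g = g ^ i from hi.symm, map_zpow,
      show MulAut.conj w g = g ^ j from hj.symm, ← zpow_mul, mul_comm]
  set C := (w * v)⁻¹ * (v * w) with hC
  have hCG : C ∈ G := G.mul_mem (G.inv_mem (G.mul_mem hw hv)) (G.mul_mem hv hw)
  clear_value C
  have hcomm : C * g = g * C := by
    have e3 : MulAut.conj C g = g := by
      rw [hC, map_mul, map_inv, MulAut.mul_apply, e1, ← e2]
      exact MulEquiv.symm_apply_apply _ _
    rw [MulAut.conj_apply, mul_inv_eq_iff_eq_mul] at e3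
    exact e3
  set τ := swap a b * swap a c with hτ
  have hτ3 : τ.IsThreeCycle := Perm.isThreeCycle_swap_mul_swap_same hab hac hbc
  have hCx : ∀ x, g x = x → C x = (τ * τ) x := fun x hx => by
    have h1 : g (swap a b x) = swap a b x := hfixswap ha hb x hx
    have h2 : g (swap a c x) = swap a c x := hfixswap ha hc x hx
    have hτx : g (τ x) = τ x := hfixswap ha hb _ h2
    have hττx : g (τ (τ x)) = τ (τ x) := hfixswap ha hb _ (hfixswap ha hc _ hτx)
    rw [hC, Perm.mul_apply, Perm.mul_apply, hwx x hx, hvx _ h2, Perm.inv_eq_iff_eq, Perm.mul_apply,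
      Perm.mul_apply, hvx _ hττx, hwx _ (hfixswap ha hb _ hττx)]
    simp [hτ, Perm.mul_apply]
  have hCpow : ∀ (m : ℕ) x, g x = x → (C ^ m) x = ((τ * τ) ^ m) x ∧ g ((C ^ m) x) = (C ^ m) x := by
    intro m x hx
    induction m with
    | zero => simp [hx]
    | succ m ih =>
      obtain ⟨h1, h2⟩ := ih
      rw [pow_succ', Perm.mul_apply, pow_succ', Perm.mul_apply, hCx _ h2, h1]
      refine ⟨rfl, ?_⟩
      rw [← h1]
      exact hfixswap ha hb _ (hfixswap ha hc _ (hfixswap ha hb _ (hfixswap ha hc _ h2)))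
  obtain ⟨x₀, hx₀, hcyc⟩ := id hgc
  obtain ⟨l, hl⟩ : g.SameCycle x₀ (C x₀) := hcyc (fun e => hx₀ (by
    have : C (g x₀) = C x₀ := by rw [← Perm.mul_apply, hcomm, Perm.mul_apply, e]
    exact C.injective this))
  have hCsupp : ∀ x, g x ≠ x → C x = (g ^ l) x := fun x hx => by
    obtain ⟨n, rfl⟩ := hcyc hx
    have : Commute C (g ^ n) := (show Commute C g from hcomm).zpow_right n
    rw [← Perm.mul_apply, this.eq, Perm.mul_apply, ← hl, ← Perm.mul_apply, ← Perm.mul_apply,
      ← zpow_add, ← zpow_add, add_comm]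
  have hCp : C ^ p = (τ * τ) ^ p := by
    ext x
    by_cases hx : g x = x
    · exact (hCpow p x hx).1
    · have hstep : ∀ m : ℕ, (C ^ m) x = (g ^ (l * m)) x := by
        intro m
        induction m with
        | zero => simp
        | succ m ih =>
          rw [pow_succ', Perm.mul_apply, ih, hCsupp _ (fun e => hx ?_), ← Perm.mul_apply, ← zpow_add]
          · push_cast; ring_nf
          · have e' : (g ^ (l * (m:ℤ))) (g x) = (g ^ (l * (m:ℤ))) x := by
              rw [← Perm.mul_apply, ((Commute.refl g).zpow_left _).eq, Perm.mul_apply, e]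
            exact (g ^ (l * (m:ℤ))).injective e'
      have hgl : g ^ (l * (p : ℤ)) = 1 := by
        rw [mul_comm, zpow_mul, zpow_natCast, ← hgp, ← hgc.orderOf, pow_orderOf_eq_one, one_zpow]
      rw [hstep p, hgl, Perm.one_apply]
      have hfx : τ x = x := by
        have hne : ∀ d, g d = d → x ≠ d := fun d hd e => hx (e ▸ hd)
        simp [hτ, Perm.mul_apply, swap_apply_of_ne_of_ne (hne a ha) (hne b hb),
          swap_apply_of_ne_of_ne (hne a ha) (hne c hc)]
      exact (Perm.pow_apply_eq_self_of_apply_eq_self (by rw [Perm.mul_apply, hfx, hfx]) p).symm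
  have h3 : ((τ * τ) ^ p).IsThreeCycle := by
    rw [← sq, ← pow_mul, ← card_support_eq_three_iff, Perm.support_pow_coprime, hτ3.card_support]
    rw [hτ3.orderOf]
    exact Nat.Coprime.mul_left (by norm_num) ((Nat.coprime_primes hp Nat.prime_three).mpr hp3)
  exact Perm.alternatingGroup_le_of_isPreprimitive_of_isThreeCycle_mem hG (hCp ▸ h3)
    (G.pow_mem hCG p)

end Cfsg.Agent.PermGp
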