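import Cfsg.Agent.Lib.PermGp.Basic

/-! Multiply transitive groups with an element of small support. -/

set_option autoImplicit false
set_option linter.unusedSectionVars false

namespace Cfsg.Agent.PermGp

open MulAction Equiv

variable {α : Type*} [Fintype α] [DecidableEq α]

/-- A `k`-transitive group contains elements fixing fewer than `k` given points and moving a further
point anywhere else. -/
theorem exists_fix_move {G : Type*} [Group G] [MulAction G α] {k : ℕ}
    (hG : IsMultiplyPretransitive G α k) (hkn : k ≤ Fintype.card α) {A : Finset α} {x y : α}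
    (hx : x ∉ A) (hy : y ∉ A) (hA : A.card + 1 ≤ k) : ∃ g : G, (∀ z ∈ A, g • z = z) ∧ g • x = y := by
  have hG' : IsMultiplyPretransitive G α (A.card + 1) :=
    isMultiplyPretransitive_of_le (n := k) hA (by rw [Nat.card_eq_fintype_card]; exact hkn)
  let e := (finCongr (Finset.card_insert_of_notMem hx).symm).trans (insert x A).equivFin.symm
  let u : Fin (A.card + 1) ↪ α := e.toEmbedding.trans (Function.Embedding.subtype _)
  let v : Fin (A.card + 1) ↪ α := u.trans (Equiv.swap x y).toEmbedding
  obtain ⟨g, hg⟩ := hG'.exists_smul_eq u v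
  have hall : ∀ z ∈ insert x A, g • z = Equiv.swap x y z := fun z hz => by
    have := DFunLike.congr_fun hg (e.symm ⟨z, hz⟩)
    simpa [u, v, Function.Embedding.smul_apply] using this
  refine ⟨g, fun z hz => ?_, ?_⟩
  · rw [hall z (Finset.mem_insert_of_mem hz), Equiv.swap_apply_of_ne_of_ne]
    · rintro rfl; exact hx hz
    · rintro rfl; exact hy hz
  · rw [hall x (Finset.mem_insert_self _ _), Equiv.swap_apply_left]

/-- An action which is transitive on all tuples of distinct points gives every permutation. -/
theorem eq_top_of_card_le {G : Subgroup (Perm α)} {k : ℕ} (hG : IsMultiplyPretransitive G α k)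
    (hkn : k = Fintype.card α) : G = ⊤ := by
  rw [eq_top_iff]
  intro σ _
  subst hkn
  obtain ⟨⟨g, hg⟩, h⟩ := hG.exists_smul_eq (Fintype.equivFin α).symm.toEmbedding
    ((Fintype.equivFin α).symm.trans σ).toEmbedding
  have : g = σ := Equiv.ext fun x => by
    have := DFunLike.congr_fun h (Fintype.equivFin α x)
    simpa [Function.Embedding.smul_apply, Subgroup.smul_def] using this
  exact this ▸ hg

/-- A set of moved points of any size with at most one point leaving it under the permutation. -/
theorem exists_consecutive (g : Perm α) : ∀ j ≤ g.support.card,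
    ∃ A ⊆ g.support, A.card = j ∧ (A.filter (fun z => g z ∉ A)).card ≤ 1 := by
  intro j
  induction j with
  | zero => intro _; exact ⟨∅, by simp, by simp, by simp⟩
  | succ j ih =>
    intro hj
    obtain ⟨A, hA, hAc, hex⟩ := ih (by omega)
    by_cases hinv : ∀ z ∈ A, g z ∈ A
    · obtain ⟨x, hx, hxA⟩ := Finset.exists_mem_notMem_of_card_lt_card (s := A) (t := g.support) (by omega)
      refine ⟨insert x A, Finset.insert_subset hx hA, by rw [Finset.card_insert_of_notMem hxA, hAc], ?_⟩
      refine le_trans (Finset.card_le_card (t := {x}) fun z hz => ?_) (Finset.card_singleton x).le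
      simp only [Finset.mem_filter, Finset.mem_insert, Finset.mem_singleton] at hz ⊢
      exact hz.1.resolve_right fun h => hz.2 (Or.inr (hinv z h))
    · push Not at hinv
      obtain ⟨z₀, hz₀, hz₀'⟩ := hinv
      refine ⟨insert (g z₀) A, Finset.insert_subset (by
        rw [Perm.apply_mem_support]; exact hA hz₀) hA, by
        rw [Finset.card_insert_of_notMem hz₀', hAc], ?_⟩
      refine le_trans (Finset.card_le_card (t := {g z₀}) fun z hz => ?_) (Finset.card_singleton _).le
      simp only [Finset.mem_filter, Finset.mem_insert, Finset.mem_singleton] at hz ⊢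
      refine hz.1.resolve_right fun h => ?_
      rcases Classical.em (g z ∈ A) with h' | h'
      · exact hz.2 (Or.inr h')
      · have : z = z₀ := Finset.card_le_one.mp hex z (Finset.mem_filter.mpr ⟨h, h'⟩) z₀
          (Finset.mem_filter.mpr ⟨hz₀, hz₀'⟩)
        exact hz.2 (Or.inl (congrArg g this))

private theorem comm_fix (g h : Perm α) {A : Finset α} (hA : ∀ z ∈ A, h z = z) {z : α} (hz : z ∈ A)
    (hgz : g z ∈ A) : (g⁻¹ * (h * g * h⁻¹)) z = z := by
  have h1 : h⁻¹ z = z := by rw [Perm.inv_eq_iff_eq]; exact (hA z hz).symm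
  simp [Perm.mul_apply, h1, hA (g z) hgz]

private theorem comm_support (g h : Perm α) :
    (g⁻¹ * (h * g * h⁻¹)).support ⊆ g.support ∪ g.support.image h := by
  intro z hz
  by_contra hn
  simp only [Finset.mem_union, Finset.mem_image, not_or, not_exists, not_and] at hn
  refine Perm.mem_support.mp hz ?_
  have h1 : g z = z := Perm.notMem_support.mp hn.1
  have h2 : g (h⁻¹ z) = h⁻¹ z := Perm.notMem_support.mp fun hh => hn.2 _ hh (by simp)
  have h3 : g⁻¹ z = z := by rw [Perm.inv_eq_iff_eq]; exact h1.symm
  simp only [Perm.mul_apply]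
  rw [h2, show h (h⁻¹ z) = z by simp, h3]

/-- The commutator step: a non-trivial element of smaller support. -/
theorem exists_smaller_support {G : Subgroup (Perm α)} {k : ℕ} (hkn : k < Fintype.card α)
    (hG : IsMultiplyPretransitive G α k) {g : Perm α} (hg : g ∈ G) (h4 : 4 ≤ g.support.card)
    (hsupp : g.support.card < 2 * k - 2) :
    ∃ c ∈ G, c ≠ 1 ∧ c.support.card < g.support.card := by
  set M := g.support with hM
  have hmove : ∀ {z}, z ∈ M → g z ∈ M := fun hz => Perm.apply_mem_support.mpr hz
  have mem : ∀ h : G, g⁻¹ * ((h : Perm α) * g * (h : Perm α)⁻¹) ∈ G := fun h =>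
    G.mul_mem (G.inv_mem hg) (G.mul_mem (G.mul_mem h.2 hg) (G.inv_mem h.2))
  by_cases hfull : M = Finset.univ
  · have hm : M.card = Fintype.card α := by rw [hfull, Finset.card_univ]
    obtain ⟨z, hz⟩ : M.Nonempty := Finset.card_pos.mp (by omega)
    have hgz : g z ≠ z := Perm.mem_support.mp hz
    obtain ⟨w, -, hw⟩ := Finset.exists_mem_notMem_of_card_lt_card (s := {z, g z, g⁻¹ z})
      (t := Finset.univ) (by
        rw [Finset.card_univ]; have := Finset.card_le_three (a := z) (b := g z) (c := g⁻¹ z); omega)
    simp only [Finset.mem_insert, Finset.mem_singleton, not_or] at hw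
    obtain ⟨y, -, hy⟩ := Finset.exists_mem_notMem_of_card_lt_card (s := {z, g z, w, g w})
      (t := Finset.univ) (by
        rw [Finset.card_univ]; have := Finset.card_le_four (a := z) (b := g z) (c := w) (d := g w); omega)
    simp only [Finset.mem_insert, Finset.mem_singleton, not_or] at hy
    have hgw : g w ≠ w := Perm.mem_support.mp (by rw [← hM, hfull]; exact Finset.mem_univ w)
    obtain ⟨h, hA, hxy⟩ := exists_fix_move hG hkn.le (A := {z, g z, w}) (x := g w) (y := y) (by
        simp only [Finset.mem_insert, Finset.mem_singleton, not_or]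
        exact ⟨fun e => hw.2.2 (by rw [← e]; simp), fun e => hw.1 (g.injective e), hgw⟩) (by
        simp only [Finset.mem_insert, Finset.mem_singleton, not_or]; exact ⟨hy.1, hy.2.1, hy.2.2.1⟩) (by
        have := Finset.card_le_three (a := z) (b := g z) (c := w); omega)
    refine ⟨_, mem h, fun e => ?_, ?_⟩
    · have h1 := congrArg (fun f : Perm α => g (f w)) e
      have hw' : (h : Perm α)⁻¹ w = w := by
        rw [Perm.inv_eq_iff_eq]; exact (hA w (by simp)).symm
      have hxy' : (h : Perm α) (g w) = y := hxy
      simp [Perm.mul_apply, hw', hxy'] at h1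
      exact hy.2.2.2 h1
    · refine lt_of_le_of_lt (Finset.card_le_card (t := Finset.univ.erase z) fun v hv => ?_) ?_
      · exact Finset.mem_erase.mpr ⟨fun e => Perm.mem_support.mp hv (by
          subst e; exact comm_fix g h hA (by simp) (by simp)), Finset.mem_univ _⟩
      · rw [Finset.card_erase_of_mem (Finset.mem_univ _), Finset.card_univ]; omega
  obtain ⟨o, ho⟩ : ∃ o, o ∉ M := by
    by_contra! hall
    exact hfull (Finset.eq_univ_iff_forall.mpr hall)
  obtain ⟨A, hAM, hAc, hex⟩ := exists_consecutive g (min (k - 1) (M.card - 1)) (by rw [← hM]; omega)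
  set j := min (k - 1) (M.card - 1) with hj
  have key : ∀ (h : G) (B : Finset α), (∀ z ∈ A, (h : Perm α) z = z) → A ⊆ B →
      B ⊆ M ∩ M.image (h : Perm α) → (g⁻¹ * ((h : Perm α) * g * (h : Perm α)⁻¹)).support.card + B.card +
        (A.filter (fun z => g z ∈ A)).card ≤ 2 * M.card := by
    intro h B hA hAB hB
    set D := A.filter (fun z => g z ∈ A) with hD
    have hsub : (g⁻¹ * ((h : Perm α) * g * (h : Perm α)⁻¹)).support ⊆ (M ∪ M.image (h : Perm α)) \ D :=
      fun v hv => Finset.mem_sdiff.mpr ⟨comm_support g h hv, fun hvD => Perm.mem_support.mp hv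
        (comm_fix g h hA (Finset.mem_filter.mp hvD).1 (Finset.mem_filter.mp hvD).2)⟩
    have h1 := Finset.card_le_card hsub
    have hDsub : D ⊆ M ∪ M.image (h : Perm α) := fun v hv =>
      Finset.mem_union_left _ (hAM (Finset.mem_filter.mp hv).1)
    rw [Finset.card_sdiff_of_subset hDsub] at h1
    have h2 := Finset.card_union_add_card_inter M (M.image (h : Perm α))
    rw [Finset.card_image_of_injective _ (h : Perm α).injective] at h2
    have h3 := Finset.card_le_card hB
    have h4 := Finset.card_le_card hDsub
    omega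
  have himg : ∀ (h : G), (∀ z ∈ A, (h : Perm α) z = z) → A ⊆ M ∩ M.image (h : Perm α) :=
    fun h hA z hz => Finset.mem_inter.mpr ⟨hAM hz, Finset.mem_image.mpr ⟨z, hAM hz, hA z hz⟩⟩
  have hsplit : (A.filter (fun z => g z ∈ A)).card + (A.filter (fun z => g z ∉ A)).card = A.card :=
    Finset.card_filter_add_card_filter_not _
  by_cases hinv : ∀ z ∈ A, g z ∈ A
  · obtain ⟨x, hx, hxA⟩ := Finset.exists_mem_notMem_of_card_lt_card (s := A) (t := M) (by omega)
    obtain ⟨h, hA, hxy⟩ := exists_fix_move hG hkn.le (A := A) (x := x) (y := o) hxA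
      (fun e => ho (hAM e)) (by omega)
    refine ⟨_, mem h, fun e => ?_, ?_⟩
    · have hgo : g o = o := Perm.notMem_support.mp ho
      have h1 := congrArg (fun f : Perm α => g (f o)) e
      have ho' : (h : Perm α)⁻¹ o = x := by rw [Perm.inv_eq_iff_eq]; exact hxy.symm
      simp [Perm.mul_apply, ho', hgo] at h1
      exact Perm.mem_support.mp hx ((h : Perm α).injective (h1.trans hxy.symm))
    · have := key h A hA subset_rfl (himg h hA)
      rw [show A.filter (fun z => g z ∈ A) = A from Finset.filter_true_of_mem hinv] at this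
      omega
  · push Not at hinv
    obtain ⟨z₀, hz₀, hz₀'⟩ := hinv
    have hx : g z₀ ∈ M := hmove (hAM hz₀)
    have hne1 : ∀ (h : G) (y : α), (∀ z ∈ A, (h : Perm α) z = z) → (h : Perm α) (g z₀) = y → y ≠ g z₀ →
        g⁻¹ * ((h : Perm α) * g * (h : Perm α)⁻¹) ≠ 1 := fun h y hA hxy hy e => by
      have h1 := congrArg (fun f : Perm α => g (f z₀)) e
      have hz : (h : Perm α)⁻¹ z₀ = z₀ := by rw [Perm.inv_eq_iff_eq]; exact (hA z₀ hz₀).symm
      simp [Perm.mul_apply, hz, hxy] at h1
      exact hy h1
    by_cases hroom : A.card + 2 ≤ M.card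
    · obtain ⟨y, hy, hy'⟩ := Finset.exists_mem_notMem_of_card_lt_card (s := insert (g z₀) A) (t := M) (by
        rw [Finset.card_insert_of_notMem hz₀']; omega)
      simp only [Finset.mem_insert, not_or] at hy'
      obtain ⟨h, hA, hxy⟩ := exists_fix_move hG hkn.le (A := A) (x := g z₀) (y := y) hz₀' hy'.2 (by omega)
      refine ⟨_, mem h, hne1 h y hA hxy hy'.1, ?_⟩
      have := key h (insert y A) hA (Finset.subset_insert _ _) (Finset.insert_subset
        (Finset.mem_inter.mpr ⟨hy, Finset.mem_image.mpr ⟨_, hx, hxy⟩⟩) (himg h hA))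
      rw [Finset.card_insert_of_notMem hy'.2] at this
      omega
    · obtain ⟨h, hA, hxy⟩ := exists_fix_move hG hkn.le (A := A) (x := g z₀) (y := o) hz₀'
        (fun e => ho (hAM e)) (by omega)
      refine ⟨_, mem h, hne1 h o hA hxy (fun e => ho (e ▸ hx)), ?_⟩
      have := key h A hA subset_rfl (himg h hA)
      omega

/-- A `k`-transitive group with a non-trivial element moving fewer than `2k - 2` points has a
non-trivial element moving at most three points. -/
theorem exists_support_le_three {G : Subgroup (Perm α)} {k : ℕ} (hk : 3 ≤ k) (hkn : k ≤ Fintype.card α)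
    (hG : IsMultiplyPretransitive G α k) {g : Perm α} (hg : g ∈ G) (hg1 : g ≠ 1)
    (hsupp : g.support.card < 2 * k - 2) : ∃ c ∈ G, c ≠ 1 ∧ c.support.card ≤ 3 := by
  rcases Nat.lt_or_ge k (Fintype.card α) with hlt | hge
  · induction hm : g.support.card using Nat.strong_induction_on generalizing g with
    | _ m ih =>
      by_cases h3 : m ≤ 3
      · exact ⟨g, hg, hg1, hm ▸ h3⟩
      obtain ⟨c, hc, hc1, hcc⟩ := exists_smaller_support hlt hG hg (by omega) hsupp
      exact ih _ (hm ▸ hcc) hc hc1 (by omega) rfl
  · have htop := eq_top_of_card_le hG (le_antisymm hkn hge)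
    obtain ⟨a, b, hab⟩ := Fintype.exists_pair_of_one_lt_card (α := α) (by omega)
    exact ⟨Equiv.swap a b, htop ▸ Subgroup.mem_top _, by simpa [Perm.one_def, Equiv.swap_eq_refl_iff] using hab,
      by rw [Perm.card_support_swap hab]; omega⟩

/-- A primitive group with a non-trivial element moving at most three points contains the
alternating group. -/
theorem alternating_le_of_small_support {G : Subgroup (Perm α)} (hG : IsPreprimitive G α)
    {c : Perm α} (hc : c ∈ G) (hc1 : c ≠ 1) (h3 : c.support.card ≤ 3) : alternatingGroup α ≤ G := by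
  have h2 := Perm.one_lt_card_support_of_ne_one hc1
  rcases Nat.lt_or_ge c.support.card 3 with h | h
  · rw [Perm.subgroup_eq_top_of_isPreprimitive_of_isSwap_mem hG c
      (Perm.card_support_eq_two.mp (by omega)) hc]
    exact le_top
  · exact Perm.alternatingGroup_le_of_isPreprimitive_of_isThreeCycle_mem hG
      (card_support_eq_three_iff.mp (by omega)) hc

end Cfsg.Agent.PermGp
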