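import Cfsg.Agent.Lib.PermGp.Basic

/-! Criteria for multiple transitivity of permutation groups. -/

set_option autoImplicit false

namespace Cfsg.Agent.PermGp

open MulAction

variable {G : Type*} [Group G] {α : Type*} [MulAction G α]

/-- If pointwise stabilisers of fewer than `k` points are transitive on the other points, the
action is `k`-transitive. -/
theorem mt_of_fix {k : ℕ}
    (h : ∀ s : Finset α, s.card < k → ∀ x y : α, x ∉ s → y ∉ s →
      ∃ g : G, (∀ z ∈ s, g • z = z) ∧ g • x = y) :
    IsMultiplyPretransitive G α k := by
  classical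
  induction k with
  | zero => exact is_zero_pretransitive
  | succ k ih =>
    have hk := ih fun s hs => h s (by omega)
    refine ⟨fun u v => ?_⟩
    obtain ⟨g, hg⟩ := hk.exists_smul_eq (Fin.castSuccEmb.trans u) (Fin.castSuccEmb.trans v)
    have hgi : ∀ i : Fin k, g • u i.castSucc = v i.castSucc := fun i => DFunLike.congr_fun hg i
    let s : Finset α := Finset.univ.map (Fin.castSuccEmb.trans v)
    have hs : s.card = k := by simp [s]
    have h1 : g • u (Fin.last k) ∉ s := by
      simp only [s, Finset.mem_map, Finset.mem_univ, true_and, not_exists]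
      intro i hi
      have : g • u i.castSucc = g • u (Fin.last k) := (hgi i).trans hi
      exact Fin.castSucc_ne_last i (u.injective (MulAction.injective g this))
    have h2 : v (Fin.last k) ∉ s := by
      simp only [s, Finset.mem_map, Finset.mem_univ, true_and, not_exists]
      intro i hi
      exact Fin.castSucc_ne_last i (v.injective hi)
    obtain ⟨h', hfix, hxy⟩ := h s (by omega) _ _ h1 h2
    refine ⟨h' * g, ?_⟩
    ext i
    show (h' * g) • u i = v i
    rw [mul_smul]
    induction i using Fin.lastCases with
    | last => exact hxy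
    | cast i =>
      rw [hgi]
      exact hfix _ (Finset.mem_map.mpr ⟨i, Finset.mem_univ _, rfl⟩)

/-- It suffices to treat subsets of size exactly `k - 1`, when there is room. -/
theorem mt_of_fix_card [Fintype α] [DecidableEq α] {k : ℕ} (hk : k < Fintype.card α)
    (h : ∀ s : Finset α, s.card + 1 = k → ∀ x y : α, x ∉ s → y ∉ s →
      ∃ g : G, (∀ z ∈ s, g • z = z) ∧ g • x = y) :
    IsMultiplyPretransitive G α k := by
  refine mt_of_fix fun s hs x y hx hy => ?_
  have hsub : s ⊆ Finset.univ \ {x, y} := fun z hz => by
    simp only [Finset.mem_sdiff, Finset.mem_univ, true_and, Finset.mem_insert, Finset.mem_singleton]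
    rintro (rfl | rfl)
    · exact hx hz
    · exact hy hz
  have hc : k - 1 ≤ (Finset.univ \ {x, y} : Finset α).card := by
    rw [Finset.card_sdiff, Finset.card_univ, Finset.inter_univ]
    have := Finset.card_le_two (a := x) (b := y)
    omega
  obtain ⟨t, hst, htsub, htc⟩ := Finset.exists_subsuperset_card_eq hsub (n := k - 1) (by omega) hc
  have hxt : x ∉ t := fun hh => by simpa using htsub hh
  have hyt : y ∉ t := fun hh => by simpa using htsub hh
  obtain ⟨g, hg, hgx⟩ := h t (by omega) x y hxt hyt
  exact ⟨g, fun z hz => hg z (hst hz), hgx⟩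

theorem mem_fixingSubgroup_finset {s : Finset α} {g : G} :
    g ∈ fixingSubgroup G (s : Set α) ↔ ∀ z ∈ s, g • z = z := by
  simp [mem_fixingSubgroup_iff]

end Cfsg.Agent.PermGp
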