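import Cfsg.Agent.Lib.PermGp.CleanSmall
import Cfsg.Agent.Lib.PermGp.JordanCycle
import Cfsg.Agent.Lib.PermGp.SmallSupport
import Cfsg.Agent.Lib.PermGp.Burnside
import Cfsg.Agent.Lib.LinearGroups.PSL
import Cfsg.Agent.S0495
import Cfsg.Agent.S0678

/-!
# Groups without solvable normal subgroups inside the alternating group of degree eight
-/

set_option autoImplicit false
set_option linter.unusedSectionVars false

namespace Cfsg.Agent.PermGp

open Equiv MulAction
open scoped Pointwise

/-- A simple group of order 168 is `GL₃(2)`. -/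
theorem nonempty_equiv_GL32 {H : Type*} [Group H] [Finite H] [IsSimpleGroup H]
    (h : Nat.card H = 168) : Nonempty (H ≃* GL (Fin 3) (ZMod 2)) := by
  haveI : Fact (Nat.Prime 7) := ⟨by norm_num⟩
  let T : Matrix.SpecialLinearGroup (Fin 3) (ZMod 2) →* GL (Fin 3) (ZMod 2) :=
    Matrix.SpecialLinearGroup.toGL
  have hu : ∀ u : (ZMod 2)ˣ, u = 1 := by decide
  have hsurj : Function.Surjective T := by
    intro g
    have hd : Matrix.det (g : Matrix (Fin 3) (Fin 3) (ZMod 2)) = 1 := by
      rw [← Matrix.GeneralLinearGroup.val_det_apply, hu (Matrix.GeneralLinearGroup.det g), Units.val_one]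
    exact ⟨⟨_, hd⟩, Units.ext rfl⟩
  have hinj : Function.Injective T := fun a b hab => Subtype.ext (congrArg Units.val hab)
  let e := MulEquiv.ofBijective T ⟨hinj, hsurj⟩
  have hc : Subgroup.center (Matrix.SpecialLinearGroup (Fin 3) (ZMod 2)) = ⊥ := by
    refine eq_bot_iff.2 fun A hA => ?_
    obtain ⟨r, hr, hrA⟩ := Matrix.SpecialLinearGroup.mem_center_iff.1 hA
    have hr1 : r = 1 := by
      clear hrA
      revert hr
      rw [Fintype.card_fin]
      revert r
      decide
    rw [Subgroup.mem_bot]
    refine Subtype.ext ?_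
    rw [← hrA, hr1, map_one]
    rfl
  haveI : IsSimpleGroup (Matrix.ProjectiveSpecialLinearGroup (Fin 3) (ZMod 2)) :=
    LinGrp.isSimpleGroup_PSL (by simp)
  let q : Matrix.ProjectiveSpecialLinearGroup (Fin 3) (ZMod 2) ≃* GL (Fin 3) (ZMod 2) :=
    ((QuotientGroup.quotientMulEquivOfEq hc).trans QuotientGroup.quotientBot).trans e
  haveI : IsSimpleGroup (GL (Fin 3) (ZMod 2)) := q.symm.isSimpleGroup
  have hG : Nat.card (GL (Fin 3) (ZMod 2)) = 168 := by
    rw [Matrix.card_GL_field, Fin.prod_univ_three]
    simp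
  obtain ⟨e1⟩ := Cfsg.Agent.S0495.result h (F := ZMod 7) (ZMod.card 7)
  obtain ⟨e2⟩ := Cfsg.Agent.S0495.result hG (F := ZMod 7) (ZMod.card 7)
  exact ⟨e1.trans e2.symm⟩

/-- An element of prime order fixes every point of an invariant set with fewer points. -/
theorem smul_eq_of_small_set {G X : Type*} [Group G] [MulAction G X] {h : G} {p : ℕ}
    (hp : p.Prime) (ho : orderOf h = p) {S : Set X} (hS : S.Finite) (hlt : S.ncard < p)
    {c : X} (hc : c ∈ S) (hinv : ∀ s ∈ S, h • s ∈ S) : h • c = c := by
  classical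
  have hmem : ∀ i : ℕ, h ^ i • c ∈ S := by
    intro i
    induction i with
    | zero => simpa using hc
    | succ i ih => rw [pow_succ', mul_smul]; exact hinv _ ih
  obtain ⟨i, hi, j, hj, hne, hij⟩ := Finset.exists_ne_map_eq_of_card_lt_of_maps_to
    (s := Finset.range p) (t := hS.toFinset) (f := fun i => h ^ i • c)
    (by rw [Finset.card_range, ← Set.ncard_eq_toFinset_card S hS]; exact hlt)
    (fun i _ => hS.mem_toFinset.2 (hmem i))
  rw [Finset.mem_range] at hi hj
  wlog hlt' : i < j generalizing i j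
  · exact this j hj i hi hne.symm hij.symm (by omega)
  have hd : h ^ (j - i) • c = c := by
    have h1 : h ^ i • h ^ (j - i) • c = h ^ i • c := by
      rw [← mul_smul, ← pow_add, Nat.add_sub_cancel' hlt'.le]
      exact hij.symm
    exact MulAction.injective _ h1
  have hcop : (j - i).Coprime (orderOf h) := by
    rw [ho]
    exact ((hp.coprime_iff_not_dvd).2 fun hdd => by
      have := Nat.le_of_dvd (by omega) hdd
      omega).symm
  obtain ⟨m, hm⟩ := exists_pow_eq_self_of_coprime hcop
  have hst : h ∈ stabilizer G c := by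
    rw [← hm]
    exact Subgroup.pow_mem _ (mem_stabilizer_iff.2 hd) m
  exact mem_stabilizer_iff.1 hst

variable {α : Type*} [Fintype α] [DecidableEq α]

/-- A transitive group of degree eight whose order has a prime divisor at least five is primitive. -/
theorem preprimitive_of_prime_dvd (h8 : Fintype.card α = 8) {A : Subgroup (Perm α)}
    [IsPretransitive A α] {p : ℕ} (hp : p.Prime) (h5 : 5 ≤ p) (hd : p ∣ Nat.card A) :
    IsPreprimitive A α := by
  haveI : Fact p.Prime := ⟨hp⟩
  obtain ⟨g, hg⟩ := exists_prime_orderOf_dvd_card' p hd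
  refine ⟨fun {B} hB => ?_⟩
  rcases B.eq_empty_or_nonempty with rfl | hBne
  · exact Or.inl Set.subsingleton_empty
  have hk := hB.ncard_block_mul_ncard_orbit_eq hBne
  rw [Nat.card_eq_fintype_card, h8] at hk
  by_contra hnt
  simp only [IsTrivialBlock, not_or] at hnt
  have hk2 : 2 ≤ B.ncard := by
    by_contra hlt
    exact hnt.1 (Set.ncard_le_one_iff_subsingleton.1 (by omega))
  have hk8 : B.ncard < 8 := by
    have h1 : B.ncard < Nat.card α := Set.ncard_lt_card hnt.2
    rwa [Nat.card_eq_fintype_card, h8] at h1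
  have hm2 : 2 ≤ (orbit A B).ncard := by
    rcases Nat.lt_or_ge (orbit A B).ncard 2 with hl | hl
    · interval_cases (orbit A B).ncard <;> omega
    · exact hl
  have hm4 : (orbit A B).ncard < 5 := by
    have := Nat.mul_le_mul_right (orbit A B).ncard hk2
    omega
  have hk4 : B.ncard < 5 := by
    have := Nat.mul_le_mul_left B.ncard hm2
    omega
  obtain ⟨b, hb⟩ := hBne
  have hg1 : g = 1 := by
    refine Subtype.ext (Equiv.ext fun x => ?_)
    obtain ⟨k, hkx⟩ := exists_smul_eq A b x
    have hC : g • (k • B) = k • B :=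
      smul_eq_of_small_set (X := Set α) hp hg (Set.toFinite (orbit A B)) (by omega) (mem_orbit _ _)
        fun s hs => by
          obtain ⟨l, rfl⟩ := hs
          rw [← mul_smul]
          exact mem_orbit _ _
    have hx : x ∈ k • B := hkx ▸ Set.smul_mem_smul_set hb
    have hcard : (k • B).ncard = B.ncard := Set.ncard_image_of_injective _ (MulAction.injective k)
    exact smul_eq_of_small_set hp hg (Set.toFinite (k • B)) (by omega) hx
      fun s hs => hC ▸ Set.smul_mem_smul_set hs
  rw [hg1, orderOf_one] at hg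
  exact hp.one_lt.ne hg

theorem isCycle_of_orderOf_prime {g : Perm α} {p : ℕ} (hp : p.Prime) (hg : orderOf g = p)
    (hc : Fintype.card α < 2 * p) : g.IsCycle ∧ g.support.card = p := by
  have h : g.IsCycle := Perm.isCycle_of_prime_order' (hg ▸ hp) (hg ▸ hc)
  exact ⟨h, by rw [← h.orderOf, hg]⟩

/-- `x ↦ b - x` is an odd permutation of seven points. -/
theorem sign_sub_left_seven : ∀ b : ZMod 7, Perm.sign (Equiv.subLeft b) = -1 := by
  decide +kernel

theorem add_self_seven : ∀ b : ZMod 7, b + b = 0 → b = 0 := by decide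

/-- A solvable transitive group of even permutations of seven points has order 7 or 21. -/
theorem card_solvable_seven (h7 : Fintype.card α = 7) (A : Subgroup (Perm α))
    [IsPretransitive A α] (hA : Group.IsSolvable A) (hle : A ≤ alternatingGroup α) :
    Nat.card A = 7 ∨ Nat.card A = 21 := by
  classical
  haveI : Fact (Nat.Prime 7) := ⟨by norm_num⟩
  haveI := hA
  haveI : IsPreprimitive A α :=
    IsPreprimitive.of_prime_card (by rw [Nat.card_eq_fintype_card, h7]; norm_num)
  obtain ⟨n, hn⟩ := hA.solvable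
  have hex : ∃ k, derivedSeries A k = ⊥ := ⟨n, hn⟩
  have hnt : Nontrivial A := Finite.one_lt_card_iff_nontrivial.1
    (by
      have := Nat.le_of_dvd Nat.card_pos (prime_dvd_card h7 A)
      omega)
  obtain ⟨k, hk, hk1⟩ : ∃ k, derivedSeries A k ≠ ⊥ ∧ derivedSeries A (k + 1) = ⊥ := by
    rcases Nat.eq_zero_or_pos (Nat.find hex) with h | h
    · exact absurd (h ▸ Nat.find_spec hex) (by rw [derivedSeries_zero]; exact top_ne_bot)
    · refine ⟨Nat.find hex - 1, Nat.find_min hex (by omega), ?_⟩
      rw [Nat.sub_add_cancel h]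
      exact Nat.find_spec hex
  set N := derivedSeries A k
  haveI hNn : N.Normal := derivedSeries_normal A k
  haveI := normal_transitive (α := α) N hk
  obtain ⟨a⟩ : Nonempty α := Fintype.card_pos_iff.1 (by omega)
  have hcomm : ∀ u ∈ N, ∀ v ∈ N, u * v = v * u := fun u hu v hv => by
    open scoped commutatorElement in
    have h : ⁅u, v⁆ ∈ derivedSeries A (k + 1) := by
      rw [derivedSeries_succ]; exact Subgroup.commutator_mem_commutator hu hv
    rw [hk1, Subgroup.mem_bot] at h
    exact commutatorElement_eq_one_iff_mul_comm.1 h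
  have hN7 : Nat.card N = 7 := by
    rw [← card_mul_card_stabilizer (G := N) a, Nat.card_eq_fintype_card (α := α), h7]
    have : stabilizer N a = ⊥ := by
      refine eq_bot_iff.2 fun u hu => ?_
      rw [Subgroup.mem_bot]
      refine Subtype.ext ?_
      exact stabilizer_eq_bot_of_commute (α := α) N (fun v hv => hcomm u u.2 v hv)
        (mem_stabilizer_iff.1 hu)
    rw [this, Subgroup.card_bot]
  let P : Sylow 7 A := Sylow.ofCard N (by rw [factorization_card h7 A, hN7, pow_one])
  have hPN : (P : Subgroup A) = N := rfl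
  obtain ⟨d, hd, hcard⟩ := card_normalizer h7 A P
  have htop : Subgroup.normalizer ((P : Subgroup A) : Set A) = ⊤ := by
    rw [hPN]; exact Subgroup.normalizer_eq_top_iff.2 hNn
  rw [htop, Subgroup.card_top] at hcard
  have hodd : ¬ 2 ∣ d := by
    intro h2
    haveI : Fact (Nat.Prime 2) := ⟨Nat.prime_two⟩
    obtain ⟨t, ht⟩ := exists_prime_orderOf_dvd_card' (G := A) 2 (hcard ▸ h2.mul_left 7)
    obtain ⟨x, e, hP, hx⟩ := exists_frame h7 A P
    obtain ⟨c, b, hc0, hcb⟩ := normalizer_affine h7 A hP hx (g := t) (htop ▸ Subgroup.mem_top t)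
    have ht2 : ∀ i, c * (c * i + b) + b = i := by
      intro i
      apply e.injective
      rw [← hcb, ← hcb, ← mul_smul, ← pow_two, ← ht, pow_orderOf_eq_one, one_smul]
    have hcases : c = 1 ∨ c = -1 := by
      have h0 := ht2 0
      have h1 := ht2 1
      have : (c - 1) * (c + 1) = 0 := by linear_combination h1 - h0
      rcases mul_eq_zero.1 this with h | h
      · exact Or.inl (sub_eq_zero.1 h)
      · exact Or.inr (eq_neg_of_add_eq_zero_left h)
    rcases hcases with rfl | rfl
    · have hb : b = 0 := by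
        have h0 : b + b = 0 := by linear_combination ht2 0
        exact add_self_seven b h0
      have : t = 1 := perm_ext fun y => by
        obtain ⟨i, rfl⟩ := e.surjective y
        rw [one_smul, hcb, hb, one_mul, add_zero]
      rw [this, orderOf_one] at ht
      exact absurd ht (by norm_num)
    · have hsgn := hle t.2
      rw [Perm.mem_alternatingGroup] at hsgn
      have hteq : (t : Perm α) = e.permCongr
          (Equiv.subLeft b) := by
        refine Equiv.ext fun y => ?_
        obtain ⟨i, rfl⟩ := e.surjective y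
        rw [Equiv.permCongr_apply, Equiv.symm_apply_apply, Equiv.subLeft_apply]
        show t • e i = e (b - i)
        rw [hcb]
        congr 1
        ring
      rw [hteq, Perm.sign_permCongr, sign_sub_left_seven] at hsgn
      exact absurd hsgn (by decide)
  have hd' : d ∣ 6 := hd
  have := Nat.le_of_dvd (by norm_num) hd'
  interval_cases d <;> omega

/-- The core of the degree-eight case: the point stabilisers cannot have order 168. -/
theorem eight_no_1344 (h8 : Fintype.card α = 8) {A : Subgroup (Perm α)} [IsPreprimitive A α]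
    (hA : Clean A) (hcard : Nat.card A = 1344) (hsmall : ∀ g ∈ A, g ≠ 1 → 3 < g.support.card)
    (a : α) [hB : IsSimpleGroup (stabilizer A a)]
    (h2t : ∀ y z y' z' : α, y ≠ a → z ≠ a → y' ≠ a → z' ≠ a → y ≠ z → y' ≠ z' →
      ∃ g : A, g • a = a ∧ g • y = y' ∧ g • z = z') : False := by
  classical
  -- three-transitivity
  have h3 : IsMultiplyPretransitive A α 3 := by
    refine ⟨fun u v => ?_⟩
    obtain ⟨g, hg⟩ := exists_smul_eq A (u 0) a
    obtain ⟨g', hg'⟩ := exists_smul_eq A (v 0) a
    obtain ⟨h, h0, h1, h2⟩ := h2t (g • u 1) (g • u 2) (g' • v 1) (g' • v 2)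
      (fun e => absurd (u.injective (MulAction.injective g (e.trans hg.symm))) (by decide))
      (fun e => absurd (u.injective (MulAction.injective g (e.trans hg.symm))) (by decide))
      (fun e => absurd (v.injective (MulAction.injective g' (e.trans hg'.symm))) (by decide))
      (fun e => absurd (v.injective (MulAction.injective g' (e.trans hg'.symm))) (by decide))
      (fun e => absurd (u.injective (MulAction.injective g e)) (by decide))
      (fun e => absurd (v.injective (MulAction.injective g' e)) (by decide))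
    refine ⟨g'⁻¹ * h * g, ?_⟩
    ext i
    rw [Function.Embedding.smul_apply, mul_smul, mul_smul, inv_smul_eq_iff]
    fin_cases i
    · exact (congrArg (h • ·) hg).trans (h0.trans hg'.symm)
    · exact h1
    · exact h2
  have hT : ∀ u : Fin 3 ↪ α, Nat.card (stabilizer A u) = 4 := fun u => by
    have h := @card_mul_card_stabilizer A _ (Fin 3 ↪ α) _ h3 u
    rw [Nat.card_eq_fintype_card (α := Fin 3 ↪ α), Fintype.card_embedding_eq, h8, Fintype.card_fin,
      hcard, show Nat.descFactorial 8 3 = 336 from rfl] at h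
    omega
  -- the quads
  let F : (Fin 3 ↪ α) → Set α := fun u => fixedPoints (stabilizer A u) α
  have hF3 : ∀ u i, u i ∈ F u := fun u i t => by
    have h := mem_stabilizer_iff.1 t.2
    exact DFunLike.congr_fun h i
  have hF4 : ∀ u, (F u).ncard = 4 := fun u => by
    haveI : Fact (Nat.Prime 2) := ⟨Nat.prime_two⟩
    have hp : IsPGroup 2 (stabilizer A u) := IsPGroup.of_card (n := 2) (by rw [hT u]; norm_num)
    have hm : 8 % 2 = (F u).ncard % 2 := by
      have h := hp.card_modEq_card_fixedPoints α
      rw [Nat.card_eq_fintype_card (α := α), h8, Nat.card_coe_set_eq] at h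
      exact h
    have hge : 3 ≤ (F u).ncard := by
      have h := Set.ncard_le_ncard (Set.range_subset_iff.2 (hF3 u)) (Set.toFinite (F u))
      rwa [Set.ncard_range_of_injective u.injective, Nat.card_fin] at h
    by_contra hne
    haveI : Nontrivial (stabilizer A u) :=
      Finite.one_lt_card_iff_nontrivial.1 (by rw [hT u]; norm_num)
    obtain ⟨t, ht⟩ := exists_ne (1 : stabilizer A u)
    have ht1 : ((t : A) : Perm α) ≠ 1 := fun h => ht (Subtype.ext (Subtype.ext h))
    have hs := hsmall _ (t : A).2 ht1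
    have hsub : (((t : A) : Perm α).support : Set α) ⊆ (F u)ᶜ := fun y hy hyF =>
      Perm.mem_support.1 hy (hyF t)
    have h := Set.ncard_le_ncard hsub (Set.toFinite _)
    rw [Set.ncard_coe_finset, Set.ncard_compl, Nat.card_eq_fintype_card, h8] at h
    omega
  have hsame : ∀ u v, (∀ i, v i ∈ F u) → F v = F u := fun u v h => by
    have hle : stabilizer A u ≤ stabilizer A v := fun t ht => by
      rw [mem_stabilizer_iff]
      ext i
      exact h i ⟨t, ht⟩
    have heq : stabilizer A u = stabilizer A v :=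
      Subgroup.eq_of_le_of_card_ge hle (by rw [hT, hT])
    show fixedPoints (stabilizer A v) α = fixedPoints (stabilizer A u) α
    ext y
    exact ⟨fun hy t => hy ⟨t, hle t.2⟩, fun hy t => hy ⟨t, heq.ge t.2⟩⟩
  have hmap : ∀ (g : A) u, F (g • u) = g • F u := fun g u => by
    have key : ∀ (g : A) u, g • F u ⊆ F (g • u) := by
      rintro g u _ ⟨y, hy, rfl⟩ t
      have ht : g⁻¹ * t * g ∈ stabilizer A u := by
        have h2 : (t : A) • g • u = g • u := t.2
        rw [mem_stabilizer_iff]
        ext i
        show (g⁻¹ * t * g : A) • u i = u i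
        have h3 : (t : A) • g • u i = g • u i := DFunLike.congr_fun h2 i
        rw [mul_smul, mul_smul, h3, inv_smul_smul]
      have h := hy ⟨_, ht⟩
      change (g⁻¹ * t * g : A) • y = y at h
      rw [mul_smul, mul_smul, inv_smul_eq_iff] at h
      exact h
    refine (key g u).antisymm' fun y hy => ⟨g⁻¹ • y, ?_, smul_inv_smul g y⟩
    have h := key g⁻¹ (g • u) (Set.smul_mem_smul_set hy)
    rwa [show g⁻¹ • g • u = u from inv_smul_smul g u] at h
  obtain ⟨u⟩ : Nonempty (Fin 3 ↪ α) :=
    Function.Embedding.nonempty_iff_card_le.2 (by rw [Fintype.card_fin]; omega)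
  set Q := F u with hQ
  -- the stabiliser of a quad
  set S := stabilizer A Q with hS
  have hSQ : ∀ g : A, (∀ i, g • u i ∈ Q) → g ∈ S := fun g hg => by
    rw [hS, mem_stabilizer_iff, hQ, ← hmap, hsame u (g • u) fun i => hg i]
  have hScard : 96 ≤ Nat.card S := by
    have hst : 4 ≤ Nat.card (stabilizer S u) := by
      rw [← hT u]
      refine Nat.card_le_card_of_injective
        (fun t => (⟨⟨t, hSQ t fun i => ?_⟩, ?_⟩ : stabilizer S u)) ?_
      · have h : (t : A) • u i = u i := DFunLike.congr_fun (mem_stabilizer_iff.1 t.2) i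
        rw [h]
        exact hF3 u i
      · exact mem_stabilizer_iff.2 (mem_stabilizer_iff.1 t.2 : (t : A) • u = u)
      · intro s t hst'
        exact Subtype.ext (congrArg (fun z : stabilizer S u => ((z : S) : A)) hst')
    have horb : 24 ≤ (orbit S u).ncard := by
      have h24 : Nat.card (Fin 3 ↪ Q) = 24 := by
        haveI : Fintype Q := Fintype.ofFinite Q
        rw [Nat.card_eq_fintype_card, Fintype.card_embedding_eq, Fintype.card_fin,
          ← Nat.card_eq_fintype_card, Nat.card_coe_set_eq, hF4]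
        rfl
      rw [← h24, ← Nat.card_coe_set_eq]
      refine Nat.card_le_card_of_injective
        (fun v => (⟨v.trans (Function.Embedding.subtype _), ?_⟩ : orbit S u)) ?_
      · obtain ⟨g, hg⟩ := @exists_smul_eq A (Fin 3 ↪ α) _ h3 u
          (v.trans (Function.Embedding.subtype _))
        exact ⟨⟨g, hSQ g fun i => by
          rw [← Function.Embedding.smul_apply, hg]; exact (v i).2⟩, hg⟩
      · intro v w hvw
        ext i
        exact DFunLike.congr_fun (congrArg Subtype.val hvw) i
    rw [← Subgroup.index_mul_card (stabilizer S u), MulAction.index_stabilizer]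
    calc 96 = 24 * 4 := rfl
      _ ≤ _ := Nat.mul_le_mul horb hst
  -- the complement is a quad
  have hM4 : (Qᶜ).ncard = 4 := by
    rw [Set.ncard_compl, hF4, Nat.card_eq_fintype_card, h8]
  obtain ⟨w⟩ : Nonempty (Fin 3 ↪ (Qᶜ : Set α)) := by
    haveI : Fintype (Qᶜ : Set α) := Fintype.ofFinite _
    refine Function.Embedding.nonempty_iff_card_le.2 ?_
    rw [Fintype.card_fin, ← Nat.card_eq_fintype_card, Nat.card_coe_set_eq, hM4]
    norm_num
  set v : Fin 3 ↪ α := w.trans (Function.Embedding.subtype _) with hv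
  have hSc : ∀ g : S, ∀ y, y ∈ Qᶜ → (g : A) • y ∈ Qᶜ := fun g y hy h => hy (by
    have h' := (mem_stabilizer_iff.1 g.2 : (g : A) • Q = Q)
    rw [← h'] at h
    exact Set.smul_mem_smul_set_iff.1 h)
  have hFv : F v = Qᶜ := by
    let π : S →* Perm (Qᶜ : Set α) :=
      { toFun := fun g => ((g : A) : Perm α).subtypePerm fun y => ⟨fun hy h => by
            have h' := (mem_stabilizer_iff.1 g.2 : (g : A) • Q = Q)
            apply hy
            rw [← h']
            exact Set.smul_mem_smul_set h, fun hy => hSc g y hy⟩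
        map_one' := Equiv.ext fun y => Subtype.ext rfl
        map_mul' := fun g h => Equiv.ext fun y => Subtype.ext rfl }
    have hker : 4 ≤ Nat.card π.ker := by
      have hr : Nat.card π.range ≤ 24 := by
        refine (Nat.card_le_card_of_injective Subtype.val Subtype.val_injective).trans ?_
        rw [Nat.card_perm, Nat.card_coe_set_eq, hM4]
        rfl
      have h := π.ker.card_mul_index
      rw [Subgroup.index_ker] at h
      by_contra hlt
      have h' := Nat.mul_le_mul (show Nat.card π.ker ≤ 3 by omega) hr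
      omega
    have hin : (π.ker.map S.subtype) = stabilizer A v := by
      refine Subgroup.eq_of_le_of_card_ge ?_ ?_
      · rintro _ ⟨g, hg, rfl⟩
        rw [mem_stabilizer_iff]
        ext i
        exact congrArg Subtype.val (DFunLike.congr_fun (MonoidHom.mem_ker.1 hg) (w i))
      · rw [hT, Subgroup.card_map_of_injective S.subtype_injective]
        exact hker
    refine (Set.eq_of_subset_of_ncard_le (fun y hy t => ?_) (by rw [hF4, hM4]) (Set.toFinite _)).symm
    have ht : (t : A) ∈ π.ker.map S.subtype := hin.ge t.2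
    obtain ⟨g, hg, hgt⟩ := ht
    show (t : A) • y = y
    rw [← hgt]
    exact congrArg Subtype.val (DFunLike.congr_fun (MonoidHom.mem_ker.1 hg) ⟨y, hy⟩)
  -- the stabiliser of the partition
  obtain ⟨g, hg⟩ := @exists_smul_eq A (Fin 3 ↪ α) _ h3 u v
  have hgQ : g • Q = Qᶜ := by rw [hQ, ← hmap, hg, hFv]
  have hgM : g • Qᶜ = Q := by rw [Set.smul_set_compl, hgQ, compl_compl]
  set P := stabilizer A ({Q, Qᶜ} : Set (Set α)) with hP
  have hSP : S ≤ P := fun s hs => by
    have h := mem_stabilizer_iff.1 hs
    rw [hP, mem_stabilizer_iff, Set.smul_set_insert, Set.smul_set_singleton, Set.smul_set_compl, h]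
  have hgP : g ∈ P := by
    rw [hP, mem_stabilizer_iff, Set.smul_set_insert, Set.smul_set_singleton, hgQ, hgM]
    exact Set.pair_comm _ _
  have hgS : g ∉ S := fun h => by
    have h' : Q = Qᶜ := (mem_stabilizer_iff.1 h).symm.trans hgQ
    have hu0 : u 0 ∈ Q := hF3 u 0
    exact (h' ▸ hu0 : u 0 ∈ Qᶜ) hu0
  have hP192 : 192 ≤ Nat.card P := by
    obtain ⟨d, hd⟩ := Subgroup.card_dvd_of_le hSP
    rcases d with _ | _ | d
    · have := Nat.card_pos (α := P)
      omega
    · exact absurd ((Subgroup.eq_of_le_of_card_ge hSP (by omega)).symm ▸ hgP) hgS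
    · rw [hd, Nat.mul_add, Nat.mul_add]
      omega
  have hPtop : P ≠ ⊤ := by
    intro htop
    have hne0 : v 0 ≠ u 0 ∧ v 0 ≠ u 1 :=
      ⟨fun e => (e ▸ (w 0).2 : u 0 ∈ Qᶜ) (hF3 u 0), fun e => (e ▸ (w 0).2 : u 1 ∈ Qᶜ) (hF3 u 1)⟩
    let z : Fin 3 ↪ α := ⟨![u 0, u 1, v 0], by
      intro i j hij
      have h01 : u 0 ≠ u 1 := fun e => absurd (u.injective e) (by decide)
      fin_cases i <;> fin_cases j <;>
        first
          | rfl
          | (exfalso; revert hij; simp [h01, h01.symm, hne0.1, hne0.1.symm, hne0.2, hne0.2.symm])⟩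
    obtain ⟨h, hh⟩ := @exists_smul_eq A (Fin 3 ↪ α) _ h3 u z
    have hmem : h • Q ∈ ({Q, Qᶜ} : Set (Set α)) := by
      have h1 : h ∈ P := htop ▸ Subgroup.mem_top h
      rw [← mem_stabilizer_iff.1 h1]
      exact Set.smul_mem_smul_set (Set.mem_insert _ _)
    rw [hQ, ← hmap, hh, ← hQ] at hmem
    have h0 : z 0 ∈ F z := hF3 z 0
    have h2 : z 2 ∈ F z := hF3 z 2
    rcases hmem with e | e
    · rw [e] at h2
      exact (w 0).2 h2
    · rw [Set.mem_singleton_iff] at e
      rw [e] at h0
      exact h0 (hF3 u 0)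
  -- the action on the cosets
  have hidx : P.index ≤ 7 := by
    have h := P.card_mul_index
    rw [hcard] at h
    have := Nat.mul_le_mul_right P.index hP192
    omega
  have hcore : P.normalCore = ⊥ := by
    by_contra hne
    haveI := normal_transitive (α := α) P.normalCore hne
    haveI : (P.normalCore.subgroupOf (stabilizer A a)).Normal := inferInstance
    rcases hB.eq_bot_or_eq_top_of_normal (P.normalCore.subgroupOf (stabilizer A a)) inferInstance
      with h | h
    · refine hne (hA _ inferInstance (solvable_of_dvd_576 ?_))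
      have hN := card_mul_card_stabilizer (G := P.normalCore) a
      have hbot : stabilizer P.normalCore a = ⊥ := by
        refine eq_bot_iff.2 fun n hn => ?_
        have h' : (⟨(n : A), mem_stabilizer_iff.2 (mem_stabilizer_iff.1 hn)⟩ : stabilizer A a) ∈
            P.normalCore.subgroupOf (stabilizer A a) := n.2
        rw [h, Subgroup.mem_bot] at h'
        rw [Subgroup.mem_bot]
        exact Subtype.ext (congrArg (fun z : stabilizer A a => (z : A)) h')
      rw [hbot, Subgroup.card_bot, mul_one, Nat.card_eq_fintype_card (α := α), h8] at hN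
      rw [← hN]
      norm_num
    · refine hPtop (eq_top_iff.2 fun x _ => P.normalCore_le ?_)
      obtain ⟨n, hn⟩ := exists_smul_eq P.normalCore a (x • a)
      have h' : (n : A)⁻¹ * x ∈ stabilizer A a := by
        rw [mem_stabilizer_iff, mul_smul, inv_smul_eq_iff]
        exact hn.symm
      have hmem : (⟨_, h'⟩ : stabilizer A a) ∈ P.normalCore.subgroupOf (stabilizer A a) :=
        h ▸ Subgroup.mem_top _
      rw [Subgroup.mem_subgroupOf] at hmem
      simpa using mul_mem n.2 hmem
  have hinj : Function.Injective (MulAction.toPermHom A (A ⧸ P)) :=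
    (MonoidHom.ker_eq_bot_iff _).1 (by rw [← Subgroup.normalCore_eq_ker]; exact hcore)
  have hdvd := Subgroup.card_dvd_of_injective _ hinj
  rw [hcard, Nat.card_perm, ← Subgroup.index_eq_card] at hdvd
  exact absurd (hdvd.trans (Nat.factorial_dvd_factorial hidx)) (by decide)

/-- Degree eight. -/
theorem deg_eight (h8 : Fintype.card α = 8) {A : Subgroup (Perm α)} [IsPretransitive A α]
    (hA : Clean A) (hns : ¬ Group.IsSolvable A) (hle : A ≤ alternatingGroup α) :
    alternatingGroup α ≤ A ∨ (IsSimpleGroup A ∧ Nat.card A = 168) := by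
  classical
  by_cases halt : alternatingGroup α ≤ A
  · exact Or.inl halt
  right
  have hd : Nat.card A ∣ 20160 := by
    refine (Subgroup.card_dvd_of_le hle).trans (dvd_of_eq ?_)
    have := nat_card_alt (by norm_num) h8
    rw [show Nat.factorial 8 = 40320 from rfl] at this
    omega
  have h5 : ¬ 5 ∣ Nat.card A := by
    intro h5
    haveI := preprimitive_of_prime_dvd h8 (A := A) (by norm_num : Nat.Prime 5) le_rfl h5
    haveI : Fact (Nat.Prime 5) := ⟨by norm_num⟩
    obtain ⟨g, hg⟩ := exists_prime_orderOf_dvd_card' 5 h5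
    obtain ⟨hc, hs⟩ := isCycle_of_orderOf_prime (g := (g : Perm α)) (by norm_num : Nat.Prime 5)
      (by rw [Subgroup.orderOf_coe, hg]) (by omega)
    exact halt (alternating_le_of_prime_cycle ‹IsPreprimitive A α› (by norm_num : Nat.Prime 5)
      (by omega) hc hs g.2)
  have hd' : Nat.card A ∣ 4032 := by
    refine Nat.Coprime.dvd_of_dvd_mul_left ?_ (show Nat.card A ∣ 5 * 4032 from hd)
    exact ((Nat.Prime.coprime_iff_not_dvd (by norm_num)).2 h5).symm
  have h7 : 7 ∣ Nat.card A := by
    by_contra h7
    exact hns (solvable_of_dvd_576 (Nat.Coprime.dvd_of_dvd_mul_left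
      ((Nat.Prime.coprime_iff_not_dvd (by norm_num)).2 h7).symm
      (show Nat.card A ∣ 7 * (2 ^ 6 * 3 ^ 2) from hd')))
  haveI hprim := preprimitive_of_prime_dvd h8 (A := A) (by norm_num : Nat.Prime 7) (by norm_num) h7
  have hsmall : ∀ g ∈ A, g ≠ 1 → 3 < g.support.card := fun g hg hg1 =>
    lt_of_not_ge fun h => halt (alternating_le_of_small_support hprim hg hg1 h)
  haveI : Fact (Nat.Prime 7) := ⟨by norm_num⟩
  obtain ⟨g, hg⟩ := exists_prime_orderOf_dvd_card' 7 h7
  obtain ⟨hgc, hgs⟩ := isCycle_of_orderOf_prime (g := (g : Perm α)) (by norm_num : Nat.Prime 7)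
    (by rw [Subgroup.orderOf_coe, hg]) (by omega)
  obtain ⟨a, ha⟩ : ∃ a, a ∉ (g : Perm α).support := by
    by_contra! h
    have := Finset.eq_univ_of_forall h
    rw [this, Finset.card_univ] at hgs
    omega
  have hne : ∀ y, y ≠ a → y ∈ (g : Perm α).support := by
    intro y hy
    by_contra hy'
    have h := Finset.card_le_card (show (g : Perm α).support ⊆ ({a, y} : Finset α)ᶜ from fun z hz => by
      simp only [Finset.mem_compl, Finset.mem_insert, Finset.mem_singleton]
      rintro (rfl | rfl) <;> contradiction)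
    rw [hgs, Finset.card_compl, Finset.card_pair (Ne.symm hy), h8] at h
    omega
  have hBfix : ∀ (b : stabilizer A a) (y : α), y ≠ a ↔ ((b : A) : Perm α) y ≠ a := fun b y => by
    have hb : ((b : A) : Perm α) a = a := b.2
    exact not_congr ⟨fun h => by rw [h, hb], fun h => ((b : A) : Perm α).injective (h.trans hb.symm)⟩
  let φ : stabilizer A a →* Perm {y : α // y ≠ a} :=
    { toFun := fun b => ((b : A) : Perm α).subtypePerm fun y => (hBfix b y).symm
      map_one' := Equiv.ext fun y => Subtype.ext rfl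
      map_mul' := fun b c => Equiv.ext fun y => Subtype.ext rfl }
  have hφ : Function.Injective φ := fun b c hbc => by
    refine Subtype.ext (Subtype.ext (Equiv.ext fun y => ?_))
    rcases eq_or_ne y a with rfl | hy
    · exact (b.2 : ((b : A) : Perm α) y = y).trans (c.2 : ((c : A) : Perm α) y = y).symm
    · exact congrArg Subtype.val (DFunLike.congr_fun hbc ⟨y, hy⟩)
  have hc7 : Fintype.card {y : α // y ≠ a} = 7 := by simp [Fintype.card_subtype_compl, h8]
  have hgB : g ∈ stabilizer A a := mem_stabilizer_iff.2 (Perm.notMem_support.1 ha)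
  haveI : IsPretransitive φ.range {y : α // y ≠ a} := ⟨fun y z => by
    obtain ⟨i, hi⟩ := hgc.exists_zpow_eq (Perm.mem_support.1 (hne y y.2)) (Perm.mem_support.1 (hne z z.2))
    refine ⟨⟨_, ⟨(⟨g, hgB⟩ : stabilizer A a) ^ i, rfl⟩⟩, Subtype.ext ?_⟩
    show ((((⟨g, hgB⟩ : stabilizer A a) ^ i : stabilizer A a) : A) : Perm α) (y : α) = z
    rw [Subgroup.coe_zpow, Subgroup.coe_zpow]
    exact hi⟩
  have hle' : φ.range ≤ alternatingGroup _ := by
    rintro _ ⟨b, rfl⟩
    rw [Perm.mem_alternatingGroup]
    refine (Perm.sign_subtypePerm (p := fun y => y ≠ a) ((b : A) : Perm α) (fun y => (hBfix b y).symm) fun y hy h => hy ?_).trans (Perm.mem_alternatingGroup.1 (hle (b : A).2))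
    rw [h]
    exact b.2
  have hcB : Nat.card φ.range = Nat.card (stabilizer A a) :=
    (Nat.card_congr (MonoidHom.ofInjective hφ).toEquiv).symm
  have hcA : Nat.card A = 8 * Nat.card (stabilizer A a) := by
    rw [← card_mul_card_stabilizer (G := A) a, Nat.card_eq_fintype_card (α := α), h8]
  by_cases hsol : Group.IsSolvable φ.range
  · have h := card_solvable_seven hc7 φ.range hsol hle'
    rcases h with h | h
    · exact absurd (CT.isSolvable_of_card_two_primes Nat.prime_two (by norm_num : Nat.Prime 7) _ A 3 1 rfl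
        (by rw [hcA, ← hcB, h]; norm_num)) hns
    have h168 : Nat.card A = 168 := by rw [hcA, ← hcB, h]
    refine ⟨?_, h168⟩
    haveI : Nontrivial A := Finite.one_lt_card_iff_nontrivial.1 (by omega)
    refine ⟨fun N hN => ?_⟩
    by_contra hcon
    push Not at hcon
    haveI := normal_transitive (α := α) N hcon.1
    have h8N : 8 ∣ Nat.card N := ⟨_, by
      rw [← card_mul_card_stabilizer (G := N) a, Nat.card_eq_fintype_card (α := α), h8]⟩
    have hNd : Nat.card N ∣ 168 := h168 ▸ Subgroup.card_subgroup_dvd_card N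
    have hlt : Nat.card N ≠ 168 := fun e => hcon.2 (Subgroup.eq_top_of_card_eq N (by rw [e, h168]))
    have key : ∀ n ∈ Nat.divisors 168, 8 ∣ n → n ≠ 168 → n ∣ 576 ∨ n = 56 := by decide +kernel
    refine hcon.1 (hA N hN ?_)
    rcases key _ (Nat.mem_divisors.2 ⟨hNd, by norm_num⟩) h8N hlt with h | h
    · exact solvable_of_dvd_576 h
    · exact CT.isSolvable_of_card_two_primes Nat.prime_two (by norm_num : Nat.Prime 7) _ N 3 1 rfl
        (by rw [h]; norm_num)
  · exfalso
    have hnalt : ¬ alternatingGroup {y : α // y ≠ a} ≤ φ.range := fun h => h5 (by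
      have h1 : 2520 ∣ Nat.card φ.range := by
        refine (dvd_of_eq ?_).trans (Subgroup.card_dvd_of_le h)
        have := nat_card_alt (by norm_num) hc7
        rw [show Nat.factorial 7 = 5040 from rfl] at this
        omega
      rw [hcA, ← hcB]
      exact Dvd.dvd.mul_left ((show 5 ∣ 2520 by norm_num).trans h1) 8)
    obtain ⟨h168, hsimp⟩ := Cfsg.Agent.S0678.result hc7 φ.range hsol hnalt
    haveI : IsSimpleGroup (stabilizer A a) := by
      haveI := hsimp
      exact (MonoidHom.ofInjective hφ).isSimpleGroup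
    have h2 := two_transitive_of_not_solvable hc7 φ.range hsol
    refine eight_no_1344 h8 hA (by rw [hcA, ← hcB, h168]) hsmall a fun y z y' z' hy hz hy' hz' hyz hyz' => ?_
    obtain ⟨⟨_, b, rfl⟩, hb1, hb2⟩ := two_trans_exists h2
      (a := (⟨y, hy⟩ : {y : α // y ≠ a})) (b := ⟨z, hz⟩) (c := ⟨y', hy'⟩) (d := ⟨z', hz'⟩)
      (fun e => hyz (congrArg Subtype.val e)) (fun e => hyz' (congrArg Subtype.val e))
    exact ⟨b, b.2, congrArg Subtype.val hb1, congrArg Subtype.val hb2⟩

/-- A group of permutations all of whose orbits have at most four points is solvable. -/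
theorem solvable_of_orbits_small (K : Subgroup (Perm α)) (h : ∀ x : α, Nat.card (orbit K x) ≤ 4) :
    Group.IsSolvable K := by
  classical
  have hs : ∀ x : α, Group.IsSolvable (Perm (orbit K x)) := fun x => solvable_of_dvd_576 (by
    rw [Nat.card_perm]
    exact (Nat.factorial_dvd_factorial (h x)).trans (by decide))
  choose n hn using fun x : α => (hs x).solvable
  refine ⟨⟨Finset.univ.sup n, eq_bot_iff.2 fun k hk => ?_⟩⟩
  rw [Subgroup.mem_bot]
  refine Subtype.ext (Equiv.ext fun x => ?_)
  have h1 : k ∈ derivedSeries K (n x) :=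
    derivedSeries_antitone K (Finset.le_sup (Finset.mem_univ x)) hk
  have h2 := map_derivedSeries_le_derivedSeries (MulAction.toPermHom K (orbit K x)) (n x)
    (Subgroup.mem_map_of_mem _ h1)
  rw [hn x, Subgroup.mem_bot] at h2
  exact congrArg Subtype.val (DFunLike.congr_fun h2 ⟨x, mem_orbit_self x⟩)

/-- The groups in question. -/
def IsGL4TwoType (K : Type*) [Group K] : Prop :=
  (∃ n : ℕ, 5 ≤ n ∧ n ≤ 8 ∧ Nonempty (K ≃* alternatingGroup (Fin n))) ∨
    Nonempty (K ≃* Perm (Fin 5)) ∨ Nonempty (K ≃* Perm (Fin 6)) ∨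
      Nonempty (K ≃* GL (Fin 3) (ZMod 2))

theorem IsGL4TwoType.of_equiv {K L : Type*} [Group K] [Group L] (e : K ≃* L) (h : IsGL4TwoType L) :
    IsGL4TwoType K := by
  rcases h with ⟨n, h1, h2, ⟨f⟩⟩ | ⟨⟨f⟩⟩ | ⟨⟨f⟩⟩ | ⟨⟨f⟩⟩
  · exact Or.inl ⟨n, h1, h2, ⟨e.trans f⟩⟩
  · exact Or.inr (Or.inl ⟨e.trans f⟩)
  · exact Or.inr (Or.inr (Or.inl ⟨e.trans f⟩))
  · exact Or.inr (Or.inr (Or.inr ⟨e.trans f⟩))

theorem type_of_clean {K : Subgroup (Perm (Fin 8))} (hle : K ≤ alternatingGroup (Fin 8))
    (hK : Clean K) (hne : K ≠ ⊥) : IsGL4TwoType K := by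
  classical
  haveI : Nontrivial K := (Subgroup.nontrivial_iff_ne_bot K).2 hne
  have hns := hK.not_solvable
  obtain ⟨x, hx⟩ : ∃ x, 5 ≤ Nat.card (orbit K x) := by
    by_contra h
    push Not at h
    exact hns (solvable_of_orbits_small K fun x => by have := h x; omega)
  set O : Set (Fin 8) := orbit K x
  haveI : Fintype O := Fintype.ofFinite O
  let f := MulAction.toPermHom K O
  have hfix : ∀ k : K, k ∈ f.ker → ∀ y ∈ O, (k : Perm (Fin 8)) y = y := fun k hk y hy =>
    congrArg Subtype.val (DFunLike.congr_fun (MonoidHom.mem_ker.1 hk : f k = 1) (⟨y, hy⟩ : O))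
  have hpres : ∀ (k : K) (y : Fin 8), ((k : Perm (Fin 8)) y ∈ O ↔ y ∈ O) := fun k y =>
    ⟨fun ⟨l, hl⟩ => ⟨k⁻¹ * l, by
      change l • x = (k : Perm (Fin 8)) y at hl
      show (k⁻¹ * l) • x = y
      rw [mul_smul, hl]
      exact inv_smul_smul k y⟩, fun ⟨l, hl⟩ => ⟨k * l, by
      change l • x = y at hl
      show (k * l) • x = (k : Perm (Fin 8)) y
      rw [mul_smul, hl]
      rfl⟩⟩
  have hOc : (Oᶜ).ncard ≤ 3 := by
    rw [Set.ncard_compl, Nat.card_fin, ← Nat.card_coe_set_eq]
    omega
  have hker : f.ker = ⊥ := by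
    refine hK _ inferInstance ?_
    let ψ : f.ker →* Perm (Oᶜ : Set (Fin 8)) :=
      { toFun := fun k => ((k : K) : Perm (Fin 8)).subtypePerm fun y => not_congr (hpres k y)
        map_one' := Equiv.ext fun y => Subtype.ext rfl
        map_mul' := fun k l => Equiv.ext fun y => Subtype.ext rfl }
    have hψ : Function.Injective ψ := fun k l hkl => by
      refine Subtype.ext (Subtype.ext (Equiv.ext fun y => ?_))
      by_cases hy : y ∈ O
      · rw [hfix _ k.2 y hy, hfix _ l.2 y hy]
      · exact congrArg Subtype.val (DFunLike.congr_fun hkl ⟨y, hy⟩)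
    refine solvable_of_dvd_576 ((Subgroup.card_dvd_of_injective ψ hψ).trans ?_)
    rw [Nat.card_perm, Nat.card_coe_set_eq]
    exact (Nat.factorial_dvd_factorial hOc).trans (by decide)
  have hf : Function.Injective f := (MonoidHom.ker_eq_bot_iff f).1 hker
  let e : K ≃* f.range := MonoidHom.ofInjective hf
  refine IsGL4TwoType.of_equiv e ?_
  have hcl : Clean f.range := clean_of_equiv e hK
  have hns' : ¬ Group.IsSolvable f.range := fun h => hns (by
    haveI := h
    exact Group.isSolvable_of_isSolvable_injective (f := e.toMonoidHom) e.injective)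
  haveI : IsPretransitive f.range O := ⟨fun y z => by
    obtain ⟨k, hk⟩ := exists_smul_eq K y z
    exact ⟨⟨f k, k, rfl⟩, hk⟩⟩
  have hc : Fintype.card O = Nat.card O := Nat.card_eq_fintype_card.symm
  have h8 : Nat.card O ≤ 8 := (Nat.card_le_card_of_injective Subtype.val Subtype.val_injective).trans
    (Nat.card_fin 8).le
  have halt : ∀ m, 7 ≤ m → Fintype.card O = m → f.range ≤ alternatingGroup O := by
    intro m hm hOm
    rintro _ ⟨k, rfl⟩
    rw [Perm.mem_alternatingGroup]
    have hfk : f k = (k : Perm (Fin 8)).subtypePerm (hpres k) := Equiv.ext fun y => Subtype.ext rfl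
    rw [hfk]
    refine Eq.trans ?_ (Perm.mem_alternatingGroup.1 (hle k.2))
    convert Perm.sign_subtypePerm (k : Perm (Fin 8)) (hpres k) fun y hy => ?_
    by_contra hyO
    have hsub : ((k : Perm (Fin 8)) y) ∈ Oᶜ := fun h => hyO ((hpres k y).1 h)
    have h1 : (Oᶜ).ncard ≤ 1 := by
      rw [Set.ncard_compl, Nat.card_fin, ← Nat.card_coe_set_eq]
      omega
    exact hy ((Set.ncard_le_one_iff (Set.toFinite _)).1 h1 hsub hyO)
  rcases (show Nat.card O = 5 ∨ Nat.card O = 6 ∨ Nat.card O = 7 ∨ Nat.card O = 8 by omega) with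
    h | h | h | h
  · rcases deg_five (hc.trans h) hns' with h' | h'
    · exact Or.inl ⟨5, le_rfl, by norm_num, h'⟩
    · exact Or.inr (Or.inl h')
  · rcases deg_six (hc.trans h) hns' with h' | h' | h' | h'
    · exact Or.inl ⟨5, le_rfl, by norm_num, h'⟩
    · exact Or.inr (Or.inl h')
    · exact Or.inl ⟨6, by norm_num, by norm_num, h'⟩
    · exact Or.inr (Or.inr (Or.inl h'))
  · have hA := halt 7 le_rfl (hc.trans h)
    by_cases h' : alternatingGroup O ≤ f.range
    · exact Or.inl ⟨7, by norm_num, by norm_num,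
        ⟨(MulEquiv.subgroupCongr (le_antisymm hA h')).trans
          (Fintype.equivFinOfCardEq (hc.trans h)).altCongrHom⟩⟩
    · obtain ⟨h168, hs⟩ := Cfsg.Agent.S0678.result (hc.trans h) f.range hns' h'
      haveI := hs
      exact Or.inr (Or.inr (Or.inr (nonempty_equiv_GL32 h168)))
  · have hA := halt 8 (by norm_num) (hc.trans h)
    rcases deg_eight (hc.trans h) hcl hns' hA with h' | ⟨hs, h168⟩
    · exact Or.inl ⟨8, by norm_num, le_rfl,
        ⟨(MulEquiv.subgroupCongr (le_antisymm hA h')).trans
          (Fintype.equivFinOfCardEq (hc.trans h)).altCongrHom⟩⟩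
    · haveI := hs
      exact Or.inr (Or.inr (Or.inr (nonempty_equiv_GL32 h168)))

end Cfsg.Agent.PermGp
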