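import Mathlib.GroupTheory.SpecificGroups.Alternating.Simple
import Mathlib.GroupTheory.Perm.Cycle.Concrete
import Mathlib.GroupTheory.GroupAction.Jordan
import Mathlib.LinearAlgebra.Matrix.GeneralLinearGroup.Defs
import Mathlib.Data.ZMod.Basic
import Mathlib.Data.Fin.VecNotation
import Mathlib.Tactic.FinCases

/-!
# The alternating group of degree seven inside `GL(4, 2)`

`A₇` has two classes of fifteen Fano planes; on either of them the rule "the third plane through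
the common line" is the addition of a four-dimensional space over `ZMod 2`.
-/

set_option autoImplicit false

namespace Cfsg.Agent.PermGp.ASeven

open Matrix Pointwise

/-- A labelling of the fifteen Fano planes of one class by the non-zero vectors. -/
def planes : Fin 16 → Finset (Finset (Fin 7)) :=
  ![∅,
    {{0, 1, 3}, {0, 2, 6}, {0, 4, 5}, {1, 2, 4}, {1, 5, 6}, {2, 3, 5}, {3, 4, 6}},
    {{0, 1, 6}, {0, 2, 4}, {0, 3, 5}, {1, 2, 3}, {1, 4, 5}, {2, 5, 6}, {3, 4, 6}},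
    {{0, 1, 4}, {0, 2, 3}, {0, 5, 6}, {1, 2, 6}, {1, 3, 5}, {2, 4, 5}, {3, 4, 6}},
    {{0, 1, 2}, {0, 3, 6}, {0, 4, 5}, {1, 3, 5}, {1, 4, 6}, {2, 3, 4}, {2, 5, 6}},
    {{0, 1, 6}, {0, 2, 3}, {0, 4, 5}, {1, 2, 5}, {1, 3, 4}, {2, 4, 6}, {3, 5, 6}},
    {{0, 1, 5}, {0, 2, 3}, {0, 4, 6}, {1, 2, 4}, {1, 3, 6}, {2, 5, 6}, {3, 4, 5}},
    {{0, 1, 6}, {0, 2, 5}, {0, 3, 4}, {1, 2, 4}, {1, 3, 5}, {2, 3, 6}, {4, 5, 6}},
    {{0, 1, 2}, {0, 3, 4}, {0, 5, 6}, {1, 3, 6}, {1, 4, 5}, {2, 3, 5}, {2, 4, 6}},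
    {{0, 1, 5}, {0, 2, 4}, {0, 3, 6}, {1, 2, 6}, {1, 3, 4}, {2, 3, 5}, {4, 5, 6}},
    {{0, 1, 3}, {0, 2, 5}, {0, 4, 6}, {1, 2, 6}, {1, 4, 5}, {2, 3, 4}, {3, 5, 6}},
    {{0, 1, 3}, {0, 2, 4}, {0, 5, 6}, {1, 2, 5}, {1, 4, 6}, {2, 3, 6}, {3, 4, 5}},
    {{0, 1, 2}, {0, 3, 5}, {0, 4, 6}, {1, 3, 4}, {1, 5, 6}, {2, 3, 6}, {2, 4, 5}},
    {{0, 1, 4}, {0, 2, 5}, {0, 3, 6}, {1, 2, 3}, {1, 5, 6}, {2, 4, 6}, {3, 4, 5}},
    {{0, 1, 4}, {0, 2, 6}, {0, 3, 5}, {1, 2, 5}, {1, 3, 6}, {2, 3, 4}, {4, 5, 6}},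
    {{0, 1, 5}, {0, 2, 6}, {0, 3, 4}, {1, 2, 3}, {1, 4, 6}, {2, 4, 5}, {3, 5, 6}}]

/-- The number of a vector. -/
def code (v : Fin 4 → ZMod 2) : Fin 16 :=
  ⟨(v 0).val + 2 * (v 1).val + 4 * (v 2).val + 8 * (v 3).val, by
    have := (v 0).val_lt; have := (v 1).val_lt; have := (v 2).val_lt; have := (v 3).val_lt; omega⟩

/-- The plane of a vector. -/
def plane (v : Fin 4 → ZMod 2) : Finset (Finset (Fin 7)) := planes (code v)

/-- Image of a plane under a permutation. -/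
def move (g : Equiv.Perm (Fin 7)) (P : Finset (Finset (Fin 7))) : Finset (Finset (Fin 7)) :=
  P.image fun l => l.image g

theorem move_one (P : Finset (Finset (Fin 7))) : move 1 P = P := by simp [move]

theorem move_mul (g h : Equiv.Perm (Fin 7)) (P : Finset (Finset (Fin 7))) :
    move (g * h) P = move g (move h P) := by
  simp [move, Finset.image_image, Function.comp_def]

theorem plane_injective : ∀ v w : Fin 4 → ZMod 2, plane v = plane w → v = w := by decide +kernel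

abbrev GL4 := GL (Fin 4) (ZMod 2)

/-- The pairs of a permutation and a compatible linear map. -/
def graph : Subgroup (alternatingGroup (Fin 7) × GL4) where
  carrier := {p | ∀ v : Fin 4 → ZMod 2,
    plane ((p.2 : Matrix (Fin 4) (Fin 4) (ZMod 2)) *ᵥ v) = move p.1 (plane v)}
  one_mem' := fun v => by simp [move_one]
  mul_mem' := fun {p q} hp hq v => by
    show plane ((p.2 * q.2 : GL4).1 *ᵥ v) = move (p.1 * q.1 : alternatingGroup (Fin 7)).1 (plane v)
    rw [Units.val_mul, ← mulVec_mulVec, hp, hq, Subgroup.coe_mul, move_mul]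
  inv_mem' := fun {p} hp v => by
    show plane ((p.2⁻¹ : GL4).1 *ᵥ v) = move (p.1⁻¹ : alternatingGroup (Fin 7)).1 (plane v)
    conv_rhs => rw [show v = (p.2 : Matrix (Fin 4) (Fin 4) (ZMod 2)) *ᵥ ((p.2⁻¹ : GL4).1 *ᵥ v) by
      rw [mulVec_mulVec, Units.mul_inv, one_mulVec], hp, ← move_mul, ← Subgroup.coe_mul, inv_mul_cancel,
      Subgroup.coe_one, move_one]

def gen₁ : alternatingGroup (Fin 7) := ⟨([0, 1, 2] : List (Fin 7)).formPerm, Equiv.Perm.mem_alternatingGroup.mpr (by decide +kernel)⟩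

def gen₂ : alternatingGroup (Fin 7) := ⟨([0, 1, 2, 3, 4, 5, 6] : List (Fin 7)).formPerm, Equiv.Perm.mem_alternatingGroup.mpr (by decide +kernel)⟩

def mat₁ : GL4 := ⟨!![0, 1, 0, 0; 1, 1, 0, 0; 0, 0, 0, 1; 0, 0, 1, 1],
  !![1, 1, 0, 0; 1, 0, 0, 0; 0, 0, 1, 1; 0, 0, 1, 0], by decide +kernel, by decide +kernel⟩

def mat₂ : GL4 := ⟨!![1, 0, 1, 0; 0, 0, 0, 1; 0, 1, 1, 0; 0, 0, 1, 0],
  !![1, 0, 0, 1; 0, 0, 1, 1; 0, 0, 0, 1; 0, 1, 0, 0], by decide +kernel, by decide +kernel⟩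

theorem mem₁ : (gen₁, mat₁) ∈ graph := by
  show ∀ v : Fin 4 → ZMod 2, plane (mat₁.1 *ᵥ v) = move gen₁.1 (plane v)
  decide +kernel

theorem mem₂ : (gen₂, mat₂) ∈ graph := by
  show ∀ v : Fin 4 → ZMod 2, plane (mat₂.1 *ᵥ v) = move gen₂.1 (plane v)
  decide +kernel

theorem closure_gens : Subgroup.closure ({gen₁, gen₂} : Set (alternatingGroup (Fin 7))) = ⊤ := by
  set H := (Subgroup.closure ({gen₁, gen₂} : Set (alternatingGroup (Fin 7)))).map
    (alternatingGroup (Fin 7)).subtype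
  have h1 : gen₁.1 ∈ H := ⟨gen₁, Subgroup.subset_closure (Set.mem_insert _ _), rfl⟩
  have h2 : gen₂.1 ∈ H := ⟨gen₂, Subgroup.subset_closure (Set.mem_insert_of_mem _ rfl), rfl⟩
  haveI : MulAction.IsPretransitive H (Fin 7) := by
    have key : ∀ a b : Fin 7, ∃ i : Fin 7, (gen₂.1 ^ (i : ℕ)) a = b := by decide +kernel
    refine ⟨fun a b => ?_⟩
    obtain ⟨i, hi⟩ := key a b
    exact ⟨⟨_, H.pow_mem h2 i⟩, hi⟩
  have hp : MulAction.IsPreprimitive H (Fin 7) :=
    MulAction.IsPreprimitive.of_prime_card (by rw [Nat.card_fin]; decide)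
  have h3 : gen₁.1.IsThreeCycle := by
    rw [← card_support_eq_three_iff]; decide +kernel
  have := Equiv.Perm.alternatingGroup_le_of_isPreprimitive_of_isThreeCycle_mem hp h3 h1
  rw [eq_top_iff]
  intro g _
  obtain ⟨k, hk, e⟩ := this g.2
  exact (show k = g from Subtype.ext e) ▸ hk

theorem fst_surjective : Function.Surjective ((MonoidHom.fst _ GL4).comp graph.subtype) := by
  rw [← MonoidHom.range_eq_top, eq_top_iff, ← closure_gens, Subgroup.closure_le]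
  rintro g (rfl | rfl)
  · exact ⟨⟨_, mem₁⟩, rfl⟩
  · exact ⟨⟨_, mem₂⟩, rfl⟩

theorem fst_injective : Function.Injective ((MonoidHom.fst _ GL4).comp graph.subtype) := by
  refine (injective_iff_map_eq_one _).mpr fun p hp => ?_
  have h1 : p.1.1 = 1 := hp
  refine Subtype.ext (Prod.ext h1 (Units.ext ?_))
  refine Matrix.ext_iff_mulVec.mpr fun v => plane_injective _ _ ?_
  rw [p.2 v, h1]
  show move 1 (plane v) = plane ((1 : GL4).1 *ᵥ v)
  rw [move_one, Units.val_one, one_mulVec]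

/-- The embedding. -/
noncomputable def toGL : alternatingGroup (Fin 7) →* GL4 :=
  ((MonoidHom.snd _ _).comp graph.subtype).comp
    (MulEquiv.ofBijective _ ⟨fst_injective, fst_surjective⟩).symm.toMonoidHom

theorem toGL_injective : Function.Injective toGL := by
  rw [← MonoidHom.ker_eq_bot_iff]
  haveI := alternatingGroup.isSimpleGroup (α := Fin 7) (by rw [Nat.card_fin]; omega)
  refine (IsSimpleGroup.eq_bot_or_eq_top_of_normal toGL.ker inferInstance).resolve_right fun h => ?_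
  have h1 : toGL gen₁ = 1 := by
    have : gen₁ ∈ toGL.ker := h ▸ Subgroup.mem_top _
    exact this
  set e := MulEquiv.ofBijective _ ⟨fst_injective, fst_surjective⟩ with he
  have h2 : e.symm gen₁ = ⟨_, mem₁⟩ := by
    apply e.injective
    rw [MulEquiv.apply_symm_apply]; rfl
  have h3 : toGL gen₁ = mat₁ := by
    show ((e.symm gen₁ : graph) : alternatingGroup (Fin 7) × GL4).2 = mat₁
    rw [h2]
  rw [h3] at h1
  exact absurd (congrArg Units.val h1) (by decide +kernel)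

end Cfsg.Agent.PermGp.ASeven
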