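import Cfsg.Agent.Lib.PermGp.SymIndex

/-! The twelve subgroups of index six of the symmetric group of degree six. -/

set_option autoImplicit false

open Equiv Equiv.Perm MulAction

namespace Cfsg.Agent.SymIndex

variable {α : Type*} [Fintype α] [DecidableEq α]

theorem card_sylow_five : Nat.card (Sylow 5 (Perm (Fin 5))) = 6 := by
  haveI : Fact (Nat.Prime 5) := ⟨by norm_num⟩
  obtain ⟨P⟩ : Nonempty (Sylow 5 (Perm (Fin 5))) := inferInstance
  have hG : Nat.card (Perm (Fin 5)) = 120 := by
    rw [Nat.card_perm, Nat.card_fin]; rfl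
  obtain ⟨j, hj⟩ := IsPGroup.iff_card.mp P.isPGroup'
  have hdvd : 5 ∣ Nat.card (P : Subgroup (Perm (Fin 5))) := P.dvd_card_of_dvd_card (by rw [hG]; norm_num)
  have h120 := (P : Subgroup (Perm (Fin 5))).card_subgroup_dvd_card
  rw [hG] at h120
  have hc : Nat.card (P : Subgroup (Perm (Fin 5))) = 5 := by
    rw [hj] at hdvd h120 ⊢
    rcases j with _ | _ | j
    · norm_num at hdvd
    · rfl
    · exfalso
      have : 25 ∣ 120 := dvd_trans ⟨5 ^ j, by ring⟩ h120
      norm_num at this
  have hidx : (P : Subgroup (Perm (Fin 5))).index = 24 := by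
    have := (P : Subgroup (Perm (Fin 5))).card_mul_index
    rw [hc, hG] at this
    omega
  have h1 := P.card_dvd_index
  rw [hidx] at h1
  have h2 := card_sylow_modEq_one 5 (Perm (Fin 5))
  have h3 := Nat.le_of_dvd (by norm_num) h1
  have h4 : Nat.card (Sylow 5 (Perm (Fin 5))) ≠ 1 := fun h => by
    haveI := (Nat.card_eq_one_iff_unique.mp h).1
    have hn : (P : Subgroup (Perm (Fin 5))).Normal := P.normal_of_subsingleton
    have hb := core_eq_bot (α := Fin 5) (by simp) (H := (P : Subgroup (Perm (Fin 5)))) (by omega)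
    rw [Subgroup.normalCore_eq_self] at hb
    rw [hb, Subgroup.card_bot] at hc
    omega
  unfold Nat.ModEq at h2
  interval_cases h : Nat.card (Sylow 5 (Perm (Fin 5))) <;> omega

theorem exists_exceptional (h6 : Fintype.card α = 6) :
    ∃ H : Subgroup (Perm α), H.index = 6 ∧ ∀ x : α, H ≠ stabilizer (Perm α) x := by
  classical
  haveI : Fact (Nat.Prime 5) := ⟨by norm_num⟩
  obtain ⟨u⟩ : Nonempty (Sylow 5 (Perm (Fin 5)) ≃ α) :=
    Finite.card_eq.mp (by rw [card_sylow_five, Nat.card_eq_fintype_card, h6])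
  let f : Perm (Fin 5) →* Perm α :=
    u.permCongrHom.toMonoidHom.comp (MulAction.toPermHom (Perm (Fin 5)) (Sylow 5 (Perm (Fin 5))))
  have ht : ∀ x y : α, ∃ g ∈ f.range, g x = y := fun x y => by
    obtain ⟨g, hg⟩ := MulAction.exists_smul_eq (Perm (Fin 5)) (u.symm x) (u.symm y)
    exact ⟨f g, ⟨g, rfl⟩, by simp [f, Equiv.permCongr_apply, hg]⟩
  haveI : Nonempty α := Fintype.card_pos_iff.mp (by omega)
  have hd := card_dvd_of_trans ht
  have hker : f.ker = ⊥ := by
    have hidx : f.ker.index = Nat.card f.range := Subgroup.index_ker f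
    have h2 : 6 ≤ f.ker.index := by
      rw [hidx, ← h6]
      exact Nat.le_of_dvd Nat.card_pos hd
    have := core_eq_bot (α := Fin 5) (by simp) (H := f.ker) (by omega)
    rwa [Subgroup.normalCore_eq_self] at this
  refine ⟨f.range, ?_, fun x hx => ?_⟩
  · have h1 := f.range.card_mul_index
    rw [← Nat.card_congr (MonoidHom.ofInjective ((MonoidHom.ker_eq_bot_iff f).mp hker)).toEquiv,
      Nat.card_perm, Nat.card_perm, Nat.card_fin, Nat.card_eq_fintype_card, h6] at h1
    norm_num [Nat.factorial] at h1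
    omega
  · obtain ⟨y, hy⟩ := Fintype.exists_ne_of_one_lt_card (by omega) x
    obtain ⟨g, hg, hgx⟩ := ht x y
    rw [hx, mem_stabilizer_iff] at hg
    exact hy (hgx.symm.trans hg)

theorem map_conj_stab (g : Perm α) (x : α) :
    (stabilizer (Perm α) x).map (MulAut.conj g).toMonoidHom = stabilizer (Perm α) (g x) :=
  (stabilizer_smul_eq_stabilizer_map_conj g x).symm

theorem comap_stab_conj (e : Perm α ≃* Perm α) (g : Perm α) (x : α) :
    ((stabilizer (Perm α) x).comap e.toMonoidHom).map (MulAut.conj (e.symm g)).toMonoidHom =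
      (stabilizer (Perm α) (g x)).comap e.toMonoidHom := by
  rw [← map_conj_stab g x, Subgroup.comap_equiv_eq_map_symm', Subgroup.comap_equiv_eq_map_symm',
    Subgroup.map_map, Subgroup.map_map]
  congr 1
  ext h
  simp

theorem stab_injective (hn : 3 ≤ Fintype.card α) :
    Function.Injective (fun x : α => stabilizer (Perm α) x) := by
  intro x y h
  by_contra hxy
  obtain ⟨z, hz⟩ : ∃ z : α, z ∉ ({x, y} : Finset α) := by
    by_contra hall
    push_neg at hall
    have := Finset.card_le_two (a := x) (b := y)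
    rw [Finset.eq_univ_iff_forall.mpr hall, Finset.card_univ] at this
    omega
  simp only [Finset.mem_insert, Finset.mem_singleton, not_or] at hz
  have hs : swap y z ∈ stabilizer (Perm α) x := by
    rw [mem_stabilizer_iff]
    exact swap_apply_of_ne_of_ne hxy (Ne.symm hz.1)
  rw [show stabilizer (Perm α) x = stabilizer (Perm α) y from h, mem_stabilizer_iff] at hs
  simp only [Perm.smul_def, swap_apply_left] at hs
  exact hz.2 hs

/-- A point stabiliser is a symmetric group on one point fewer. -/
theorem stab_iso (x : α) : Nonempty (stabilizer (Perm α) x ≃* Perm {y : α // y ≠ x}) := by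
  classical
  let f : Perm {y : α // y ≠ x} →* stabilizer (Perm α) x :=
    Perm.ofSubtype.codRestrict _ fun p => Perm.ofSubtype_apply_of_not_mem p (by simp)
  have hinj : Function.Injective f := fun p q h => Perm.ofSubtype_injective (congrArg Subtype.val h)
  have hsurj : Function.Surjective f := by
    intro g
    have hg : (g : Perm α) x = x := g.2
    have hg' : ∀ y, (g : Perm α) y ≠ x ↔ y ≠ x := fun y => by
      rw [not_iff_not]
      exact ⟨fun h => (g : Perm α).injective (h.trans hg.symm), fun h => by rw [h, hg]⟩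
    exact ⟨Perm.subtypePerm (g : Perm α) hg', Subtype.ext (Perm.ofSubtype_subtypePerm
      (f := (g : Perm α)) hg' (fun y hy hyx => hy (by subst hyx; exact hg)))⟩
  exact ⟨(MulEquiv.ofBijective f ⟨hinj, hsurj⟩).symm⟩

/-- The two families of subgroups of index six. -/
theorem six_families (h6 : Fintype.card α = 6) :
    ∃ e : Perm α ≃* Perm α,
      (∀ x y : α, (stabilizer (Perm α) x).comap e.toMonoidHom ≠ stabilizer (Perm α) y) ∧
      ∀ H : Subgroup (Perm α), H.index = 6 → ∃ x : α,
        H = stabilizer (Perm α) x ∨ H = (stabilizer (Perm α) x).comap e.toMonoidHom := by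
  classical
  obtain ⟨H₁, h1, hns1⟩ := exists_exceptional h6
  obtain ⟨-, e, x₁, he1, hcl⟩ := exceptional (h1.trans h6.symm) hns1 (by omega)
  refine ⟨e, fun x y h => ?_, fun H hH => ?_⟩
  · apply hns1 ((e.symm (swap x x₁)) y)
    rw [he1, ← map_conj_stab, ← h, comap_stab_conj, swap_apply_left]
  · by_cases hs : ∃ x : α, H = stabilizer (Perm α) x
    · obtain ⟨x, hx⟩ := hs
      exact ⟨x, Or.inl hx⟩
    · obtain ⟨y, hy⟩ := exceptional_conj (h1.trans h6.symm) hns1 (hH.trans h6.symm)
        (fun x hx => hs ⟨x, hx⟩) (by omega) e hcl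
      exact ⟨y, Or.inr hy⟩

theorem index_comap_stab (e : Perm α ≃* Perm α) (x : α) :
    ((stabilizer (Perm α) x).comap e.toMonoidHom).index = Fintype.card α := by
  rw [Subgroup.index_comap_of_surjective _ e.surjective, stab_index]

end Cfsg.Agent.SymIndex
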