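import Cfsg.Agent.Lib.PermGp.AltIndex
import Cfsg.Agent.Lib.PermGp.SymIndex
import Cfsg.Agent.Lib.PermGp.SymSix
import Cfsg.Agent.Lib.CT.Integral
import Cfsg.Agent.Lib.SmallSimple.Alternating
import Cfsg.Agent.Lib.LocalEvenB.Basic

/-!
# Groups without solvable normal subgroups acting on at most six points
-/

set_option autoImplicit false
set_option linter.unusedSectionVars false

namespace Cfsg.Agent.PermGp

open Equiv MulAction
open scoped commutatorElement

/-- No non-trivial solvable normal subgroup. -/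
def Clean (H : Type*) [Group H] : Prop :=
  ∀ N : Subgroup H, N.Normal → Group.IsSolvable N → N = ⊥

theorem clean_of_cores {H : Type*} [Group H] [Finite H] (hO : Cfsg.pPrimeCore 2 H = ⊥)
    (hO2 : Cfsg.pCore 2 H = ⊥) : Clean H := by
  classical
  intro N hN hs
  by_contra hne
  haveI := hN
  obtain ⟨n, hn⟩ := hs.solvable
  set A : ℕ → Subgroup H := fun k => (derivedSeries N k).map N.subtype
  have hex : ∃ k, A k = ⊥ := ⟨n, by simp only [A, hn, Subgroup.map_bot]⟩
  have h0 : A 0 = N := by simp [A, ← MonoidHom.range_eq_map]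
  obtain ⟨k, hk, hk1⟩ : ∃ k, A k ≠ ⊥ ∧ A (k + 1) = ⊥ := by
    rcases Nat.eq_zero_or_pos (Nat.find hex) with h | h
    · exact absurd ((h0.symm.trans (h ▸ Nat.find_spec hex))) hne
    · refine ⟨Nat.find hex - 1, Nat.find_min hex (by omega), ?_⟩
      rw [Nat.sub_add_cancel h]
      exact Nat.find_spec hex
  haveI hAn : (A k).Normal := by
    haveI : (derivedSeries N k).Characteristic := derivedSeries_characteristic N k
    exact ConjAct.normal_of_characteristic_of_normal
  have hcomm : ∀ x ∈ A k, ∀ y ∈ A k, x * y = y * x := by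
    rintro _ ⟨x, hx, rfl⟩ _ ⟨y, hy, rfl⟩
    have h : ⁅x, y⁆ ∈ derivedSeries N (k + 1) := by
      rw [derivedSeries_succ]; exact Subgroup.commutator_mem_commutator hx hy
    have h' : N.subtype ⁅x, y⁆ ∈ A (k + 1) := ⟨_, h, rfl⟩
    rw [hk1, Subgroup.mem_bot, map_commutatorElement] at h'
    exact commutatorElement_eq_one_iff_mul_comm.1 h'
  let P : Subgroup H :=
    { carrier := {x | x ∈ A k ∧ ∃ i : ℕ, x ^ 2 ^ i = 1}
      one_mem' := ⟨one_mem _, 0, by simp⟩
      mul_mem' := by
        rintro x y ⟨hx, i, hi⟩ ⟨hy, j, hj⟩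
        refine ⟨mul_mem hx hy, i + j, ?_⟩
        rw [(show Commute x y from hcomm x hx y hy).mul_pow, pow_add, pow_mul, hi, one_pow, one_mul,
          mul_comm, pow_mul, hj, one_pow]
      inv_mem' := by
        rintro x ⟨hx, i, hi⟩
        exact ⟨inv_mem hx, i, by rw [inv_pow, hi, inv_one]⟩ }
  have hPn : P.Normal := ⟨fun x ⟨hx, i, hi⟩ g => ⟨hAn.conj_mem x hx g, i, by rw [conj_pow, hi]; group⟩⟩
  have hPb : P = ⊥ := eq_bot_iff.2 (hO2 ▸ LocalEvenB.le_pCore hPn
    (fun x => ⟨x.2.2.choose, Subtype.ext (by rw [SubgroupClass.coe_pow]; exact x.2.2.choose_spec)⟩))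
  refine hk (eq_bot_iff.2 (hO ▸ LocalEvenB.le_pPrimeCore hAn ?_))
  refine (Nat.Prime.coprime_iff_not_dvd Nat.prime_two).2 ?_ |>.symm
  intro h2
  haveI : Fact (Nat.Prime 2) := ⟨Nat.prime_two⟩
  obtain ⟨x, hx⟩ := exists_prime_orderOf_dvd_card' 2 h2
  have hxP : (x : H) ∈ P := ⟨x.2, 1, by
    rw [pow_one, ← SubgroupClass.coe_pow, orderOf_dvd_iff_pow_eq_one.1 hx.dvd, Subgroup.coe_one]⟩
  rw [hPb, Subgroup.mem_bot, OneMemClass.coe_eq_one] at hxP
  rw [hxP, orderOf_one] at hx
  exact absurd hx (by norm_num)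

theorem clean_of_equiv {H K : Type*} [Group H] [Group K] (e : H ≃* K) (h : Clean H) : Clean K := by
  intro N hN hs
  haveI := hs
  have hb := h (N.comap e.toMonoidHom) (hN.comap _)
    (Group.isSolvable_of_isSolvable_injective
      (f := (e.toMonoidHom.comp (N.comap e.toMonoidHom).subtype).codRestrict N fun x => x.2)
      fun a b hab => Subtype.ext (e.injective (congrArg Subtype.val hab)))
  refine eq_bot_iff.2 fun x hx => ?_
  have : e.symm x ∈ N.comap e.toMonoidHom := by simpa using hx
  rw [hb, Subgroup.mem_bot] at this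
  rw [Subgroup.mem_bot, ← e.apply_symm_apply x, this, map_one]

theorem Clean.not_solvable {H : Type*} [Group H] [Nontrivial H] (h : Clean H) : ¬ Group.IsSolvable H := by
  intro hs
  haveI := hs
  exact top_ne_bot (h ⊤ inferInstance
    (Group.isSolvable_of_isSolvable_injective (f := (⊤ : Subgroup H).subtype) (Subgroup.subtype_injective _)))

/-- An abelian-by-`{p, q}` statement: orders with at most two primes among divisors of `576`. -/
theorem solvable_of_dvd_576 {H : Type*} [Group H] [Finite H] (h : Nat.card H ∣ 2 ^ 6 * 3 ^ 2) :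
    Group.IsSolvable H := by
  obtain ⟨d1, d2, h1, h2, he⟩ := Nat.dvd_mul.1 h
  obtain ⟨a, -, rfl⟩ := (Nat.dvd_prime_pow Nat.prime_two).1 h1
  obtain ⟨b, -, rfl⟩ := (Nat.dvd_prime_pow Nat.prime_three).1 h2
  exact CT.isSolvable_of_card_two_primes Nat.prime_two Nat.prime_three _ H a b rfl he.symm

/-- Groups of order thirty are solvable. -/
theorem solvable_of_card_thirty {H : Type*} [Group H] [Finite H] (h : Nat.card H = 30) :
    Group.IsSolvable H := by
  haveI : Fact (Nat.Prime 2) := ⟨Nat.prime_two⟩
  obtain ⟨P⟩ : Nonempty (Sylow 2 H) := inferInstance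
  have hPc : Nat.card (P : Subgroup H) = 2 :=
    SmallSimple.card_sylow_of_eq (k := 1) (m := 15) P (by rw [h]; norm_num) (by norm_num)
  have hcyc : IsCyclic (P : Subgroup H) := isCyclic_of_prime_card (p := 2) hPc
  have hmin : (Nat.card H).minFac = 2 := by rw [h]; norm_num
  have hc := IsCyclic.isComplement' hmin hcyc
  set f := MonoidHom.transferSylow P (IsCyclic.normalizer_le_centralizer hmin hcyc)
  have hk : Nat.card f.ker = 15 := by
    have := hc.card_mul
    rw [hPc, h] at this
    omega
  haveI : Group.IsSolvable f.ker :=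
    CT.isSolvable_of_card_two_primes Nat.prime_three (by norm_num : Nat.Prime 5) _ f.ker 1 1 rfl (by rw [hk]; norm_num)
  haveI : Group.IsSolvable (P : Subgroup H) :=
    CT.isSolvable_of_card_two_primes Nat.prime_two Nat.prime_three _ (P : Subgroup H) 1 0 rfl (by rw [hPc]; norm_num)
  exact Group.isSolvable_of_ker_le_range f.ker.subtype f (by rw [Subgroup.range_subtype])

theorem solvable_of_dvd_360 {H : Type*} [Group H] [Finite H] (hle : Nat.card H < 60)
    (hd : Nat.card H ∣ 360) : Group.IsSolvable H := by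
  have key : ∀ n ∈ Nat.divisors 360, n < 60 →
      n ∣ 576 ∨ n = 30 ∨ (n = 5 ∨ n = 10 ∨ n = 20 ∨ n = 40) ∨ n = 15 ∨ n = 45 := by decide +kernel
  rcases key _ (Nat.mem_divisors.2 ⟨hd, by norm_num⟩) hle with h | h | h | h
  · exact solvable_of_dvd_576 h
  · exact solvable_of_card_thirty h
  · have h5 : Nat.Prime 5 := by norm_num
    rcases h with h | h | h | h
    · exact CT.isSolvable_of_card_two_primes Nat.prime_two h5 _ H 0 1 rfl (by rw [h]; norm_num)
    · exact CT.isSolvable_of_card_two_primes Nat.prime_two h5 _ H 1 1 rfl (by rw [h]; norm_num)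
    · exact CT.isSolvable_of_card_two_primes Nat.prime_two h5 _ H 2 1 rfl (by rw [h]; norm_num)
    · exact CT.isSolvable_of_card_two_primes Nat.prime_two h5 _ H 3 1 rfl (by rw [h]; norm_num)
  · have h5 : Nat.Prime 5 := by norm_num
    rcases h with h | h
    · exact CT.isSolvable_of_card_two_primes Nat.prime_three h5 _ H 1 1 rfl (by rw [h]; norm_num)
    · exact CT.isSolvable_of_card_two_primes Nat.prime_three h5 _ H 2 1 rfl (by rw [h]; norm_num)

/-- Non-solvable groups of order sixty are simple. -/
theorem simple_of_card_sixty {H : Type*} [Group H] [Finite H] (hH : ¬ Group.IsSolvable H)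
    (h : Nat.card H = 60) : IsSimpleGroup H := by
  haveI : Nontrivial H := Finite.one_lt_card_iff_nontrivial.1 (by omega)
  refine ⟨fun N hN => ?_⟩
  by_contra hcon
  push Not at hcon
  haveI := hN
  have hmul := N.card_mul_index
  rw [h] at hmul
  have h1 : Nat.card N ≠ 1 := fun e => hcon.1 (Subgroup.card_eq_one.1 e)
  have h2 : N.index ≠ 1 := fun e => hcon.2 (Subgroup.index_eq_one.1 e)
  have hN0 : 0 < Nat.card N := Nat.card_pos
  have hi0 : N.index ≠ 0 := Subgroup.index_ne_zero_of_finite
  have hlt1 : Nat.card N < 60 := by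
    have := Nat.mul_le_mul_left (Nat.card N) (show 2 ≤ N.index by omega)
    omega
  have hlt2 : N.index < 60 := by
    have := Nat.mul_le_mul_right N.index (show 2 ≤ Nat.card N by omega)
    omega
  haveI : Group.IsSolvable N :=
    solvable_of_dvd_360 hlt1 ((Dvd.intro _ hmul).trans (by norm_num))
  haveI : Group.IsSolvable (H ⧸ N) :=
    solvable_of_dvd_360 (by rwa [← Subgroup.index_eq_card]) (by
      rw [← Subgroup.index_eq_card]
      exact (Dvd.intro_left _ hmul).trans (by norm_num))
  exact hH (Group.isSolvable_of_ker_le_range N.subtype (QuotientGroup.mk' N)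
    (by rw [QuotientGroup.ker_mk', Subgroup.range_subtype]))

variable {α : Type*} [Fintype α] [DecidableEq α]

theorem nat_card_alt {n : ℕ} (hn : 2 ≤ n) (h : Fintype.card α = n) :
    2 * Nat.card (alternatingGroup α) = n.factorial := by
  haveI : Nontrivial α := Fintype.one_lt_card_iff_nontrivial.1 (by omega)
  rw [nat_card_alternatingGroup, Nat.card_eq_fintype_card, h]
  exact Nat.mul_div_cancel' (Nat.dvd_factorial two_pos hn)

theorem alt_or_top {A : Subgroup (Perm α)} (hn : 2 ≤ Fintype.card α) (h : alternatingGroup α ≤ A) :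
    A = alternatingGroup α ∨ A = ⊤ := by
  haveI : Nontrivial α := Fintype.one_lt_card_iff_nontrivial.1 (by omega)
  have hd : A.index ∣ 2 := alternatingGroup.index_eq_two (α := α) ▸ Subgroup.index_dvd_of_le h
  rcases (Nat.dvd_prime Nat.prime_two).1 hd with e | e
  · exact Or.inr (Subgroup.index_eq_one.1 e)
  · refine Or.inl (le_antisymm ?_ h)
    have h1 := A.index_mul_card
    have h2 := (alternatingGroup α).index_mul_card
    rw [e] at h1
    rw [alternatingGroup.index_eq_two] at h2
    exact (Subgroup.eq_of_le_of_card_ge h (by omega)).ge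

theorem equiv_of_alt_le {n : ℕ} (hn : Fintype.card α = n) (h2 : 2 ≤ n) {A : Subgroup (Perm α)}
    (h : alternatingGroup α ≤ A) :
    Nonempty (A ≃* alternatingGroup (Fin n)) ∨ Nonempty (A ≃* Perm (Fin n)) := by
  have e := Fintype.equivFinOfCardEq hn
  rcases alt_or_top (by omega) h with h | h
  · exact Or.inl ⟨(MulEquiv.subgroupCongr h).trans e.altCongrHom⟩
  · exact Or.inr ⟨(MulEquiv.subgroupCongr h).trans (Subgroup.topEquiv.trans e.permCongrHom)⟩

theorem deg_five (h5 : Fintype.card α = 5) {A : Subgroup (Perm α)} (hA : ¬ Group.IsSolvable A) :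
    Nonempty (A ≃* alternatingGroup (Fin 5)) ∨ Nonempty (A ≃* Perm (Fin 5)) := by
  refine equiv_of_alt_le h5 (by norm_num) ?_
  by_contra hle
  have hne : A ⊓ alternatingGroup α ≠ alternatingGroup α := fun h => hle (inf_eq_right.mp h)
  have hs := card_le_of_le_alternating (by omega) inf_le_right hne
  rw [h5, show Nat.factorial 5 = 120 from rfl] at hs
  have hd : Nat.card ↥(A ⊓ alternatingGroup α) ∣ 60 := by
    refine (Subgroup.card_dvd_of_le inf_le_right).trans (dvd_of_eq ?_)
    have := nat_card_alt (by norm_num) h5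
    rw [show Nat.factorial 5 = 120 from rfl] at this
    omega
  exact (card_le_two_mul_inf_alternating A).2 hA (solvable_of_dvd_360 (by omega) (hd.trans (by norm_num)))

theorem deg_six (h6 : Fintype.card α = 6) {A : Subgroup (Perm α)} (hA : ¬ Group.IsSolvable A) :
    Nonempty (A ≃* alternatingGroup (Fin 5)) ∨ Nonempty (A ≃* Perm (Fin 5)) ∨
      Nonempty (A ≃* alternatingGroup (Fin 6)) ∨ Nonempty (A ≃* Perm (Fin 6)) := by
  by_cases hle : alternatingGroup α ≤ A
  · exact Or.inr (Or.inr (equiv_of_alt_le h6 (by norm_num) hle))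
  have hne : A ⊓ alternatingGroup α ≠ alternatingGroup α := fun h => hle (inf_eq_right.mp h)
  have hs := card_le_of_le_alternating (by omega) inf_le_right hne
  rw [h6, show Nat.factorial 6 = 720 from rfl] at hs
  obtain ⟨hhalf, hns⟩ := card_le_two_mul_inf_alternating A
  set N := A ⊓ alternatingGroup α
  have hd : Nat.card N ∣ 360 := by
    refine (Subgroup.card_dvd_of_le inf_le_right).trans (dvd_of_eq ?_)
    have := nat_card_alt (by norm_num) h6
    rw [show Nat.factorial 6 = 720 from rfl] at this
    omega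
  have h60 : Nat.card N = 60 := by
    by_contra h
    exact hns hA (solvable_of_dvd_360 (by omega) hd)
  haveI := simple_of_card_sixty (hns hA) h60
  obtain ⟨d, hd'⟩ : Nat.card N ∣ Nat.card A := Subgroup.card_dvd_of_le inf_le_left
  have hA0 : 0 < Nat.card A := Nat.card_pos
  rw [h60] at hd' hhalf
  rcases (show d = 1 ∨ d = 2 by omega) with rfl | rfl
  · left
    have e : N = A := Subgroup.eq_of_le_of_card_ge inf_le_left (by omega)
    obtain ⟨f⟩ := SmallSimple.mulEquiv_alternating_five h60
    exact ⟨(MulEquiv.subgroupCongr e.symm).trans f⟩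
  · right; left
    have hidx : A.index = 6 := by
      have := A.index_mul_card
      rw [hd', Nat.card_perm, Nat.card_eq_fintype_card, h6, show Nat.factorial 6 = 720 from rfl] at this
      omega
    obtain ⟨e, -, hfam⟩ := SymIndex.six_families (α := α) h6
    obtain ⟨x, hx⟩ := hfam A hidx
    obtain ⟨s⟩ := SymIndex.stab_iso x
    have h5' : Fintype.card {y : α // y ≠ x} = 5 := by simp [Fintype.card_subtype_compl, h6]
    let t := s.trans (Fintype.equivFinOfCardEq h5').permCongrHom
    rcases hx with hx | hx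
    · exact ⟨(MulEquiv.subgroupCongr hx).trans t⟩
    · have he : A.map e.toMonoidHom = MulAction.stabilizer (Perm α) x := by
        rw [hx, Subgroup.map_comap_eq_self_of_surjective e.surjective]
      exact ⟨((A.equivMapOfInjective e.toMonoidHom e.injective).trans (MulEquiv.subgroupCongr he)).trans t⟩

end Cfsg.Agent.PermGp
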