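import Mathlib.GroupTheory.SpecificGroups.Alternating
import Mathlib.GroupTheory.Perm.Cycle.PossibleTypes
import Mathlib.Algebra.GCDMonoid.Nat

/-!
# Element orders of alternating groups through cycle types
-/

namespace Cfsg.Agent.PermGp

open Equiv Equiv.Perm

theorem exists_dvd_of_prime_dvd_lcm {p : ℕ} (hp : p.Prime) :
    ∀ m : Multiset ℕ, p ∣ m.lcm → ∃ a ∈ m, p ∣ a := by
  intro m
  induction m using Multiset.induction with
  | empty => intro h; rw [Multiset.lcm_zero, Nat.dvd_one] at h; exact absurd h hp.ne_one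
  | cons a m ih =>
    intro h
    rw [Multiset.lcm_cons] at h
    have h' : p ∣ a * m.lcm := h.trans (lcm_dvd_mul a m.lcm)
    rcases hp.dvd_mul.mp h' with h1 | h1
    · exact ⟨a, Multiset.mem_cons_self a m, h1⟩
    · obtain ⟨b, hb, hb'⟩ := ih h1
      exact ⟨b, Multiset.mem_cons_of_mem hb, hb'⟩

/-- An even cycle type with an even part has a second even part. -/
theorem exists_second_even {m : Multiset ℕ} {e : ℕ} (he : e ∈ m) (hee : 2 ∣ e)
    (h : Even (m.sum + Multiset.card m)) : ∃ f ∈ m.erase e, 2 ∣ f := by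
  by_contra! hno
  have key : ∀ t : Multiset ℕ, (∀ f ∈ t, ¬ 2 ∣ f) → Even (t.sum + Multiset.card t) := by
    intro t
    induction t using Multiset.induction with
    | empty => simp
    | cons a t ih =>
      intro ht
      obtain ⟨k, hk⟩ := ih fun f hf => ht f (Multiset.mem_cons_of_mem hf)
      have := ht a (Multiset.mem_cons_self a t)
      rw [Multiset.sum_cons, Multiset.card_cons]
      exact ⟨k + (a + 1) / 2, by omega⟩
  obtain ⟨k, hk⟩ := key _ hno
  rw [← Multiset.cons_erase he, Multiset.sum_cons, Multiset.card_cons] at h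
  obtain ⟨l, hl⟩ := h
  omega

/-- The lcm of an even cycle type of total at most `n` is an element order of `A_n`. -/
theorem mem_orders_of_cycleType {n d : ℕ} {m : Multiset ℕ} (hm : m.sum ≤ n) (h2 : ∀ a ∈ m, 2 ≤ a)
    (hev : Even (m.sum + Multiset.card m)) (hd : m.lcm = d) :
    d ∈ Set.range (orderOf : alternatingGroup (Fin n) → ℕ) := by
  obtain ⟨σ, hσ⟩ := (Equiv.Perm.exists_with_cycleType_iff (Fin n) (m := m)).mpr
    ⟨by rwa [Fintype.card_fin], h2⟩
  refine ⟨⟨σ, mem_alternatingGroup.mpr ?_⟩, ?_⟩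
  · rw [sign_of_cycleType, hσ, hev.neg_one_pow]
  · rw [← Subgroup.orderOf_coe, ← lcm_cycleType, hσ, hd]

end Cfsg.Agent.PermGp
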