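import Cfsg.Agent.Lib.PermGp.SmallSupport

/-! Babai's bound on the number of points distinguishing a pair in a uniprimitive group, and the
elementary counterpart for doubly transitive groups. -/

set_option autoImplicit false
set_option linter.unusedSectionVars false

namespace Cfsg.Agent.Distinguish

open MulAction Finset

variable (G : Type*) [Group G] {Ω : Type*} [MulAction G Ω] [Fintype Ω] [DecidableEq Ω]

/-- The orbital of a pair. -/
def col (x y : Ω) : orbitRel.Quotient G (Ω × Ω) := Quotient.mk'' (x, y)

variable {G}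

theorem col_eq_iff {x y x' y' : Ω} :
    col G x y = col G x' y' ↔ ∃ k : G, k • x' = x ∧ k • y' = y := by
  unfold col
  rw [Quotient.eq'']
  exact ⟨fun ⟨k, hk⟩ => ⟨k, congrArg Prod.fst hk, congrArg Prod.snd hk⟩,
    fun ⟨k, h1, h2⟩ => ⟨k, Prod.ext h1 h2⟩⟩

theorem col_smul (k : G) (x y : Ω) : col G (k • x) (k • y) = col G x y :=
  col_eq_iff.mpr ⟨k, rfl, rfl⟩

theorem col_ne_diag {x y : Ω} (h : x ≠ y) (w : Ω) : col G x y ≠ col G w w := fun e => by
  obtain ⟨k, h1, h2⟩ := col_eq_iff.mp e
  exact h (h1 ▸ h2 ▸ rfl)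

/-- A graph invariant under the group, in an inequality-free form. -/
def Inv (Γ : SimpleGraph Ω) (G : Type*) [Group G] [MulAction G Ω] : Prop :=
  ∀ (k : G) (x y : Ω), Γ.Adj x y → Γ.Adj (k • x) (k • y)

theorem inv_fromRel (P : orbitRel.Quotient G (Ω × Ω) → Prop) :
    Inv (SimpleGraph.fromRel fun x y : Ω => P (col G x y)) G := fun k x y h => by
  simp only [SimpleGraph.fromRel_adj, col_smul, ne_eq, smul_left_cancel_iff] at h ⊢
  exact h

theorem connected_of_inv [IsPreprimitive G Ω] {Γ : SimpleGraph Ω} (hΓ : Inv Γ G) {a b : Ω}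
    (hab : Γ.Adj a b) : Γ.Connected := by
  have hmap : ∀ (k : G) {x y : Ω}, Γ.Reachable x y → Γ.Reachable (k • x) (k • y) := fun k x y h =>
    h.map ⟨fun z => k • z, fun e => hΓ k _ _ e⟩
  set B : Set Ω := {y | Γ.Reachable a y} with hBdef
  have hB : IsBlock G B := by
    rw [isBlock_iff_smul_eq_or_disjoint]
    intro k
    rw [or_iff_not_imp_right, Set.not_disjoint_iff]
    rintro ⟨w, ⟨v, hv, rfl⟩, hw⟩
    have key : Γ.Reachable a (k • a) := hw.trans (hmap k hv).symm
    ext y
    constructor
    · rintro ⟨u, hu, rfl⟩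
      exact key.trans (hmap k hu)
    · intro hy
      refine ⟨k⁻¹ • y, ?_, smul_inv_smul _ _⟩
      have := hmap k⁻¹ (key.symm.trans hy)
      rwa [inv_smul_smul] at this
  rcases IsPreprimitive.isTrivialBlock_of_isBlock hB with h | h
  · exact absurd (h SimpleGraph.Reachable.rfl hab.reachable) hab.ne
  · have : ∀ y, Γ.Reachable a y := fun y => by
      have : y ∈ B := h ▸ Set.mem_univ y
      exact this
    have hne : Nonempty Ω := ⟨a⟩
    have hreach := this
    exact SimpleGraph.Connected.mk fun x y => (hreach x).symm.trans (hreach y)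

theorem dist_smul {Γ : SimpleGraph Ω} (hΓ : Inv Γ G) (hc : Γ.Connected) (k : G) (x y : Ω) :
    Γ.dist (k • x) (k • y) = Γ.dist x y := by
  have hle : ∀ (k : G) (x y : Ω), Γ.dist (k • x) (k • y) ≤ Γ.dist x y := fun k x y => by
    obtain ⟨p, hp⟩ := hc.exists_walk_length_eq_dist x y
    have := SimpleGraph.dist_le
      (p.map (⟨fun z => k • z, fun e => hΓ k _ _ e⟩ : Γ →g Γ))
    rw [SimpleGraph.Walk.length_map, hp] at this
    exact this
  refine le_antisymm (hle k x y) ?_
  simpa using hle k⁻¹ (k • x) (k • y)

theorem dist_eq_of_col {Γ : SimpleGraph Ω} (hΓ : Inv Γ G) (hc : Γ.Connected) {x y x' y' : Ω}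
    (h : col G x y = col G x' y') : Γ.dist x y = Γ.dist x' y' := by
  obtain ⟨k, rfl, rfl⟩ := col_eq_iff.mp h
  exact dist_smul hΓ hc k x' y'

theorem exists_pred {Γ : SimpleGraph Ω} (hc : Γ.Connected) {x z : Ω} {m : ℕ}
    (h : Γ.dist x z = m + 1) : ∃ y, Γ.Adj x y ∧ Γ.dist y z = m := by
  obtain ⟨p, hp⟩ := hc.exists_walk_length_eq_dist x z
  cases p with
  | nil => simp at h
  | @cons _ y _ hxy q =>
    refine ⟨y, hxy, ?_⟩
    have h1 := SimpleGraph.dist_le q
    have h2 := hc.dist_triangle (u := x) (v := y) (w := z)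
    rw [SimpleGraph.dist_eq_one_iff_adj.mpr hxy] at h2
    simp only [SimpleGraph.Walk.length_cons] at hp
    omega

/-- A geodesic between two points, as a function. -/
theorem exists_geodesic {Γ : SimpleGraph Ω} (hc : Γ.Connected) {x z : Ω} {m : ℕ}
    (h : Γ.dist x z = m) : ∃ f : ℕ → Ω, f 0 = z ∧ f m = x ∧
      (∀ t < m, Γ.Adj (f t) (f (t + 1))) ∧ ∀ a b, a ≤ b → b ≤ m → Γ.dist (f a) (f b) = b - a := by
  have step : ∃ f : ℕ → Ω, f 0 = z ∧ f m = x ∧ (∀ t < m, Γ.Adj (f t) (f (t + 1))) ∧
      ∀ t ≤ m, Γ.dist (f t) z = t := by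
    induction m generalizing x with
    | zero =>
      exact ⟨fun _ => z, rfl, ((hc.dist_eq_zero_iff).mp h).symm, fun t ht => absurd ht (by omega),
        fun t ht => by simp [Nat.le_zero.mp ht]⟩
    | succ m ih =>
      obtain ⟨y, hxy, hy⟩ := exists_pred hc h
      obtain ⟨f, hf0, hfm, hadj, hd⟩ := ih hy
      refine ⟨Function.update f (m + 1) x, ?_, Function.update_self .., fun t ht => ?_, fun t ht => ?_⟩
      · rw [Function.update_of_ne (by omega), hf0]
      · rcases Nat.lt_or_ge t m with h' | h'
        · rw [Function.update_of_ne (by omega), Function.update_of_ne (by omega)]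
          exact hadj t h'
        · obtain rfl : t = m := by omega
          rw [Function.update_of_ne (by omega), Function.update_self, hfm]
          exact hxy.symm
      · rcases Nat.lt_or_ge t (m + 1) with h' | h'
        · rw [Function.update_of_ne (by omega)]
          exact hd t (by omega)
        · obtain rfl : t = m + 1 := by omega
          rw [Function.update_self, h]
  obtain ⟨f, hf0, hfm, hadj, hd⟩ := step
  refine ⟨f, hf0, hfm, hadj, fun a b hab hb => ?_⟩
  have up : ∀ s, a + s ≤ m → Γ.dist (f a) (f (a + s)) ≤ s := by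
    intro s
    induction s with
    | zero => intro _; simp
    | succ s ih =>
      intro hs
      have h1 := hc.dist_triangle (u := f a) (v := f (a + s)) (w := f (a + (s + 1)))
      have h2 : Γ.dist (f (a + s)) (f (a + (s + 1))) = 1 :=
        SimpleGraph.dist_eq_one_iff_adj.mpr (hadj _ (by omega))
      have := ih (by omega)
      omega
  have h1 := up (b - a) (by omega)
  rw [show a + (b - a) = b by omega] at h1
  have h2 := hc.dist_triangle (u := f b) (v := f a) (w := z)
  rw [hd b hb, hd a (by omega), SimpleGraph.dist_comm] at h2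
  omega

variable (G) in
/-- The points distinguishing `x` from `y`. -/
noncomputable def Dset (x y : Ω) : Finset Ω := by
  classical exact univ.filter fun w => col G w x ≠ col G w y

theorem mem_Dset {x y w : Ω} : w ∈ Dset G x y ↔ col G w x ≠ col G w y := by
  simp [Dset]

theorem Dset_comm (x y : Ω) : Dset G x y = Dset G y x := by
  ext w; simp [mem_Dset, ne_comm]

theorem card_Dset_triangle (x y z : Ω) :
    (Dset G x z).card ≤ (Dset G x y).card + (Dset G y z).card := by
  refine le_trans (card_le_card fun w hw => ?_) (card_union_le _ _)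
  rw [mem_Dset] at hw
  rw [mem_union, mem_Dset, mem_Dset]
  by_contra h
  push Not at h
  exact hw (h.1.trans h.2)

theorem card_Dset_of_col {x y x' y' : Ω} (h : col G x y = col G x' y') :
    (Dset G x y).card = (Dset G x' y').card := by
  obtain ⟨k, rfl, rfl⟩ := col_eq_iff.mp h
  refine (card_bij (fun w _ => k • w) (fun w hw => ?_) (fun a _ b _ e => smul_left_cancel k e)
    fun w hw => ⟨k⁻¹ • w, ?_, smul_inv_smul _ _⟩).symm
  · rw [mem_Dset] at hw ⊢
    simpa [col_smul] using hw
  · rw [mem_Dset] at hw ⊢
    rwa [← col_smul k (k⁻¹ • w) x', ← col_smul k (k⁻¹ • w) y', smul_inv_smul]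

variable (G) in
/-- The out-neighbours in an orbital. -/
noncomputable def out (c : orbitRel.Quotient G (Ω × Ω)) (x : Ω) : Finset Ω := by
  classical exact univ.filter fun y => col G x y = c

theorem mem_out {c : orbitRel.Quotient G (Ω × Ω)} {x y : Ω} : y ∈ out G c x ↔ col G x y = c := by
  simp [out]

theorem card_out_eq [IsPretransitive G Ω] (c : orbitRel.Quotient G (Ω × Ω)) (x x' : Ω) :
    (out G c x).card = (out G c x').card := by
  obtain ⟨k, rfl⟩ := exists_smul_eq G x x'
  refine card_bij (fun w _ => k • w) (fun w hw => ?_) (fun a _ b _ e => smul_left_cancel k e)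
    fun w hw => ⟨k⁻¹ • w, ?_, smul_inv_smul _ _⟩
  · rw [mem_out] at hw ⊢
    rwa [col_smul]
  · rw [mem_out] at hw ⊢
    rwa [← col_smul k x, smul_inv_smul]

/-- Babai's bound in a uniprimitive group. -/
theorem le_card_Dset [IsPreprimitive G Ω]
    (huni : ¬ ∀ x y x' y' : Ω, x ≠ y → x' ≠ y' → col G x y = col G x' y')
    {u v : Ω} (huv : u ≠ v) : Fintype.card Ω ≤ (2 * (Dset G u v).card + 1) ^ 2 := by
  classical
  set n := Fintype.card Ω with hn
  have hn2 : 2 ≤ n := Fintype.one_lt_card_iff.mpr ⟨u, v, huv⟩
  set i := col G u v with hi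
  set D := (Dset G u v).card with hDdef
  set Γ : SimpleGraph Ω := SimpleGraph.fromRel fun x y : Ω => col G x y = i with hΓdef
  have hΓ : Inv Γ G := inv_fromRel (G := G) (Ω := Ω) fun c => c = i
  have hadj : Γ.Adj u v := by simp [hΓdef, SimpleGraph.fromRel_adj, huv, ← hi]
  have hc := connected_of_inv hΓ hadj
  have hDadj : ∀ x y, Γ.Adj x y → (Dset G x y).card = D := by
    intro x y h
    rw [hΓdef, SimpleGraph.fromRel_adj] at h
    rcases h.2 with h | h
    · exact card_Dset_of_col h
    · rw [Dset_comm]
      exact card_Dset_of_col h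
  have hmul : ∀ x z, (Dset G x z).card ≤ Γ.dist x z * D := by
    intro x z
    induction hm : Γ.dist x z generalizing x with
    | zero =>
      obtain rfl := (hc.dist_eq_zero_iff).mp hm
      simp [Dset]
    | succ m ih =>
      obtain ⟨y, hxy, hy⟩ := exists_pred hc hm
      have := card_Dset_triangle (G := G) x y z
      have := hDadj x y hxy
      have := ih y hy
      rw [Nat.succ_mul]
      omega
  have hdiam : ∀ x z, Γ.dist x z ≤ D := by
    intro x z
    obtain ⟨f, hf0, hfm, hfa, hfd⟩ := exists_geodesic hc (rfl : Γ.dist x z = Γ.dist x z)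
    rcases Nat.eq_zero_or_pos (Γ.dist x z) with h0 | hpos
    · omega
    rw [← hDadj (f 0) (f 1) (hfa 0 hpos)]
    calc Γ.dist x z = (Finset.Icc 1 (Γ.dist x z)).card := by simp
      _ ≤ _ := by
        refine card_le_card_of_injOn f (fun t ht => ?_) (fun a ha b hb e => ?_)
        · rw [Finset.mem_coe, Finset.mem_Icc] at ht
          rw [Finset.mem_coe, mem_Dset]
          intro e
          have := dist_eq_of_col hΓ hc e
          rw [SimpleGraph.dist_comm, hfd 0 t (by omega) ht.2, SimpleGraph.dist_comm,
            hfd 1 t ht.1 ht.2] at this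
          omega
        · rw [Finset.mem_coe, Finset.mem_Icc] at ha hb
          have h1 : Γ.dist (f a) (f b) = 0 := by rw [e, SimpleGraph.dist_self]
          rcases Nat.le_total a b with h | h
          · rw [hfd a b h hb.2] at h1; omega
          · rw [SimpleGraph.dist_comm, hfd b a h ha.2] at h1; omega
  -- each point distinguishes at least `n - 1` edges
  have hedge : n - 1 ≤ (out G i u).card * D := by
    set E : Finset (Ω × Ω) := univ.filter fun p => col G p.1 p.2 = i with hE
    have hEc : E.card = n * (out G i u).card := by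
      have h1 := Finset.card_eq_sum_card_fiberwise (f := Prod.fst) (s := E) (t := univ)
        (fun p _ => mem_univ _)
      have h2 : ∀ x : Ω, (E.filter fun p => p.1 = x).card = (out G i u).card := fun x => by
        rw [← card_out_eq i x u]
        refine card_bij (fun p _ => p.2) (fun p hp => ?_) (fun a ha b hb e => ?_)
          fun y hy => ⟨(x, y), ?_, rfl⟩
        · simp only [hE, mem_filter, mem_univ, true_and] at hp
          rw [mem_out, ← hp.2]; exact hp.1
        · simp only [hE, mem_filter, mem_univ, true_and] at ha hb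
          exact Prod.ext (ha.2.trans hb.2.symm) e
        · rw [mem_out] at hy
          simp [hE, hy]
      rw [h1, Finset.sum_congr rfl fun x _ => h2 x, Finset.sum_const, Finset.card_univ, smul_eq_mul]
    have hlow : ∀ w : Ω, n - 1 ≤ (E.filter fun p => w ∈ Dset G p.1 p.2).card := by
      intro w
      have hex : ∀ x ∈ (univ.erase w), ∃ p : Ω × Ω, p ∈ E.filter (fun p => w ∈ Dset G p.1 p.2) ∧
          ((p.1 = x ∧ Γ.dist p.2 w < Γ.dist p.1 w) ∨ (p.2 = x ∧ Γ.dist p.1 w < Γ.dist p.2 w)) := by
        intro x hx
        have hxw : x ≠ w := (Finset.mem_erase.mp hx).1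
        have hpos : Γ.dist x w ≠ 0 := fun h0 => hxw ((hc.dist_eq_zero_iff).mp h0)
        obtain ⟨m, hm⟩ := Nat.exists_eq_succ_of_ne_zero hpos
        obtain ⟨y, hxy, hy⟩ := exists_pred hc hm
        have hd : col G w x ≠ col G w y := fun e => by
          have := dist_eq_of_col hΓ hc e
          rw [SimpleGraph.dist_comm, hm, SimpleGraph.dist_comm, hy] at this
          omega
        rw [hΓdef, SimpleGraph.fromRel_adj] at hxy
        rcases hxy.2 with h | h
        · exact ⟨(x, y), mem_filter.mpr ⟨by simp [hE, h], mem_Dset.mpr hd⟩,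
            Or.inl ⟨rfl, by simp only; omega⟩⟩
        · exact ⟨(y, x), mem_filter.mpr ⟨by simp [hE, h], mem_Dset.mpr (Ne.symm hd)⟩,
            Or.inr ⟨rfl, by simp only; omega⟩⟩
      choose p hp1 hp2 using hex
      have hcard : (univ.erase w).card = n - 1 := by simp [hn]
      rw [← hcard]
      refine card_le_card_of_injOn (fun x => if h : x ∈ univ.erase w then p x h else (x, x))
        (fun x hx => ?_) fun a ha b hb e => ?_
      · rw [Finset.mem_coe] at hx
        simp only [dif_pos hx]
        exact hp1 x hx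
      · rw [Finset.mem_coe] at ha hb
        simp only [dif_pos ha, dif_pos hb] at e
        have h1 := hp2 a ha
        have h2 := hp2 b hb
        rw [← e] at h2
        rcases h1 with ⟨q1, q2⟩ | ⟨q1, q2⟩ <;> rcases h2 with ⟨r1, r2⟩ | ⟨r1, r2⟩
        · exact q1.symm.trans r1
        · omega
        · omega
        · exact q1.symm.trans r1
    have htot : ∑ w : Ω, (E.filter fun p => w ∈ Dset G p.1 p.2).card = E.card * D := by
      rw [Finset.sum_congr rfl fun w _ => Finset.card_filter _ _, Finset.sum_comm]
      have : ∀ p ∈ E, (∑ w : Ω, if w ∈ Dset G p.1 p.2 then 1 else 0) = D := by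
        intro p hp
        simp only [hE, mem_filter, mem_univ, true_and] at hp
        rw [← Finset.card_filter]
        rw [show (univ.filter fun w => w ∈ Dset G p.1 p.2) = Dset G p.1 p.2 by ext; simp]
        exact card_Dset_of_col hp
      rw [Finset.sum_congr rfl this, Finset.sum_const, smul_eq_mul]
    have h3 : n * (n - 1) ≤ n * ((out G i u).card * D) := by
      calc n * (n - 1) = ∑ _w : Ω, (n - 1) := by rw [Finset.sum_const, card_univ, smul_eq_mul]
        _ ≤ _ := Finset.sum_le_sum fun w _ => hlow w
        _ = _ := by rw [htot, hEc, mul_assoc]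
    exact Nat.le_of_mul_le_mul_left h3 (by omega)
  by_cases hbig : ∀ x y : Ω, x ≠ y → 4 * (out G (col G x y) x).card ≤ 3 * (n - 1)
  · -- no dominant orbital
    have hex : ∃ p : Ω × Ω, n ≤ 4 * (Dset G p.1 p.2).card := by
      by_contra hcon
      push Not at hcon
      have h1 : ∀ w x : Ω, n ≤ 4 * (univ.filter fun y => w ∈ Dset G x y).card := by
        intro w x
        have hsplit := Finset.card_filter_add_card_filter_not (s := (univ : Finset Ω))
          (fun y => w ∈ Dset G x y)
        have hcomp : (univ.filter fun y => ¬ w ∈ Dset G x y) = out G (col G w x) w := by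
          ext y; simp [mem_Dset, mem_out, eq_comm]
        rw [hcomp, card_univ] at hsplit
        by_cases hwx : w = x
        · subst hwx
          have : out G (col G w w) w = {w} := by
            ext y
            rw [mem_out, Finset.mem_singleton]
            refine ⟨fun h => ?_, fun h => h ▸ rfl⟩
            by_contra hne
            exact col_ne_diag (Ne.symm hne) w h
          rw [this, card_singleton] at hsplit
          omega
        · have := hbig w x hwx
          omega
      have h2 : ∑ w : Ω, ∑ x : Ω, (univ.filter fun y => w ∈ Dset G x y).card =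
          ∑ x : Ω, ∑ y : Ω, (Dset G x y).card := by
        rw [Finset.sum_comm]
        refine Finset.sum_congr rfl fun x _ => ?_
        rw [Finset.sum_congr rfl fun w _ => Finset.card_filter _ _, Finset.sum_comm]
        refine Finset.sum_congr rfl fun y _ => ?_
        rw [← Finset.card_filter]
        congr 1
        ext; simp
      have h3 : n * (n * n) ≤ 4 * ∑ w : Ω, ∑ x : Ω, (univ.filter fun y => w ∈ Dset G x y).card := by
        simp only [Finset.mul_sum]
        calc n * (n * n) = ∑ _w : Ω, ∑ _x : Ω, n := by simp [hn]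
          _ ≤ _ := Finset.sum_le_sum fun w _ => Finset.sum_le_sum fun x _ => h1 w x
      have h4 : 4 * (∑ x : Ω, ∑ y : Ω, (Dset G x y).card) < n * (n * n) := by
        simp only [Finset.mul_sum]
        calc (∑ x : Ω, ∑ y : Ω, 4 * (Dset G x y).card) < ∑ _x : Ω, ∑ _y : Ω, n := by
              refine Finset.sum_lt_sum_of_nonempty ⟨u, mem_univ _⟩ fun x _ => ?_
              exact Finset.sum_lt_sum_of_nonempty ⟨u, mem_univ _⟩ fun y _ => hcon (x, y)
          _ = n * (n * n) := by simp [hn]
      rw [h2] at h3
      omega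
    obtain ⟨⟨x, z⟩, hxz⟩ := hex
    have h1 := hmul x z
    have h2 : Γ.dist x z * D ≤ D * D := Nat.mul_le_mul_right _ (hdiam x z)
    simp only at hxz
    have : n ≤ 4 * (D * D) := by omega
    calc n ≤ 4 * (D * D) := this
      _ ≤ (2 * D + 1) ^ 2 := by nlinarith
  · -- a dominant orbital
    push Not at hbig
    obtain ⟨a, b, hab, hd⟩ := hbig
    set j := col G a b with hj
    set d := (out G j a).card with hdd
    have hdall : ∀ x, (out G j x).card = d := fun x => card_out_eq j x a
    have hjdiag : ∀ w, j ≠ col G w w := fun w => col_ne_diag hab w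
    have hsym : ∀ x y, col G x y = j → col G y x = j := by
      -- the reversed orbital is also dominant, so the two meet
      have hjj : col G b a = j := by
        by_contra hne
        set j' := col G b a with hj'
        have hrev : ∀ x y, col G x y = j → col G y x = j' := fun x y h => by
          obtain ⟨k, rfl, rfl⟩ := col_eq_iff.mp h
          exact col_smul k b a
        have hcount : n * d ≤ ∑ x : Ω, (out G j' x).card := by
          have : (∑ _x : Ω, d) = ∑ x : Ω, (out G j x).card :=
            Finset.sum_congr rfl fun x _ => (hdall x).symm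
          rw [Finset.sum_const, card_univ, smul_eq_mul] at this
          rw [hn, this, ← Finset.card_sigma, ← Finset.card_sigma]
          refine card_le_card_of_injOn (fun p => ⟨p.2, p.1⟩) (fun p hp => ?_) ?_
          · simp only [Finset.mem_coe, Finset.mem_sigma, mem_univ, true_and, mem_out] at hp ⊢
            exact hrev _ _ hp
          · rintro ⟨p1, p2⟩ _ ⟨q1, q2⟩ _ e
            simp only [Sigma.mk.injEq, heq_eq_eq] at e
            rw [e.1, e.2]
        have hd' : ∀ x, (out G j' x).card = (out G j' a).card := fun x => card_out_eq j' x a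
        rw [Finset.sum_congr rfl fun x _ => hd' x, Finset.sum_const, card_univ, smul_eq_mul] at hcount
        have hle : d ≤ (out G j' a).card := Nat.le_of_mul_le_mul_left hcount (by omega)
        have hdisj : Disjoint (out G j a) (out G j' a) := Finset.disjoint_left.mpr fun y h1 h2 => by
          rw [mem_out] at h1 h2
          exact hne (h2.symm.trans h1)
        have hsub : out G j a ∪ out G j' a ⊆ univ.erase a := fun y hy => by
          rw [mem_union, mem_out, mem_out] at hy
          refine Finset.mem_erase.mpr ⟨?_, mem_univ _⟩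
          rintro rfl
          rcases hy with h | h
          · exact hjdiag y h.symm
          · exact col_ne_diag (Ne.symm hab) y h.symm
        have := card_le_card hsub
        rw [card_union_of_disjoint hdisj, card_erase_of_mem (mem_univ _), card_univ, ← hn] at this
        omega
      intro x y h
      obtain ⟨k, rfl, rfl⟩ := col_eq_iff.mp h
      rw [col_smul]; exact hjj
    let S : Ω → Finset Ω := fun x => univ.filter fun w => w ≠ x ∧ col G x w ≠ j
    have hS : ∀ x w, w ∈ S x ↔ w ≠ x ∧ col G x w ≠ j := fun x w => by simp [S]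
    have hScomm : ∀ x w, w ∈ S x → x ∈ S w := fun x w h => by
      rw [hS] at h ⊢
      exact ⟨h.1.symm, fun e => h.2 (hsym _ _ e)⟩
    set e := n - 1 - d with he
    have hSc : ∀ x, (S x).card = e := by
      intro x
      have hsplit := Finset.card_filter_add_card_filter_not (s := univ.erase x)
        (fun w => col G x w = j)
      have h1 : (univ.erase x).filter (fun w => col G x w = j) = out G j x := by
        ext w
        simp only [mem_filter, Finset.mem_erase, mem_univ, and_true, mem_out, and_iff_right_iff_imp]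
        rintro h rfl
        exact hjdiag w h.symm
      have h2 : (univ.erase x).filter (fun w => ¬ col G x w = j) = S x := by
        ext w; simp [S]
      rw [h1, h2, hdall, card_erase_of_mem (mem_univ _), card_univ, ← hn] at hsplit
      omega
    -- the complementary graph
    obtain ⟨s1, s2, hs12, hsj⟩ : ∃ x y : Ω, x ≠ y ∧ col G x y ≠ j := by
      by_contra hcon
      push Not at hcon
      exact huni fun x y x' y' h h' => (hcon x y h).trans (hcon x' y' h').symm
    have he1 : 1 ≤ e := by
      rw [← hSc s1]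
      exact card_pos.mpr ⟨s2, (hS s1 s2).mpr ⟨hs12.symm, hsj⟩⟩
    set T : SimpleGraph Ω := SimpleGraph.fromRel fun x y : Ω => col G x y ≠ j with hTdef
    have hT : Inv T G := inv_fromRel (G := G) (Ω := Ω) fun c => c ≠ j
    have hTadj : ∀ x y, T.Adj x y ↔ y ∈ S x := fun x y => by
      rw [hTdef, SimpleGraph.fromRel_adj, hS]
      exact ⟨fun ⟨h1, h2⟩ => ⟨h1.symm, h2.elim id fun h2 e => h2 (hsym _ _ e)⟩,
        fun ⟨h1, h2⟩ => ⟨h1.symm, Or.inl h2⟩⟩
    have hTc := connected_of_inv hT ((hTadj s1 s2).mpr ((hS s1 s2).mpr ⟨hs12.symm, hsj⟩))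
    have hcommon : ∀ x z, col G x z = j → ∃ w, w ∈ S x ∧ w ∈ S z := by
      have hne : T.dist a b ≠ 0 := fun h => hab (hTc.dist_eq_zero_iff.mp h)
      have hne1 : T.dist a b ≠ 1 := fun h =>
        ((hS a b).mp ((hTadj a b).mp (SimpleGraph.dist_eq_one_iff_adj.mp h))).2 rfl
      obtain ⟨f, hf0, hfm, hfa, hfd⟩ := exists_geodesic hTc (rfl : T.dist a b = T.dist a b)
      have hd2 : T.dist (f 0) (f 2) = 2 := hfd 0 2 (by omega) (by omega)
      have hne02 : f 0 ≠ f 2 := fun h => by simp [h] at hd2
      have hj02 : col G (f 0) (f 2) = j := by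
        by_contra hne'
        have : T.dist (f 0) (f 2) = 1 := SimpleGraph.dist_eq_one_iff_adj.mpr
          ((hTadj _ _).mpr ((hS _ _).mpr ⟨hne02.symm, hne'⟩))
        omega
      intro x z h
      obtain ⟨k, rfl, rfl⟩ := col_eq_iff.mp (h.trans hj02.symm)
      refine ⟨k • f 1, ?_, ?_⟩
      · exact (hTadj _ _).mp (hT k _ _ (hfa 0 (by omega)))
      · exact (hTadj _ _).mp (hT k _ _ (hfa 1 (by omega))).symm
    obtain ⟨z, hz, hzmin⟩ := Finset.exists_min_image (out G j a) (fun y => (S a ∩ S y).card)
      ⟨b, mem_out.mpr rfl⟩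
    rw [mem_out] at hz
    set μ := (S a ∩ S z).card with hμ
    have hμ1 : 1 ≤ μ := by
      obtain ⟨w, h1, h2⟩ := hcommon a z hz
      exact card_pos.mpr ⟨w, mem_inter.mpr ⟨h1, h2⟩⟩
    have hcnt : d * μ ≤ e * (e - 1) := by
      calc d * μ = ∑ _y ∈ out G j a, μ := by rw [Finset.sum_const, smul_eq_mul]
        _ ≤ ∑ y ∈ out G j a, (S a ∩ S y).card := Finset.sum_le_sum fun y hy => hzmin y hy
        _ = ∑ y ∈ out G j a, ∑ w ∈ S a, if w ∈ S y then 1 else 0 := by
            refine Finset.sum_congr rfl fun y _ => ?_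
            rw [← Finset.card_filter, Finset.filter_mem_eq_inter]
        _ = ∑ w ∈ S a, ((out G j a).filter fun y => w ∈ S y).card := by
            rw [Finset.sum_comm]
            exact Finset.sum_congr rfl fun w _ => (Finset.card_filter _ _).symm
        _ ≤ ∑ _w ∈ S a, (e - 1) := by
            refine Finset.sum_le_sum fun w hw => ?_
            rw [← hSc w, ← card_erase_of_mem (hScomm _ _ hw)]
            refine card_le_card fun y hy => ?_
            rw [mem_filter, mem_out] at hy
            refine Finset.mem_erase.mpr ⟨?_, hScomm _ _ hy.2⟩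
            rintro rfl
            exact hjdiag y hy.1.symm
        _ = e * (e - 1) := by rw [Finset.sum_const, hSc, smul_eq_mul]
    have hd3 : 3 * e ≤ d := by omega
    have hμe : 3 * μ ≤ e := by
      have h1 : (3 * μ) * e ≤ e * e := by
        calc (3 * μ) * e = (3 * e) * μ := by ring
          _ ≤ d * μ := Nat.mul_le_mul_right _ hd3
          _ ≤ e * (e - 1) := hcnt
          _ ≤ e * e := Nat.mul_le_mul_left _ (Nat.sub_le _ _)
      exact Nat.le_of_mul_le_mul_right h1 he1
    have hn1 : n - 1 ≤ e * e := by
      have h1 : d ≤ e * (e - 1) := le_trans (Nat.le_mul_of_pos_right _ hμ1) hcnt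
      have h2 : e * (e - 1) + e = e * e := by
        obtain ⟨t, ht⟩ := Nat.exists_eq_succ_of_ne_zero (show e ≠ 0 by omega)
        rw [ht, Nat.succ_sub_one, Nat.succ_eq_add_one]; ring
      omega
    -- the dominant orbital is well distinguished
    have hD1 : 2 * (e - μ) ≤ (Dset G a z).card := by
      have h1 : (S a \ S z).card + (S z \ S a).card ≤ (Dset G a z).card := by
        rw [← card_union_of_disjoint (Finset.disjoint_left.mpr fun w h1 h2 =>
          (Finset.mem_sdiff.mp h1).2 (Finset.mem_sdiff.mp h2).1)]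
        refine card_le_card fun w hw => ?_
        have side : ∀ x y, col G x y = j → w ∈ S x → w ∉ S y → col G w x ≠ col G w y := by
          intro x y hxy h1 h2 heq
          have hx := (hS w x).mp (hScomm _ _ h1)
          by_cases hwy : w = y
          · subst hwy; exact hjdiag w ((hsym _ _ hxy).symm.trans heq)
          · apply hx.2
            rw [heq]
            by_contra h3
            exact h2 (hScomm _ _ ((hS w y).mpr ⟨Ne.symm hwy, h3⟩))
        rw [mem_union, Finset.mem_sdiff, Finset.mem_sdiff] at hw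
        rw [mem_Dset]
        rcases hw with ⟨h1, h2⟩ | ⟨h1, h2⟩
        · exact side a z hz h1 h2
        · exact (side z a (hsym _ _ hz) h1 h2).symm
      have h2 := Finset.card_sdiff_add_card_inter (S a) (S z)
      have h3 := Finset.card_sdiff_add_card_inter (S z) (S a)
      rw [Finset.inter_comm (S z) (S a)] at h3
      rw [hSc] at h2 h3
      omega
    by_cases hij : i = j
    · have hDa : D = (Dset G a z).card := card_Dset_of_col (hij.trans hz.symm)
      have : e ≤ D := by omega
      have : n - 1 ≤ D * D := le_trans hn1 (Nat.mul_le_mul this this)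
      calc n ≤ D * D + 1 := by omega
        _ ≤ (2 * D + 1) ^ 2 := by nlinarith
    · set di := (out G i u).card with hdi
      have hdie : di ≤ e := by
        rw [← hSc u]
        refine card_le_card fun w hw => (hS u w).mpr ⟨?_, ?_⟩
        · rintro rfl
          exact col_ne_diag huv w (mem_out.mp hw).symm
        · rw [mem_out.mp hw]; exact hij
      set L := Γ.dist a z with hL
      have hkD : 2 * (e - μ) ≤ L * D := le_trans hD1 (hmul a z)
      suffices h : n - 1 ≤ 4 * (D * D) by
        calc n ≤ 4 * (D * D) + 1 := by omega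
          _ ≤ (2 * D + 1) ^ 2 := by nlinarith
      rcases Nat.lt_or_ge L 4 with hsmall | hlarge
      · have h1 : 4 * e ≤ 9 * D := by
          have : L * D ≤ 3 * D := Nat.mul_le_mul_right _ (by omega)
          omega
        have h2 : n - 1 ≤ e * D := le_trans hedge (Nat.mul_le_mul_right _ hdie)
        have h3 : (4 * e) * D ≤ (9 * D) * D := Nat.mul_le_mul_right _ h1
        nlinarith
      · obtain ⟨f, hf0, hfm, hfa, hfd⟩ := exists_geodesic hc hL.symm
        set t := (L - 1) / 3 with ht
        have hdist : ∀ s < t, ∀ w ∈ out G i (f (2 + 3 * s)), Γ.dist (f (2 + 3 * s)) w ≤ 1 := by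
          intro s _ w hw
          rw [mem_out] at hw
          by_cases h : f (2 + 3 * s) = w
          · simp [h]
          · refine le_of_eq (SimpleGraph.dist_eq_one_iff_adj.mpr ?_)
            rw [hΓdef, SimpleGraph.fromRel_adj]
            exact ⟨h, Or.inl hw⟩
        have hdj : ∀ x ∈ Finset.range t, ∀ y ∈ Finset.range t, x ≠ y →
            Disjoint (out G i (f (2 + 3 * x))) (out G i (f (2 + 3 * y))) := by
          intro x hx y hy hxy
          rw [Finset.mem_range] at hx hy
          refine Finset.disjoint_left.mpr fun w h1 h2 => ?_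
          have a1 := hdist x hx w h1
          have a2 := hdist y hy w h2
          have a3 := hc.dist_triangle (u := f (2 + 3 * x)) (v := w) (w := f (2 + 3 * y))
          rw [SimpleGraph.dist_comm (u := w)] at a3
          rcases Nat.lt_or_gt_of_ne hxy with h | h
          · rw [hfd (2 + 3 * x) (2 + 3 * y) (by omega) (by omega)] at a3; omega
          · rw [SimpleGraph.dist_comm (u := f (2 + 3 * x)) (v := f (2 + 3 * y)),
              hfd (2 + 3 * y) (2 + 3 * x) (by omega) (by omega)] at a3
            omega
        have hsub : (Finset.range t).biUnion (fun s => out G i (f (2 + 3 * s))) ⊆ S a ∩ S z := by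
          intro w hw
          rw [mem_biUnion] at hw
          obtain ⟨s, hs, hw⟩ := hw
          rw [Finset.mem_range] at hs
          have h1 := hdist s hs w hw
          have d0 : Γ.dist (f 0) (f (2 + 3 * s)) = 2 + 3 * s := hfd 0 _ (by omega) (by omega)
          have dm : Γ.dist (f (2 + 3 * s)) (f L) = L - (2 + 3 * s) := hfd _ L (by omega) le_rfl
          rw [hf0] at d0
          rw [hfm] at dm
          have b1 := hc.dist_triangle (u := z) (v := f (2 + 3 * s)) (w := w)
          have b2 := hc.dist_triangle (u := z) (v := w) (w := f (2 + 3 * s))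
          have c1 := hc.dist_triangle (u := w) (v := f (2 + 3 * s)) (w := a)
          have c2 := hc.dist_triangle (u := f (2 + 3 * s)) (v := w) (w := a)
          rw [SimpleGraph.dist_comm (u := w) (v := f (2 + 3 * s))] at b2 c1
          rw [SimpleGraph.dist_comm (u := w) (v := a)] at c1 c2
          have hLz : Γ.dist z a = L := by rw [SimpleGraph.dist_comm]
          refine mem_inter.mpr ⟨(hS a w).mpr ⟨?_, ?_⟩, (hS z w).mpr ⟨?_, ?_⟩⟩
          · rintro rfl; simp at c1 c2; omega
          · intro h
            have := dist_eq_of_col hΓ hc (h.trans hz.symm)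
            omega
          · rintro rfl; simp at b1 b2; omega
          · intro h
            have := dist_eq_of_col hΓ hc (h.trans (hsym _ _ hz).symm)
            omega
        have hμd : t * di ≤ μ := by
          refine le_trans (le_of_eq ?_) (card_le_card hsub)
          rw [card_biUnion hdj]
          rw [Finset.sum_congr rfl fun s _ => card_out_eq i (f (2 + 3 * s)) u, Finset.sum_const,
            card_range, smul_eq_mul]
        have h6 : L * di ≤ 6 * μ := by
          calc L * di ≤ (6 * t) * di := Nat.mul_le_mul_right _ (by omega)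
            _ = 6 * (t * di) := by ring
            _ ≤ 6 * μ := Nat.mul_le_mul_left _ hμd
        have h7 : 4 * μ * (n - 1) ≤ 6 * μ * (D * D) := by
          calc 4 * μ * (n - 1) ≤ (2 * (e - μ)) * (di * D) := Nat.mul_le_mul (by omega) hedge
            _ ≤ (L * D) * (di * D) := Nat.mul_le_mul_right _ hkD
            _ = (L * di) * (D * D) := by ring
            _ ≤ 6 * μ * (D * D) := Nat.mul_le_mul_right _ h6
        nlinarith

/-- A doubly transitive group with an element of support small against `√n` has an element moving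
exactly three points. -/
theorem exists_three_of_two_transitive {H : Subgroup (Equiv.Perm Ω)}
    (h2 : ∀ x a b : Ω, a ≠ x → b ≠ x → ∃ k ∈ H, k x = x ∧ k a = b)
    {σ : Equiv.Perm Ω} (hσ : σ ∈ H) (hσ1 : σ ≠ 1)
    (hm : (σ.support.card - 1) * (σ.support.card - 1) + 1 < Fintype.card Ω) :
    ∃ c ∈ H, c ≠ 1 ∧ c.support.card ≤ 3 := by
  classical
  obtain ⟨x, hx⟩ : σ.support.Nonempty := by
    rw [nonempty_iff_ne_empty]
    exact fun h => hσ1 (Equiv.Perm.support_eq_empty_iff.mp h)
  set Δ := σ.support.erase x with hΔ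
  set K : Finset (Equiv.Perm Ω) := univ.filter fun k => k ∈ H ∧ k x = x with hK
  obtain ⟨k, hkK, hk⟩ : ∃ k ∈ K, ∀ a ∈ Δ, k a ∉ Δ := by
    by_contra hcon
    push Not at hcon
    set f : Ω → Ω → ℕ := fun a b => (K.filter fun k => k a = b).card with hf
    have hfib : ∀ a, a ≠ x → ∀ b, b ≠ x → ∀ b', b' ≠ x → f a b ≤ f a b' := by
      intro a ha b hb b' hb'
      obtain ⟨l, hl, hlx, hlb⟩ := h2 x b b' hb hb'
      refine card_le_card_of_injOn (fun k => l * k) (fun k hk => ?_) fun p _ q _ e => mul_left_cancel e
      simp only [Finset.mem_coe, hK, mem_filter, mem_univ, true_and] at hk ⊢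
      exact ⟨⟨H.mul_mem hl hk.1.1, by simp [hk.1.2, hlx]⟩, by simp [hk.2, hlb]⟩
    have hrow : ∀ a, a ≠ x → ∀ b, b ≠ x → (Fintype.card Ω - 1) * f a b ≤ K.card := by
      intro a ha b hb
      calc (Fintype.card Ω - 1) * f a b = ∑ _b' ∈ univ.erase x, f a b := by
            rw [Finset.sum_const, card_erase_of_mem (mem_univ _), card_univ, smul_eq_mul]
        _ ≤ ∑ b' ∈ univ.erase x, f a b' :=
            Finset.sum_le_sum fun b' hb' => hfib a ha b hb b' (Finset.mem_erase.mp hb').1
        _ ≤ K.card := by
            rw [← card_biUnion]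
            · exact card_le_card fun k hk => by
                obtain ⟨_, _, h⟩ := mem_biUnion.mp hk
                exact (mem_filter.mp h).1
            · intro p _ q _ hpq
              refine Finset.disjoint_left.mpr fun k h1 h2 => hpq ?_
              exact (mem_filter.mp h1).2.symm.trans (mem_filter.mp h2).2
    have hcov : K.card ≤ ∑ a ∈ Δ, ∑ b ∈ Δ, f a b := by
      refine le_trans (card_le_card (t := Δ.biUnion fun a => Δ.biUnion fun b =>
        K.filter fun k => k a = b) fun k hk => ?_) ?_
      · obtain ⟨a, ha, hka⟩ := hcon k hk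
        exact mem_biUnion.mpr ⟨a, ha, mem_biUnion.mpr ⟨k a, hka, mem_filter.mpr ⟨hk, rfl⟩⟩⟩
      · refine le_trans card_biUnion_le (Finset.sum_le_sum fun a _ => ?_)
        exact card_biUnion_le
    have hKpos : 0 < K.card := card_pos.mpr ⟨1, by simp [hK, H.one_mem]⟩
    have h1 : (Fintype.card Ω - 1) * K.card ≤ (Δ.card * Δ.card) * K.card := by
      calc (Fintype.card Ω - 1) * K.card
          ≤ (Fintype.card Ω - 1) * ∑ a ∈ Δ, ∑ b ∈ Δ, f a b := Nat.mul_le_mul_left _ hcov
        _ = ∑ a ∈ Δ, ∑ b ∈ Δ, (Fintype.card Ω - 1) * f a b := by simp [Finset.mul_sum]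
        _ ≤ ∑ _a ∈ Δ, ∑ _b ∈ Δ, K.card := Finset.sum_le_sum fun a ha => Finset.sum_le_sum fun b hb =>
            hrow a (Finset.mem_erase.mp ha).1 b (Finset.mem_erase.mp hb).1
        _ = _ := by simp [mul_assoc]
    have := Nat.le_of_mul_le_mul_right h1 hKpos
    rw [hΔ, card_erase_of_mem hx] at this
    omega
  simp only [hK, mem_filter, mem_univ, true_and] at hkK
  set τ := k * σ * k⁻¹ with hτ
  have hτH : τ ∈ H := H.mul_mem (H.mul_mem hkK.1 hσ) (H.inv_mem hkK.1)
  have hmeet : ∀ y, y ∈ σ.support → y ∈ τ.support → y = x := by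
    intro y hy hy'
    by_contra hne
    have h1 : k⁻¹ y ∈ σ.support := by
      rw [Equiv.Perm.mem_support] at hy' ⊢
      intro h
      apply hy'
      show k (σ (k⁻¹ y)) = y
      rw [h]; simp
    have h2 : k⁻¹ y ≠ x := fun h => hne (by rw [← hkK.2, ← h]; simp)
    exact hk _ (Finset.mem_erase.mpr ⟨h2, h1⟩)
      (by simp [hΔ, hne, Equiv.Perm.mem_support.mp hy])
  have hxτ : τ x ≠ x := by
    have hkx : k⁻¹ x = x := by conv_lhs => rw [← hkK.2]; simp
    intro h
    change k (σ (k⁻¹ x)) = x at h
    rw [hkx] at h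
    have h' : σ x = x := k.injective (h.trans hkK.2.symm)
    exact Equiv.Perm.mem_support.mp hx h'
  have hσx : σ x ≠ x := Equiv.Perm.mem_support.mp hx
  have fix1 : ∀ y, y ≠ x → y ∈ σ.support → τ y = y := fun y h1 h2 => by
    by_contra h; exact h1 (hmeet y h2 (Equiv.Perm.mem_support.mpr h))
  have fix2 : ∀ y, y ≠ x → y ∈ τ.support → σ y = y := fun y h1 h2 => by
    by_contra h; exact h1 (hmeet y (Equiv.Perm.mem_support.mpr h) h2)
  set c := σ * τ * σ⁻¹ * τ⁻¹ with hc
  refine ⟨c, H.mul_mem (H.mul_mem (H.mul_mem hσ hτH) (H.inv_mem hσ)) (H.inv_mem hτH), ?_, ?_⟩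
  · intro h1
    have hy : τ (σ x) = σ x := fix1 _ hσx (Equiv.Perm.apply_mem_support.mpr hx)
    have h2 : τ⁻¹ (σ x) = σ x := by
      rw [Equiv.Perm.inv_eq_iff_eq]; exact hy.symm
    have h3 : σ (τ x) = τ x := fix2 _ hxτ
      (Equiv.Perm.apply_mem_support.mpr (Equiv.Perm.mem_support.mpr hxτ))
    have h4 : c (σ x) = τ x := by
      show σ (τ (σ⁻¹ (τ⁻¹ (σ x)))) = τ x
      rw [h2, Equiv.Perm.coe_inv, Equiv.symm_apply_apply, h3]
    rw [h1, Equiv.Perm.one_apply] at h4
    exact hσx (hmeet _ (Equiv.Perm.apply_mem_support.mpr hx)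
      (h4 ▸ Equiv.Perm.apply_mem_support.mpr (Equiv.Perm.mem_support.mpr hxτ)))
  · refine le_trans (card_le_card (t := {x, σ x, τ x}) fun y hy => ?_) card_le_three
    by_contra hno
    simp only [Finset.mem_insert, Finset.mem_singleton, not_or] at hno
    obtain ⟨n1, n2, n3⟩ := hno
    apply Equiv.Perm.mem_support.mp hy
    have ne2 : σ⁻¹ y ≠ x := fun h => n2 (by rw [← h]; simp)
    have ne3 : τ⁻¹ y ≠ x := fun h => n3 (by rw [← h]; simp)
    show σ (τ (σ⁻¹ (τ⁻¹ y))) = y
    by_cases hyτ : y ∈ τ.support
    · have hm1 : τ⁻¹ y ∈ τ.support := by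
        rw [← Equiv.Perm.apply_mem_support]; simpa using hyτ
      have h1 : σ⁻¹ (τ⁻¹ y) = τ⁻¹ y := by
        rw [Equiv.Perm.inv_eq_iff_eq]; exact (fix2 _ ne3 hm1).symm
      rw [h1, Equiv.Perm.coe_inv, Equiv.apply_symm_apply, fix2 y n1 hyτ]
    · have hτy : τ y = y := Equiv.Perm.notMem_support.mp hyτ
      have h1 : τ⁻¹ y = y := by rw [Equiv.Perm.inv_eq_iff_eq]; exact hτy.symm
      by_cases hyσ : y ∈ σ.support
      · have hm1 : σ⁻¹ y ∈ σ.support := by
          rw [← Equiv.Perm.apply_mem_support]; simpa using hyσ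
        rw [h1, fix1 _ ne2 hm1, Equiv.Perm.coe_inv, Equiv.apply_symm_apply]
      · have h2 : σ⁻¹ y = y := by
          rw [Equiv.Perm.inv_eq_iff_eq]; exact (Equiv.Perm.notMem_support.mp hyσ).symm
        rw [h1, h2, hτy, Equiv.Perm.notMem_support.mp hyσ]

end Cfsg.Agent.Distinguish
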