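import Cfsg.Agent.Lib.PermGp.ASevenGL
import Cfsg.Agent.Lib.LinearGroups.Basic

/-!
# `GL₄(2)` embeds in the alternating group of degree eight
-/

set_option autoImplicit false
set_option linter.style.haveILetI false

namespace Cfsg.Agent.PermGp.GLFour

open ASeven

theorem exists_toGL_eq {n : Type*} [DecidableEq n] [Fintype n] {F : Type*} [CommRing F]
    (g : GL n F) (hd : Matrix.det (g : Matrix n n F) = 1) :
    ∃ s : Matrix.SpecialLinearGroup n F, Matrix.SpecialLinearGroup.toGL s = g :=
  ⟨⟨(g : Matrix n n F), hd⟩, Units.ext rfl⟩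

theorem commutator_GL4 : commutator GL4 = ⊤ := by
  have hsurj : Function.Surjective
      (Matrix.SpecialLinearGroup.toGL : Matrix.SpecialLinearGroup (Fin 4) (ZMod 2) →* GL4) := by
    intro g
    have h1 : ∀ u : (ZMod 2)ˣ, u = 1 := by decide
    have hd : Matrix.det (g : Matrix (Fin 4) (Fin 4) (ZMod 2)) = 1 := by
      rw [← Matrix.GeneralLinearGroup.val_det_apply, h1 (Matrix.GeneralLinearGroup.det g), Units.val_one]
    exact exists_toGL_eq g hd
  have h := congrArg (Subgroup.map (Matrix.SpecialLinearGroup.toGL : Matrix.SpecialLinearGroup (Fin 4) (ZMod 2) →* GL4))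
    (LinGrp.commutator_SL_eq_top (n := Fin 4) (F := ZMod 2) (by simp))
  rw [Subgroup.map_top_of_surjective _ hsurj] at h
  rw [eq_top_iff, ← h, commutator_def, Subgroup.map_commutator, commutator_def]
  exact Subgroup.commutator_mono le_top le_top

/-- `GL₄(2)` is a group of even permutations of eight points. -/
theorem exists_embedding : ∃ f : GL4 →* alternatingGroup (Fin 8), Function.Injective f := by
  classical
  have hcard : Nat.card GL4 = 20160 := by
    rw [Matrix.card_GL_field, Fin.prod_univ_four]
    simp
  have hA7 : Nat.card (alternatingGroup (Fin 7)) = 2520 := by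
    rw [nat_card_alternatingGroup, Nat.card_fin]; rfl
  set H := toGL.range with hH
  have hHc : Nat.card H = 2520 := by
    rw [hH, ← Nat.card_congr (MonoidHom.ofInjective toGL_injective).toEquiv, hA7]
  have hidx : H.index = 8 := by
    have := Subgroup.card_mul_index H
    rw [hHc, hcard] at this
    omega
  have hcos : Nat.card (GL4 ⧸ H) = 8 := hidx
  haveI : Finite (GL4 ⧸ H) := inferInstance
  let e : GL4 ⧸ H ≃ Fin 8 := Finite.equivFinOfCardEq hcos
  let π : GL4 →* Equiv.Perm (Fin 8) :=
    e.permCongrHom.toMonoidHom.comp (MulAction.toPermHom GL4 (GL4 ⧸ H))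
  have hsign : ∀ g, π g ∈ alternatingGroup (Fin 8) := fun g => by
    have h := Abelianization.commutator_subset_ker (Equiv.Perm.sign.comp π)
    rw [commutator_GL4] at h
    exact MonoidHom.mem_ker.mp (h (Subgroup.mem_top g))
  refine ⟨π.codRestrict _ hsign, ?_⟩
  have hker : (MulAction.toPermHom GL4 (GL4 ⧸ H)).ker = ⊥ := by
    rw [← Subgroup.normalCore_eq_ker]
    haveI := alternatingGroup.isSimpleGroup (α := Fin 7) (by rw [Nat.card_fin]; omega)
    rcases (IsSimpleGroup.eq_bot_or_eq_top_of_normal (H.normalCore.comap toGL) inferInstance) with h | h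
    · refine eq_bot_iff.mpr fun x hx => ?_
      obtain ⟨a, rfl⟩ := H.normalCore_le hx
      have ha : a ∈ H.normalCore.comap toGL := hx
      rw [h, Subgroup.mem_bot] at ha
      rw [Subgroup.mem_bot, ha, map_one]
    · exfalso
      have hle : H ≤ H.normalCore := by
        rintro _ ⟨a, rfl⟩
        exact Subgroup.mem_comap.mp (h ▸ Subgroup.mem_top a)
      have hn : H.Normal := le_antisymm hle H.normalCore_le ▸ H.normalCore_normal
      haveI := hn
      haveI : Fact (Nat.Prime 2) := ⟨Nat.prime_two⟩
      have hp : IsPGroup 2 (GL4 ⧸ H) := IsPGroup.of_card (n := 3) (by rw [hcos]; norm_num)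
      haveI := hp.isNilpotent
      haveI : Nontrivial (GL4 ⧸ H) := Finite.one_lt_card_iff_nontrivial.mp (by omega)
      have h1 : commutator (GL4 ⧸ H) = ⊤ := by
        rw [eq_top_iff, ← Subgroup.map_top_of_surjective _ (QuotientGroup.mk'_surjective H),
          ← commutator_GL4, commutator_def, Subgroup.map_commutator, commutator_def]
        exact Subgroup.commutator_mono le_top le_top
      exact absurd h1 (Group.IsSolvable.commutator_lt_top_of_nontrivial (GL4 ⧸ H)).ne
  intro a b h
  have h' : π a = π b := congrArg Subtype.val h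
  exact (MonoidHom.ker_eq_bot_iff _).mp hker (e.permCongrHom.injective h')

end Cfsg.Agent.PermGp.GLFour
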