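import Cfsg.Agent.Lib.PermGp.Basic
import Mathlib.GroupTheory.GroupAction.FixingSubgroup
import Mathlib.GroupTheory.Perm.Cycle.Concrete
import Mathlib.GroupTheory.Sylow

/-! Generously multiply transitive groups. -/

set_option autoImplicit false
set_option linter.unusedSectionVars false

namespace Cfsg.Agent.PermGp

open MulAction
open scoped Pointwise

variable {α : Type*} [Fintype α] [DecidableEq α] {G : Subgroup (Equiv.Perm α)} {k : ℕ}

/-- A permutation preserving a `(k+1)`-set is realised on it. -/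
theorem generous_lift (hgen : ∀ s : Finset α, s.card = k + 1 → ∀ σ : Equiv.Perm ↥s, ∃ g ∈ G, ∀ x : ↥s, g (x : α) = σ x)
    (s : Finset α) (hs : s.card = k + 1) (τ : Equiv.Perm α) (hτ : ∀ x ∈ s, τ x ∈ s) :
    ∃ g : G, ∀ x ∈ s, g • x = τ x := by
  have hτ' : ∀ x, τ x ∈ s ↔ x ∈ s := by
    intro x
    refine ⟨fun h => ?_, hτ x⟩
    have himg : s.image τ = s := Finset.eq_of_subset_of_card_le
      (fun y hy => by obtain ⟨x, hx, rfl⟩ := Finset.mem_image.mp hy; exact hτ x hx)
      (by rw [Finset.card_image_of_injective _ τ.injective])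
    rw [← himg] at h
    obtain ⟨y, hy, hyx⟩ := Finset.mem_image.mp h
    rwa [← τ.injective hyx]
  obtain ⟨g, hg, hgx⟩ := hgen s hs (τ.subtypePerm hτ')
  exact ⟨⟨g, hg⟩, fun x hx => hgx ⟨x, hx⟩⟩

theorem generous_exists_image_eq (hgen : ∀ s : Finset α, s.card = k + 1 → ∀ σ : Equiv.Perm ↥s, ∃ g ∈ G, ∀ x : ↥s, g (x : α) = σ x) :
    ∀ (n : ℕ) (A B : Finset α), A.card = k → B.card = k → (A \ B).card = n →
      ∃ g : G, g • (A : Set α) = (B : Set α) := by
  intro n
  induction n with
  | zero =>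
    intro A B hA hB h
    rw [Finset.card_eq_zero, Finset.sdiff_eq_empty_iff_subset] at h
    exact ⟨1, by rw [Finset.eq_of_subset_of_card_le h (by omega), one_smul]⟩
  | succ n ih =>
    intro A B hA hB h
    obtain ⟨a, ha⟩ : (A \ B).Nonempty := Finset.card_pos.mp (by omega)
    obtain ⟨haA, haB⟩ := Finset.mem_sdiff.mp ha
    obtain ⟨b, hb⟩ : (B \ A).Nonempty := by
      rw [← Finset.card_pos, Finset.card_sdiff_comm (by omega)]
      omega
    obtain ⟨hbB, hbA⟩ := Finset.mem_sdiff.mp hb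
    obtain ⟨g, hg⟩ := generous_lift hgen (insert b A) (by rw [Finset.card_insert_of_notMem hbA, hA])
      (Equiv.swap a b) fun x hx => by
        rw [Equiv.swap_apply_def]
        split_ifs <;> simp_all
    set A' := insert b (A.erase a)
    have hA' : g • (A : Set α) = (A' : Set α) := by
      ext y
      simp only [Set.mem_smul_set, Finset.mem_coe, A', Finset.mem_insert, Finset.mem_erase]
      constructor
      · rintro ⟨x, hx, rfl⟩
        rw [hg x (Finset.mem_insert_of_mem hx), Equiv.swap_apply_def]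
        split_ifs with h1 h2
        · exact Or.inl rfl
        · exact absurd (h2 ▸ hx) hbA
        · exact Or.inr ⟨h1, hx⟩
      · rintro (rfl | ⟨hy, hyA⟩)
        · exact ⟨a, haA, by rw [hg a (Finset.mem_insert_of_mem haA), Equiv.swap_apply_left]⟩
        · exact ⟨y, hyA, by rw [hg y (Finset.mem_insert_of_mem hyA),
            Equiv.swap_apply_of_ne_of_ne hy (by rintro rfl; exact hbA hyA)]⟩
    have hbA' : b ∉ A.erase a := fun h => hbA (Finset.mem_of_mem_erase h)
    obtain ⟨g', hg'⟩ := ih A' B (by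
      rw [Finset.card_insert_of_notMem hbA', Finset.card_erase_of_mem haA, hA]
      have := Finset.card_pos.mpr ⟨a, haA⟩
      omega) hB (by
      rw [Finset.insert_sdiff_of_mem _ hbB, show A.erase a \ B = (A \ B).erase a by
        ext y; simp [and_assoc], Finset.card_erase_of_mem ha, h, Nat.add_sub_cancel])
    exact ⟨g' * g, by rw [mul_smul, hA', hg']⟩

theorem card_fixingSubgroup_smul (g : G) (s : Set α) :
    Nat.card (fixingSubgroup G (g • s)) = Nat.card (fixingSubgroup G s) := by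
  refine (Nat.card_congr ((MulAut.conj g).toEquiv.subtypeEquiv fun x => ?_)).symm
  show x ∈ fixingSubgroup G s ↔ g * x * g⁻¹ ∈ fixingSubgroup G (g • s)
  simp only [mem_fixingSubgroup_iff, Set.forall_mem_image, ← Set.image_smul, mul_smul, inv_smul_smul,
    smul_left_cancel_iff]

/-- Neumann: at most `p - 1` orbits of length prime to `p`. -/
theorem generous_exists_dvd_orbit (hgen : ∀ s : Finset α, s.card = k + 1 → ∀ σ : Equiv.Perm ↥s, ∃ g ∈ G, ∀ x : ↥s, g (x : α) = σ x)
    {p : ℕ} (hp : p.Prime) (hpk : p ≤ k) (Γ : Finset α) (hΓ : Γ.card = k) (f : Fin p → α)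
    (hf : ∀ i, f i ∉ Γ)
    (hdist : ∀ i j, i ≠ j → f j ∉ orbit (fixingSubgroup G (Γ : Set α)) (f i)) :
    ∃ i, p ∣ Nat.card (orbit (fixingSubgroup G (Γ : Set α)) (f i)) := by
  by_contra! hno
  have := Fact.mk hp
  set K := fixingSubgroup G (Γ : Set α) with hK
  obtain ⟨S, hSΓ, hS⟩ := Finset.exists_subset_card_eq (s := Γ) (show p ≤ Γ.card by omega)
  set τ := S.toList.formPerm with hτ
  have hnd := S.nodup_toList
  have hlen : S.toList.length = p := by rw [Finset.length_toList, hS]
  have hne1 : ∀ x, S.toList ≠ [x] := fun x e => by rw [e] at hlen; simp at hlen; exact hp.one_lt.ne hlen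
  have hsupp : τ.support = S := by
    rw [hτ, List.support_formPerm_of_nodup _ hnd hne1, Finset.toList_toFinset]
  have hord : τ ^ p = 1 := by
    have hcyc : τ.IsCycle := List.isCycle_formPerm hnd (by have := hp.two_le; omega)
    have h := pow_orderOf_eq_one τ
    rwa [hcyc.orderOf, hsupp, hS] at h
  have hτΓ : ∀ x ∈ Γ, τ x ∈ Γ := fun x hx => by
    by_cases h : x ∈ τ.support
    · exact hSΓ (hsupp ▸ Equiv.Perm.apply_mem_support.mpr h)
    · rw [Equiv.Perm.notMem_support.mp h]; exact hx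
  -- elements acting as `τ` on `Γ` and fixing a given point outside
  have hlift : ∀ x, x ∉ Γ → ∃ g : G, g • x = x ∧ ∀ y ∈ Γ, g • y = τ y := fun x hx => by
    have hxs : x ∉ τ.support := fun h => hx (hSΓ (hsupp ▸ h))
    obtain ⟨g, hg⟩ := generous_lift hgen (insert x Γ) (by rw [Finset.card_insert_of_notMem hx, hΓ]) τ
      fun y hy => by
        rcases Finset.mem_insert.mp hy with rfl | h
        · rw [Equiv.Perm.notMem_support.mp hxs]; exact Finset.mem_insert_self _ _
        · exact Finset.mem_insert_of_mem (hτΓ y h)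
    exact ⟨g, by rw [hg x (Finset.mem_insert_self _ _), Equiv.Perm.notMem_support.mp hxs],
      fun y hy => hg y (Finset.mem_insert_of_mem hy)⟩
  have : NeZero p := ⟨hp.ne_zero⟩
  obtain ⟨g₀, -, hg₀⟩ := hlift (f 0) (hf 0)
  set M := K ⊔ Subgroup.zpowers g₀ with hM
  -- the orbits of the `f i` are invariant
  have hinv : ∀ j, ∀ m ∈ M, ∀ y ∈ orbit K (f j), m • y ∈ orbit K (f j) := by
    intro j
    obtain ⟨h, hh, hhΓ⟩ := hlift (f j) (hf j)
    have hO : g₀ • orbit K (f j) ⊆ orbit K (f j) := by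
      rintro _ ⟨_, ⟨⟨u, hu⟩, rfl⟩, rfl⟩
      refine ⟨⟨g₀ * u * h⁻¹, ?_⟩, ?_⟩
      · rw [hK, mem_fixingSubgroup_iff] at hu ⊢
        intro y hy
        obtain ⟨z, hz, rfl⟩ : ∃ z ∈ Γ, τ z = y := by
          have himg : Γ.image τ = Γ := Finset.eq_of_subset_of_card_le
            (fun y hy => by obtain ⟨x, hx, rfl⟩ := Finset.mem_image.mp hy; exact hτΓ x hx)
            (by rw [Finset.card_image_of_injective _ τ.injective])
          rw [Finset.mem_coe, ← himg] at hy
          exact Finset.mem_image.mp hy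
        rw [mul_smul, mul_smul, show h⁻¹ • τ z = z from inv_smul_eq_iff.mpr (hhΓ z hz).symm, hu z hz,
          hg₀ z hz]
      · show (g₀ * u * h⁻¹) • f j = g₀ • u • f j
        rw [mul_smul, mul_smul, inv_smul_eq_iff.mpr hh.symm]
    have hle : M ≤ stabilizer G (orbit K (f j)) := by
      rw [hM, sup_le_iff, Subgroup.zpowers_le]
      refine ⟨fun u hu => ?_, ?_⟩
      · rw [mem_stabilizer_set']
        · intro y hy
          exact (orbit_eq_iff.mpr hy) ▸ ⟨⟨u, hu⟩, rfl⟩
        · exact Set.toFinite _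
      · rw [mem_stabilizer_set' (Set.toFinite _)]
        exact fun y hy => hO ⟨y, hy, rfl⟩
    intro m hm y hy
    exact (mem_stabilizer_set.mp (hle hm) y).mpr hy
  have hMfix : ∀ m ∈ M, ∀ y ∈ Γ \ S, m • y = y := by
    intro m hm y hy
    have hle : M ≤ stabilizer G y := by
      rw [hM, sup_le_iff, Subgroup.zpowers_le]
      obtain ⟨hyΓ, hyS⟩ := Finset.mem_sdiff.mp hy
      refine ⟨fun u hu => (mem_fixingSubgroup_iff _).mp hu y hyΓ, ?_⟩
      rw [mem_stabilizer_iff, hg₀ y hyΓ, Equiv.Perm.notMem_support.mp (hsupp ▸ hyS)]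
    exact hle hm
  -- the index
  have hKM : K ≤ M := le_sup_left
  have hg₀M : g₀ ∈ M := Subgroup.mem_sup_right (Subgroup.mem_zpowers g₀)
  have hg₀p : g₀ ^ p ∈ K := by
    rw [hK, mem_fixingSubgroup_iff]
    intro y hy
    have key : ∀ n : ℕ, g₀ ^ n • y = (τ ^ n) y ∧ (τ ^ n) y ∈ Γ := by
      intro n
      induction n with
      | zero => exact ⟨one_smul _ _, hy⟩
      | succ n ih =>
        rw [pow_succ' g₀, pow_succ' τ, mul_smul, ih.1, Equiv.Perm.mul_apply, hg₀ _ ih.2]
        exact ⟨rfl, hτΓ _ ih.2⟩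
    rw [(key p).1, hord]; rfl
  have hg₀K : g₀ ∉ K := fun h => by
    obtain ⟨y, hy⟩ := Finset.card_pos.mp (hS ▸ hp.pos)
    have h1 := (mem_fixingSubgroup_iff _).mp h y (hSΓ hy)
    rw [hg₀ y (hSΓ hy)] at h1
    exact Equiv.Perm.mem_support.mp (hsupp.symm ▸ hy) h1
  have hMnorm : (K.subgroupOf M).Normal := by
    rw [Subgroup.normal_subgroupOf_iff_le_normalizer hKM, hM, sup_le_iff, Subgroup.zpowers_le]
    refine ⟨Subgroup.le_normalizer, ?_⟩
    have himg : Γ.image τ = Γ := Finset.eq_of_subset_of_card_le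
      (fun y hy => by obtain ⟨x, hx, rfl⟩ := Finset.mem_image.mp hy; exact hτΓ x hx)
      (by rw [Finset.card_image_of_injective _ τ.injective])
    rw [Subgroup.mem_normalizer_iff]
    intro u
    simp only [hK, mem_fixingSubgroup_iff, mul_smul, Finset.mem_coe]
    constructor
    · intro hu y hy
      rw [← himg] at hy
      obtain ⟨z, hz, rfl⟩ := Finset.mem_image.mp hy
      rw [← hg₀ z hz, inv_smul_smul, hu z hz]
    · intro hu y hy
      have h1 := hu (τ y) (hτΓ y hy)
      rw [← hg₀ y hy, inv_smul_smul, smul_left_cancel_iff] at h1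
      exact h1
  have hpdvd : p * Nat.card K ∣ Nat.card M := by
    have h1 : Nat.card M = Nat.card (M ⧸ K.subgroupOf M) * Nat.card K := by
      rw [Subgroup.card_eq_card_quotient_mul_card_subgroup (K.subgroupOf M),
        Nat.card_congr (Subgroup.subgroupOfEquivOfLe hKM).toEquiv]
    rw [h1]
    refine Nat.mul_dvd_mul_right ?_ _
    have h2 : orderOf (QuotientGroup.mk ⟨g₀, hg₀M⟩ : M ⧸ K.subgroupOf M) = p := by
      refine orderOf_eq_prime ?_ fun h => hg₀K (Subgroup.mem_subgroupOf.mp ((QuotientGroup.eq_one_iff (N := K.subgroupOf M) ⟨g₀, hg₀M⟩).mp h))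
      rw [← QuotientGroup.mk_pow, QuotientGroup.eq_one_iff]
      exact Subgroup.mem_subgroupOf.mpr hg₀p
    rw [← h2]
    exact orderOf_dvd_natCard _
  -- fixed points of a Sylow subgroup
  obtain ⟨Q⟩ : Nonempty (Sylow p M) := inferInstance
  have hfix : ∀ j, ∃ y ∈ orbit K (f j), ∀ m : M, m ∈ (Q : Subgroup M) → (m : G) • y = y := by
    intro j
    letI : MulAction (Q : Subgroup M) (orbit K (f j)) :=
      { smul := fun m y => ⟨((m : M) : G) • (y : α), hinv j _ (m : M).2 _ y.2⟩
        one_smul := fun y => Subtype.ext (one_smul G (y : α))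
        mul_smul := fun a b y => Subtype.ext (mul_smul ((a : M) : G) ((b : M) : G) (y : α)) }
    obtain ⟨y, hy⟩ := Q.isPGroup'.nonempty_fixed_point_of_prime_not_dvd_card (orbit K (f j)) (hno j)
    exact ⟨y, y.2, fun m hm => congrArg Subtype.val (hy ⟨m, hm⟩)⟩
  choose y hy hyQ using hfix
  have hyΓ : ∀ j, y j ∉ Γ := fun j h => by
    obtain ⟨⟨u, hu⟩, huy⟩ := hy j
    have h1 := (mem_fixingSubgroup_iff _).mp hu (y j) h
    exact hf j ((MulAction.injective u (huy.trans h1.symm)).symm ▸ h)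
  have hyinj : Function.Injective y := fun a b e => by
    by_contra hab
    refine hdist a b hab ?_
    rw [← orbit_eq_iff.mpr (hy a), e, orbit_eq_iff.mpr (hy b)]
    exact mem_orbit_self _
  set Γ' := (Γ \ S) ∪ Finset.univ.image y with hΓ'
  have hΓ'card : Γ'.card = k := by
    rw [hΓ', Finset.card_union_of_disjoint, Finset.card_sdiff_of_subset hSΓ,
      Finset.card_image_of_injective _ hyinj, Finset.card_univ, Fintype.card_fin, hΓ, hS]
    · omega
    · rw [Finset.disjoint_left]
      intro z hz hz'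
      obtain ⟨j, -, rfl⟩ := Finset.mem_image.mp hz'
      exact hyΓ j (Finset.mem_sdiff.mp hz).1
  obtain ⟨g, hg⟩ := generous_exists_image_eq hgen _ Γ Γ' hΓ hΓ'card rfl
  have hQle : ((Q : Subgroup M).map M.subtype) ≤ fixingSubgroup G (Γ' : Set α) := by
    rintro _ ⟨m, hm, rfl⟩
    rw [mem_fixingSubgroup_iff]
    intro z hz
    rcases Finset.mem_union.mp (Finset.mem_coe.mp hz) with h | h
    · exact hMfix _ m.2 z h
    · obtain ⟨j, -, rfl⟩ := Finset.mem_image.mp h
      exact hyQ j m hm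
  have hcard := Subgroup.card_dvd_of_le hQle
  rw [← hg, card_fixingSubgroup_smul, ← hK,
    ← Nat.card_congr ((Q : Subgroup M).equivMapOfInjective _ M.subtype_injective).toEquiv,
    Sylow.card_eq_multiplicity] at hcard
  have h1 := (hp.pow_dvd_iff_le_factorization Nat.card_pos.ne').mp hcard
  have h2 : (p * Nat.card K).factorization p ≤ (Nat.card M).factorization p :=
    (Nat.factorization_le_iff_dvd (Nat.mul_ne_zero hp.ne_zero Nat.card_pos.ne') Nat.card_pos.ne').mpr hpdvd p
  rw [Nat.factorization_mul hp.ne_zero Nat.card_pos.ne', Finsupp.add_apply, hp.factorization_self] at h2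
  omega

end Cfsg.Agent.PermGp
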