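import Cfsg.Agent.Lib.PermGp.Basic

/-! Transitive permutation groups of prime degree: coordinates and the Sylow normaliser. -/

set_option autoImplicit false
set_option linter.unusedSectionVars false

namespace Cfsg.Agent.PermGp

open MulAction

variable {α : Type*} [Fintype α] [DecidableEq α] {p : ℕ} [hp : Fact p.Prime]
  (hα : Fintype.card α = p) (G : Subgroup (Equiv.Perm α)) [IsPretransitive G α]

include hα

theorem prime_dvd_card : p ∣ Nat.card G := by
  have : Nonempty α := Fintype.card_pos_iff.mp (hα ▸ hp.out.pos)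
  obtain ⟨a⟩ := this
  exact ⟨_, by rw [← card_mul_card_stabilizer (G := G) a, Nat.card_eq_fintype_card, hα]⟩

omit [IsPretransitive G α] in
theorem card_dvd_factorial : Nat.card G ∣ p.factorial := by
  have h := Subgroup.card_subgroup_dvd_card G
  rwa [Nat.card_perm, Nat.card_eq_fintype_card (α := α), hα] at h

omit [IsPretransitive G α] in
theorem not_sq_dvd_card : ¬ p ^ 2 ∣ Nat.card G := by
  intro h
  have h2 : p * p ∣ p * (p - 1).factorial := by
    rw [Nat.mul_factorial_pred hp.out.ne_zero, ← pow_two]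
    exact h.trans (card_dvd_factorial hα G)
  have h3 := (Nat.mul_dvd_mul_iff_left hp.out.pos).mp h2
  rw [hp.out.dvd_factorial] at h3
  have := hp.out.pos
  omega

theorem factorization_card : (Nat.card G).factorization p = 1 := by
  have h0 : Nat.card G ≠ 0 := Nat.card_pos.ne'
  have h1 := (hp.out.dvd_iff_one_le_factorization h0).mp (prime_dvd_card hα G)
  by_contra h
  exact not_sq_dvd_card hα G
    ((hp.out.pow_dvd_iff_le_factorization h0).mpr (by omega))

theorem card_sylow (P : Sylow p G) : Nat.card (P : Subgroup G) = p := by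
  rw [Sylow.card_eq_multiplicity, factorization_card hα G, pow_one]

/-- A cyclic frame: the Sylow `p`-subgroup is generated by `x`, a translation in coordinates. -/
theorem exists_frame (P : Sylow p G) :
    ∃ x : G, ∃ e : ZMod p ≃ α, (P : Subgroup G) = Subgroup.zpowers x ∧
      (∀ i, x • e i = e (i + 1)) := by
  classical
  have hP := card_sylow hα G P
  have hnt : (P : Subgroup G) ≠ ⊥ := by
    intro h
    rw [h, Subgroup.card_bot] at hP
    exact hp.out.one_lt.ne hP
  obtain ⟨x, hx, hx1⟩ := (Subgroup.bot_or_exists_ne_one (P : Subgroup G)).resolve_left hnt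
  have hord : orderOf x = p := by
    refine (hp.out.eq_one_or_self_of_dvd _ ?_).resolve_left (by simpa using hx1)
    rw [← hP]
    exact Subgroup.orderOf_dvd_natCard _ hx
  have hgen : (P : Subgroup G) = Subgroup.zpowers x :=
    (Subgroup.eq_of_le_of_card_ge ((Subgroup.zpowers_le).mpr hx)
      (by rw [hP, Nat.card_zpowers, hord])).symm
  obtain ⟨a, ha⟩ : ∃ a : α, x • a ≠ a := by
    by_contra! h
    exact hx1 (perm_ext fun a => by rw [h a, one_smul])
  have hinj : Function.Injective (fun i : ZMod p => x ^ i.val • a) := by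
    intro i j hij
    have hij' : x ^ i.val • a = x ^ j.val • a := hij
    by_contra hne
    have hmem : x ^ ((i.val : ℤ) - j.val) ∈ stabilizer G a := by
      rw [mem_stabilizer_iff, zpow_sub, ← Commute.eq (((Commute.refl x).zpow_zpow _ _).inv_left),
        mul_smul, zpow_natCast, zpow_natCast, hij', inv_smul_smul]
    obtain ⟨k, hk⟩ : ∃ k : ℤ, ((i.val : ℤ) - j.val) * k ≡ 1 [ZMOD p] := by
      refine ⟨((i - j)⁻¹ : ZMod p).val, ?_⟩
      rw [← ZMod.intCast_eq_intCast_iff]
      push_cast
      rw [ZMod.natCast_zmod_val, ZMod.natCast_zmod_val, ZMod.natCast_zmod_val]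
      exact mul_inv_cancel₀ (sub_ne_zero.mpr hne)
    apply ha
    have hm := Subgroup.zpow_mem _ hmem k
    have e1 : x ^ (((i.val : ℤ) - j.val) * k) = x ^ (1 : ℤ) := by
      rw [zpow_eq_zpow_iff_modEq, hord]; exact hk
    rw [← zpow_mul, e1, zpow_one] at hm
    exact hm
  have hbij : Function.Bijective (fun i : ZMod p => x ^ i.val • a) :=
    (Fintype.bijective_iff_injective_and_card _).mpr ⟨hinj, by rw [ZMod.card, hα]⟩
  refine ⟨x, Equiv.ofBijective _ hbij, hgen, fun i => ?_⟩
  show x • (x ^ i.val • a) = x ^ (i + 1).val • a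
  rw [← mul_smul, ← pow_succ']
  congr 1
  rw [pow_eq_pow_iff_modEq, hord, ← ZMod.natCast_eq_natCast_iff]
  push_cast
  rw [ZMod.natCast_zmod_val, ZMod.natCast_zmod_val]

omit hα [IsPretransitive G α] in
theorem frame_pow {x : G} {e : ZMod p ≃ α} (h : ∀ i, x • e i = e (i + 1)) (n : ℤ) (i : ZMod p) :
    x ^ n • e i = e (i + n) := by
  induction n using Int.induction_on with
  | zero => simp
  | succ n ih =>
    rw [zpow_add_one, Commute.eq ((Commute.refl x).zpow_left _), mul_smul, ih, h]
    push_cast; congr 1; ring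
  | pred n ih =>
    rw [zpow_sub_one, Commute.eq (((Commute.refl x).inv_right).zpow_left _), mul_smul, ih,
      inv_smul_eq_iff, h]
    push_cast; congr 1; ring

/-- Normalising elements are affine in the coordinates. -/
theorem normalizer_affine {P : Sylow p G} {x : G} {e : ZMod p ≃ α}
    (hP : (P : Subgroup G) = Subgroup.zpowers x) (h : ∀ i, x • e i = e (i + 1)) {g : G}
    (hg : g ∈ Subgroup.normalizer ((P : Subgroup G) : Set G)) :
    ∃ k b : ZMod p, k ≠ 0 ∧ ∀ i, g • e i = e (k * i + b) := by
  have hx : g * x * g⁻¹ ∈ Subgroup.zpowers x := by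
    rw [← hP]
    refine (Subgroup.mem_normalizer_iff.mp hg x).mp ?_
    rw [hP]; exact Subgroup.mem_zpowers x
  obtain ⟨n, hn⟩ := hx
  have hn' : x ^ n = g * x * g⁻¹ := hn
  obtain ⟨b, hb⟩ : ∃ b, g • e 0 = e b := ⟨e.symm (g • e 0), by simp⟩
  have key : ∀ i, g • e i = e ((n : ZMod p) * i + b) := by
    intro i
    have e1 : e i = x ^ (i.val : ℤ) • e 0 := by
      rw [frame_pow G h]; simp
    have e2 : g * x ^ (i.val : ℤ) = x ^ (n * (i.val : ℤ)) * g := by
      rw [zpow_mul, hn', conj_zpow]; group
    rw [e1, ← mul_smul, e2, mul_smul, hb, frame_pow G h]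
    push_cast [ZMod.natCast_zmod_val]
    congr 1; ring
  refine ⟨_, b, fun hk => ?_, key⟩
  have h0 := key 1
  rw [hk, zero_mul, zero_add, ← hb] at h0
  exact one_ne_zero (e.injective (MulAction.injective g h0))

omit hα [IsPretransitive G α] in
/-- An affine element normalises the subgroup generated by the translation. -/
theorem affine_mem_normalizer {x : G} {e : ZMod p ≃ α} (h : ∀ i, x • e i = e (i + 1)) {g : G}
    {k b : ZMod p} (hk : k ≠ 0) (hg : ∀ i, g • e i = e (k * i + b)) :
    g ∈ Subgroup.normalizer ((Subgroup.zpowers x : Subgroup G) : Set G) := by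
  have hinv : ∀ i, g⁻¹ • e i = e (k⁻¹ * (i - b)) := by
    intro i
    rw [inv_smul_eq_iff, hg, ← mul_assoc, mul_inv_cancel₀ hk, one_mul, sub_add_cancel]
  have hconj : g * x * g⁻¹ = x ^ (k.val : ℤ) := by
    apply perm_ext
    intro a
    obtain ⟨i, rfl⟩ := e.surjective a
    rw [mul_smul, mul_smul, hinv, h, hg, frame_pow G h]
    push_cast [ZMod.natCast_zmod_val]
    rw [mul_add, ← mul_assoc, mul_inv_cancel₀ hk]
    congr 1; ring
  have hconj' : g⁻¹ * x * g = x ^ ((k⁻¹).val : ℤ) := by
    apply perm_ext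
    intro a
    obtain ⟨i, rfl⟩ := e.surjective a
    rw [mul_smul, mul_smul, hg, h, hinv, frame_pow G h]
    push_cast [ZMod.natCast_zmod_val]
    rw [show k * i + b + 1 - b = k * i + 1 by ring, mul_add, ← mul_assoc, inv_mul_cancel₀ hk]
    congr 1; ring
  rw [Subgroup.mem_normalizer_iff]
  intro y
  constructor
  · intro hy
    obtain ⟨m, rfl⟩ := Subgroup.mem_zpowers_iff.mp hy
    rw [← conj_zpow, hconj]
    exact Subgroup.zpow_mem _ (Subgroup.zpow_mem _ (Subgroup.mem_zpowers x) _) _
  · intro hy
    obtain ⟨m, hm⟩ := Subgroup.mem_zpowers_iff.mp hy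
    have : y = g⁻¹ * x ^ m * g := by rw [hm]; group
    rw [this, show g⁻¹ * x ^ m * g = (g⁻¹ * x * g) ^ m by
      conv_rhs => rw [show g⁻¹ * x * g = g⁻¹ * x * g⁻¹⁻¹ by group, conj_zpow]
      group, hconj']
    exact Subgroup.zpow_mem _ (Subgroup.zpow_mem _ (Subgroup.mem_zpowers x) _) _

/-- The normaliser of a Sylow `p`-subgroup has order `p * d` with `d ∣ p - 1`. -/
theorem card_normalizer (P : Sylow p G) :
    ∃ d : ℕ, d ∣ p - 1 ∧ Nat.card (Subgroup.normalizer ((P : Subgroup G) : Set G)) = p * d := by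
  classical
  obtain ⟨x, e, hP, h⟩ := exists_frame hα G P
  set N := Subgroup.normalizer ((P : Subgroup G) : Set G) with hN
  have : IsPretransitive N α := by
    refine (isPretransitive_iff_base (e 0)).mpr fun y => ?_
    obtain ⟨i, rfl⟩ := e.surjective y
    refine ⟨⟨x ^ (i.val : ℤ), ?_⟩, ?_⟩
    · apply Subgroup.le_normalizer
      rw [hP]; exact Subgroup.zpow_mem _ (Subgroup.mem_zpowers x) _
    · show x ^ (i.val : ℤ) • e 0 = e i
      rw [frame_pow G h]; simp
  refine ⟨Nat.card (stabilizer N (e 0)), ?_, ?_⟩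
  · have hk : ∀ g : stabilizer N (e 0), ∃ k : (ZMod p)ˣ, ∀ i,
        ((g : N) : G) • e i = e ((k : ZMod p) * i) := by
      rintro ⟨⟨g, hg⟩, hg0⟩
      obtain ⟨k, b, hk0, hgb⟩ := normalizer_affine hα G hP h hg
      have hg0' : g • e 0 = e 0 := hg0
      have : b = 0 := by
        have := hgb 0
        rw [mul_zero, zero_add, hg0'] at this
        exact (e.injective this).symm
      exact ⟨Units.mk0 k hk0, fun i => by simpa [this] using hgb i⟩
    choose f hf using hk
    have funiq : ∀ (g : stabilizer N (e 0)) (k : (ZMod p)ˣ), (∀ i, ((g : N) : G) • e i = e ((k : ZMod p) * i)) → f g = k := by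
      intro g k hk
      have := (hf g 1).symm.trans (hk 1)
      simpa [Units.ext_iff] using e.injective this
    let F : stabilizer N (e 0) →* (ZMod p)ˣ :=
      MonoidHom.mk' f fun g g' => funiq _ _ fun i => by
        show (((g : N) : G) * ((g' : N) : G)) • e i = _
        rw [mul_smul, hf, hf, Units.val_mul, mul_assoc]
    have hF : Function.Injective F := by
      intro g g' hgg
      refine Subtype.ext (Subtype.ext (perm_ext fun a => ?_))
      obtain ⟨i, rfl⟩ := e.surjective a
      rw [hf g, hf g']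
      have : f g = f g' := hgg
      rw [this]
    have := Subgroup.card_dvd_of_injective F hF
    rwa [Nat.card_units, Nat.card_zmod] at this
  · rw [← card_mul_card_stabilizer (G := N) (e 0), Nat.card_eq_fintype_card (α := α), hα]

theorem card_eq_mul_sylow (P : Sylow p G) :
    ∃ d : ℕ, d ∣ p - 1 ∧ Nat.card G = p * d * Nat.card (Sylow p G) ∧
      Nat.card (Sylow p G) % p = 1 := by
  obtain ⟨d, hd, hN⟩ := card_normalizer hα G P
  refine ⟨d, hd, ?_, ?_⟩
  · rw [Sylow.card_eq_index_normalizer P, ← hN]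
    exact (Subgroup.card_mul_index _).symm
  · have := card_sylow_modEq_one p G
    rwa [Nat.ModEq, Nat.mod_eq_of_lt hp.out.one_lt] at this

end Cfsg.Agent.PermGp
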