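import Cfsg.Agent.Lib.PermGp.Basic
import Mathlib.GroupTheory.GroupAction.SubMulAction.Combination
import Mathlib.Data.Nat.Choose.Lucas
import Mathlib.Algebra.IsPrimePow
import Mathlib.Combinatorics.Enumerative.DoubleCounting

/-! Homogeneous permutation groups. -/

set_option autoImplicit false
set_option linter.unusedSectionVars false

namespace Cfsg.Agent.PermGp

open MulAction
open scoped Pointwise

/-- The binomial coefficient used by Wielandt. -/
theorem choose_prime_pow_modEq {p : ℕ} [hp : Fact p.Prime] (a m : ℕ) (hm : 1 ≤ m) :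
    Nat.choose (p ^ a * (m + 1) - 1) (p ^ a) ≡ m [MOD p] := by
  induction a with
  | zero => simp; rfl
  | succ a ih =>
    have hp2 := hp.out.two_le
    set X := p ^ a * (m + 1) with hX
    have hX0 : 1 ≤ X := Nat.mul_pos (pow_pos hp.out.pos _) (by omega)
    have hN : p ^ (a + 1) * (m + 1) - 1 = (X - 1) * p + (p - 1) := by
      rw [hX, show p ^ (a + 1) * (m + 1) = p ^ a * (m + 1) * p by ring, ← hX]
      have : X * p = (X - 1) * p + p := by rw [← Nat.succ_mul, Nat.succ_eq_add_one, Nat.sub_add_cancel hX0]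
      omega
    have h := Choose.choose_modEq_choose_mod_mul_choose_div_nat (p := p)
      (n := p ^ (a + 1) * (m + 1) - 1) (k := p ^ (a + 1))
    rw [hN] at h ⊢
    have e1 : ((X - 1) * p + (p - 1)) % p = p - 1 := by
      rw [Nat.mul_comm, Nat.mul_add_mod, Nat.mod_eq_of_lt (by omega)]
    have e2 : ((X - 1) * p + (p - 1)) / p = X - 1 := by
      rw [Nat.mul_comm, Nat.mul_add_div hp.out.pos, Nat.div_eq_of_lt (by omega), Nat.add_zero]
    have e3 : p ^ (a + 1) % p = 0 := Nat.mod_eq_zero_of_dvd (dvd_pow_self p (by omega)) |> id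
    have e4 : p ^ (a + 1) / p = p ^ a := by rw [pow_succ, Nat.mul_div_cancel _ hp.out.pos]
    rw [e1, e2, e3, e4, Nat.choose_zero_right, one_mul] at h
    exact h.trans ih

variable {α : Type*} [Fintype α] [DecidableEq α] {G : Type*} [Group G] [MulAction G α]

/-- Homogeneity on sets, in terms of finsets. -/
theorem homogeneous_iff {k : ℕ} : IsPretransitive G (Set.powersetCard α k) ↔
    ∀ A B : Finset α, A.card = k → B.card = k → ∃ g : G, g • A = B := by
  constructor
  · intro h A B hA hB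
    obtain ⟨g, hg⟩ := h.exists_smul_eq ⟨A, hA⟩ ⟨B, hB⟩
    exact ⟨g, congrArg Subtype.val hg⟩
  · intro h
    exact ⟨fun A B => by
      obtain ⟨g, hg⟩ := h A.1 B.1 A.2 B.2
      exact ⟨g, Subtype.ext hg⟩⟩

/-- Wielandt: `k`-homogeneity descends when every prime power divisor `q` of `k` has `k + q - 1 ≤ n`. -/
theorem homogeneous_pred {k : ℕ} (hk : 2 ≤ k) (hh : IsPretransitive G (Set.powersetCard α k))
    (hq : ∀ q : ℕ, IsPrimePow q → q ∣ k → k + q - 1 ≤ Fintype.card α) :
    IsPretransitive G (Set.powersetCard α (k - 1)) := by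
  classical
  rw [homogeneous_iff] at hh ⊢
  intro A₀ B₀ hA₀ hB₀
  let O : Finset α → Prop := fun A => ∃ g : G, g • A₀ = A
  have hkn : k < Fintype.card α := by
    obtain ⟨p, hp, hpk⟩ := Nat.exists_prime_and_dvd (show k ≠ 1 by omega)
    have := hq p hp.isPrimePow hpk
    have := hp.two_le
    omega
  let c : Finset α → ℕ := fun B => (B.filter fun b => O (B.erase b)).card
  have hOinv : ∀ (g : G) A, O (g • A) ↔ O A := fun g A => by
    constructor
    · rintro ⟨u, hu⟩; exact ⟨g⁻¹ * u, by rw [mul_smul, hu, inv_smul_smul]⟩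
    · rintro ⟨u, hu⟩; exact ⟨g * u, by rw [mul_smul, hu]⟩
  have hcinv : ∀ (g : G) B, c (g • B) = c B := by
    intro g B
    refine (Finset.card_bij (fun b _ => g • b) (fun b hb => ?_) (fun a _ b _ h => MulAction.injective g h)
      (fun b hb => ?_)).symm
    · obtain ⟨hbB, hO⟩ := Finset.mem_filter.mp hb
      refine Finset.mem_filter.mpr ⟨Finset.smul_mem_smul_finset hbB, ?_⟩
      rw [show (g • B).erase (g • b) = g • B.erase b by
        ext x; simp [Finset.mem_erase, ← Finset.inv_smul_mem_iff, eq_inv_smul_iff]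
        intro _; rw [inv_smul_eq_iff], hOinv]
      exact hO
    · obtain ⟨hbB, hO⟩ := Finset.mem_filter.mp hb
      obtain ⟨x, hx, rfl⟩ := Finset.mem_smul_finset.mp hbB
      refine ⟨x, Finset.mem_filter.mpr ⟨hx, ?_⟩, rfl⟩
      rw [← hOinv g, show g • B.erase x = (g • B).erase (g • x) by
        ext y; simp [Finset.mem_erase, ← Finset.inv_smul_mem_iff, eq_inv_smul_iff]
        intro _; rw [inv_smul_eq_iff]]
      exact hO
  obtain ⟨B₁, hA₀B₁, hB₁⟩ := Finset.exists_superset_card_eq (s := A₀) (n := k) (by omega) (by omega)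
  set t := c B₁ with ht
  have hconst : ∀ B, B.card = k → c B = t := fun B hB => by
    obtain ⟨g, rfl⟩ := hh B₁ B hB₁ hB
    exact hcinv g B₁
  have htpos : 0 < t := by
    obtain ⟨b, hb⟩ : ∃ b, b ∈ B₁ \ A₀ := Finset.card_pos.mp (by
      rw [Finset.card_sdiff_of_subset hA₀B₁]; omega)
    obtain ⟨hb1, hb2⟩ := Finset.mem_sdiff.mp hb
    refine Finset.card_pos.mpr ⟨b, Finset.mem_filter.mpr ⟨hb1, 1, ?_⟩⟩
    rw [one_smul]
    refine Finset.eq_of_subset_of_card_le (fun x hx => Finset.mem_erase.mpr ⟨(by rintro rfl; exact hb2 hx), hA₀B₁ hx⟩) ?_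
    rw [Finset.card_erase_of_mem hb1, hB₁, hA₀]
  -- the divisibility
  have hkey : ∀ J : Finset α, k ≤ J.card → k ∣ t * Nat.choose J.card (k - 1) := by
    intro J hJ
    have hdc := Finset.sum_card_bipartiteAbove_eq_sum_card_bipartiteBelow
      (s := (J.powersetCard (k - 1)).filter O) (t := J.powersetCard k) (r := fun A B => A ⊆ B)
    have hlhs : ∀ A ∈ (J.powersetCard (k - 1)).filter O,
        ((J.powersetCard k).bipartiteAbove (fun A B => A ⊆ B) A).card = J.card - (k - 1) := by
      intro A hA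
      obtain ⟨hAJ, hAc⟩ := Finset.mem_powersetCard.mp (Finset.mem_filter.mp hA).1
      have hgoal : (J \ A).card = J.card - (k - 1) := by rw [Finset.card_sdiff_of_subset hAJ, hAc]
      rw [← hgoal]
      refine (Finset.card_bij (fun x _ => insert x A) (fun x hx => ?_) (fun x hx y hy h => ?_)
        (fun B hB => ?_)).symm
      · obtain ⟨hxJ, hxA⟩ := Finset.mem_sdiff.mp hx
        refine Finset.mem_filter.mpr ⟨Finset.mem_powersetCard.mpr ⟨Finset.insert_subset hxJ hAJ, ?_⟩,
          Finset.subset_insert _ _⟩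
        rw [Finset.card_insert_of_notMem hxA, hAc]; omega
      · have := Finset.mem_insert_self x A
        rw [h, Finset.mem_insert] at this
        exact this.resolve_right (Finset.mem_sdiff.mp hx).2
      · obtain ⟨hB1, hAB⟩ := Finset.mem_filter.mp hB
        obtain ⟨hBJ, hBc⟩ := Finset.mem_powersetCard.mp hB1
        obtain ⟨x, hx⟩ := Finset.card_eq_one.mp (show (B \ A).card = 1 by
          rw [Finset.card_sdiff_of_subset hAB]; omega)
        have hxm : x ∈ B \ A := by rw [hx]; simp
        obtain ⟨hxB, hxA⟩ := Finset.mem_sdiff.mp hxm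
        refine ⟨x, Finset.mem_sdiff.mpr ⟨hBJ hxB, hxA⟩, ?_⟩
        refine Finset.eq_of_subset_of_card_le (Finset.insert_subset hxB hAB) ?_
        rw [Finset.card_insert_of_notMem hxA]; omega
    have hrhs : ∀ B ∈ J.powersetCard k,
        (((J.powersetCard (k - 1)).filter O).bipartiteBelow (fun A B => A ⊆ B) B).card = t := by
      intro B hB
      obtain ⟨hBJ, hBc⟩ := Finset.mem_powersetCard.mp hB
      rw [← hconst B hBc]
      refine (Finset.card_bij (fun x _ => B.erase x) (fun x hx => ?_) (fun x hx y hy h => ?_)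
        (fun A hA => ?_)).symm
      · obtain ⟨hxB, hO⟩ := Finset.mem_filter.mp hx
        exact Finset.mem_filter.mpr ⟨Finset.mem_filter.mpr ⟨Finset.mem_powersetCard.mpr
          ⟨(Finset.erase_subset _ _).trans hBJ, by rw [Finset.card_erase_of_mem hxB, hBc]⟩, hO⟩,
          Finset.erase_subset _ _⟩
      · exact Finset.erase_injOn B (Finset.mem_filter.mp hx).1 (Finset.mem_filter.mp hy).1 h
      · obtain ⟨hA1, hAB⟩ := Finset.mem_filter.mp hA
        obtain ⟨hA2, hO⟩ := Finset.mem_filter.mp hA1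
        obtain ⟨-, hAc⟩ := Finset.mem_powersetCard.mp hA2
        obtain ⟨x, hx⟩ := Finset.card_eq_one.mp (show (B \ A).card = 1 by
          rw [Finset.card_sdiff_of_subset hAB]; omega)
        have hxm : x ∈ B \ A := by rw [hx]; simp
        obtain ⟨hxB, hxA⟩ := Finset.mem_sdiff.mp hxm
        have hEq : B.erase x = A := (Finset.eq_of_subset_of_card_le
          (fun z hz => Finset.mem_erase.mpr ⟨(by rintro rfl; exact hxA hz), hAB hz⟩)
          (by rw [Finset.card_erase_of_mem hxB]; omega)).symm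
        exact ⟨x, Finset.mem_filter.mpr ⟨hxB, hEq ▸ hO⟩, hEq⟩
    rw [Finset.sum_congr rfl hlhs, Finset.sum_congr rfl hrhs, Finset.sum_const, Finset.sum_const,
      Finset.card_powersetCard, smul_eq_mul, smul_eq_mul] at hdc
    obtain ⟨j, hj⟩ : ∃ j, k = j + 1 := ⟨k - 1, by omega⟩
    subst hj
    simp only [Nat.add_sub_cancel] at hdc ⊢
    have hpos : 0 < J.card - j := by omega
    refine ⟨((J.powersetCard j).filter O).card, ?_⟩
    apply Nat.eq_of_mul_eq_mul_right hpos
    rw [mul_assoc t, ← Nat.choose_succ_right_eq, mul_assoc (j + 1), hdc]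
    ring
  -- `k` divides `t`
  have hdvd : k ∣ t := by
    rw [Nat.dvd_iff_prime_pow_dvd_dvd]
    intro p a hp hpa
    rcases Nat.eq_zero_or_pos a with rfl | ha
    · simp
    set b := k.factorization p
    have hab : a ≤ b := (hp.pow_dvd_iff_le_factorization (by omega)).mp hpa
    refine (pow_dvd_pow p hab).trans ?_
    have := Fact.mk hp
    obtain ⟨m, hm⟩ : p ^ b ∣ k := Nat.ordProj_dvd k p
    have hb1 : 1 ≤ b := by omega
    have hle := hq (p ^ b) ((hp.isPrimePow).pow (by omega)) (hm ▸ dvd_mul_right _ _)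
    have hpb : 2 ≤ p ^ b := le_trans hp.two_le (Nat.le_self_pow (by omega) p)
    obtain ⟨J, -, hJc⟩ := Finset.exists_superset_card_eq (s := (∅ : Finset α)) (n := k + p ^ b - 1)
      (by simp) hle
    have h := hkey J (by omega)
    rw [hJc] at h
    have h2 : p ^ b ∣ t * Nat.choose (k + p ^ b - 1) (k - 1) := Dvd.dvd.trans (hm ▸ dvd_mul_right _ _) h
    refine (Nat.Coprime.pow_left b ?_).dvd_of_dvd_mul_right h2
    rw [hp.coprime_iff_not_dvd]
    intro hdiv
    have hm1 : 1 ≤ m := Nat.pos_of_ne_zero fun h0 => by rw [h0, mul_zero] at hm; omega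
    have hsym : Nat.choose (k + p ^ b - 1) (k - 1) = Nat.choose (p ^ b * (m + 1) - 1) (p ^ b) := by
      rw [mul_add, mul_one, ← hm]
      exact Nat.choose_symm_of_eq_add (by omega)
    rw [hsym] at hdiv
    have hmod := choose_prime_pow_modEq (p := p) b m hm1
    have hpm : p ∣ m := Nat.modEq_zero_iff_dvd.mp (hmod.symm.trans (Nat.modEq_zero_iff_dvd.mpr hdiv))
    have : p ^ (b + 1) ∣ k := by rw [pow_succ, hm]; exact Nat.mul_dvd_mul_left _ hpm
    exact Nat.pow_succ_factorization_not_dvd (by omega) hp this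
  have htk : t ≤ k := hB₁ ▸ Finset.card_filter_le _ _
  have hteq : t = k := Nat.le_antisymm htk (Nat.le_of_dvd htpos hdvd)
  obtain ⟨B, hB₀B, hB⟩ := Finset.exists_superset_card_eq (s := B₀) (n := k) (by omega) (by omega)
  obtain ⟨b, hb⟩ : ∃ b, b ∈ B \ B₀ := Finset.card_pos.mp (by
    rw [Finset.card_sdiff_of_subset hB₀B]; omega)
  obtain ⟨hb1, hb2⟩ := Finset.mem_sdiff.mp hb
  have hall : (B.filter fun b => O (B.erase b)) = B :=
    Finset.eq_of_subset_of_card_le (Finset.filter_subset _ _) (by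
      show B.card ≤ c B
      rw [hconst B hB, hteq, hB])
  have hmem : b ∈ B.filter fun b => O (B.erase b) := by rw [hall]; exact hb1
  obtain ⟨g, hg⟩ := (Finset.mem_filter.mp hmem).2
  refine ⟨g, hg.trans (Finset.eq_of_subset_of_card_le
    (fun x hx => Finset.mem_erase.mpr ⟨(by rintro rfl; exact hb2 hx), hB₀B hx⟩) ?_).symm⟩
  rw [Finset.card_erase_of_mem hb1, hB, hB₀]

/-- Homogeneity descends below the middle. -/
theorem homogeneous_pred_of_le {k : ℕ} (hk : 2 ≤ k) (hkn : 2 * k ≤ Fintype.card α + 1)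
    (hh : IsPretransitive G (Set.powersetCard α k)) : IsPretransitive G (Set.powersetCard α (k - 1)) :=
  homogeneous_pred hk hh fun q _ hqk => by
    have := Nat.le_of_dvd (by omega) hqk
    omega

end Cfsg.Agent.PermGp
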