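import Cfsg.Agent.Lib.PermGp.RegularNormal

/-! Normal subgroups of multiply transitive groups (Jordan). -/

set_option autoImplicit false
set_option linter.unusedSectionVars false

namespace Cfsg.Agent.PermGp

open MulAction

universe u v

section steps

variable {G : Type u} [Group G] {α : Type v} [MulAction G α]

/-- The stabiliser acts faithfully on the other points. -/
theorem faithfulSMul_ofStabilizer [FaithfulSMul G α] (a : α) :
    FaithfulSMul (stabilizer G a) (SubMulAction.ofStabilizer G a) := by
  refine ⟨fun {g h} e => Subtype.ext (FaithfulSMul.eq_of_smul_eq_smul (α := α) fun x : α => ?_)⟩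
  by_cases hx : x = a
  · subst hx
    exact g.2.trans h.2.symm
  · exact congrArg Subtype.val (e ⟨x, hx⟩)

/-- A transitive subgroup whose intersection with a stabiliser is `j`-transitive on the remaining
points is `j + 1`-transitive. -/
theorem mt_succ_of_subgroupOf [IsPretransitive G α] (N : Subgroup G) (ht : IsPretransitive N α) (a : α)
    {j : ℕ} (h : IsMultiplyPretransitive (N.subgroupOf (stabilizer G a)) (SubMulAction.ofStabilizer G a) j) :
    IsMultiplyPretransitive N α (j + 1) := by
  refine ⟨fun u w => ?_⟩
  obtain ⟨p, hp⟩ := ht.exists_smul_eq (u 0) a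
  obtain ⟨q, hq⟩ := ht.exists_smul_eq (w 0) a
  have hne : ∀ (x : Fin (j + 1) ↪ α) (s : N), s • x 0 = a → ∀ i : Fin j,
      s • x i.succ ∈ SubMulAction.ofStabilizer G a := fun x s hs i e =>
    Fin.succ_ne_zero i (x.injective (MulAction.injective s (e.trans hs.symm)))
  let lift : ∀ (x : Fin (j + 1) ↪ α) (s : N), s • x 0 = a → (Fin j ↪ SubMulAction.ofStabilizer G a) :=
    fun x s hs => ⟨fun i => ⟨s • x i.succ, hne x s hs i⟩, fun i k e =>
      Fin.succ_injective _ (x.injective (MulAction.injective s (congrArg Subtype.val e)))⟩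
  obtain ⟨⟨⟨m, hma⟩, hmN⟩, hm⟩ := h.exists_smul_eq (lift u p hp) (lift w q hq)
  refine ⟨q⁻¹ * ⟨m, hmN⟩ * p, ?_⟩
  ext i
  show (q⁻¹ * ⟨m, hmN⟩ * p) • u i = w i
  rw [mul_smul, mul_smul, inv_smul_eq_iff]
  refine Fin.cases ?_ (fun i => ?_) i
  · rw [hp, hq]; exact hma
  · exact congrArg Subtype.val (DFunLike.congr_fun hm i)

theorem exists_avoid_three [Finite α] (h : 4 ≤ Nat.card α) (a b c : α) : ∃ d, d ≠ a ∧ d ≠ b ∧ d ≠ c := by
  classical
  by_contra! hall
  have := Fintype.ofFinite α
  have hsub : (Finset.univ : Finset α) ⊆ {a, b, c} := fun x _ => by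
    simp only [Finset.mem_insert, Finset.mem_singleton]
    by_cases h1 : x = a
    · exact Or.inl h1
    by_cases h2 : x = b
    · exact Or.inr (Or.inl h2)
    exact Or.inr (Or.inr (hall x h1 h2))
  have h1 := Finset.card_le_card hsub
  have h2 := Finset.card_le_three (a := a) (b := b) (c := c)
  rw [Finset.card_univ, ← Nat.card_eq_fintype_card] at h1
  omega

theorem exists_avoid_four [Finite α] (h : 5 ≤ Nat.card α) (a b c d : α) :
    ∃ e, e ≠ a ∧ e ≠ b ∧ e ≠ c ∧ e ≠ d := by
  classical
  by_contra! hall
  have := Fintype.ofFinite α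
  have hsub : (Finset.univ : Finset α) ⊆ {a, b, c, d} := fun x _ => by
    simp only [Finset.mem_insert, Finset.mem_singleton]
    by_cases h1 : x = a
    · exact Or.inl h1
    by_cases h2 : x = b
    · exact Or.inr (Or.inl h2)
    by_cases h3 : x = c
    · exact Or.inr (Or.inr (Or.inl h3))
    exact Or.inr (Or.inr (Or.inr (hall x h1 h2 h3)))
  have h1 := Finset.card_le_card hsub
  have h2 := Finset.card_le_four (a := a) (b := b) (c := c) (d := d)
  rw [Finset.card_univ, ← Nat.card_eq_fintype_card] at h1
  omega

theorem stabilizer_eq_bot_all [IsPretransitive G α] (N : Subgroup G) [N.Normal] (ht : IsPretransitive N α)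
    {a : α} (h : stabilizer N a = ⊥) (b : α) : stabilizer N b = ⊥ := by
  obtain ⟨n, rfl⟩ := ht.exists_smul_eq a b
  rw [stabilizer_smul_eq_stabilizer_map_conj, h, Subgroup.map_bot]

/-- A normal subgroup regular on the pairs of a triply transitive group of degree at least five cannot
contain an involution fixing a point. -/
theorem no_fixed_swap [Finite α] (h3 : IsMultiplyPretransitive G α 3) (N : Subgroup G) [N.Normal]
    (hfix : ∀ a b : α, a ≠ b → ∀ u ∈ N, u • a = a → u • b = b → ∀ x : α, u • x = x)
    (hn : 4 ≤ Nat.card α) {t : G} (htN : t ∈ N) {a b c : α} (hab : a ≠ b) (hac : a ≠ c) (hbc : b ≠ c)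
    (ta : t • a = a) (tb : t • b = c) (tc : t • c = b) : False := by
  obtain ⟨d, hda, hdb, hdc⟩ := exists_avoid_three hn a b c
  obtain ⟨g, g1, g2, g3⟩ := three_trans_exists h3 hab hac hbc hdb hdc hbc
  have e1 : (g * t * g⁻¹) • d = d := by rw [mul_smul, mul_smul, inv_smul_eq_iff.mpr g1.symm, ta, g1]
  have e2 : (g * t * g⁻¹) • b = c := by rw [mul_smul, mul_smul, inv_smul_eq_iff.mpr g2.symm, tb, g3]
  have e3 : (g * t * g⁻¹) • c = b := by rw [mul_smul, mul_smul, inv_smul_eq_iff.mpr g3.symm, tc, g2]
  have hu : t⁻¹ * (g * t * g⁻¹) ∈ N := N.mul_mem (N.inv_mem htN) (Subgroup.Normal.conj_mem inferInstance t htN g)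
  have hb : (t⁻¹ * (g * t * g⁻¹)) • b = b := by rw [mul_smul, e2, inv_smul_eq_iff, tb]
  have hc : (t⁻¹ * (g * t * g⁻¹)) • c = c := by rw [mul_smul, e3, inv_smul_eq_iff, tc]
  have hall := hfix b c hbc _ hu hb hc d
  rw [mul_smul, e1, inv_smul_eq_iff] at hall
  -- so `t` fixes the two points `a` and `d`
  exact hab.symm (by
    have := hfix a d hda.symm t htN ta hall.symm b
    rw [tb] at this
    exact absurd this hbc.symm)

end steps

/-- Jordan's theorem on normal subgroups of multiply transitive groups. -/
theorem jordan_normal : ∀ (k : ℕ) {G : Type u} [Group G] [Finite G] {α : Type v} [Finite α]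
    [MulAction G α] [FaithfulSMul G α], 1 < k → k < Nat.card α → IsMultiplyPretransitive G α k →
    ∀ (N : Subgroup G) [N.Normal], N ≠ ⊥ →
      IsMultiplyPretransitive N α (k - 1) ∨ (k = 3 ∧ ∀ u : N, u * u = 1) := by
  intro k
  induction k with
  | zero => intro G _ _ α _ _ _ hk; omega
  | succ k ih =>
    intro G _ _ α _ _ _ hk hdeg hG N _ hN
    classical
    have hle2 : IsMultiplyPretransitive G α 2 :=
      isMultiplyPretransitive_of_le (n := k + 1) (by omega) hdeg.le
    have : IsPreprimitive G α := isPreprimitive_of_is_two_pretransitive hle2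
    have ht := normal_transitive (α := α) N hN
    rcases Nat.lt_or_ge k 2 with hk1 | hk2
    · left
      rw [show k + 1 - 1 = 1 by omega, is_one_pretransitive_iff]
      exact ht
    have hle3 : IsMultiplyPretransitive G α 3 :=
      isMultiplyPretransitive_of_le (n := k + 1) (by omega) hdeg.le
    obtain ⟨a⟩ : Nonempty α := (Nat.card_pos_iff.mp (by omega)).1
    set M := N.subgroupOf (stabilizer G a) with hM
    by_cases hMb : M = ⊥
    · right
      have hbot : stabilizer N a = ⊥ := (Subgroup.eq_bot_iff_forall _).mpr fun u hu => by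
        have : (⟨(u : G), hu⟩ : stabilizer G a) ∈ M := u.2
        rw [hMb, Subgroup.mem_bot] at this
        exact Subtype.ext (congrArg Subtype.val this : (u : G) = (1 : G))
      have hreg := stabilizer_eq_bot_all N ht hbot
      have hexp := exponent_two_of_three_trans N hreg hle3 ht (exists_avoid_three (by omega)) a
      refine ⟨?_, hexp⟩
      by_contra hne
      have hle4 : IsMultiplyPretransitive G α 4 :=
        isMultiplyPretransitive_of_le (n := k + 1) (by omega) hdeg.le
      exact not_four_trans N hreg hle4 ht hexp (exists_avoid_four (by omega)) a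
    · have hf := faithfulSMul_ofStabilizer (G := G) a
      have hsub : IsMultiplyPretransitive (stabilizer G a) (SubMulAction.ofStabilizer G a) k :=
        SubMulAction.ofStabilizer.isMultiplyPretransitive.mp hG
      have hcard : Nat.card (SubMulAction.ofStabilizer G a) + 1 = Nat.card α :=
        SubMulAction.nat_card_ofStabilizer_add_one_eq G a
      rcases ih (G := stabilizer G a) (α := SubMulAction.ofStabilizer G a) (by omega) (by omega) hsub M hMb
        with h | ⟨hk3, hexp⟩
      · left
        rw [show k + 1 - 1 = k - 1 + 1 by omega]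
        exact mt_succ_of_subgroupOf N ht a h
      · exfalso
        subst hk3
        have hMt : IsPretransitive M (SubMulAction.ofStabilizer G a) := by
          have : IsPreprimitive (stabilizer G a) (SubMulAction.ofStabilizer G a) :=
            isPreprimitive_of_is_two_pretransitive
              (isMultiplyPretransitive_of_le (n := 3) (by omega) (by omega))
          exact normal_transitive M hMb
        have hcomm : ∀ u v : M, u * v = v * u := fun u v => by
          have hu : u⁻¹ = u := inv_eq_of_mul_eq_one_right (hexp u)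
          have hv : v⁻¹ = v := inv_eq_of_mul_eq_one_right (hexp v)
          have huv : (u * v)⁻¹ = u * v := inv_eq_of_mul_eq_one_right (hexp (u * v))
          rw [mul_inv_rev, hu, hv] at huv
          exact huv.symm
        have hMs : ∀ (u : M) (x : SubMulAction.ofStabilizer G a), u • x = x → u = 1 := fun u x hx =>
          Subtype.ext (stabilizer_eq_bot_of_commute M (fun v hv => congrArg Subtype.val (hcomm u ⟨v, hv⟩)) hx)
        have hfix : ∀ x y : α, x ≠ y → ∀ u ∈ N, u • x = x → u • y = y → ∀ z : α, u • z = z := by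
          intro x y hxy u hu ux uy z
          obtain ⟨⟨p, hp⟩, hpx⟩ := ht.exists_smul_eq x a
          have hpx' : p • x = a := hpx
          have hv : p * u * p⁻¹ ∈ N := N.mul_mem (N.mul_mem hp hu) (N.inv_mem hp)
          have hva : p * u * p⁻¹ ∈ stabilizer G a := by
            rw [mem_stabilizer_iff, mul_smul, mul_smul, inv_smul_eq_iff.mpr hpx'.symm, ux, hpx']
          have hy : p • y ∈ SubMulAction.ofStabilizer G a := fun e => hxy
            (MulAction.injective p (e.trans hpx'.symm)).symm
          have h1 := hMs ⟨⟨_, hva⟩, hv⟩ ⟨p • y, hy⟩ (Subtype.ext (show (p * u * p⁻¹) • (p • y) = p • y by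
            rw [mul_smul, mul_smul, inv_smul_smul, uy]))
          have h2 : p * u * p⁻¹ = 1 := congrArg (fun w : M => ((w : stabilizer G a) : G)) h1
          rw [mul_inv_eq_one, mul_eq_left] at h2
          rw [h2, one_smul]
        obtain ⟨⟨⟨t, hta⟩, htN⟩, ht1⟩ := Subgroup.ne_bot_iff_exists_ne_one.mp hMb
        obtain ⟨b, hb⟩ : ∃ b : α, t • b ≠ b := by
          by_contra! hall
          exact ht1 (Subtype.ext (Subtype.ext (FaithfulSMul.eq_of_smul_eq_smul (α := α) fun x : α => by
            rw [show ((1 : M) : stabilizer G a) = 1 from rfl, Subgroup.coe_one, one_smul]; exact hall x)))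
        have htt : t * t = 1 := congrArg (fun w : M => ((w : stabilizer G a) : G)) (hexp ⟨⟨t, hta⟩, htN⟩)
        have hba : b ≠ a := fun e => hb (by rw [e]; exact hta)
        refine no_fixed_swap hle3 N hfix (by omega) htN hba.symm
          (fun e => hba (MulAction.injective t ((hta : t • a = a).trans e)).symm) hb.symm hta rfl ?_
        show t • t • b = b
        rw [← mul_smul, htt, one_smul]

end Cfsg.Agent.PermGp
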