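import Cfsg.Agent.Lib.PermGp.JordanNormal

/-! Normal subgroups of multiply primitive groups. -/

set_option autoImplicit false
set_option linter.unusedSectionVars false

namespace Cfsg.Agent.PermGp

open MulAction

universe u v

theorem card_le_factorial (G : Type u) [Group G] (α : Type v) [Finite α] [MulAction G α] [FaithfulSMul G α] :
    Nat.card G ≤ (Nat.card α).factorial := by
  rw [← Nat.card_perm]
  exact Nat.card_le_card_of_injective (MulAction.toPermHom G α) MulAction.toPerm_injective

theorem factorial_le_of_mt (G : Type u) [Group G] [Finite G] (α : Type v) [Finite α] [MulAction G α]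
    [FaithfulSMul G α] {k : ℕ} (h : IsMultiplyPretransitive G α k) (hk : k ≤ Nat.card α)
    (hk' : Nat.card α ≤ k + 1) : (Nat.card α).factorial ≤ Nat.card G := by
  classical
  have := Fintype.ofFinite α
  rw [Nat.card_eq_fintype_card] at hk hk' ⊢
  obtain ⟨u⟩ : Nonempty (Fin k ↪ α) :=
    Function.Embedding.nonempty_of_card_le (by rw [Fintype.card_fin]; exact hk)
  have : IsPretransitive G (Fin k ↪ α) := h
  have hdvd := card_mul_card_stabilizer (G := G) u
  have hemb : Nat.card (Fin k ↪ α) = (Fintype.card α).factorial := by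
    rw [Nat.card_eq_fintype_card, Fintype.card_embedding_eq, Fintype.card_fin,
      Nat.descFactorial_eq_div hk]
    rcases (show Fintype.card α - k = 0 ∨ Fintype.card α - k = 1 by omega) with h | h <;> simp [h]
  rw [← hdvd, hemb]
  exact Nat.le_mul_of_pos_right _ Nat.card_pos

/-- In a multiply primitive group which is not the symmetric group, a non-trivial normal subgroup
which is not regular is as transitive as the group. -/
theorem mt_of_kprim_normal : ∀ (k : ℕ) {G : Type u} [Group G] [Finite G] {α : Type v} [Finite α]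
    [MulAction G α] [FaithfulSMul G α], 1 ≤ k → k ≤ Nat.card α → IsMultiplyPreprimitive G α k →
    Nat.card G ≠ (Nat.card α).factorial → ∀ (N : Subgroup G) [N.Normal], N ≠ ⊥ →
    (∃ a : α, stabilizer N a ≠ ⊥) → IsMultiplyPretransitive N α k := by
  intro k
  induction k with
  | zero => intro G _ _ α _ _ _ hk; omega
  | succ k ih =>
    intro G _ _ α _ _ _ _ hkn hG hns N _ hN hnr
    classical
    have hα : ((k + 1 : ℕ) : ℕ∞) ≤ ENat.card α := by
      rw [ENat.card_eq_coe_natCard]; exact Nat.cast_le.mpr hkn
    have : IsPreprimitive G α :=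
      (is_one_preprimitive_iff _ _).mp (isMultiplyPreprimitive_of_le _ _ hG (by omega) hα)
    have ht := normal_transitive (α := α) N hN
    rcases Nat.eq_zero_or_pos k with rfl | hk0
    · exact is_one_pretransitive_iff.mpr ht
    obtain ⟨a, ha⟩ := hnr
    set M := N.subgroupOf (stabilizer G a) with hM
    have hMb : M ≠ ⊥ := fun hbot => ha ((Subgroup.eq_bot_iff_forall _).mpr fun u hu => by
      have : (⟨(u : G), hu⟩ : stabilizer G a) ∈ M := u.2
      rw [hbot, Subgroup.mem_bot] at this
      exact Subtype.ext (congrArg Subtype.val this : (u : G) = (1 : G)))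
    have hf := faithfulSMul_ofStabilizer (G := G) a
    have hsub : IsMultiplyPreprimitive (stabilizer G a) (SubMulAction.ofStabilizer G a) k :=
      (isMultiplyPreprimitive_succ_iff_ofStabilizer G α hk0).mp hG
    have hcard : Nat.card (SubMulAction.ofStabilizer G a) + 1 = Nat.card α :=
      SubMulAction.nat_card_ofStabilizer_add_one_eq G a
    have hns' : Nat.card (stabilizer G a) ≠ (Nat.card (SubMulAction.ofStabilizer G a)).factorial := by
      intro e
      apply hns
      rw [← card_mul_card_stabilizer (G := G) a, e, ← hcard, Nat.factorial_succ]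
    have hsubα : ((k : ℕ) : ℕ∞) ≤ ENat.card (SubMulAction.ofStabilizer G a) := by
      rw [ENat.card_eq_coe_natCard]; exact Nat.cast_le.mpr (by omega)
    have : IsPreprimitive (stabilizer G a) (SubMulAction.ofStabilizer G a) :=
      (is_one_preprimitive_iff _ _).mp (isMultiplyPreprimitive_of_le _ _ hsub hk0 hsubα)
    have hMt := normal_transitive (α := SubMulAction.ofStabilizer G a) M hMb
    by_cases hMr : ∀ x : SubMulAction.ofStabilizer G a, stabilizer M x = ⊥
    swap
    · push Not at hMr
      exact mt_succ_of_subgroupOf N ht a (ih hk0 (by omega) hsub hns' M hMb hMr)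
    rcases Nat.lt_or_ge k 2 with hk1 | hk2
    · obtain rfl : k = 1 := by omega
      exact mt_succ_of_subgroupOf N ht a (is_one_pretransitive_iff.mpr hMt)
    exfalso
    have hG3 : IsMultiplyPretransitive G α 3 := by
      have := hG.isMultiplyPretransitive
      exact isMultiplyPretransitive_of_le (n := k + 1) (by omega) hkn
    by_cases hn4 : Nat.card α ≤ 4
    · exact hns (le_antisymm (card_le_factorial G α) (factorial_le_of_mt G α hG3 (by omega) (by omega)))
    have h2 : IsMultiplyPreprimitive (stabilizer G a) (SubMulAction.ofStabilizer G a) 2 :=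
      isMultiplyPreprimitive_of_le _ _ hsub hk2 hsubα
    have hMcard := card_eq_card_of_regular M hMr hMt
    obtain ⟨⟨b0, hb0⟩⟩ : Nonempty (SubMulAction.ofStabilizer G a) := (Nat.card_pos_iff.mp (by omega)).1
    have hMcard' : Nat.card M + 1 = Nat.card α := by rw [hMcard ⟨b0, hb0⟩, hcard]
    rcases exponent_two_of_two_primitive M hMr h2 (by omega) hMt with h3 | hexp
    · omega
    have hfix : ∀ x y : α, x ≠ y → ∀ u ∈ N, u • x = x → u • y = y → ∀ z : α, u • z = z := by
      intro x y hxy u hu ux uy z
      obtain ⟨⟨p, hp⟩, hpx⟩ := ht.exists_smul_eq x a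
      have hpx' : p • x = a := hpx
      have hv : p * u * p⁻¹ ∈ N := N.mul_mem (N.mul_mem hp hu) (N.inv_mem hp)
      have hva : p * u * p⁻¹ ∈ stabilizer G a := by
        rw [mem_stabilizer_iff, mul_smul, mul_smul, inv_smul_eq_iff.mpr hpx'.symm, ux, hpx']
      have hy : p • y ∈ SubMulAction.ofStabilizer G a := fun e => hxy
        (MulAction.injective p (e.trans hpx'.symm)).symm
      have hmem : (⟨⟨_, hva⟩, hv⟩ : M) ∈ stabilizer M (⟨p • y, hy⟩ : SubMulAction.ofStabilizer G a) := by
        rw [mem_stabilizer_iff]
        exact Subtype.ext (show (p * u * p⁻¹) • (p • y) = p • y by rw [mul_smul, mul_smul, inv_smul_smul, uy])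
      rw [hMr, Subgroup.mem_bot] at hmem
      have h2 : p * u * p⁻¹ = 1 := congrArg (fun w : M => ((w : stabilizer G a) : G)) hmem
      rw [mul_inv_eq_one, mul_eq_left] at h2
      rw [h2, one_smul]
    obtain ⟨⟨⟨t, hta⟩, htN⟩, ht1⟩ := Subgroup.ne_bot_iff_exists_ne_one.mp hMb
    obtain ⟨b, hb⟩ : ∃ b : α, t • b ≠ b := by
      by_contra! hall
      exact ht1 (Subtype.ext (Subtype.ext (FaithfulSMul.eq_of_smul_eq_smul (α := α) fun x : α => by
        rw [show ((1 : M) : stabilizer G a) = 1 from rfl, Subgroup.coe_one, one_smul]; exact hall x)))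
    have htt : t * t = 1 := congrArg (fun w : M => ((w : stabilizer G a) : G)) (hexp ⟨⟨t, hta⟩, htN⟩)
    have hba : b ≠ a := fun e => hb (by rw [e]; exact hta)
    refine no_fixed_swap hG3 N hfix (by omega) htN hba.symm
      (fun e => hba (MulAction.injective t ((hta : t • a = a).trans e)).symm) hb.symm hta rfl ?_
    show t • t • b = b
    rw [← mul_smul, htt, one_smul]

end Cfsg.Agent.PermGp
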