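import Cfsg.Prelude.Def_LieExceptional
import Cfsg.Agent.Lib.PermGp.Basic
import Mathlib.GroupTheory.Perm.Cycle.Type

/-! Involutions in Zassenhaus groups. -/

set_option autoImplicit false
set_option linter.unusedSectionVars false

namespace Cfsg.Agent.PermGp

open MulAction

/-- An element of order two normalising a group of even order commutes with an involution of it. -/
theorem exists_involution_commute {G : Type*} [Group G] [Finite G] (K : Subgroup G)
    (hK : 2 ∣ Nat.card K) {z : G} (hz : z * z = 1) (hn : ∀ x ∈ K, z * x * z ∈ K) :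
    ∃ u ∈ K, u ≠ 1 ∧ u * u = 1 ∧ z * u = u * z := by
  classical
  have := Fintype.ofFinite G
  have hzi : z⁻¹ = z := inv_eq_of_mul_eq_one_right hz
  let X := {x : K // x * x = 1}
  have hmod : ∀ (β : Type _) [Fintype β] [DecidableEq β] (f : Equiv.Perm β), f ^ 2 = 1 →
      (Finset.univ.filter fun x => f x = x).card ≡ Fintype.card β [MOD 2] := by
    intro β _ _ f hf
    have := Equiv.Perm.card_compl_support_modEq (p := 2) (n := 1) (σ := f) (by rw [pow_one]; exact hf)
    rwa [show Finset.univ.filter (fun x => f x = x) = f.supportᶜ by ext x; simp]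
  have heven : Fintype.card X % 2 = 0 := by
    have h := hmod K (Equiv.inv K) (by ext x; simp [pow_two])
    rw [show Finset.univ.filter (fun x => Equiv.inv K x = x) = Finset.univ.filter fun x : K => x * x = 1 from
      Finset.filter_congr fun x _ => by simp [inv_eq_iff_mul_eq_one],
      ← Fintype.card_subtype] at h
    have h' : Fintype.card X % 2 = Fintype.card K % 2 := h
    rw [h', ← Nat.card_eq_fintype_card]
    omega
  have hconj : ∀ x : X, (⟨z * (x.1 : G) * z, hn _ x.1.2⟩ : K) * ⟨z * (x.1 : G) * z, hn _ x.1.2⟩ = 1 := by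
    intro x
    apply Subtype.ext
    show z * (x.1 : G) * z * (z * (x.1 : G) * z) = 1
    have hx : (x.1 : G) * x.1 = 1 := congrArg Subtype.val x.2
    calc z * (x.1 : G) * z * (z * (x.1 : G) * z) = z * (x.1 : G) * (z * z) * (x.1 : G) * z := by group
    _ = z * ((x.1 : G) * x.1) * z := by rw [hz]; group
    _ = 1 := by rw [hx, mul_one, hz]
  let f : Equiv.Perm X :=
    { toFun := fun x => ⟨_, hconj x⟩
      invFun := fun x => ⟨_, hconj x⟩
      left_inv := fun x => Subtype.ext (Subtype.ext (show z * (z * (x.1 : G) * z) * z = x.1 by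
        calc z * (z * (x.1 : G) * z) * z = (z * z) * (x.1 : G) * (z * z) := by group
        _ = x.1 := by rw [hz, one_mul, mul_one]))
      right_inv := fun x => Subtype.ext (Subtype.ext (show z * (z * (x.1 : G) * z) * z = x.1 by
        calc z * (z * (x.1 : G) * z) * z = (z * z) * (x.1 : G) * (z * z) := by group
        _ = x.1 := by rw [hz, one_mul, mul_one])) }
  have h2 := hmod X f (Equiv.ext fun x => by
    rw [pow_two]; exact f.left_inv x)
  have h1 : (⟨1, one_mul 1⟩ : X) ∈ Finset.univ.filter fun x => f x = x := Finset.mem_filter.mpr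
    ⟨Finset.mem_univ _, Subtype.ext (Subtype.ext (show z * (1 : G) * z = 1 by rw [mul_one, hz]))⟩
  have hcard : 1 < (Finset.univ.filter fun x => f x = x).card := by
    have := Finset.card_pos.mpr ⟨_, h1⟩
    have h3 : (Finset.univ.filter fun x => f x = x).card % 2 = Fintype.card X % 2 := h2
    omega
  obtain ⟨x, hx, hne⟩ := Finset.exists_mem_ne hcard (⟨1, one_mul 1⟩ : X)
  refine ⟨x.1, x.1.2, fun e => hne (Subtype.ext (Subtype.ext e)), congrArg Subtype.val x.2, ?_⟩
  have hfx : z * (x.1 : G) * z = x.1 := congrArg (fun y : X => (y.1 : G)) (Finset.mem_filter.mp hx).2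
  calc z * (x.1 : G) = z * (x.1 : G) * (z * z) := by rw [hz, mul_one]
  _ = (z * (x.1 : G) * z) * z := by group
  _ = x.1 * z := by rw [hfx]

/-- If a two-point stabiliser has even order, every further point is fixed by an involution
exchanging the two points. -/
theorem exists_swap_fixing {G Ω : Type*} [Group G] [Finite G] [MulAction G Ω]
    (h2t : IsMultiplyPretransitive G Ω 2)
    (h3 : ∀ g : G, ∀ a b c : Ω, a ≠ b → b ≠ c → a ≠ c → g • a = a → g • b = b → g • c = c → g = 1)
    {a b : Ω} (hab : a ≠ b) (heven : Even (Nat.card ↥(stabilizer G a ⊓ stabilizer G b))) (c : Ω)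
    (hca : c ≠ a) (hcb : c ≠ b) :
    ∃ u : G, u * u = 1 ∧ u ≠ 1 ∧ u • a = b ∧ u • b = a ∧ u • c = c := by
  classical
  set H := stabilizer G a ⊓ stabilizer G b with hH
  obtain ⟨z₀, hz₀⟩ := exists_prime_orderOf_dvd_card' (G := H) 2 (even_iff_two_dvd.mp heven)
  set z : G := (z₀ : G)
  have hzz : z * z = 1 := by
    have := congrArg Subtype.val (hz₀ ▸ pow_orderOf_eq_one z₀)
    simpa [pow_two] using this
  have hz1 : z ≠ 1 := fun e => by
    rw [show z₀ = 1 from Subtype.ext e, orderOf_one] at hz₀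
    exact absurd hz₀ (by decide)
  have hza : z • a = a := mem_stabilizer_iff.mp (Subgroup.mem_inf.mp z₀.2).1
  have hzb : z • b = b := mem_stabilizer_iff.mp (Subgroup.mem_inf.mp z₀.2).2
  set e := z • c with he
  have hce : c ≠ e := fun h => hz1 (h3 z a b c hab hcb.symm hca.symm hza hzb h.symm)
  have hze : z • e = c := by rw [he, smul_smul, hzz, one_smul]
  obtain ⟨g, hga, hgb⟩ := two_trans_exists h2t hab hce
  set K := stabilizer G c ⊓ stabilizer G e with hK
  have hcardK : Nat.card K = Nat.card H := by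
    have : H.map (MulAut.conj g).toMonoidHom = K := by
      rw [Subgroup.map_inf_eq _ _ _ (MulAut.conj g).injective, ← stabilizer_smul_eq_stabilizer_map_conj,
        ← stabilizer_smul_eq_stabilizer_map_conj, hga, hgb]
    rw [← this, Nat.card_congr (H.equivMapOfInjective (MulAut.conj g).toMonoidHom (MulAut.conj g).injective).toEquiv]
  obtain ⟨u, huK, hu1, huu, hzu⟩ := exists_involution_commute K (by rw [hcardK]; exact even_iff_two_dvd.mp heven)
    hzz (fun x hx => by
      obtain ⟨hx1, hx2⟩ := Subgroup.mem_inf.mp hx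
      rw [mem_stabilizer_iff] at hx1 hx2
      refine Subgroup.mem_inf.mpr ⟨?_, ?_⟩ <;> rw [mem_stabilizer_iff, mul_smul, mul_smul]
      · rw [← he, hx2, hze]
      · rw [hze, hx1])
  obtain ⟨huc, hue⟩ := Subgroup.mem_inf.mp huK
  rw [mem_stabilizer_iff] at huc hue
  have hzfix : z • (u • a) = u • a := by rw [smul_smul, hzu, mul_smul, hza]
  have hua : u • a = b := by
    by_contra hne
    have hua' : u • a ≠ a := fun h => hu1 (h3 u a c e hca.symm hce
      (fun h' => hca (MulAction.injective z (h'.symm.trans hza.symm))) h huc hue)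
    exact hz1 (h3 z a b (u • a) hab (Ne.symm hne) hua'.symm hza hzb hzfix)
  exact ⟨u, huu, hu1, hua, by rw [← hua, smul_smul, huu, one_smul], huc⟩

/-- The lower bound for an even two-point stabiliser. -/
theorem card_sub_two_le_two_mul' {G Ω : Type*} [Group G] [Finite G] [MulAction G Ω] [Fintype Ω]
    (h2t : IsMultiplyPretransitive G Ω 2)
    (h3 : ∀ g : G, ∀ a b c : Ω, a ≠ b → b ≠ c → a ≠ c → g • a = a → g • b = b → g • c = c → g = 1)
    {a b : Ω} (hab : a ≠ b) (heven : Even (Nat.card ↥(stabilizer G a ⊓ stabilizer G b))) :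
    Fintype.card Ω - 2 ≤ 2 * Nat.card ↥(stabilizer G a ⊓ stabilizer G b) := by
  classical
  have := Fintype.ofFinite G
  set H := stabilizer G a ⊓ stabilizer G b with hH
  have hu : ∀ c : {c : Ω // c ≠ a ∧ c ≠ b}, ∃ u : G,
      (u • a = b ∧ u • b = a) ∧ u ≠ 1 ∧ u • (c : Ω) = c := by
    rintro ⟨c, hca, hcb⟩
    obtain ⟨u, -, h1, ha, hb, hc⟩ := exists_swap_fixing h2t h3 hab heven c hca hcb
    exact ⟨u, ⟨ha, hb⟩, h1, hc⟩
  choose f hf1 hf2 hf3 using hu
  set S := Finset.univ.filter fun g : G => g • a = b ∧ g • b = a with hS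
  have hScard : S.card ≤ Nat.card H := by
    rcases S.eq_empty_or_nonempty with h | ⟨s, hs⟩
    · simp [h]
    obtain ⟨hsa, hsb⟩ := (Finset.mem_filter.mp hs).2
    rw [Nat.card_eq_fintype_card, ← Finset.card_univ]
    refine Finset.card_le_card_of_injOn (fun g => if hg : g • a = b ∧ g • b = a then
      (⟨s⁻¹ * g, Subgroup.mem_inf.mpr ⟨by rw [mem_stabilizer_iff, mul_smul, hg.1, inv_smul_eq_iff, hsa],
        by rw [mem_stabilizer_iff, mul_smul, hg.2, inv_smul_eq_iff, hsb]⟩⟩ : H) else 1)
      (fun g _ => Finset.mem_univ _) ?_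
    intro x hx y hy hxy
    have hx' := (Finset.mem_filter.mp hx).2
    have hy' := (Finset.mem_filter.mp hy).2
    simp only [dif_pos hx', dif_pos hy'] at hxy
    exact mul_left_cancel (congrArg Subtype.val hxy)
  have hle := Finset.card_le_mul_card_image (f := f) (Finset.univ) 2 (fun u hu => by
    by_contra hlt
    obtain ⟨x, hx, y, hy, w, hw, hxy, hxw, hyw⟩ := Finset.two_lt_card.mp (not_le.mp hlt)
    simp only [Finset.mem_filter] at hx hy hw
    refine hf2 x (h3 (f x) x.1 y.1 w.1 (fun h => hxy (Subtype.ext h)) (fun h => hyw (Subtype.ext h))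
      (fun h => hxw (Subtype.ext h)) (hf3 x) ?_ ?_)
    · rw [hx.2, ← hy.2]; exact hf3 y
    · rw [hx.2, ← hw.2]; exact hf3 w)
  have himg : (Finset.univ.image f).card ≤ S.card := Finset.card_le_card fun u hu => by
    obtain ⟨c, -, rfl⟩ := Finset.mem_image.mp hu
    exact Finset.mem_filter.mpr ⟨Finset.mem_univ _, hf1 c⟩
  have hsub : Fintype.card {c : Ω // c ≠ a ∧ c ≠ b} = Fintype.card Ω - 2 := by
    rw [Fintype.card_subtype, show Finset.univ.filter (fun c => c ≠ a ∧ c ≠ b) = ({a, b} : Finset Ω)ᶜ by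
      ext c; simp, Finset.card_compl, Finset.card_pair hab]
  rw [Finset.card_univ, hsub] at hle
  omega

theorem card_sub_two_le_two_mul {G Ω : Type*} [Group G] [Finite G] [MulAction G Ω] [Fintype Ω]
    (hZ : Cfsg.IsZassenhausGroup G Ω) {a b : Ω} (hab : a ≠ b)
    (heven : Even (Nat.card ↥(stabilizer G a ⊓ stabilizer G b))) :
    Fintype.card Ω - 2 ≤ 2 * Nat.card ↥(stabilizer G a ⊓ stabilizer G b) :=
  card_sub_two_le_two_mul' hZ.2.1 hZ.2.2.1 hab heven

end Cfsg.Agent.PermGp
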