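import Cfsg.Agent.Lib.PermGp.Basic

/-! Finite sharply doubly transitive groups. -/

set_option autoImplicit false
set_option linter.unusedSectionVars false

namespace Cfsg.Agent.PermGp

open MulAction

theorem index_centralizer_eq_card_conjugates {G : Type*} [Group G] (x : G) :
    (Subgroup.centralizer ({x} : Set G)).index = Nat.card (conjugatesOf x) := by
  have hiff : ∀ c d : G, c⁻¹ * d ∈ Subgroup.centralizer ({x} : Set G) ↔
      c * x * c⁻¹ = d * x * d⁻¹ := by
    intro c d
    rw [Subgroup.mem_centralizer_singleton_iff]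
    constructor
    · intro h
      calc c * x * c⁻¹ = c * (x * (c⁻¹ * d)) * d⁻¹ := by group
        _ = c * (c⁻¹ * d * x) * d⁻¹ := by rw [← h]
        _ = _ := by group
    · intro h
      calc c⁻¹ * d * x = c⁻¹ * (d * x * d⁻¹) * d := by group
        _ = c⁻¹ * (c * x * c⁻¹) * d := by rw [← h]
        _ = _ := by group
  refine Nat.card_eq_of_bijective (Quotient.lift
    (fun c => (⟨c * x * c⁻¹, isConj_iff.mpr ⟨c, rfl⟩⟩ : conjugatesOf x))
    fun c d h => Subtype.ext ((hiff c d).mp (QuotientGroup.leftRel_apply.mp h))) ⟨?_, ?_⟩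
  · intro u v h
    induction u using Quotient.inductionOn with
    | h c =>
      induction v using Quotient.inductionOn with
      | h d =>
        exact Quotient.sound (QuotientGroup.leftRel_apply.mpr ((hiff c d).mpr (congrArg Subtype.val h)))
  · rintro ⟨y, hy⟩
    obtain ⟨c, rfl⟩ := isConj_iff.mp hy
    exact ⟨Quotient.mk _ c, rfl⟩

variable {α : Type*} [Fintype α] [DecidableEq α] (G : Subgroup (Equiv.Perm α))
  [h2t : IsMultiplyPretransitive G α 2] (hsharp : ∀ x : Fin 2 ↪ α, stabilizer G x = ⊥)
  (h2 : 2 ≤ Fintype.card α)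

include hsharp h2

theorem sharp_fix_two {a b : α} (hab : a ≠ b) {g : G} (ha : g • a = a) (hb : g • b = b) : g = 1 := by
  have hinj : Function.Injective ![a, b] := by
    intro i j h
    fin_cases i <;> fin_cases j <;> simp_all
  have hmem : g ∈ stabilizer G (⟨_, hinj⟩ : Fin 2 ↪ α) := by
    rw [mem_stabilizer_iff]
    ext i
    fin_cases i
    · exact ha
    · exact hb
  rw [hsharp] at hmem
  exact hmem

theorem sharp_card : Nat.card G = Fintype.card α * (Fintype.card α - 1) := by
  obtain ⟨x⟩ : Nonempty (Fin 2 ↪ α) :=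
    Function.Embedding.nonempty_iff_card_le.mpr (by simpa using h2)
  have h : Function.Bijective (fun g : G => g • x) := by
    refine ⟨fun g g' h => ?_, fun y => exists_smul_eq G x y⟩
    have : g'⁻¹ * g ∈ stabilizer G x := by
      rw [mem_stabilizer_iff, mul_smul, inv_smul_eq_iff]; exact h
    rw [hsharp, Subgroup.mem_bot, inv_mul_eq_one] at this
    exact this.symm
  rw [Nat.card_eq_of_bijective _ h, Nat.card_eq_fintype_card, Fintype.card_embedding_eq,
    Fintype.card_fin, Nat.descFactorial_succ, Nat.descFactorial_one]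
  exact mul_comm _ _

theorem sharp_card_stabilizer (a : α) : Nat.card (stabilizer G a) = Fintype.card α - 1 := by
  have : IsPretransitive G α := isPretransitive_of_is_two_pretransitive
  have h := card_mul_card_stabilizer (G := G) a
  rw [sharp_card G hsharp h2, Nat.card_eq_fintype_card (α := α)] at h
  exact Nat.eq_of_mul_eq_mul_left (by omega) h

theorem sharp_fpf_of_dvd {p : ℕ} (hp : p.Prime) (hpn : p ∣ Fintype.card α) {g : G} (hg : g ≠ 1)
    (hord : ∃ k, orderOf g = p ^ k) (a : α) : g • a ≠ a := by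
  intro ha
  obtain ⟨k, hk⟩ := hord
  have hdvd : orderOf g ∣ Fintype.card α - 1 := by
    rw [← sharp_card_stabilizer G hsharp h2 a]
    exact Subgroup.orderOf_dvd_natCard _ ha
  have hcop : Nat.Coprime (orderOf g) (Fintype.card α - 1) := by
    rw [hk]
    refine Nat.Coprime.pow_left _ ((hp.coprime_iff_not_dvd).mpr fun h => ?_)
    have := Nat.dvd_sub hpn h
    rw [Nat.sub_sub_self (by omega)] at this
    exact hp.one_lt.ne' (Nat.dvd_one.mp this)
  exact hg (orderOf_eq_one_iff.mp (hcop.eq_one_of_dvd hdvd))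

theorem sharp_card_fpf :
    Nat.card {g : G // ∀ a : α, g • a ≠ a} = Fintype.card α - 1 := by
  classical
  have : IsPretransitive G α := isPretransitive_of_is_two_pretransitive
  have hone : ∀ g : G, g ≠ 1 → Fintype.card (fixedBy α g) ≤ 1 := by
    intro g hg
    rw [Fintype.card_le_one_iff]
    intro x y
    by_contra hne
    exact hg (sharp_fix_two G hsharp h2 (fun h => hne (Subtype.ext h)) x.2 y.2)
  have hB := sum_card_fixedBy_eq_card_orbits_mul_card_group G α
  have hne : Nonempty α := Fintype.card_pos_iff.mp (by omega)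
  have horb : Fintype.card (Quotient (orbitRel G α)) = 1 := by
    rw [Fintype.card_eq_one_iff]
    refine ⟨Quotient.mk'' hne.some, fun q => ?_⟩
    induction q using Quotient.inductionOn' with
    | h x => exact Quotient.sound' (exists_smul_eq G hne.some x)
  rw [horb, one_mul] at hB
  have hsplit : ∀ g : G, Fintype.card (fixedBy α g) + (if ∀ a : α, g • a ≠ a then 1 else 0) =
      if g = 1 then Fintype.card α else 1 := by
    intro g
    by_cases hg : g = 1
    · subst hg
      rw [if_pos rfl, if_neg fun h => h hne.some (one_smul _ _), add_zero]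
      exact Fintype.card_congr (Equiv.subtypeUnivEquiv fun x => one_smul G x)
    · rw [if_neg hg]
      by_cases hf : ∀ a : α, g • a ≠ a
      · rw [if_pos hf]
        have : IsEmpty (fixedBy α g) := ⟨fun x => hf x.1 x.2⟩
        rw [Fintype.card_eq_zero]
      · rw [if_neg hf, add_zero]
        push Not at hf
        obtain ⟨a, ha⟩ := hf
        exact le_antisymm (hone g hg) (Fintype.card_pos_iff.mpr ⟨⟨a, ha⟩⟩)
  have hsum := Finset.sum_congr rfl fun g (_ : g ∈ (Finset.univ : Finset G)) => hsplit g
  rw [Finset.sum_add_distrib, hB, Finset.sum_ite, Finset.sum_ite] at hsum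
  simp only [Finset.sum_const, smul_eq_mul, mul_one, mul_zero, add_zero] at hsum
  rw [Finset.filter_eq' Finset.univ (1 : G), if_pos (Finset.mem_univ _), Finset.card_singleton,
    one_mul, Finset.filter_ne' Finset.univ (1 : G), Finset.card_erase_of_mem (Finset.mem_univ _),
    Finset.card_univ] at hsum
  rw [Nat.card_eq_fintype_card, Fintype.card_subtype]
  have := Fintype.card_pos (α := G)
  omega

theorem sharp_centralizer_card_le {x : G} (hx : ∀ a : α, x • a ≠ a) :
    Nat.card (Subgroup.centralizer ({x} : Set G)) ≤ Fintype.card α := by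
  obtain ⟨a⟩ : Nonempty α := Fintype.card_pos_iff.mp (by omega)
  rw [← Nat.card_eq_fintype_card]
  refine Nat.card_le_card_of_injective (fun c => (c : G) • a) fun c d h => ?_
  simp only at h
  apply Subtype.ext
  refine (inv_mul_eq_one.mp ?_).symm
  have hcomm : (d⁻¹ * c : G) * x = x * (d⁻¹ * c : G) := by
    have hc := Subgroup.mem_centralizer_singleton_iff.mp
      ((Subgroup.centralizer ({x} : Set G)).mul_mem (Subgroup.inv_mem _ d.2) c.2)
    simpa using hc
  have e1 : ((d : G)⁻¹ * (c : G)) • a = a := by rw [mul_smul, h, inv_smul_smul]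
  refine sharp_fix_two G hsharp h2 (hx a).symm e1 ?_
  calc ((d : G)⁻¹ * (c : G)) • x • a = (((d : G)⁻¹ * (c : G)) * x) • a := (mul_smul _ _ _).symm
    _ = x • ((d : G)⁻¹ * (c : G)) • a := by rw [show ((d : G)⁻¹ * (c : G)) * x = x * ((d : G)⁻¹ * (c : G)) from hcomm, mul_smul]
    _ = x • a := by rw [e1]

theorem sharp_fpf_isConj {p : ℕ} (hp : p.Prime) (hpn : p ∣ Fintype.card α) {x g : G}
    (hx : orderOf x = p) (hg : ∀ a : α, g • a ≠ a) : IsConj x g := by
  have hx1 : x ≠ 1 := fun h => by simp [h] at hx; exact hp.one_lt.ne hx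
  have hxf := sharp_fpf_of_dvd G hsharp h2 hp hpn hx1 ⟨1, by rw [hx, pow_one]⟩
  have hidx : Fintype.card α - 1 ≤ (Subgroup.centralizer ({x} : Set G)).index := by
    have h := Subgroup.card_mul_index (Subgroup.centralizer ({x} : Set G))
    rw [sharp_card G hsharp h2] at h
    refine Nat.le_of_mul_le_mul_left ?_ (show 0 < Fintype.card α by omega)
    rw [← h]
    exact Nat.mul_le_mul_right _ (sharp_centralizer_card_le G hsharp h2 hxf)
  have hsub : conjugatesOf x ⊆ {g : G | ∀ a : α, g • a ≠ a} := by
    intro y hy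
    obtain ⟨c, rfl⟩ := isConj_iff.mp hy
    intro a ha
    rw [mul_smul, mul_smul, smul_eq_iff_eq_inv_smul] at ha
    exact hxf (c⁻¹ • a) ha
  have hcl := (index_centralizer_eq_card_conjugates x).symm
  have heq : conjugatesOf x = {g : G | ∀ a : α, g • a ≠ a} := by
    refine Set.eq_of_subset_of_ncard_le hsub ?_ (Set.toFinite _)
    rw [← Nat.card_coe_set_eq, ← Nat.card_coe_set_eq, hcl]
    exact (sharp_card_fpf G hsharp h2).le.trans hidx
  have : g ∈ conjugatesOf x := heq ▸ hg
  exact this

theorem sharp_exists_prime_pow : ∃ p j : ℕ, p.Prime ∧ 1 ≤ j ∧ Fintype.card α = p ^ j := by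
  set n := Fintype.card α with hn
  obtain ⟨p, hp, hpn⟩ := Nat.exists_prime_and_dvd (show n ≠ 1 by omega)
  have hcard := sharp_card G hsharp h2
  haveI := Fact.mk hp
  obtain ⟨x, hx⟩ := exists_prime_orderOf_dvd_card' (G := G) p (hcard ▸ hpn.mul_right _)
  have hall : ∀ q : ℕ, q.Prime → q ∣ n → q = p := by
    intro q hq hqn
    haveI := Fact.mk hq
    obtain ⟨y, hy⟩ := exists_prime_orderOf_dvd_card' (G := G) q (hcard ▸ hqn.mul_right _)
    have hy1 : y ≠ 1 := fun h => by simp [h] at hy; exact hq.one_lt.ne hy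
    obtain ⟨c, hc⟩ := sharp_fpf_isConj G hsharp h2 hp hpn hx
      (sharp_fpf_of_dvd G hsharp h2 hq hqn hy1 ⟨1, by rw [hy, pow_one]⟩)
    rw [← hy, ← hx]
    exact hc.orderOf_eq.symm
  refine ⟨p, n.primeFactorsList.length, hp, ?_, ?_⟩
  · rw [Nat.one_le_iff_ne_zero, Ne, List.length_eq_zero_iff, Nat.primeFactorsList_eq_nil]
    omega
  · exact Nat.eq_prime_pow_of_unique_prime_dvd (by omega) fun {d} hd hdn => hall d hd hdn

/-- The structure of a finite sharply doubly transitive group. -/
theorem sharp_structure {p j : ℕ} (hj : 1 ≤ j) (hn : Fintype.card α = p ^ j) [hp : Fact p.Prime]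
    (P : Sylow p G) :
    (P : Subgroup G).Normal ∧ (∀ u ∈ (P : Subgroup G), ∀ v ∈ (P : Subgroup G), u * v = v * u) ∧
      (∀ x ∈ (P : Subgroup G), x ^ p = 1) ∧ IsPretransitive (P : Subgroup G) α ∧
      (∀ a : α, stabilizer (P : Subgroup G) a = ⊥) ∧
      ∀ g : G, g ∈ (P : Subgroup G) ↔ g = 1 ∨ ∀ a : α, g • a ≠ a := by
  have hpn : p ∣ Fintype.card α := hn ▸ dvd_pow_self p (by omega)
  have hcard := sharp_card G hsharp h2
  have hP : Nat.card (P : Subgroup G) = Fintype.card α := by
    rw [Sylow.card_eq_multiplicity, hcard, hn, Nat.factorization_mul (by simp [hp.out.ne_zero])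
      (by have := hn ▸ h2; omega), Finsupp.add_apply, hp.out.factorization_pow, Finsupp.single_eq_same,
      Nat.factorization_eq_zero_of_not_dvd, add_zero]
    intro h
    have h' := Nat.dvd_sub (dvd_pow_self p (show j ≠ 0 by omega)) h
    rw [Nat.sub_sub_self (Nat.one_le_pow _ _ hp.out.pos)] at h'
    exact hp.out.one_lt.ne' (Nat.dvd_one.mp h')
  have hfpf : ∀ u ∈ (P : Subgroup G), u ≠ 1 → ∀ a : α, u • a ≠ a := by
    intro u hu hu1 a
    obtain ⟨k, hk⟩ := IsPGroup.iff_orderOf.mp P.isPGroup' ⟨u, hu⟩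
    exact sharp_fpf_of_dvd G hsharp h2 hp.out hpn hu1 ⟨k, by rw [← hk]; exact (Subgroup.orderOf_mk u hu).symm⟩ a
  have hset : ∀ g : G, g ∈ (P : Subgroup G) ↔ g = 1 ∨ ∀ a : α, g • a ≠ a := by
    have hsub : ((P : Subgroup G) : Set G) ⊆ {g | g = 1 ∨ ∀ a : α, g • a ≠ a} := fun u hu => by
      by_cases hu1 : u = 1
      · exact Or.inl hu1
      · exact Or.inr (hfpf u hu hu1)
    have heq := Set.eq_of_subset_of_ncard_le hsub (by
      calc ({g : G | g = 1 ∨ ∀ a : α, g • a ≠ a} : Set G).ncard
          ≤ ({g : G | g = 1} : Set G).ncard + ({g : G | ∀ a : α, g • a ≠ a} : Set G).ncard := by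
            exact Set.ncard_union_le _ _
        _ = 1 + (Fintype.card α - 1) := by
            congr 1
            · simp
            · rw [← Nat.card_coe_set_eq]; exact sharp_card_fpf G hsharp h2
        _ ≤ ((P : Subgroup G) : Set G).ncard := by
            rw [← Nat.card_coe_set_eq, SetLike.coe_sort_coe, hP]; omega) (Set.toFinite _)
    intro g
    exact Set.ext_iff.mp heq g
  obtain ⟨x, hx⟩ := exists_prime_orderOf_dvd_card' (G := G) p (hcard ▸ hpn.mul_right _)
  have hexp : ∀ u ∈ (P : Subgroup G), u ^ p = 1 := by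
    intro u hu
    by_cases hu1 : u = 1
    · simp [hu1]
    · obtain ⟨c, hc⟩ := sharp_fpf_isConj G hsharp h2 hp.out hpn hx (hfpf u hu hu1)
      rw [← hx, hc.orderOf_eq]
      exact pow_orderOf_eq_one u
  have hsemi : ∀ a : α, stabilizer (P : Subgroup G) a = ⊥ := fun a => by
    rw [Subgroup.eq_bot_iff_forall]
    intro u hu
    by_contra hu1
    exact hfpf u u.2 (fun h => hu1 (Subtype.ext h)) a hu
  refine ⟨⟨fun u hu c => ?_⟩, ?_, hexp, ?_, hsemi, hset⟩
  · rcases (hset u).mp hu with rfl | h
    · simp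
    · refine (hset _).mpr (Or.inr fun a ha => ?_)
      rw [mul_smul, mul_smul, smul_eq_iff_eq_inv_smul] at ha
      exact h (c⁻¹ • a) ha
  · intro u hu v hv
    by_cases hu1 : u = 1
    · simp [hu1]
    have hCle : Subgroup.centralizer ({u} : Set G) ≤ (P : Subgroup G) := by
      intro c hc
      refine (hset c).mpr ?_
      by_cases hc1 : c = 1
      · exact Or.inl hc1
      refine Or.inr fun a ha => hc1 (sharp_fix_two G hsharp h2 (hfpf u hu hu1 a).symm ha ?_)
      rw [← mul_smul, Subgroup.mem_centralizer_singleton_iff.mp hc, mul_smul, ha]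
    have hC : Nat.card (Subgroup.centralizer ({u} : Set G)) = Fintype.card α := by
      refine le_antisymm (sharp_centralizer_card_le G hsharp h2 (hfpf u hu hu1)) ?_
      have hidx : (Subgroup.centralizer ({u} : Set G)).index ≤ Fintype.card α - 1 := by
        rw [index_centralizer_eq_card_conjugates, ← sharp_card_fpf G hsharp h2]
        refine Nat.card_mono (s := conjugatesOf u) (t := {g : G | ∀ a : α, g • a ≠ a}) (Set.toFinite _) ?_
        intro y hy
        obtain ⟨c, rfl⟩ := isConj_iff.mp hy
        intro a ha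
        rw [mul_smul, mul_smul, smul_eq_iff_eq_inv_smul] at ha
        exact hfpf u hu hu1 (c⁻¹ • a) ha
      have h := Subgroup.card_mul_index (Subgroup.centralizer ({u} : Set G))
      rw [hcard] at h
      refine Nat.le_of_mul_le_mul_right ?_ (show 0 < Fintype.card α - 1 by omega)
      rw [← h]
      exact Nat.mul_le_mul_left _ hidx
    have hv' : v ∈ Subgroup.centralizer ({u} : Set G) := by
      rw [Subgroup.eq_of_le_of_card_ge hCle (by rw [hP, hC])]
      exact hv
    exact (Subgroup.mem_centralizer_singleton_iff.mp hv').symm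
  · obtain ⟨a⟩ : Nonempty α := Fintype.card_pos_iff.mp (by omega)
    rw [isPretransitive_iff_base a]
    intro y
    have hbij : Function.Bijective (fun u : (P : Subgroup G) => u • a) := by
      rw [Nat.bijective_iff_injective_and_card]
      refine ⟨fun u v h => ?_, by rw [hP, Nat.card_eq_fintype_card]⟩
      have : v⁻¹ * u ∈ stabilizer (P : Subgroup G) a := by
        rw [mem_stabilizer_iff, mul_smul]; simp only at h; rw [h, inv_smul_smul]
      rw [hsemi, Subgroup.mem_bot, inv_mul_eq_one] at this
      exact this.symm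
    exact hbij.2 y

end Cfsg.Agent.PermGp
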