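import Cfsg.Agent.Lib.CompLen.MinNormal

/-! A minimal normal subgroup is a direct power of a simple group. -/

set_option autoImplicit false

namespace Cfsg.Agent.PermGp

universe u

variable {G : Type u} [Group G]

open Cfsg.Agent.CompLen

/-- The decomposition in the non-abelian case, with the factors explicit. -/
theorem factorSet_hom {N : Subgroup G} [N.Normal] {X : Finset (Subgroup G)} (h : IsFactorSet N X)
    (hmin : ∀ A : Subgroup G, A.Normal → A ≤ N → A ≠ ⊥ → A = N) (hna : ¬ Comm N N)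
    {m : ℕ} (e : Fin m ≃ ↥X) :
    ∃ F : ((i : Fin m) → ↥((e i : Subgroup G))) ≃* N,
      ∀ i (x : ↥((e i : Subgroup G))), ((F (Pi.mulSingle i x) : N) : G) = x := by
  classical
  have hcomm : Pairwise fun i j => ∀ x y : G, x ∈ (e i : Subgroup G) → y ∈ (e j : Subgroup G) →
      Commute x y := by
    intro i j hij x y hx hy
    exact h.comm (e i).2 (e j).2 (fun he => hij (e.injective (Subtype.ext he))) x hx y hy
  have hind : iSupIndep fun i => (e i : Subgroup G) := by
    intro i
    rw [disjoint_iff, eq_bot_iff]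
    refine le_trans (inf_le_inf le_rfl ?_)
      (h.inf_sup_eq_bot hmin hna (e i).2 (Finset.erase_subset (e i : Subgroup G) X)
        (Finset.notMem_erase _ _)).le
    refine iSup₂_le fun j hj => ?_
    exact Finset.le_sup (f := id) (Finset.mem_erase.mpr
      ⟨fun he => hj (e.injective (Subtype.ext he)), (e j).2⟩)
  let φ := Subgroup.noncommPiCoprod (H := fun i => (e i : Subgroup G)) hcomm
  have hrange : φ.range = N := by
    rw [Subgroup.noncommPiCoprod_range]
    refine le_antisymm (iSup_le fun i => h.le _ (e i).2) ?_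
    conv_lhs => rw [← h.sup_eq]
    exact Finset.sup_le fun A hA =>
      le_iSup_of_le (f := fun i => (e i : Subgroup G)) (e.symm ⟨A, hA⟩) (by simp)
  have hinj : Function.Injective φ := Subgroup.injective_noncommPiCoprod_of_iSupIndep hind
  refine ⟨(MonoidHom.ofInjective hinj).trans (MulEquiv.subgroupCongr hrange), fun i x => ?_⟩
  exact Subgroup.noncommPiCoprod_mulSingle (hcomm := hcomm) i x

theorem exists_power_of_not_comm [Finite G] {N : Subgroup G} [N.Normal] (hN : N ≠ ⊥)
    (hmin : ∀ A : Subgroup G, A.Normal → A ≤ N → A ≠ ⊥ → A = N) (hna : ¬ Comm N N) :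
    ∃ (A : Subgroup G) (m : ℕ), IsSimpleGroup A ∧ 0 < m ∧ Nonempty (N ≃* (Fin m → A)) := by
  classical
  obtain ⟨X, hX, hne⟩ := exists_factorSet hN hmin
  obtain ⟨A, hA⟩ := hne
  obtain ⟨F, -⟩ := factorSet_hom hX hmin hna X.equivFin.symm
  have hconj : ∀ B : ↥X, ∃ g : G, A.map (MulAut.conj g).toMonoidHom = (B : Subgroup G) := fun B =>
    hX.trans A hA B B.2
  choose g hg using hconj
  refine ⟨A, X.card, hX.isSimpleGroup hA, Finset.card_pos.mpr ⟨A, hA⟩, ⟨F.symm.trans ?_⟩⟩
  exact MulEquiv.piCongrRight fun i => ((A.equivMapOfInjective _ (MulAut.conj (g _)).injective).trans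
    (MulEquiv.subgroupCongr (hg _))).symm

theorem exists_basis_power_aux (p : ℕ) [Fact p.Prime] {A : Type u} [CommGroup A] [Finite A]
    [Nontrivial A] [Module (ZMod p) (Additive A)] :
    ∃ m, 0 < m ∧ Nonempty (A ≃* (Fin m → Multiplicative (ZMod p))) := by
  have h2 : Module.Finite (ZMod p) (Additive A) := Module.Finite.of_finite
  let b := Module.finBasis (ZMod p) (Additive A)
  exact ⟨_, Module.finrank_pos (R := ZMod p) (M := Additive A),
    ⟨(AddEquiv.toMultiplicativeRight b.equivFun.toAddEquiv).trans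
      (MulEquiv.piMultiplicative fun _ : Fin (Module.finrank (ZMod p) (Additive A)) => ZMod p)⟩⟩

/-- A non-trivial finite abelian group of prime exponent is a power of a cyclic group. -/
theorem exists_basis_power (p : ℕ) [Fact p.Prime] {A : Type u} [CommGroup A] [Finite A] [Nontrivial A]
    (hexp : ∀ a : A, a ^ p = 1) :
    ∃ m, 0 < m ∧ Nonempty (A ≃* (Fin m → Multiplicative (ZMod p))) :=
  @exists_basis_power_aux p _ A _ _ _
    (AddCommGroup.zmodModule fun v => congrArg Additive.ofMul (hexp (Additive.toMul v)))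

/-- An abelian minimal normal subgroup is a power of a group of prime order. -/
theorem exists_power_of_comm [Finite G] {N : Subgroup G} [N.Normal] (hN : N ≠ ⊥)
    (hmin : ∀ A : Subgroup G, A.Normal → A ≤ N → A ≠ ⊥ → A = N) (hc : Comm N N) :
    ∃ p : ℕ, p.Prime ∧ (∀ n ∈ N, n ^ p = 1) ∧
      ∃ m, 0 < m ∧ Nonempty (N ≃* (Fin m → Multiplicative (ZMod p))) := by
  classical
  have hnt : Nontrivial N := N.nontrivial_iff_ne_bot.mpr hN
  obtain ⟨p, hp, hdvd⟩ := Nat.exists_prime_and_dvd (Finite.one_lt_card (α := N)).ne'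
  haveI := Fact.mk hp
  obtain ⟨x, hx⟩ := exists_prime_orderOf_dvd_card' (G := N) p hdvd
  let T : Subgroup G :=
    { carrier := {g | g ∈ N ∧ g ^ p = 1}
      mul_mem' := fun {a b} ha hb =>
        ⟨N.mul_mem ha.1 hb.1, by rw [Commute.mul_pow (hc a ha.1 b hb.1), ha.2, hb.2, one_mul]⟩
      one_mem' := ⟨N.one_mem, one_pow p⟩
      inv_mem' := fun {a} ha => ⟨N.inv_mem ha.1, by rw [inv_pow, ha.2, inv_one]⟩ }
  have hT : T.Normal := ⟨fun a ha g => ⟨Subgroup.Normal.conj_mem inferInstance a ha.1 g, by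
    rw [conj_pow, ha.2, mul_one, mul_inv_cancel]⟩⟩
  have hTN : T = N := hmin T hT (fun a ha => ha.1) (fun h => by
    have hxT : (x : G) ∈ T := ⟨x.2, by rw [← hx, ← Subgroup.coe_pow, pow_orderOf_eq_one, Subgroup.coe_one]⟩
    rw [h, Subgroup.mem_bot] at hxT
    have hx1 : x = 1 := Subtype.ext hxT
    rw [hx1, orderOf_one] at hx
    exact hp.one_lt.ne hx)
  have hexp : ∀ n ∈ N, n ^ p = 1 := fun n hn => (hTN.symm ▸ hn : n ∈ T).2
  refine ⟨p, hp, hexp, ?_⟩
  let : CommGroup N :=
    { (inferInstance : Group N) with mul_comm := fun a b => Subtype.ext (hc a a.2 b b.2) }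
  exact exists_basis_power p (A := N) fun a => Subtype.ext (hexp a a.2)

end Cfsg.Agent.PermGp
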