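import Cfsg.Agent.Lib.CT.Orthogonality

/-! Multiplicity-free complex representations and their commuting endomorphisms. -/

set_option autoImplicit false
set_option linter.unusedSectionVars false

namespace Cfsg.Agent.PermGp

open scoped ComplexConjugate
open Representation Module Cfsg.Agent.CT

universe u v w

variable {G : Type u} [Group G] [Fintype G]

section two

variable {V : Type v} [AddCommGroup V] [Module ℂ V] [FiniteDimensional ℂ V]
variable {W : Type w} [AddCommGroup W] [Module ℂ W] [FiniteDimensional ℂ W]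

theorem intertwining_eq_zero (ρ : Representation ℂ G V) (σ : Representation ℂ G W)
    (h : classInner σ.character ρ.character = 0) (f : V →ₗ[ℂ] W)
    (hf : ∀ g v, f (ρ g v) = σ g (f v)) : f = 0 := by
  rw [classInner_char_char, Nat.cast_eq_zero] at h
  let L : IntertwiningMap ρ σ →ₗ[ℂ] (V →ₗ[ℂ] W) :=
    { toFun := fun φ => φ.toLinearMap, map_add' := fun _ _ => rfl, map_smul' := fun _ _ => rfl }
  have hL : Function.Injective L := fun a b e => IntertwiningMap.ext e
  have : FiniteDimensional ℂ (IntertwiningMap ρ σ) := FiniteDimensional.of_injective L hL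
  have hs : Subsingleton (IntertwiningMap ρ σ) := Module.finrank_zero_iff.mp h
  exact congrArg IntertwiningMap.toLinearMap
    (hs.elim (f.intertwiningMap_of_isIntertwiningMap ρ σ hf) 0)

theorem exists_intertwining (ρ : Representation ℂ G V) (σ : Representation ℂ G W)
    (h : classInner σ.character ρ.character ≠ 0) :
    ∃ f : V →ₗ[ℂ] W, f ≠ 0 ∧ ∀ g v, f (ρ g v) = σ g (f v) := by
  rw [classInner_char_char, Ne, Nat.cast_eq_zero] at h
  have := Module.nontrivial_of_finrank_pos (Nat.pos_of_ne_zero h)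
  obtain ⟨φ, hφ⟩ := exists_ne (0 : IntertwiningMap ρ σ)
  exact ⟨φ.toLinearMap, fun e => hφ (IntertwiningMap.ext e), fun g v => φ.isIntertwining ρ σ g v⟩

end two

variable {V : Type v} [AddCommGroup V] [Module ℂ V] [FiniteDimensional ℂ V]

/-- No irreducible character occurs more than once. -/
def MF (ρ : Representation ℂ G V) : Prop :=
  ∀ χ : G → ℂ, IsIrrCharacter G χ → classInner ρ.character χ = 0 ∨ classInner ρ.character χ = 1

variable (ρ : Representation ℂ G V)

/-- The twisted trace of a commuting endomorphism. -/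
noncomputable def twistTrace (T : V →ₗ[ℂ] V) : G → ℂ := fun g => LinearMap.trace ℂ V (T ∘ₗ ρ g)

theorem trace_isCompl (f : V →ₗ[ℂ] V) {U U' : Submodule ℂ V} (h : IsCompl U U')
    (hU : ∀ v ∈ U, f v ∈ U) (hU' : ∀ v ∈ U', f v ∈ U') :
    LinearMap.trace ℂ V f = LinearMap.trace ℂ U (f.restrict hU) + LinearMap.trace ℂ U' (f.restrict hU') := by
  have e : (Submodule.prodEquivOfIsCompl U U' h).conj
      (LinearMap.prodMap (f.restrict hU) (f.restrict hU')) = f := by
    refine LinearMap.ext fun v => ?_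
    obtain ⟨⟨a, b⟩, rfl⟩ := (Submodule.prodEquivOfIsCompl U U' h).surjective v
    rw [LinearEquiv.conj_apply_apply, LinearEquiv.symm_apply_apply]
    simp [map_add]
  conv_lhs => rw [← e, LinearMap.trace_conj', LinearMap.trace_prodMap']

theorem isClassFunction_twistTrace (T : V →ₗ[ℂ] V) (hT : ∀ g v, T (ρ g v) = ρ g (T v)) :
    IsClassFunction G (twistTrace ρ T) := by
  rw [isClassFunction_iff]
  rintro a b hab
  obtain ⟨c, rfl⟩ := isConj_iff.mp hab
  have e : T ∘ₗ ρ (c * a * c⁻¹) = ρ c ∘ₗ ((T ∘ₗ ρ a) ∘ₗ ρ c⁻¹) := LinearMap.ext fun v => by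
    simp [map_mul, hT]
  show LinearMap.trace ℂ V _ = LinearMap.trace ℂ V _
  rw [e, ← LinearMap.trace_comp_comm' (ρ c) ((T ∘ₗ ρ a) ∘ₗ ρ c⁻¹), LinearMap.comp_assoc (ρ c),
    ← Module.End.mul_eq_comp (ρ c⁻¹), ← map_mul, inv_mul_cancel, map_one, Module.End.one_eq_id, LinearMap.comp_id]

section compl

variable {U U' : Submodule ℂ V} (h : IsCompl U U')
  (hU : ∀ g, ∀ v ∈ U, ρ g v ∈ U) (hU' : ∀ g, ∀ v ∈ U', ρ g v ∈ U')

include h hU' in
theorem MF.left (hρ : MF ρ) : MF (restrictSub ρ U hU) := by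
  intro χ hχ
  have e := hρ χ hχ
  rw [char_isCompl ρ h hU hU', classInner_add_left] at e
  obtain ⟨m, hm⟩ := classInner_character_nat (isCharacter_character (restrictSub ρ U hU)) (isCharacter_of_isIrr hχ)
  obtain ⟨n, hn⟩ := classInner_character_nat (isCharacter_character (restrictSub ρ U' hU')) (isCharacter_of_isIrr hχ)
  rw [hm, hn] at e
  rw [hm]
  rcases e with e | e <;> norm_cast at e ⊢ <;> omega

include h in
theorem MF.no_common (hρ : MF ρ) (χ : G → ℂ) (hχ : IsIrrCharacter G χ) :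
    classInner (restrictSub ρ U hU).character χ = 0 ∨ classInner (restrictSub ρ U' hU').character χ = 0 := by
  have e := hρ χ hχ
  rw [char_isCompl ρ h hU hU', classInner_add_left] at e
  obtain ⟨m, hm⟩ := classInner_character_nat (isCharacter_character (restrictSub ρ U hU)) (isCharacter_of_isIrr hχ)
  obtain ⟨n, hn⟩ := classInner_character_nat (isCharacter_character (restrictSub ρ U' hU')) (isCharacter_of_isIrr hχ)
  rw [hm, hn] at e
  rw [hm, hn]
  rcases e with e | e <;> norm_cast at e ⊢ <;> omega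

include h hU in
theorem projectionOnto_equivariant (hU' : ∀ g, ∀ v ∈ U', ρ g v ∈ U') (g : G) (v : V) :
    U.projectionOnto U' h (ρ g v) = restrictSub ρ U hU g (U.projectionOnto U' h v) := by
  obtain ⟨⟨a, b⟩, rfl⟩ := (Submodule.prodEquivOfIsCompl U U' h).surjective v
  simp only [Submodule.coe_prodEquivOfIsCompl', map_add]
  rw [Submodule.projectionOnto_apply_of_mem_left h (hU g a a.2),
    Submodule.projectionOnto_apply_of_mem_right h (hU' g b b.2),
    Submodule.projectionOnto_apply_left h a, Submodule.projectionOnto_apply_right h b]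
  simp [Subrepresentation.toRepresentation]
  rfl

include h hU' in
/-- In a multiplicity-free representation every commuting endomorphism preserves every invariant
subspace. -/
theorem MF.preserves (hρ : MF ρ) (hU : ∀ g, ∀ v ∈ U, ρ g v ∈ U) (T : V →ₗ[ℂ] V)
    (hT : ∀ g v, T (ρ g v) = ρ g (T v)) : ∀ v ∈ U, T v ∈ U := by
  intro v hv
  set f : U →ₗ[ℂ] U' := U'.projectionOnto U h.symm ∘ₗ T ∘ₗ U.subtype with hf
  have h0 : f = 0 := by
    refine intertwining_eq_zero (restrictSub ρ U hU) (restrictSub ρ U' hU') ?_ f fun g x => ?_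
    · rw [classInner_eq_sum (isClassFunction_of_isCharacter (isCharacter_character _))]
      refine Finset.sum_eq_zero fun χ _ => ?_
      rcases MF.no_common ρ h hU hU' hρ χ χ.2 with e | e <;> simp [e]
    · rw [hf, LinearMap.comp_apply, LinearMap.comp_apply, LinearMap.comp_apply, LinearMap.comp_apply]
      rw [← projectionOnto_equivariant ρ h.symm hU' hU, ← hT]
      rfl
  have e := LinearMap.congr_fun h0 ⟨v, hv⟩
  exact (Submodule.projectionOnto_apply_eq_zero_iff h.symm).mp e

end compl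

theorem exists_split (hirr : ¬ ρ.IsIrreducible) [Nontrivial V] :
    ∃ U U' : Submodule ℂ V, IsCompl U U' ∧ (∀ g, ∀ v ∈ U, ρ g v ∈ U) ∧ (∀ g, ∀ v ∈ U', ρ g v ∈ U') ∧
      finrank ℂ U < finrank ℂ V ∧ finrank ℂ U' < finrank ℂ V := by
  obtain ⟨U, hU, hne⟩ : ∃ U : Submodule ℂ V, (∀ g, ∀ v ∈ U, ρ g v ∈ U) ∧ ¬(U = ⊥ ∨ U = ⊤) := by
    by_contra hh
    exact hirr ((isIrreducible_iff ρ).mpr ⟨inferInstance, fun W hW => by
      by_contra h'
      exact hh ⟨W, hW, h'⟩⟩)
  rw [not_or] at hne
  obtain ⟨U', hc, hU'⟩ := exists_isCompl_invariant ρ U hU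
  refine ⟨U, U', hc, hU, hU', Submodule.finrank_lt hne.2, Submodule.finrank_lt ?_⟩
  rintro rfl
  exact hne.1 (by simpa using hc.inf_eq_bot)

theorem MF.main (n : ℕ) : ∀ (V : Type v) [AddCommGroup V] [Module ℂ V] [FiniteDimensional ℂ V]
    (ρ : Representation ℂ G V), finrank ℂ V = n → MF ρ →
    ∀ T : V →ₗ[ℂ] V, (∀ g v, T (ρ g v) = ρ g (T v)) →
      (∀ χ : G → ℂ, IsIrrCharacter G χ → classInner ρ.character χ = 0 → classInner (twistTrace ρ T) χ = 0) ∧
      (twistTrace ρ T = 0 → T = 0) ∧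
      (∀ S : V →ₗ[ℂ] V, (∀ g v, S (ρ g v) = ρ g (S v)) → ∀ v, S (T v) = T (S v)) := by
  induction n using Nat.strong_induction_on with
  | _ n ih =>
    intro V _ _ _ ρ hn hρ T hT
    rcases subsingleton_or_nontrivial V with hV | hV
    · refine ⟨fun χ _ _ => ?_, fun _ => LinearMap.ext fun v => Subsingleton.elim _ _,
        fun S _ v => Subsingleton.elim _ _⟩
      have : twistTrace ρ T = 0 := funext fun g => by
        rw [show twistTrace ρ T g = LinearMap.trace ℂ V (T ∘ₗ ρ g) from rfl,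
          show T ∘ₗ ρ g = 0 from LinearMap.ext fun v => Subsingleton.elim _ _, map_zero]; rfl
      rw [this, classInner_zero_left]
    by_cases hirr : ρ.IsIrreducible
    · have hTs : ∀ T : V →ₗ[ℂ] V, (∀ g v, T (ρ g v) = ρ g (T v)) → ∃ c : ℂ, T = c • LinearMap.id :=
        fun T hT => ⟨_, eq_scalar_of_commute ρ T fun g => LinearMap.ext fun v => hT g v⟩
      obtain ⟨c, rfl⟩ := hTs T hT
      have hF : twistTrace ρ (c • LinearMap.id) = c • ρ.character := funext fun g => by
        simp [twistTrace, LinearMap.smul_comp, Representation.character]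
      refine ⟨fun χ _ h0 => by rw [hF, classInner_smul_left, h0, mul_zero], fun h0 => ?_, fun S hS v => ?_⟩
      · rw [hF] at h0
        have := congrFun h0 1
        simp only [Pi.smul_apply, Pi.zero_apply, smul_eq_mul, mul_eq_zero] at this
        rw [this.resolve_right (irr_one_ne_zero (isIrrCharacter_character ρ)), zero_smul]
      · obtain ⟨d, rfl⟩ := hTs S hS
        simp [smul_comm c d]
    obtain ⟨U, U', hc, hU, hU', hlt, hlt'⟩ := exists_split ρ hirr
    have hp := MF.preserves ρ hc hU' hρ hU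
    have hp' := MF.preserves ρ hc.symm hU hρ hU'
    have hTU : ∀ (S : V →ₗ[ℂ] V) (hS : ∀ g v, S (ρ g v) = ρ g (S v)) (g : G) (v : U),
        S.restrict (hp S hS) (restrictSub ρ U hU g v) = restrictSub ρ U hU g (S.restrict (hp S hS) v) :=
      fun S hS g v => Subtype.ext (hS g v)
    have hTU' : ∀ (S : V →ₗ[ℂ] V) (hS : ∀ g v, S (ρ g v) = ρ g (S v)) (g : G) (v : U'),
        S.restrict (hp' S hS) (restrictSub ρ U' hU' g v) = restrictSub ρ U' hU' g (S.restrict (hp' S hS) v) :=
      fun S hS g v => Subtype.ext (hS g v)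
    obtain ⟨a1, a2, a3⟩ := ih _ (hn ▸ hlt) U (restrictSub ρ U hU) rfl (MF.left ρ hc hU hU' hρ) _ (hTU T hT)
    obtain ⟨b1, b2, b3⟩ := ih _ (hn ▸ hlt') U' (restrictSub ρ U' hU') rfl (MF.left ρ hc.symm hU' hU hρ) _ (hTU' T hT)
    set F := twistTrace (restrictSub ρ U hU) (T.restrict (hp T hT))
    set F' := twistTrace (restrictSub ρ U' hU') (T.restrict (hp' T hT))
    have hsum : twistTrace ρ T = F + F' := funext fun g =>
      trace_isCompl (T ∘ₗ ρ g) hc (fun v hv => hp T hT _ (hU g v hv)) (fun v hv => hp' T hT _ (hU' g v hv))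
    refine ⟨fun χ hχ h0 => ?_, fun h0 => ?_, fun S hS v => ?_⟩
    · rw [char_isCompl ρ hc hU hU', classInner_add_left] at h0
      obtain ⟨m, hm⟩ := classInner_character_nat (isCharacter_character (restrictSub ρ U hU)) (isCharacter_of_isIrr hχ)
      obtain ⟨k, hk⟩ := classInner_character_nat (isCharacter_character (restrictSub ρ U' hU')) (isCharacter_of_isIrr hχ)
      rw [hm, hk] at h0
      norm_cast at h0
      rw [hsum, classInner_add_left, a1 χ hχ (by rw [hm]; norm_cast; omega),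
        b1 χ hχ (by rw [hk]; norm_cast; omega), add_zero]
    · have key : ∀ χ : G → ℂ, IsIrrCharacter G χ → classInner F χ = 0 ∧ classInner F' χ = 0 := by
        intro χ hχ
        have e : classInner F χ + classInner F' χ = 0 := by
          rw [← classInner_add_left, ← hsum, h0, classInner_zero_left]
        rcases MF.no_common ρ hc hU hU' hρ χ hχ with e' | e'
        · rw [a1 χ hχ e', zero_add] at e; exact ⟨a1 χ hχ e', e⟩
        · rw [b1 χ hχ e', add_zero] at e; exact ⟨e, b1 χ hχ e'⟩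
      have hF := a2 (classFunction_eq_zero (isClassFunction_twistTrace _ _ (hTU T hT)) fun χ hχ => (key χ hχ).1)
      have hF' := b2 (classFunction_eq_zero (isClassFunction_twistTrace _ _ (hTU' T hT)) fun χ hχ => (key χ hχ).2)
      refine LinearMap.ext fun v => ?_
      obtain ⟨x, hx, y, hy, rfl⟩ := Submodule.mem_sup.mp (show v ∈ U ⊔ U' by rw [hc.sup_eq_top]; trivial)
      rw [map_add]
      have e1 : T x = 0 := congrArg Subtype.val (LinearMap.congr_fun hF ⟨x, hx⟩)
      have e2 : T y = 0 := congrArg Subtype.val (LinearMap.congr_fun hF' ⟨y, hy⟩)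
      simp [e1, e2]
    · obtain ⟨x, hx, y, hy, rfl⟩ := Submodule.mem_sup.mp (show v ∈ U ⊔ U' by rw [hc.sup_eq_top]; trivial)
      have e1 : S (T x) = T (S x) := congrArg Subtype.val (a3 _ (hTU S hS) ⟨x, hx⟩)
      have e2 : S (T y) = T (S y) := congrArg Subtype.val (b3 _ (hTU' S hS) ⟨y, hy⟩)
      simp [map_add, e1, e2]

theorem MF.commute (hρ : MF ρ) {S T : V →ₗ[ℂ] V} (hS : ∀ g v, S (ρ g v) = ρ g (S v))
    (hT : ∀ g v, T (ρ g v) = ρ g (T v)) : S ∘ₗ T = T ∘ₗ S :=
  LinearMap.ext ((MF.main _ V ρ rfl hρ T hT).2.2 S hS)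

theorem MF.eq_zero_of_twistTrace (hρ : MF ρ) {T : V →ₗ[ℂ] V} (hT : ∀ g v, T (ρ g v) = ρ g (T v))
    (h : twistTrace ρ T = 0) : T = 0 :=
  (MF.main _ V ρ rfl hρ T hT).2.1 h

theorem MF.inner_twistTrace (hρ : MF ρ) {T : V →ₗ[ℂ] V} (hT : ∀ g v, T (ρ g v) = ρ g (T v))
    {χ : G → ℂ} (hχ : IsIrrCharacter G χ) (h : classInner ρ.character χ = 0) :
    classInner (twistTrace ρ T) χ = 0 :=
  (MF.main _ V ρ rfl hρ T hT).1 χ hχ h

/-- An irreducible constituent is afforded by an invariant subspace. -/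
theorem exists_constituent_sub {χ : G → ℂ} (hχ : IsIrrCharacter G χ)
    (h : classInner ρ.character χ ≠ 0) :
    ∃ (U : Submodule ℂ V) (hU : ∀ g, ∀ v ∈ U, ρ g v ∈ U), (restrictSub ρ U hU).character = χ := by
  obtain ⟨m, σ, hσ, rfl⟩ := hχ
  obtain ⟨f, hf0, hf⟩ := exists_intertwining σ ρ h
  have hinj : Function.Injective f := by
    rw [← LinearMap.ker_eq_bot]
    refine (((isIrreducible_iff σ).mp hσ).2 (LinearMap.ker f) fun g v hv => ?_).resolve_right
      fun e => hf0 (LinearMap.ker_eq_top.mp e)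
    rw [LinearMap.mem_ker] at hv ⊢
    rw [hf, hv, map_zero]
  have hU : ∀ g, ∀ v ∈ LinearMap.range f, ρ g v ∈ LinearMap.range f := by
    rintro g _ ⟨x, rfl⟩
    exact ⟨σ g x, hf g x⟩
  refine ⟨LinearMap.range f, hU, ?_⟩
  exact (Representation.char_iso (Representation.Equiv.mk (σ := restrictSub ρ (LinearMap.range f) hU)
    (LinearEquiv.ofInjective f hinj) fun g => LinearMap.ext fun x => Subtype.ext (hf g x))).symm

theorem MF.of_commute (hc : ∀ S T : V →ₗ[ℂ] V, (∀ g v, S (ρ g v) = ρ g (S v)) →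
    (∀ g v, T (ρ g v) = ρ g (T v)) → S ∘ₗ T = T ∘ₗ S) : MF ρ := by
  intro χ hχ
  by_contra hcon
  push Not at hcon
  obtain ⟨m, hm⟩ := classInner_character_nat (isCharacter_character ρ) (isCharacter_of_isIrr hχ)
  obtain ⟨U, hU, hUχ⟩ := exists_constituent_sub ρ hχ hcon.1
  obtain ⟨U', hcompl, hU'⟩ := exists_isCompl_invariant ρ U hU
  have e : classInner (restrictSub ρ U' hU').character (restrictSub ρ U hU).character ≠ 0 := by
    intro e
    apply hcon.2
    rw [char_isCompl ρ hcompl hU hU', classInner_add_left, hUχ, irr_inner_self hχ]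
    rw [hUχ] at e
    rw [e, add_zero]
  obtain ⟨f, hf0, hf⟩ := exists_intertwining _ _ e
  set P := U.subtype ∘ₗ U.projectionOnto U' hcompl with hP
  set T := U'.subtype ∘ₗ f ∘ₗ U.projectionOnto U' hcompl with hT
  have hPc : ∀ g v, P (ρ g v) = ρ g (P v) := fun g v => by
    simp [hP, projectionOnto_equivariant ρ hcompl hU hU']
    rfl
  have hTc : ∀ g v, T (ρ g v) = ρ g (T v) := fun g v => by
    simp only [hT, LinearMap.comp_apply, projectionOnto_equivariant ρ hcompl hU hU', hf]
    rfl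
  refine hf0 (LinearMap.ext fun x => ?_)
  have := LinearMap.congr_fun (hc P T hPc hTc) (x : V)
  simp only [hP, hT, LinearMap.comp_apply, Submodule.coe_subtype, Submodule.projectionOnto_apply_left] at this
  rw [Submodule.projectionOnto_apply_of_mem_right hcompl (f x).2] at this
  exact Subtype.ext this.symm

theorem mf_iff_commute : MF ρ ↔ ∀ S T : V →ₗ[ℂ] V, (∀ g v, S (ρ g v) = ρ g (S v)) →
    (∀ g v, T (ρ g v) = ρ g (T v)) → S ∘ₗ T = T ∘ₗ S :=
  ⟨fun h _ _ hS hT => MF.commute ρ h hS hT, MF.of_commute ρ⟩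

end Cfsg.Agent.PermGp
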