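import Mathlib.LinearAlgebra.Matrix.GeneralLinearGroup.Defs
import Mathlib.LinearAlgebra.Matrix.Determinant.Basic
import Mathlib.LinearAlgebra.Matrix.NonsingularInverse
import Mathlib.GroupTheory.OrderOfElement
import Mathlib.FieldTheory.Finite.Basic
import Mathlib.Tactic

/-! A checker for subgroups of `GL(2,p)` that are regular on the non-zero vectors. -/

set_option autoImplicit false

namespace Cfsg.Agent.PermGp.NearField

/-- Two by two matrices by their entries. -/
abbrev Quad := ℕ × ℕ × ℕ × ℕ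

def mulQ (p : ℕ) : Quad → Quad → Quad
  | (a, b, c, d), (a', b', c', d') =>
    ((a * a' + b * c') % p, (a * b' + b * d') % p, (c * a' + d * c') % p, (c * b' + d * d') % p)

def toM (p : ℕ) : Quad → Matrix (Fin 2) (Fin 2) (ZMod p)
  | (a, b, c, d) => !![(a : ZMod p), b; c, d]

theorem toM_mul (p : ℕ) (x y : Quad) : toM p (mulQ p x y) = toM p x * toM p y := by
  obtain ⟨a, b, c, d⟩ := x
  obtain ⟨a', b', c', d'⟩ := y
  ext i j
  fin_cases i <;> fin_cases j <;>
    simp [toM, mulQ, Matrix.mul_apply, ZMod.natCast_mod]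

def Reduced (p : ℕ) (x : Quad) : Prop := x.1 < p ∧ x.2.1 < p ∧ x.2.2.1 < p ∧ x.2.2.2 < p

theorem toM_inj {p : ℕ} {x y : Quad} (hx : Reduced p x) (hy : Reduced p y) (h : toM p x = toM p y) :
    x = y := by
  obtain ⟨a, b, c, d⟩ := x
  obtain ⟨a', b', c', d'⟩ := y
  obtain ⟨h1, h2, h3, h4⟩ := hx
  obtain ⟨h5, h6, h7, h8⟩ := hy
  have e1 : (a : ZMod p) = a' := congrFun (congrFun h 0) 0
  have e2 : (b : ZMod p) = b' := congrFun (congrFun h 0) 1
  have e3 : (c : ZMod p) = c' := congrFun (congrFun h 1) 0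
  have e4 : (d : ZMod p) = d' := congrFun (congrFun h 1) 1
  rw [ZMod.natCast_eq_natCast_iff', Nat.mod_eq_of_lt, Nat.mod_eq_of_lt] at e1 e2 e3 e4 <;>
    first | assumption | (simp_all)

/-- Evaluate a word in the generators. -/
def evalWord (p : ℕ) (gens : List Quad) (w : List ℕ) : Quad :=
  w.foldl (fun x k => mulQ p x (gens.getD k (1, 0, 0, 1))) (1, 0, 0, 1)

def elems (p : ℕ) (gens : List Quad) (W : List (List ℕ)) : List Quad := W.map (evalWord p gens)

/-- The finite checks. -/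
def check (p c m : ℕ) (gens : List Quad) (W : List (List ℕ)) : Bool :=
  let S := elems p gens W
  decide ([] ∈ W) && decide (W.all fun w => w.all fun k => decide (k < gens.length)) &&
    S.all (fun s => gens.all fun g => S.elem (mulQ p s g)) &&
    decide S.Nodup &&
    S.all (fun x => decide (x.1 < p) && decide (x.2.1 < p) && decide (x.2.2.1 < p) && decide (x.2.2.2 < p)) &&
    S.all (fun x => decide ((x.1 * x.2.2.2 + (p - 1) * (x.2.1 * x.2.2.1)) % p = 1)) &&
    decide (c ^ m % p = 1) &&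
    decide ((List.range m).map (fun k => c ^ (2 * k) % p)).Nodup &&
    decide (S.length * m + 1 = p * p) &&
    (List.range m).all (fun k => S.all fun x =>
      decide (x = (1, 0, 0, 1) ∧ k = 0) ||
        decide (((c ^ k * x.1 + (p - 1)) * (c ^ k * x.2.2.2 + (p - 1)) +
          (p - 1) * ((c ^ k * x.2.1) * (c ^ k * x.2.2.1))) % p ≠ 0))

theorem regular_closure {p : ℕ} [hp : Fact p.Prime] {c m : ℕ} {gens : List Quad} {W : List (List ℕ)}
    (hcheck : check p c m gens W = true) (hm : 0 < m)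
    (T : Set (Matrix.GeneralLinearGroup (Fin 2) (ZMod p)))
    (hT : ∀ M ∈ T, (∃ g ∈ gens, (M : Matrix (Fin 2) (Fin 2) (ZMod p)) = toM p g) ∨
      (M : Matrix (Fin 2) (Fin 2) (ZMod p)) = (c : ZMod p) • 1)
    (hg : ∀ g ∈ gens, ∃ M ∈ T, (M : Matrix (Fin 2) (Fin 2) (ZMod p)) = toM p g)
    (hc : ∃ M ∈ Subgroup.closure T, (M : Matrix (Fin 2) (Fin 2) (ZMod p)) = (c : ZMod p) • 1) :
    Nat.card (Subgroup.closure T) = p * p - 1 ∧
      ∀ v w : Fin 2 → ZMod p, v ≠ 0 → w ≠ 0 → ∃! h : Subgroup.closure T,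
        Matrix.mulVec ((h : Matrix.GeneralLinearGroup (Fin 2) (ZMod p)) :
          Matrix (Fin 2) (Fin 2) (ZMod p)) v = w := by
  classical
  simp only [check, Bool.and_eq_true, decide_eq_true_eq, List.all_eq_true, List.elem_eq_mem,
    List.mem_range, Bool.or_eq_true] at hcheck
  obtain ⟨⟨⟨⟨⟨⟨⟨⟨⟨hnil, hW⟩, hclosed⟩, hnodup⟩, hred⟩, hdet⟩, hcm⟩, hsq⟩, hlen⟩, hfree⟩ := hcheck
  set S := elems p gens W with hS
  have hp1 : ((p - 1 : ℕ) : ZMod p) = -1 := by
    rw [Nat.cast_sub hp.out.one_le, ZMod.natCast_self, Nat.cast_one, zero_sub]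
  have hcm' : (c : ZMod p) ^ m = 1 := by
    have h : ((c ^ m % p : ℕ) : ZMod p) = ((1 : ℕ) : ZMod p) := by rw [hcm]
    simpa [ZMod.natCast_mod] using h
  have hdetS : ∀ x ∈ S, (toM p x).det = 1 := fun x hx => by
    have h : (((x.1 * x.2.2.2 + (p - 1) * (x.2.1 * x.2.2.1)) % p : ℕ) : ZMod p) = ((1 : ℕ) : ZMod p) := by
      rw [hdet x hx]
    rw [ZMod.natCast_mod] at h
    push_cast [hp1] at h
    obtain ⟨a, b, e, d⟩ := x
    simp only [toM, Matrix.det_fin_two_of]
    linear_combination h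
  -- the elements
  let val : ℕ → Quad → Matrix (Fin 2) (Fin 2) (ZMod p) := fun k x => (c : ZMod p) ^ k • toM p x
  have hone : toM p (1, 0, 0, 1) = 1 := by
    ext i j; fin_cases i <;> fin_cases j <;> simp [toM]
  have h1S : (1, 0, 0, 1) ∈ S := List.mem_map.mpr ⟨[], hnil, rfl⟩
  have hmem : ∀ M ∈ Subgroup.closure T, ∃ k < m, ∃ x ∈ S,
      (M : Matrix (Fin 2) (Fin 2) (ZMod p)) = val k x := by
    intro M hM
    rw [← Subgroup.mem_toSubmonoid, Subgroup.closure_toSubmonoid_of_finite] at hM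
    induction hM using Submonoid.closure_induction_right with
    | one => exact ⟨0, hm, _, h1S, by simp [val, hone]⟩
    | mul_right M _ N hN ih =>
      obtain ⟨k, hk, x, hx, hMx⟩ := ih
      rcases hT N hN with ⟨g, hgm, hNg⟩ | hNc
      · exact ⟨k, hk, _, hclosed x hx g hgm, by
          rw [Units.val_mul, hMx, hNg]; simp [val, toM_mul]⟩
      · refine ⟨(k + 1) % m, Nat.mod_lt _ hm, x, hx, ?_⟩
        rw [Units.val_mul, hMx, hNc]
        have : (c : ZMod p) ^ ((k + 1) % m) = (c : ZMod p) ^ (k + 1) := by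
          conv_rhs => rw [← Nat.mod_add_div (k + 1) m, pow_add, pow_mul, hcm', one_pow, mul_one]
        simp [val, this, pow_succ, smul_smul, mul_comm]
  have hgen : ∀ w : List ℕ, (∀ k ∈ w, k < gens.length) → ∀ (x : Quad),
      (∃ M ∈ Subgroup.closure T, (M : Matrix (Fin 2) (Fin 2) (ZMod p)) = toM p x) →
      ∃ M ∈ Subgroup.closure T, (M : Matrix (Fin 2) (Fin 2) (ZMod p)) =
        toM p (w.foldl (fun x k => mulQ p x (gens.getD k (1, 0, 0, 1))) x) := by
    intro w
    induction w with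
    | nil => exact fun _ x hx => hx
    | cons k w ih =>
      intro hk x hx
      obtain ⟨M, hM, hMx⟩ := hx
      refine ih (fun j hj => hk j (List.mem_cons_of_mem _ hj)) _ ?_
      have hlt := hk k (List.mem_cons_self ..)
      have hmemg : gens.getD k (1, 0, 0, 1) ∈ gens := by
        simp [List.getD, hlt]
      obtain ⟨N, hN, hNg⟩ := hg _ hmemg
      exact ⟨M * N, Subgroup.mul_mem _ hM (Subgroup.subset_closure hN), by
        rw [Units.val_mul, hMx, hNg, toM_mul]⟩
  obtain ⟨Mc, hMc, hMcv⟩ := hc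
  have hall : ∀ q : Fin m × {x // x ∈ S}, ∃ M : Subgroup.closure T,
      ((M : Matrix.GeneralLinearGroup (Fin 2) (ZMod p)) : Matrix (Fin 2) (Fin 2) (ZMod p)) =
        val q.1 q.2 := by
    rintro ⟨k, x, hx⟩
    obtain ⟨w, hw, rfl⟩ := List.mem_map.mp hx
    obtain ⟨M, hM, hMx⟩ := hgen w (hW w hw) (1, 0, 0, 1) ⟨1, Subgroup.one_mem _, by rw [hone]; rfl⟩
    refine ⟨⟨Mc ^ (k : ℕ) * M, Subgroup.mul_mem _ (Subgroup.pow_mem _ hMc _) hM⟩, ?_⟩
    show ((Mc ^ (k : ℕ) * M : Matrix.GeneralLinearGroup (Fin 2) (ZMod p)) : Matrix (Fin 2) (Fin 2) (ZMod p)) = _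
    rw [Units.val_mul, Units.val_pow_eq_pow_val, hMcv, hMx, smul_pow, one_pow, smul_mul_assoc, one_mul]
    rfl
  choose F hF using hall
  have hFbij : Function.Bijective F := by
    constructor
    · rintro ⟨k, x, hx⟩ ⟨k', x', hx'⟩ h
      have h' : val k x = val k' x' :=
        ((hF (k, ⟨x, hx⟩)).symm.trans (by rw [h])).trans (hF (k', ⟨x', hx'⟩))
      have hd := congrArg Matrix.det h'
      simp only [val, Matrix.det_smul, hdetS x hx, hdetS x' hx', mul_one, Fintype.card_fin,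
        ← pow_mul] at hd
      have hkk : k = k' := by
        have h2 : c ^ (2 * (k : ℕ)) % p = c ^ (2 * (k' : ℕ)) % p := by
          rw [← ZMod.natCast_eq_natCast_iff']
          push_cast
          rw [mul_comm 2 (k : ℕ), mul_comm 2 (k' : ℕ)]
          exact hd
        exact Fin.ext (List.inj_on_of_nodup_map hsq (List.mem_range.mpr k.2) (List.mem_range.mpr k'.2) h2)
      subst hkk
      have hne : (c : ZMod p) ^ (k : ℕ) ≠ 0 := pow_ne_zero _ fun h0 => by
        rw [h0, zero_pow hm.ne'] at hcm'; exact zero_ne_one hcm'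
      obtain ⟨r1, r2⟩ := And.intro (hred x hx) (hred x' hx')
      have := toM_inj (p := p) (x := x) (y := x') ⟨r1.1.1.1, r1.1.1.2, r1.1.2, r1.2⟩
        ⟨r2.1.1.1, r2.1.1.2, r2.1.2, r2.2⟩ (smul_right_injective _ hne h')
      exact Prod.ext rfl (Subtype.ext this)
    · rintro ⟨M, hM⟩
      obtain ⟨k, hk, x, hx, hMx⟩ := hmem M hM
      exact ⟨(⟨k, hk⟩, ⟨x, hx⟩), Subtype.ext (Units.ext ((hF (⟨k, hk⟩, ⟨x, hx⟩)).trans hMx.symm))⟩
  have hcard : Nat.card (Subgroup.closure T) = p * p - 1 := by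
    rw [← Nat.card_eq_of_bijective F hFbij, Nat.card_prod, Nat.card_fin, Nat.card_eq_fintype_card,
      Fintype.card_of_subtype S.toFinset (fun x => List.mem_toFinset), List.toFinset_card_of_nodup hnodup,
      mul_comm]
    omega
  refine ⟨hcard, ?_⟩
  have hfix : ∀ (M : Subgroup.closure T) (v : Fin 2 → ZMod p), v ≠ 0 →
      Matrix.mulVec ((M : Matrix.GeneralLinearGroup (Fin 2) (ZMod p)) :
        Matrix (Fin 2) (Fin 2) (ZMod p)) v = v → M = 1 := by
    intro M v hv hMv
    obtain ⟨k, hk, x, hx, hMx⟩ := hmem M M.2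
    rcases hfree k hk x hx with ⟨rfl, rfl⟩ | hne
    · exact Subtype.ext (Units.ext (hMx.trans (by simp [val, hone])))
    · refine absurd ?_ hne
      have hdet0 : (val k x - 1).det = 0 := Matrix.exists_mulVec_eq_zero_iff.mp
        ⟨v, hv, by rw [Matrix.sub_mulVec, Matrix.one_mulVec, ← hMx, hMv, sub_self]⟩
      obtain ⟨a, b, e, d⟩ := x
      rw [Matrix.det_fin_two] at hdet0
      simp [val, toM] at hdet0
      have h : ((((c ^ k * a + (p - 1)) * (c ^ k * d + (p - 1)) +
          (p - 1) * ((c ^ k * b) * (c ^ k * e))) % p : ℕ) : ZMod p) = 0 := by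
        rw [ZMod.natCast_mod]
        push_cast [hp1]
        linear_combination hdet0
      rw [ZMod.natCast_eq_zero_iff] at h
      exact Nat.eq_zero_of_dvd_of_lt h (Nat.mod_lt _ hp.out.pos)
  intro v w hv hw
  let Φ : Subgroup.closure T → {u : Fin 2 → ZMod p // u ≠ 0} := fun M =>
    ⟨Matrix.mulVec ((M : Matrix.GeneralLinearGroup (Fin 2) (ZMod p)) :
        Matrix (Fin 2) (Fin 2) (ZMod p)) v, fun h => hv (by
      have := congrArg (Matrix.mulVec (((M : Matrix.GeneralLinearGroup (Fin 2) (ZMod p))⁻¹ :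
        Matrix.GeneralLinearGroup (Fin 2) (ZMod p)) : Matrix (Fin 2) (Fin 2) (ZMod p))) h
      rwa [Matrix.mulVec_mulVec, ← Units.val_mul, inv_mul_cancel, Units.val_one, Matrix.one_mulVec,
        Matrix.mulVec_zero] at this)⟩
  have hinj : Function.Injective Φ := by
    intro M N h
    have h' := congrArg Subtype.val h
    have := hfix (N⁻¹ * M) v hv (by
      rw [Subgroup.coe_mul, Units.val_mul, ← Matrix.mulVec_mulVec]
      simp only [Φ] at h'
      rw [h', Matrix.mulVec_mulVec, Subgroup.coe_inv, ← Units.val_mul, inv_mul_cancel, Units.val_one,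
        Matrix.one_mulVec])
    exact (inv_mul_eq_one.mp this).symm
  have hbij := (Nat.bijective_iff_injective_and_card Φ).mpr ⟨hinj, by
    rw [hcard, Nat.card_eq_fintype_card, Fintype.card_subtype_compl, Fintype.card_fun, Fintype.card_fin,
      ZMod.card, Fintype.card_subtype_eq, pow_two]⟩
  obtain ⟨M, hM⟩ := hbij.2 ⟨w, hw⟩
  refine ⟨M, congrArg Subtype.val hM, fun N hN => hbij.1 ?_⟩
  rw [hM]
  exact Subtype.ext hN

end Cfsg.Agent.PermGp.NearField
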