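import Cfsg.Agent.Lib.PermGp.HalfTrans
import Cfsg.Agent.Lib.PermGp.MinNormalPow
import Cfsg.Agent.Lib.CT.Frobenius

/-! Minimal normal subgroups of doubly transitive groups (Burnside). -/

set_option autoImplicit false
set_option linter.unusedSectionVars false

namespace Cfsg.Agent.PermGp

open MulAction

universe u

variable {G : Type u} [Group G] [Finite G] {α : Type*} [Finite α] [MulAction G α]

/-- A regular normal subgroup of a doubly transitive group is elementary abelian. -/
theorem regular_normal_elementary [FaithfulSMul G α] (h2 : IsMultiplyPretransitive G α 2)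
    (N : Subgroup G) [N.Normal] (hN : N ≠ ⊥) (ht : IsPretransitive N α)
    (hreg : ∀ a : α, stabilizer N a = ⊥) :
    (∀ u ∈ N, ∀ v ∈ N, u * v = v * u) ∧ ∃ p : ℕ, p.Prime ∧ ∀ n ∈ N, n ^ p = 1 := by
  classical
  have hnt : Nontrivial N := N.nontrivial_iff_ne_bot.mpr hN
  obtain ⟨w, hw⟩ := exists_ne (1 : N)
  obtain ⟨a⟩ : Nonempty α := by
    by_contra hα
    rw [not_nonempty_iff] at hα
    exact hw (Subtype.ext (FaithfulSMul.eq_of_smul_eq_smul (α := α) fun x : α => hα.elim x))
  have hinj : ∀ (u v : N), u • a = v • a → u = v := by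
    intro u v h
    have : v⁻¹ * u ∈ stabilizer N a := by
      rw [mem_stabilizer_iff, mul_smul, inv_smul_eq_iff]; exact h
    rw [hreg, Subgroup.mem_bot, inv_mul_eq_one] at this
    exact this.symm
  -- non-identity elements are conjugate in the group
  have hconj : ∀ u v : N, u ≠ 1 → v ≠ 1 → ∃ g : G, g * (u : G) * g⁻¹ = v := by
    intro u v hu hv
    have hua : u • a ≠ a := fun e => hu (hinj u 1 (by rw [e, one_smul]))
    have hva : v • a ≠ a := fun e => hv (hinj v 1 (by rw [e, one_smul]))
    obtain ⟨g, g1, g2⟩ := two_trans_exists h2 hua.symm hva.symm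
    refine ⟨g, congrArg Subtype.val (hinj ⟨g * u * g⁻¹, Subgroup.Normal.conj_mem inferInstance _ u.2 g⟩ v ?_)⟩
    show (g * (u : G) * g⁻¹) • a = v • a
    rw [mul_smul, mul_smul, inv_smul_eq_iff.mpr g1.symm]
    exact g2
  obtain ⟨p, hp, hdvd⟩ := Nat.exists_prime_and_dvd (Finite.one_lt_card (α := N)).ne'
  haveI := Fact.mk hp
  obtain ⟨x, hx⟩ := exists_prime_orderOf_dvd_card' (G := N) p hdvd
  have hx1 : x ≠ 1 := fun h => by rw [h, orderOf_one] at hx; exact hp.one_lt.ne hx
  have hexp : ∀ n : N, n ^ p = 1 := by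
    intro n
    by_cases hn : n = 1
    · simp [hn]
    · obtain ⟨g, hg⟩ := hconj x n hx1 hn
      have hxp : (x : G) ^ p = 1 := by rw [← hx, ← Subgroup.coe_pow, pow_orderOf_eq_one, Subgroup.coe_one]
      exact Subtype.ext (by rw [Subgroup.coe_pow, ← hg, conj_pow, hxp, mul_one, mul_inv_cancel, Subgroup.coe_one])
  refine ⟨?_, p, hp, fun n hn => congrArg Subtype.val (hexp ⟨n, hn⟩)⟩
  -- the centre of a `p`-group is non-trivial and invariant
  have hpg : IsPGroup p N := fun g => ⟨1, by rw [pow_one]; exact hexp g⟩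
  have := hpg.center_nontrivial
  obtain ⟨⟨z, hz⟩, hz1⟩ := exists_ne (1 : Subgroup.center N)
  have hz1' : z ≠ 1 := fun h => hz1 (Subtype.ext h)
  intro u hu v hv
  by_cases hu1 : u = 1
  · simp [hu1]
  obtain ⟨g, hg⟩ := hconj z ⟨u, hu⟩ hz1' (fun h => hu1 (congrArg Subtype.val h))
  have hg' : g * (z : G) * g⁻¹ = u := hg
  have hmem : g⁻¹ * v * g ∈ N := by
    have := Subgroup.Normal.conj_mem (inferInstance : N.Normal) v hv g⁻¹
    rwa [inv_inv] at this
  have hc : (g⁻¹ * v * g) * (z : G) = (z : G) * (g⁻¹ * v * g) :=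
    congrArg Subtype.val (Subgroup.mem_center_iff.mp hz ⟨_, hmem⟩)
  calc u * v = g * ((z : G) * (g⁻¹ * v * g)) * g⁻¹ := by rw [← hg']; group
    _ = g * ((g⁻¹ * v * g) * (z : G)) * g⁻¹ := by rw [hc]
    _ = v * u := by rw [← hg']; group

/-- The stabilisers of a normal subgroup of a doubly transitive group are half-transitive. -/
theorem normal_halfTrans (h2 : IsMultiplyPretransitive G α 2) (N : Subgroup G) [N.Normal] {a b : α}
    (hab : a ≠ b) : HalfTrans N α (Nat.card (orbit (stabilizer N a) b)) := by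
  intro c d hcd
  obtain ⟨g, g1, g2⟩ := two_trans_exists h2 hcd hab
  rw [Nat.card_coe_set_eq, Nat.card_coe_set_eq,
    ← Set.ncard_image_of_injective (orbit (stabilizer N c) d) (MulAction.injective g)]
  congr 1
  ext y
  constructor
  · rintro ⟨_, ⟨⟨⟨u, hu⟩, huc⟩, rfl⟩, rfl⟩
    refine ⟨⟨⟨g * u * g⁻¹, Subgroup.Normal.conj_mem inferInstance u hu g⟩, ?_⟩, ?_⟩
    · show (g * u * g⁻¹) • a = a
      rw [mul_smul, mul_smul, inv_smul_eq_iff.mpr g1.symm, show u • c = c from huc, g1]
    · show (g * u * g⁻¹) • b = g • (u • d)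
      rw [mul_smul, mul_smul, inv_smul_eq_iff.mpr g2.symm]
  · rintro ⟨⟨⟨u, hu⟩, hua⟩, rfl⟩
    refine ⟨(g⁻¹ * u * g) • d, ⟨⟨⟨g⁻¹ * u * g, by simpa using Subgroup.Normal.conj_mem (inferInstance : N.Normal) u hu g⁻¹⟩, ?_⟩, rfl⟩, ?_⟩
    · show (g⁻¹ * u * g) • c = c
      rw [mul_smul, mul_smul, g1, show u • a = a from hua, inv_smul_eq_iff.mpr g1.symm]
    · show g • ((g⁻¹ * u * g) • d) = u • b
      rw [mul_smul, mul_smul, g2, smul_inv_smul]

/-- A minimal normal non-regular subgroup of a doubly transitive group is primitive. -/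
theorem minimal_normal_primitive [FaithfulSMul G α] (h2 : IsMultiplyPretransitive G α 2)
    (N : Subgroup G) [N.Normal]
    (hmin : ∀ M : Subgroup G, M.Normal → M ≤ N → M = ⊥ ∨ M = N) (ht : IsPretransitive N α)
    {a : α} (hnr : stabilizer N a ≠ ⊥) : IsPreprimitive N α := by
  classical
  refine IsPreprimitive.mk fun {B} hB => ?_
  by_contra htriv
  rw [IsTrivialBlock, not_or, Set.not_subsingleton_iff] at htriv
  obtain ⟨hBn, hBu⟩ := htriv
  obtain ⟨b, -, hb⟩ := hBn.exists_ne a
  have hm := normal_halfTrans h2 N hb.symm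
  -- two-point stabilisers of `N` are trivial
  have hfix : ∀ (x y : α), x ≠ y → ∀ u : N, u • x = x → u • y = y → u = 1 := fun x y hxy u ux uy =>
    Subtype.ext (FaithfulSMul.eq_of_smul_eq_smul (α := α) fun z : α => by
      rw [show (u : G) • z = z from two_point_trivial_of_block hm hB hBn hBu hxy ux uy z,
        Subgroup.coe_one, one_smul])
  -- Frobenius' theorem gives a normal complement
  have hTI : CT.IsTI (stabilizer N a) (stabilizer N a : Set N) := by
    intro g hg s hs hgs
    have h1 : s • a = a := hs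
    have h2' : (g * s * g⁻¹) • a = a := hgs
    have h3 : s • (g⁻¹ • a) = g⁻¹ • a := by
      rw [mul_smul, mul_smul, smul_eq_iff_eq_inv_smul] at h2'
      exact h2'
    refine hfix a (g⁻¹ • a) (fun e => hg ?_) s h1 h3
    show g • a = a
    conv_lhs => rw [e, smul_inv_smul]
  have := Fintype.ofFinite N
  obtain ⟨K, hK, hKc, hKi, -, hmem⟩ := CT.frobenius_kernel (H := stabilizer N a) hTI
  have hiff : ∀ u : N, u ∈ K ↔ u = 1 ∨ ∀ x : α, u • x ≠ x := by
    intro u
    rw [hmem]
    refine or_congr Iff.rfl ⟨fun h x hx => ?_, fun h x hx => ?_⟩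
    · obtain ⟨k, rfl⟩ := exists_smul_eq N a x
      refine h k ?_
      show (k⁻¹ * u * k) • a = a
      rw [mul_smul, mul_smul, hx, inv_smul_smul]
    · have hx' : (x⁻¹ * u * x) • a = a := hx
      rw [mul_smul, mul_smul, inv_smul_eq_iff] at hx'
      exact h _ hx'
  have hKG : (K.map N.subtype).Normal := ⟨by
    rintro _ ⟨u, hu, rfl⟩ g
    refine ⟨⟨g * u * g⁻¹, Subgroup.Normal.conj_mem inferInstance _ u.2 g⟩, ?_, rfl⟩
    rcases (hiff u).mp hu with rfl | h
    · exact (hiff _).mpr (Or.inl (Subtype.ext (by simp)))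
    · refine (hiff _).mpr (Or.inr fun x hx => h (g⁻¹ • x) ?_)
      have hx' : (g * (u : G) * g⁻¹) • x = x := hx
      rw [mul_smul, mul_smul, smul_eq_iff_eq_inv_smul] at hx'
      exact hx'⟩
  rcases hmin _ hKG (Subgroup.map_subtype_le K) with h | h
  · rw [Subgroup.map_eq_bot_iff_of_injective _ N.subtype_injective] at h
    rw [h, Subgroup.card_bot, index_stabilizer_of_transitive] at hKc
    have : Nontrivial α := ⟨b, a, hb⟩
    exact (Finite.one_lt_card (α := α)).ne hKc
  · apply hnr
    have htop : K = ⊤ := Subgroup.map_injective N.subtype_injective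
      (h.trans (by rw [← MonoidHom.range_eq_map, Subgroup.range_subtype]))
    rwa [htop, top_inf_eq] at hKi

/-- A primitive minimal normal non-regular subgroup of a doubly transitive group is simple. -/
theorem minimal_normal_simple [FaithfulSMul G α] (h2 : IsMultiplyPretransitive G α 2)
    (N : Subgroup G) [N.Normal] (hN : N ≠ ⊥)
    (hmin : ∀ M : Subgroup G, M.Normal → M ≤ N → M = ⊥ ∨ M = N) (hprim : IsPreprimitive N α)
    {a : α} (hnr : stabilizer N a ≠ ⊥) : IsSimpleGroup N := by
  classical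
  have hnt : Nontrivial N := N.nontrivial_iff_ne_bot.mpr hN
  refine ⟨fun R₀ hR₀ => ?_⟩
  by_contra hcon
  rw [not_or] at hcon
  obtain ⟨hR₀b, hR₀t⟩ := hcon
  -- a minimal normal subgroup of `N`
  obtain ⟨R, ⟨hRb, hRn, hRle⟩, hRmin⟩ : ∃ R : Subgroup N, Minimal (fun R' : Subgroup N => R' ≠ ⊥ ∧ R'.Normal ∧ R' ≤ R₀) R :=
    Set.Finite.exists_minimal (Set.toFinite {R : Subgroup N | R ≠ ⊥ ∧ R.Normal ∧ R ≤ R₀})
      ⟨R₀, hR₀b, hR₀, le_rfl⟩
  haveI : R.Normal := hRn
  have hRmin' : ∀ S : Subgroup N, S.Normal → S ≤ R → S = ⊥ ∨ S = R := by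
    intro S hS hle
    by_cases hb : S = ⊥
    · exact Or.inl hb
    · exact Or.inr (le_antisymm hle (hRmin ⟨hb, hS, hle.trans hRle⟩ hle))
  -- conjugates under the whole group
  let c : G → (N ≃* N) := fun g => MulAut.conjNormal g
  have hcn : ∀ g : G, (R.map (c g).toMonoidHom).Normal := fun g =>
    hRn.map _ (c g).surjective
  obtain ⟨g₀, hg₀⟩ : ∃ g : G, R.map (c g).toMonoidHom ≠ R := by
    by_contra! hall
    have hn : (R.map N.subtype).Normal := ⟨by
      rintro _ ⟨u, hu, rfl⟩ g
      refine ⟨c g u, ?_, by simp [c, MulAut.conjNormal_apply]⟩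
      rw [← hall g]
      exact ⟨u, hu, rfl⟩⟩
    rcases hmin _ hn (Subgroup.map_subtype_le R) with h | h
    · exact hRb ((Subgroup.map_eq_bot_iff_of_injective _ N.subtype_injective).mp h)
    · refine hR₀t (eq_top_iff.mpr (le_trans ?_ hRle))
      rw [show R = ⊤ from Subgroup.map_injective N.subtype_injective
        (h.trans (by rw [← MonoidHom.range_eq_map, Subgroup.range_subtype]))]
  set S := R.map (c g₀).toMonoidHom with hS
  have hSb : S ≠ ⊥ := fun h => hRb ((Subgroup.map_eq_bot_iff_of_injective _ (c g₀).injective).mp h)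
  have hSmin : ∀ T : Subgroup N, T.Normal → T ≤ S → T = ⊥ ∨ T = S := by
    intro T hT hle
    have h1 : T.map (c g₀).symm.toMonoidHom ≤ R := by
      rintro _ ⟨t, ht, rfl⟩
      obtain ⟨r, hr, e⟩ := hle ht
      have e' : c g₀ r = t := e
      show (c g₀).symm t ∈ R
      rw [← e', MulEquiv.symm_apply_apply]
      exact hr
    have h2 : (T.map (c g₀).symm.toMonoidHom).map (c g₀).toMonoidHom = T := by
      rw [Subgroup.map_map, show (c g₀).toMonoidHom.comp (c g₀).symm.toMonoidHom = MonoidHom.id N from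
        MonoidHom.ext fun x => (c g₀).apply_symm_apply x, Subgroup.map_id]
    rcases hRmin' _ (hT.map _ (c g₀).symm.surjective) h1 with h | h
    · left; rw [← h2, h, Subgroup.map_bot]
    · right; rw [← h2, h]
  have hSn : S.Normal := hcn g₀
  have hRt : IsPretransitive R α := normal_transitive R hRb
  have hSt : IsPretransitive S α := normal_transitive S hSb
  have hdis : R ⊓ S = ⊥ := by
    rcases hRmin' (R ⊓ S) (Subgroup.normal_inf_normal R S) inf_le_left with h | h
    · exact h
    · rcases hSmin R hRn (h ▸ inf_le_right) with h' | h'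
      · exact absurd h' hRb
      · exact absurd h'.symm hg₀
  have hcomm : ∀ r ∈ R, ∀ s ∈ S, r * s = s * r := fun r hr s hs =>
    Subgroup.commute_of_normal_of_disjoint R S hRn hSn (disjoint_iff.mpr hdis) r s hr hs
  -- each is the full centraliser of the other
  have hreg : ∀ (A B : Subgroup N), IsPretransitive B α → (∀ x ∈ A, ∀ y ∈ B, x * y = y * x) →
      ∀ x ∈ A, x • a = a → x = 1 := fun A B hB hAB x hx hxa =>
    stabilizer_eq_bot_of_commute B (fun y hy => hAB x hx y hy) hxa
  have hcard : ∀ (A B : Subgroup N), IsPretransitive A α → IsPretransitive B α →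
      (∀ x ∈ A, ∀ y ∈ B, x * y = y * x) → Nat.card A = Nat.card α := by
    intro A B hA hB hAB
    have h1 := card_mul_card_stabilizer (G := A) a
    rw [show stabilizer A a = ⊥ from (Subgroup.eq_bot_iff_forall _).mpr fun x hx =>
      Subtype.ext (hreg A B hB hAB x x.2 hx), Subgroup.card_bot, mul_one] at h1
    exact h1.symm
  have hcen : Subgroup.centralizer (R : Set N) = S := by
    have hle : S ≤ Subgroup.centralizer (R : Set N) := fun s hs =>
      Subgroup.mem_centralizer_iff.mpr fun r hr => hcomm r hr s hs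
    have hCt : IsPretransitive (Subgroup.centralizer (R : Set N)) α := ⟨fun x y => by
      obtain ⟨s, hs⟩ := hSt.exists_smul_eq x y
      exact ⟨⟨s, hle s.2⟩, hs⟩⟩
    refine (Subgroup.eq_of_le_of_card_ge hle (le_of_eq ?_)).symm
    rw [hcard S R hSt hRt fun x hx y hy => (hcomm y hy x hx).symm,
      hcard _ R hCt hRt fun x hx y hy => ((Subgroup.mem_centralizer_iff.mp hx) y hy).symm]
  -- the two factors form a normal subgroup of the whole group
  have hpair : ∀ g : G, R.map (c g).toMonoidHom = R ∨ R.map (c g).toMonoidHom = S := by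
    intro g
    by_cases he : R.map (c g).toMonoidHom = R
    · exact Or.inl he
    right
    have hTn := hcn g
    have hd : R ⊓ R.map (c g).toMonoidHom = ⊥ := by
      rcases hRmin' _ (Subgroup.normal_inf_normal R (R.map (c g).toMonoidHom)) inf_le_left with h | h
      · exact h
      · exfalso
        have hle : R ≤ R.map (c g).toMonoidHom := h.symm.le.trans inf_le_right
        exact he (Subgroup.eq_of_le_of_card_ge hle (le_of_eq
          (Nat.card_congr (Subgroup.equivMapOfInjective _ _ (c g).injective).toEquiv).symm)).symm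
    have hle : R.map (c g).toMonoidHom ≤ S := by
      rw [← hcen]
      exact fun t ht => Subgroup.mem_centralizer_iff.mpr fun r hr =>
        Subgroup.commute_of_normal_of_disjoint R _ hRn hTn (disjoint_iff.mpr hd) r t hr ht
    rcases hSmin _ hTn hle with h | h
    · exact absurd ((Subgroup.map_eq_bot_iff_of_injective _ (c g).injective).mp h) hRb
    · exact h
  have hcmul : ∀ g h : G, (R.map (c h).toMonoidHom).map (c g).toMonoidHom = R.map (c (g * h)).toMonoidHom := by
    intro g h
    rw [Subgroup.map_map]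
    congr 1
    ext x
    simp [c, MulAut.conjNormal_apply, mul_assoc]
  have hsup : R ⊔ S = ⊤ := by
    have hn : ((R ⊔ S).map N.subtype).Normal := ⟨by
      rintro _ ⟨u, hu, rfl⟩ g
      refine ⟨c g u, ?_, by simp [c, MulAut.conjNormal_apply]⟩
      have key : (R ⊔ S).map (c g).toMonoidHom ≤ R ⊔ S := by
        rw [Subgroup.map_sup]
        refine sup_le ?_ ?_
        · rcases hpair g with h | h <;> rw [h]
          · exact le_sup_left
          · exact le_sup_right
        · rw [hS, hcmul]
          rcases hpair (g * g₀) with h | h <;> rw [h]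
          · exact le_sup_left
          · exact le_sup_right
      exact key ⟨u, hu, rfl⟩⟩
    rcases hmin _ hn (Subgroup.map_subtype_le _) with h | h
    · exact absurd (le_bot_iff.mp (((Subgroup.map_eq_bot_iff_of_injective _ N.subtype_injective).mp h) ▸ le_sup_left)) hRb
    · exact Subgroup.map_injective N.subtype_injective
        (h.trans (by rw [← MonoidHom.range_eq_map, Subgroup.range_subtype]))
  have hcardN : Nat.card N = Nat.card α * Nat.card α := by
    rw [← Subgroup.card_top (G := N), ← hsup, CompLen.card_sup_of_comm hcomm hdis,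
      hcard R S hRt hSt hcomm, hcard S R hSt hRt fun x hx y hy => (hcomm y hy x hx).symm]
  -- the orbit length divides two consecutive numbers
  have : IsPretransitive N α := hprim.toIsPretransitive
  have hst : Nat.card (stabilizer N a) = Nat.card α := by
    have h1 := card_mul_card_stabilizer (G := N) a
    rw [hcardN] at h1
    have : Nonempty α := ⟨a⟩
    exact Nat.eq_of_mul_eq_mul_left Nat.card_pos h1
  obtain ⟨u, hu, hu1⟩ := ((Subgroup.bot_or_exists_ne_one (stabilizer N a)).resolve_left hnr)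
  obtain ⟨b, hb⟩ : ∃ b : α, u • b ≠ b := by
    by_contra! hall
    exact hu1 (Subtype.ext (FaithfulSMul.eq_of_smul_eq_smul (α := α) fun x : α => by
      rw [Subgroup.coe_one, one_smul]; exact hall x))
  have hba : b ≠ a := fun e => hb (e ▸ hu)
  have hm := normal_halfTrans h2 N hba.symm
  set m := Nat.card (orbit (stabilizer N a) b) with hmdef
  have hdvd1 : m ∣ Nat.card α := hst ▸ ⟨_, (card_orbit_mul_card_inf (stabilizer N a) b).symm⟩
  have hdvd2 : m ∣ Nat.card α - 1 := by
    have := dvd_card_invariant (stabilizer N a) ((Set.univ : Set α) \ {a}) m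
      (fun k hk w hw => ⟨trivial, fun e => hw.2 (MulAction.injective k (e.trans (show k • a = a from hk).symm))⟩)
      (fun w hw => dvd_of_eq (hm a w fun e => hw.2 e.symm).symm)
    rwa [Nat.card_coe_set_eq, Set.ncard_sdiff_singleton_of_mem (Set.mem_univ a), Set.ncard_univ] at this
  have hpos : 0 < Nat.card α := by
    have : Nonempty α := ⟨a⟩
    exact Nat.card_pos
  have hm1 : m = 1 := by
    have := Nat.dvd_sub hdvd1 hdvd2
    rw [show Nat.card α - (Nat.card α - 1) = 1 by omega] at this
    exact Nat.dvd_one.mp this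
  rw [hmdef, Nat.card_eq_one_iff_unique] at hm1
  obtain ⟨⟨hm1⟩, -⟩ := hm1
  exact hb (congrArg Subtype.val (hm1 ⟨u • b, ⟨⟨u, hu⟩, rfl⟩⟩ ⟨b, mem_orbit_self b⟩))

end Cfsg.Agent.PermGp
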