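import Cfsg.Prelude.Def_Perm
import Cfsg.Agent.Lib.CT.Integral
import Cfsg.Agent.Lib.PermGp.MultFree

/-! Permutation characters and invariant matrices. -/

set_option autoImplicit false
set_option linter.unusedSectionVars false

namespace Cfsg.Agent.PermGp

open scoped ComplexConjugate
open Representation Module Cfsg.Agent.CT

universe u v

variable {G : Type u} [Group G] [Fintype G] {Ω : Type v} [Fintype Ω] [MulAction G Ω]

/-- The permutation character. -/
noncomputable def permChar (G : Type u) [Group G] (Ω : Type v) [MulAction G Ω] : G → ℂ :=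
  fun g => (Nat.card (MulAction.fixedBy Ω g) : ℂ)

theorem character_permRep : (CT.permRep G Ω).character = permChar G Ω :=
  funext permRep_character

theorem cfsg_permRep_eq : Cfsg.permRep ℂ G Ω = CT.permRep G Ω := rfl

theorem mem_invariants_linHom (S : (Ω → ℂ) →ₗ[ℂ] (Ω → ℂ)) :
    S ∈ ((Cfsg.permRep ℂ G Ω).linHom (Cfsg.permRep ℂ G Ω)).invariants ↔
      ∀ g v, S (CT.permRep G Ω g v) = CT.permRep G Ω g (S v) := by
  rw [cfsg_permRep_eq, Representation.mem_invariants]
  constructor
  · intro h g v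
    have := LinearMap.congr_fun (h g) (CT.permRep G Ω g v)
    rw [linHom_apply, LinearMap.comp_apply, LinearMap.comp_apply,
      ← Module.End.mul_apply (CT.permRep G Ω g⁻¹), ← map_mul, inv_mul_cancel, map_one] at this
    exact this.symm
  · intro h g
    refine LinearMap.ext fun v => ?_
    rw [linHom_apply, LinearMap.comp_apply, LinearMap.comp_apply, ← h,
      ← Module.End.mul_apply (CT.permRep G Ω g), ← map_mul,
      mul_inv_cancel, map_one]
    rfl

variable [DecidableEq Ω]

/-- A matrix commuting with the permutation action. -/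
def IsInvMatrix (G : Type u) [Group G] [MulAction G Ω] (M : Matrix Ω Ω ℂ) : Prop :=
  ∀ (g : G) (x y : Ω), M (g • x) (g • y) = M x y

theorem commute_toLin' {M : Matrix Ω Ω ℂ} (hM : IsInvMatrix G M) (g : G) (v : Ω → ℂ) :
    Matrix.toLin' M (CT.permRep G Ω g v) = CT.permRep G Ω g (Matrix.toLin' M v) := by
  funext x
  rw [Matrix.toLin'_apply, permRep_apply, Matrix.toLin'_apply]
  refine Fintype.sum_equiv (MulAction.toPerm g⁻¹) _ _ fun y => ?_
  show M x y * v (g⁻¹ • y) = M (g⁻¹ • x) (g⁻¹ • y) * v (g⁻¹ • y)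
  rw [hM]

theorem isInvMatrix_toMatrix' (T : (Ω → ℂ) →ₗ[ℂ] (Ω → ℂ))
    (hT : ∀ g v, T (CT.permRep G Ω g v) = CT.permRep G Ω g (T v)) :
    IsInvMatrix G (LinearMap.toMatrix' T) := by
  intro g x y
  have e : CT.permRep G Ω g (Pi.single y (1 : ℂ)) = Pi.single (g • y) 1 := funext fun z => by
    simp [permRep_apply, Pi.single_apply, inv_smul_eq_iff]
  rw [LinearMap.toMatrix'_apply, LinearMap.toMatrix'_apply]
  rw [← e, hT, permRep_apply, inv_smul_smul]

theorem twistTrace_toLin' (M : Matrix Ω Ω ℂ) (g : G) :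
    twistTrace (CT.permRep G Ω) (Matrix.toLin' M) g = ∑ x, M x (g • x) := by
  rw [twistTrace, LinearMap.trace_eq_matrix_trace ℂ (Pi.basisFun ℂ Ω), Matrix.trace]
  refine Finset.sum_congr rfl fun x _ => ?_
  have e : CT.permRep G Ω g (Pi.single x (1 : ℂ)) = Pi.single (g • x) 1 := funext fun z => by
    simp [permRep_apply, Pi.single_apply, inv_smul_eq_iff]
  rw [Matrix.diag_apply, LinearMap.toMatrix_apply, Pi.basisFun_repr, Pi.basisFun_apply, LinearMap.comp_apply,
    e, Matrix.toLin'_apply, Matrix.mulVec_single_one]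
  rfl

theorem twistTrace_transpose (M : Matrix Ω Ω ℂ) (g : G) :
    twistTrace (CT.permRep G Ω) (Matrix.toLin' M.transpose) g =
      twistTrace (CT.permRep G Ω) (Matrix.toLin' M) g⁻¹ := by
  rw [twistTrace_toLin', twistTrace_toLin']
  refine Fintype.sum_equiv (MulAction.toPerm g) _ _ fun x => ?_
  show M (g • x) x = M (g • x) (g⁻¹ • g • x)
  rw [inv_smul_smul]

/-- All suborbits are self-paired iff all invariant matrices are symmetric. -/
theorem self_paired_iff_symmetric :
    (∀ a b : Ω, ∃ g : G, g • a = b ∧ g • b = a) ↔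
      ∀ M : Matrix Ω Ω ℂ, IsInvMatrix G M → M.transpose = M := by
  classical
  constructor
  · intro h M hM
    ext x y
    obtain ⟨g, hgx, hgy⟩ := h x y
    have := hM g x y
    rw [hgx, hgy] at this
    exact this
  · intro h a b
    let M : Matrix Ω Ω ℂ := fun x y => if ∃ g : G, g • a = x ∧ g • b = y then 1 else 0
    have hM : IsInvMatrix G M := by
      intro g x y
      refine if_congr ⟨?_, ?_⟩ rfl rfl
      · rintro ⟨k, hk1, hk2⟩
        exact ⟨g⁻¹ * k, by rw [mul_smul, hk1, inv_smul_smul], by rw [mul_smul, hk2, inv_smul_smul]⟩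
      · rintro ⟨k, hk1, hk2⟩
        exact ⟨g * k, by rw [mul_smul, hk1], by rw [mul_smul, hk2]⟩
    have e : M b a = M a b := congrFun (congrFun (h M hM) a) b
    rw [show M a b = 1 from if_pos ⟨1, one_smul _ _, one_smul _ _⟩] at e
    by_contra hne
    rw [show M b a = 0 from if_neg hne] at e
    exact zero_ne_one e

theorem mf_and_real_of_symmetric (h : ∀ M : Matrix Ω Ω ℂ, IsInvMatrix G M → M.transpose = M) :
    MF (CT.permRep G Ω) ∧ ∀ χ : G → ℂ, IsIrrCharacter G χ → classInner (permChar G Ω) χ ≠ 0 →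
      ∀ g, conj (χ g) = χ g := by
  refine ⟨MF.of_commute _ fun S T hS hT => ?_, fun χ hχ hne g => ?_⟩
  · have hST : ∀ g v, (S ∘ₗ T) (CT.permRep G Ω g v) = CT.permRep G Ω g ((S ∘ₗ T) v) := fun g v => by
      simp [hT, hS]
    have e := h _ (isInvMatrix_toMatrix' _ hST)
    rw [LinearMap.toMatrix'_comp, Matrix.transpose_mul, h _ (isInvMatrix_toMatrix' _ hS),
      h _ (isInvMatrix_toMatrix' _ hT), ← LinearMap.toMatrix'_comp, ← LinearMap.toMatrix'_comp] at e
    exact (LinearMap.toMatrix'.injective e).symm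
  · rw [← character_permRep] at hne
    obtain ⟨U, hU, hUχ⟩ := exists_constituent_sub (CT.permRep G Ω) hχ hne
    obtain ⟨U', hc, hU'⟩ := exists_isCompl_invariant (CT.permRep G Ω) U hU
    set P := U.subtype ∘ₗ U.projectionOnto U' hc with hP
    have hPc : ∀ g v, P (CT.permRep G Ω g v) = CT.permRep G Ω g (P v) := fun g v => by
      simp [hP, projectionOnto_equivariant _ hc hU hU']
      rfl
    have hPU : ∀ v ∈ U, P v = v := fun v hv => by
      simp [hP, Submodule.projectionOnto_apply_of_mem_left hc hv]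
    have hPU' : ∀ v ∈ U', P v = 0 := fun v hv => by
      simp [hP, Submodule.projectionOnto_apply_of_mem_right hc hv]
    have hF : ∀ g, twistTrace (CT.permRep G Ω) P g = χ g := fun g => by
      have h1 : ∀ v ∈ U, (P ∘ₗ CT.permRep G Ω g) v ∈ U := fun v hv => by
        rw [LinearMap.comp_apply, hPU _ (hU g v hv)]; exact hU g v hv
      have h2 : ∀ v ∈ U', (P ∘ₗ CT.permRep G Ω g) v ∈ U' := fun v hv => by
        rw [LinearMap.comp_apply, hPU' _ (hU' g v hv)]; exact U'.zero_mem
      rw [twistTrace, trace_isCompl _ hc h1 h2,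
        show (P ∘ₗ CT.permRep G Ω g).restrict h2 = 0 from
          LinearMap.ext fun v => Subtype.ext (hPU' _ (hU' g v v.2)),
        map_zero, add_zero, ← hUχ,
        show (P ∘ₗ CT.permRep G Ω g).restrict h1 = restrictSub _ U hU g from
          LinearMap.ext fun v => Subtype.ext (hPU _ (hU g v v.2))]
      rfl
    rw [← char_inv_eq_conj (isCharacter_of_isIrr hχ), ← hF g⁻¹, ← hF g,
      show P = Matrix.toLin' (LinearMap.toMatrix' P) from (Matrix.toLin'_toMatrix' P).symm,
      ← twistTrace_transpose, h _ (isInvMatrix_toMatrix' _ hPc)]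

theorem symmetric_of_mf_real (hmf : MF (CT.permRep G Ω))
    (hreal : ∀ χ : G → ℂ, IsIrrCharacter G χ → classInner (permChar G Ω) χ ≠ 0 → ∀ g, conj (χ g) = χ g)
    (M : Matrix Ω Ω ℂ) (hM : IsInvMatrix G M) : M.transpose = M := by
  have hMt : IsInvMatrix G M.transpose := fun g x y => hM g y x
  have hT := commute_toLin' hM
  have hT' := commute_toLin' hMt
  set F := twistTrace (CT.permRep G Ω) (Matrix.toLin' M) with hF
  have hcl := isClassFunction_twistTrace _ _ hT
  have heven : ∀ g, F g⁻¹ = F g := fun g => by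
    rw [hF, classFunction_eq_sum hcl]
    simp only [Finset.sum_apply, Pi.smul_apply]
    refine Finset.sum_congr rfl fun χ _ => ?_
    by_cases h0 : classInner (CT.permRep G Ω).character χ = 0
    · rw [MF.inner_twistTrace _ hmf hT χ.2 h0, zero_smul, zero_smul]
    · rw [char_inv_eq_conj (isCharacter_of_isIrr χ.2), hreal χ χ.2 (by rwa [← character_permRep]) g]
  have h0 : Matrix.toLin' M.transpose - Matrix.toLin' M = 0 := by
    refine MF.eq_zero_of_twistTrace _ hmf (fun g v => by simp [hT, hT']) (funext fun g => ?_)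
    have := twistTrace_transpose (G := G) M g
    simp only [twistTrace, LinearMap.sub_comp, map_sub, Pi.zero_apply, sub_eq_zero] at this ⊢
    exact this.trans (heven g)
  exact Matrix.toLin'.injective (sub_eq_zero.mp h0)

end Cfsg.Agent.PermGp
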