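import Cfsg.Agent.Lib.PermGp.PrimeTwoPCount
import Cfsg.Agent.Lib.CT.SelfCentralPPerm
import Cfsg.Agent.Lib.CT.Induced
import Cfsg.Agent.Lib.CharFS.Basic

/-!
# Prime degree with a Sylow normaliser of order `2p`

A triply transitive group of prime degree `p` with Sylow `p`-normaliser of order `2p` has only the
identity fixing three points: the alternating square of the reduced permutation character is the
sum of the exceptional characters, which gives `F(g)² - F(g²) = 2(F(g)-1) + (p-1)(F(g)-2)`.
-/

set_option autoImplicit false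
set_option linter.unusedSectionVars false

namespace Cfsg.Agent.PermGp.PrimeTwoP

open scoped ComplexConjugate
open Cfsg.Agent MulAction

universe u v

section abstract

variable {G : Type u} [Group G] {P : Subgroup G} {p : ℕ}

/-- `P` is self-centralizing of odd prime order and its normaliser has order `2p`. -/
structure Hyp2 (G : Type u) [Group G] (P : Subgroup G) (p : ℕ) : Prop where
  prime : p.Prime
  odd : p ≠ 2
  card : Nat.card P = p
  cent : ∀ g : G, (∀ y ∈ P, g * y = y * g) → g ∈ P
  norm : Nat.card (Subgroup.normalizer (P : Set G)) = 2 * p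

namespace Hyp2

variable (h : Hyp2 G P p)
include h

theorem zpowers_eq {y : G} (hy : y ∈ P) (hy1 : y ≠ 1) {z : G} (hz : z ∈ P) :
    ∃ i : ℤ, y ^ i = z := by
  haveI : Fact p.Prime := ⟨h.prime⟩
  obtain ⟨i, hi⟩ := Subgroup.mem_zpowers_iff.mp
    (mem_zpowers_of_prime_card h.card (g := ⟨y, hy⟩) (fun e => hy1 (congrArg Subtype.val e)) (g' := ⟨z, hz⟩))
  exact ⟨i, by simpa using congrArg Subtype.val hi⟩

theorem pow_p {y : G} (hy : y ∈ P) : y ^ p = 1 := by
  have := pow_card_eq_one' (x := (⟨y, hy⟩ : P))
  rw [h.card] at this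
  simpa using congrArg Subtype.val this

theorem comm {a b : G} (ha : a ∈ P) (hb : b ∈ P) : a * b = b * a := by
  by_cases ha1 : a = 1
  · simp [ha1]
  obtain ⟨i, rfl⟩ := h.zpowers_eq ha ha1 hb
  exact ((Commute.refl a).zpow_right i).eq

/-- The elements of the normaliser outside `P` invert `P`. -/
theorem inverts {n : G} (hn : n ∈ Subgroup.normalizer (P : Set G)) (hnP : n ∉ P) {y : G}
    (hy : y ∈ P) : n * y * n⁻¹ = y⁻¹ := by
  have hidx : (P.subgroupOf (Subgroup.normalizer (P : Set G))).index = 2 := by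
    have := (P.subgroupOf (Subgroup.normalizer (P : Set G))).card_mul_index
    rw [Nat.card_congr (Subgroup.subgroupOfEquivOfLe Subgroup.le_normalizer).toEquiv, h.card, h.norm,
      mul_comm 2 p] at this
    exact Nat.eq_of_mul_eq_mul_left h.prime.pos this
  have hsq : n * n ∈ P := by
    have := Subgroup.mul_self_mem_of_index_two hidx (⟨n, hn⟩ : Subgroup.normalizer (P : Set G))
    simpa [Subgroup.mem_subgroupOf] using this
  by_cases hy1 : y = 1
  · simp [hy1]
  have hny : n * y * n⁻¹ ∈ P := (Subgroup.mem_normalizer_iff.mp hn y).mp hy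
  obtain ⟨i, hi⟩ := h.zpowers_eq hy hy1 hny
  have h2 : y ^ (i * i) = y := by
    have e : n * n * y * (n * n)⁻¹ = y := by rw [h.comm hsq hy]; group
    calc y ^ (i * i) = (n * y * n⁻¹) ^ i := by rw [zpow_mul, hi]
      _ = n * y ^ i * n⁻¹ := conj_zpow
      _ = n * (n * y * n⁻¹) * n⁻¹ := by rw [hi]
      _ = y := by conv_rhs => rw [← e]
                  group
  haveI : Fact p.Prime := ⟨h.prime⟩
  have hord : orderOf y = p := orderOf_eq_prime (h.pow_p hy) hy1
  have hii : ((i : ZMod p)) * (i : ZMod p) = 1 := by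
    have : i * i ≡ 1 [ZMOD p] := by
      rw [← hord, ← zpow_eq_zpow_iff_modEq, h2, zpow_one]
    rw [← ZMod.intCast_eq_intCast_iff] at this
    push_cast at this
    exact this
  rcases mul_self_eq_one_iff.mp hii with hc | hc
  · exfalso
    apply hnP
    refine h.cent n fun z hz => ?_
    obtain ⟨j, rfl⟩ := h.zpowers_eq hy hy1 hz
    have hfix : n * y * n⁻¹ = y := by
      rw [← hi]
      conv_rhs => rw [← zpow_one y]
      rw [zpow_eq_zpow_iff_modEq, hord, ← ZMod.intCast_eq_intCast_iff]
      simpa using hc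
    exact (Commute.zpow_right (mul_inv_eq_iff_eq_mul.mp hfix) j).eq
  · rw [← hi, ← zpow_neg_one, zpow_eq_zpow_iff_modEq, hord, ← ZMod.intCast_eq_intCast_iff]
    simpa using hc

theorem inv_mem_normalizer_of_conj {y : G} (hy : y ∈ P) (hy1 : y ≠ 1) {x : G} (hx : x⁻¹ * y * x ∈ P) :
    x ∈ Subgroup.normalizer (P : Set G) := by
  haveI : Finite P := Nat.finite_of_card_ne_zero (by rw [h.card]; exact h.prime.ne_zero)
  have hgenP : ∀ z ∈ P, x⁻¹ * z * x ∈ P := by
    intro z hz
    obtain ⟨i, rfl⟩ := h.zpowers_eq hy hy1 hz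
    rw [show x⁻¹ * y ^ i * x = (x⁻¹ * y * x) ^ i by
      simpa using (conj_zpow (i := i) (a := x⁻¹) (b := y)).symm]
    exact zpow_mem hx i
  have : x⁻¹ ∈ Subgroup.normalizer (P : Set G) := by
    refine Subgroup.mem_normalizer_iff.mpr fun z => ⟨fun hz => by simpa using hgenP z hz, fun hz => ?_⟩
    have hinj : Function.Injective (fun z : P => (⟨_, hgenP z z.2⟩ : P)) := fun a b e =>
      Subtype.ext (mul_left_cancel (mul_right_cancel (congrArg Subtype.val e)))
    obtain ⟨w, hw⟩ := (Finite.injective_iff_surjective.mp hinj) ⟨_, hz⟩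
    have hw' := congrArg Subtype.val hw
    simp only [inv_inv] at hw'
    rw [← mul_left_cancel (mul_right_cancel hw')]
    exact w.2
  simpa using inv_mem this

variable [Fintype G] [Fintype P]

/-- Induction from `P`, restricted to `P`. -/
theorem ind_restrict (f : P → ℂ) (hf : f 1 = 0) (y : P) :
    indFun P f y = f y + f y⁻¹ := by
  classical
  by_cases hy : y = 1
  · subst hy
    rw [OneMemClass.coe_one, CT.indFun_one_eval, hf, inv_one, hf, mul_zero, add_zero]
  have hy' : (y : G) ≠ 1 := fun e => hy (Subtype.ext e)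
  have hval : ∀ x : G, extendByZero P f (x⁻¹ * y * x) =
      (if x ∈ P then f y else 0) +
        if x ∈ Subgroup.normalizer (P : Set G) ∧ x ∉ P then f y⁻¹ else 0 := by
    intro x
    by_cases hxN : x ∈ Subgroup.normalizer (P : Set G)
    · by_cases hxP : x ∈ P
      · rw [if_pos hxP, if_neg (fun e => e.2 hxP), add_zero,
          show x⁻¹ * (y : G) * x = y by rw [mul_assoc, h.comm y.2 hxP, inv_mul_cancel_left]]
        exact CT.extendByZero_coe P f y
      · rw [if_neg hxP, if_pos ⟨hxN, hxP⟩, zero_add]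
        have := h.inverts (inv_mem hxN) (fun e => hxP (by simpa using inv_mem e)) y.2
        rw [inv_inv] at this
        rw [this]
        exact CT.extendByZero_coe P f y⁻¹
    · rw [if_neg (fun e => hxN (Subgroup.le_normalizer e)), if_neg (fun e => hxN e.1), add_zero]
      exact CT.extendByZero_not_mem P f fun hm => hxN (h.inv_mem_normalizer_of_conj y.2 hy' hm)
  have hc1 : (Finset.univ.filter fun x : G => x ∈ P).card = p := by
    rw [← Fintype.card_subtype, ← h.card, Nat.card_eq_fintype_card]
  have hc2 : (Finset.univ.filter fun x : G => x ∈ Subgroup.normalizer (P : Set G) ∧ x ∉ P).card = p := by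
    have hN : (Finset.univ.filter fun x : G => x ∈ Subgroup.normalizer (P : Set G)).card = 2 * p := by
      rw [← Fintype.card_subtype, ← h.norm, Nat.card_eq_fintype_card]
    have hs := Finset.card_filter_add_card_filter_not
      (s := Finset.univ.filter fun x : G => x ∈ Subgroup.normalizer (P : Set G)) (fun x : G => x ∈ P)
    rw [Finset.filter_filter, Finset.filter_filter, hN] at hs
    have he : (Finset.univ.filter fun x : G => x ∈ Subgroup.normalizer (P : Set G) ∧ x ∈ P) =
        Finset.univ.filter fun x : G => x ∈ P :=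
      Finset.filter_congr fun x _ => ⟨fun e => e.2, fun e => ⟨Subgroup.le_normalizer e, e⟩⟩
    rw [he, hc1] at hs
    omega
  simp only [indFun, hval, Finset.sum_add_distrib]
  rw [Finset.sum_ite, Finset.sum_const_zero, add_zero, Finset.sum_ite, Finset.sum_const_zero, add_zero,
    Finset.sum_const, Finset.sum_const, hc1, hc2, h.card, nsmul_eq_mul, nsmul_eq_mul]
  have : (p : ℂ) ≠ 0 := Nat.cast_ne_zero.mpr h.prime.ne_zero
  field_simp

theorem irr_one (c : IrrCharacter P) : (c : P → ℂ) 1 = 1 :=
  CT.irr_degree_one_of_comm (fun a b : P => Subtype.ext (h.comm a.2 b.2)) c.2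

theorem card_irr' : Fintype.card (IrrCharacter P) = p := by
  have hab : ∀ a b : P, a * b = b * a := fun a b => Subtype.ext (h.comm a.2 b.2)
  rw [← Nat.card_eq_fintype_card, CT.card_irr_eq_card_conjClasses P,
    ← Nat.card_eq_of_bijective (ConjClasses.mk : P → ConjClasses P)
      ⟨fun a b e => by
        obtain ⟨c, hc⟩ := isConj_iff.mp (ConjClasses.mk_eq_mk_iff_isConj.mp e)
        rwa [hab c, mul_inv_cancel_right] at hc, ConjClasses.mk_surjective⟩, h.card]

/-- The conjugate character. -/
noncomputable def bar (_h : Hyp2 G P p) (c : IrrCharacter P) : IrrCharacter P :=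
  ⟨fun y => conj ((c : P → ℂ) y), CT.SelfCentralP.isIrr_conj' c.2⟩

theorem bar_ne_triv {c : IrrCharacter P} (hc : c ≠ CT.trivIrr P) : h.bar c ≠ CT.trivIrr P :=
  fun e => hc (Subtype.ext (funext fun y => by
    have := congrArg conj (congrFun (congrArg Subtype.val e) y)
    simpa [bar] using this))

theorem bar_bar (c : IrrCharacter P) : h.bar (h.bar c) = c :=
  Subtype.ext (funext fun y => by simp [bar])

theorem bar_ne {c : IrrCharacter P} (hc : c ≠ CT.trivIrr P) : h.bar c ≠ c := by
  intro e
  obtain ⟨lam, hlam⟩ := CT.exists_hom_of_comm (fun a b : P => Subtype.ext (h.comm a.2 b.2)) c.2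
  refine hc (Subtype.ext (hlam.trans (funext fun y => ?_)))
  show ((lam y : ℂˣ) : ℂ) = 1
  have hr : conj ((lam y : ℂˣ) : ℂ) = ((lam y : ℂˣ) : ℂ) := by
    have := congrFun (congrArg Subtype.val e) y
    simpa [bar, hlam] using this
  have hpow : ((lam y : ℂˣ) : ℂ) ^ p = 1 := by
    rw [← Units.val_pow_eq_pow_val, ← map_pow, ← h.card, pow_card_eq_one', map_one, Units.val_one]
  have h2 : ((lam y : ℂˣ) : ℂ) ^ 2 = 1 := by
    have := CT.conj_of_pow_eq_one h.prime.ne_zero hpow
    rw [hr] at this
    rw [pow_two]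
    nth_rewrite 2 [this]
    rw [← pow_succ', Nat.sub_add_cancel h.prime.one_le, hpow]
  obtain ⟨k, hk⟩ := h.prime.odd_of_ne_two h.odd
  rw [hk, pow_succ, pow_mul, h2, one_pow, one_mul] at hpow
  exact hpow

/-- The virtual character induced from `1 - c`. -/
noncomputable def gam (_h : Hyp2 G P p) (c : IrrCharacter P) : G → ℂ :=
  indFun P ((fun _ => (1 : ℂ)) - (c : P → ℂ))

theorem gam_inner (c : IrrCharacter P) {χ : G → ℂ} (hχ : IsClassFunction G χ) :
    classInner (h.gam c) χ = classInner ((fun _ => (1 : ℂ)) - (c : P → ℂ)) (fun y : P => χ y) :=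
  CT.frobenius_reciprocity P _ hχ

theorem gam_one (c : IrrCharacter P) : h.gam c 1 = 0 := by
  rw [gam, CT.indFun_one_eval, Pi.sub_apply, h.irr_one, sub_self, mul_zero]

theorem gam_restrict (c : IrrCharacter P) :
    (fun y : P => h.gam c y) = (2 : ℂ) • (fun _ : P => (1 : ℂ)) - (c : P → ℂ) - (h.bar c : P → ℂ) := by
  funext y
  rw [gam, h.ind_restrict _ (by rw [Pi.sub_apply, h.irr_one, sub_self])]
  simp only [Pi.sub_apply, Pi.smul_apply, smul_eq_mul, mul_one]
  rw [show (h.bar c : P → ℂ) y = conj ((c : P → ℂ) y) from rfl,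
    ← CT.char_inv_eq_conj (CT.isCharacter_of_isIrr c.2)]
  ring

open Classical in
theorem gam_gam {c d : IrrCharacter P} (hc : c ≠ CT.trivIrr P) (hd : d ≠ CT.trivIrr P) :
    classInner (h.gam c) (h.gam d) =
      2 + (if c = d then 1 else 0) + if c = h.bar d then 1 else 0 := by
  rw [h.gam_inner c (χ := h.gam d) (CT.isClassFunction_indFun P _), h.gam_restrict]
  have e1 : (fun _ : P => (1 : ℂ)) = (CT.trivIrr P : P → ℂ) := rfl
  rw [e1]
  simp only [CT.classInner_sub_left, CT.classInner_sub_right, CT.classInner_smul_right,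
    CT.irr_inner_subtype]
  rw [if_neg (Ne.symm hd), if_neg (Ne.symm (h.bar_ne_triv hd)), if_neg hc]
  simp only [if_true, map_ofNat]
  ring

end Hyp2

end abstract

section perm

variable {G : Type u} [Group G] [Fintype G] {P : Subgroup G} [Fintype P] {p : ℕ}
variable {α : Type v} [Fintype α] [DecidableEq α] [MulAction G α]

theorem permChar_eq_fixN (g : G) : permChar G α g = (fixN G α g : ℂ) := by
  rw [permChar, fixN, Nat.card_eq_fintype_card, ← Finset.card_univ]
  norm_cast
  rw [Finset.card_univ, ← Fintype.card_coe]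
  exact Fintype.card_congr (Equiv.subtypeEquivRight fun x => by simp)

/-- Only the identity fixes three points. -/
theorem fix_three (h : Hyp2 G P p) [FaithfulSMul G α] (hα : Fintype.card α = p)
    (h3 : IsMultiplyPretransitive G α 3) (hfree : ∀ y ∈ P, y ≠ 1 → ∀ x : α, y • x ≠ x) {g : G}
    (hg : 3 ≤ fixN G α g) : g = 1 := by
  classical
  have hn3 : 3 ≤ Fintype.card α := by
    rw [hα]; have := h.prime.two_le; have := h.odd; omega
  obtain ⟨m1, m2, m3, m4⟩ := moments (G := G) (α := α) h3 hn3
  set N : ℕ := Fintype.card G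
  have hN0 : (Nat.card G : ℂ) ≠ 0 := CT.card_ne_zero
  have hNN : (N : ℂ) = Nat.card G := by simp [N, Nat.card_eq_fintype_card]
  set π : G → ℂ := permChar G α with hπdef
  have hπ : IsCharacter G π := isCharacter_permChar
  have hπv : ∀ x, π x = (fixN G α x : ℂ) := permChar_eq_fixN
  have hπr : ∀ x, conj (π x) = π x := fun x => by rw [hπv, Complex.conj_natCast]
  let one : G → ℂ := fun _ => 1
  have hone : IsIrrCharacter G one := CT.isIrrCharacter_one
  have hoR : ∀ x, conj (one x) = one x := fun x => map_one _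
  have i11 : classInner one one = 1 := CT.irr_inner_self hone
  have iπ1 : classInner π one = 1 := by
    simp only [classInner, one, map_one, mul_one, hπv]
    rw [← Nat.cast_sum, m1, hNN, inv_mul_cancel₀ hN0]
  have i1π : classInner one π = 1 := by rw [← CT.classInner_conj_symm, iπ1, map_one]
  have iππ : classInner π π = 2 := by
    simp only [classInner, hπv, Complex.conj_natCast]
    simp only [← Nat.cast_mul, ← Nat.cast_sum, m2]
    push_cast
    rw [hNN]
    field_simp
  obtain ⟨s, a, hs, ha, hsum, hdiff⟩ := CharFS.exists_sq_split hπ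
  have hav : ∀ x, 2 * a x = (fixN G α x : ℂ) * fixN G α x - fixN G α (x * x) := fun x => by
    rw [← hπv, ← hπv]
    linear_combination hsum x - hdiff x
  have ia1 : classInner a one = 0 := by
    have e : (2 : ℂ) * classInner a one = 0 := by
      simp only [classInner, one, map_one, mul_one]
      rw [mul_left_comm, Finset.mul_sum]
      simp only [hav, Finset.sum_sub_distrib]
      simp only [← Nat.cast_mul, ← Nat.cast_sum, m2, m3, sub_self, mul_zero]
    simpa using e
  have iaπ : classInner a π = 1 := by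
    have e : (2 : ℂ) * classInner a π = 2 := by
      simp only [classInner, hπr]
      rw [mul_left_comm, Finset.mul_sum]
      have : ∀ x : G, (2 : ℂ) * (a x * π x) = ((fixN G α x * (fixN G α x * fixN G α x) : ℕ) : ℂ) -
          ((fixN G α x * fixN G α (x * x) : ℕ) : ℂ) := fun x => by
        rw [← mul_assoc, hav, hπv]; push_cast; ring
      simp only [this, Finset.sum_sub_distrib, ← Nat.cast_sum, m4]
      push_cast
      rw [hNN]
      field_simp
      ring
    linear_combination e / 2
  set θ : G → ℂ := π - one with hθdef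
  have iθθ : classInner θ θ = 1 := by
    simp only [θ, CT.classInner_sub_left, CT.classInner_sub_right, iππ, iπ1, i1π, i11]; ring
  have hp1 : π 1 = p := by rw [hπdef, permChar_one, hα]
  have hθ : IsIrrCharacter G θ := by
    refine CT.isIrr_of_isGen_norm_one ⟨π, one, hπ, CT.isCharacter_of_isIrr hone, rfl⟩ iθθ ?_
    simp only [θ, Pi.sub_apply, hp1, one, Complex.sub_re, Complex.natCast_re, Complex.one_re, sub_pos]
    exact_mod_cast h.prime.one_lt
  have iθ1 : classInner θ one = 0 := by
    simp only [θ, CT.classInner_sub_left, iπ1, i11, sub_self]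
  have iaθ : classInner a θ = 1 := by
    simp only [θ, CT.classInner_sub_right, iaπ, ia1, sub_zero]
  -- vanishing on `P`
  have hπP : ∀ y : P, y ≠ 1 → π y = 0 := fun y hy => by
    rw [hπv, Nat.cast_eq_zero, fixN, Finset.card_eq_zero, Finset.filter_eq_empty_iff]
    exact fun x _ => hfree y y.2 (fun e => hy (Subtype.ext e)) x
  have haP : ∀ y : P, y ≠ 1 → a y = 0 := fun y hy => by
    have hy2 : y * y ≠ 1 := by
      intro e
      have ho : orderOf y ∣ 2 := orderOf_dvd_of_pow_eq_one (by rw [pow_two, e])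
      haveI : Fact p.Prime := ⟨h.prime⟩
      rw [orderOf_eq_prime (p := p) (Subtype.ext (by simpa using h.pow_p y.2)) hy] at ho
      exact h.odd ((Nat.prime_dvd_prime_iff_eq h.prime Nat.prime_two).mp ho)
    have h1 : (2 : ℂ) * a y = 0 := by
      rw [hav, ← hπv, ← hπv, hπP y hy,
        show ((y : G) * (y : G)) = ((y * y : P) : G) from rfl, hπP _ hy2]
      ring
    simpa using h1
  have hgz : ∀ (c : IrrCharacter P) (χ : G → ℂ), IsClassFunction G χ →
      (∀ y : P, y ≠ 1 → χ y = 0) → classInner (h.gam c) χ = 0 := by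
    intro c χ hχ hz
    rw [h.gam_inner c hχ, classInner]
    rw [Finset.sum_eq_zero, mul_zero]
    intro y _
    by_cases hy : y = 1
    · subst hy; rw [Pi.sub_apply, h.irr_one, sub_self, zero_mul]
    · rw [hz y hy, map_zero, mul_zero]
  have iΓπ : ∀ c, classInner (h.gam c) π = 0 := fun c =>
    hgz c π (CT.isClassFunction_of_isCharacter hπ) hπP
  have iΓa : ∀ c, classInner (h.gam c) a = 0 := fun c =>
    hgz c a (CT.isClassFunction_of_isCharacter ha) haP
  have iΓ1 : ∀ c, c ≠ CT.trivIrr P → classInner (h.gam c) one = 1 := fun c hc => by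
    rw [h.gam_inner c (CT.isClassFunction_of_isIrr hone), CT.classInner_sub_left]
    show classInner (CT.trivIrr P : P → ℂ) (CT.trivIrr P : P → ℂ) -
      classInner (c : P → ℂ) (CT.trivIrr P : P → ℂ) = 1
    rw [CT.irr_inner_subtype, CT.irr_inner_subtype, if_pos rfl, if_neg hc, sub_zero]
  -- the exceptional characters
  let X : IrrCharacter P → G → ℂ := fun c => h.gam c + π - (2 : ℂ) • one
  have hXirr : ∀ c, c ≠ CT.trivIrr P → IsIrrCharacter G (X c) := by
    intro c hc
    refine CT.isIrr_of_isGen_norm_one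
      ⟨indFun P (fun _ => (1 : ℂ)) + π, indFun P (c : P → ℂ) + (2 : ℂ) • one,
        CT.isCharacter_add (CT.isCharacter_indFun P CT.isCharacter_one) hπ,
        CT.isCharacter_add (CT.isCharacter_indFun P (CT.isCharacter_of_isIrr c.2))
          (by simpa using CT.isCharacter_nsmul 2 (CT.isCharacter_of_isIrr hone)), ?_⟩ ?_ ?_
    · simp only [X, Hyp2.gam, CT.indFun_sub]; abel
    · simp only [X, CT.classInner_sub_left, CT.classInner_sub_right, CT.classInner_add_left,
        CT.classInner_add_right, CT.classInner_smul_left, CT.classInner_smul_right, iΓπ, iΓ1 c hc,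
        h.gam_gam hc hc, iππ, iπ1, i1π, i11, map_ofNat]
      rw [← CT.classInner_conj_symm (h.gam c) π, iΓπ, ← CT.classInner_conj_symm (h.gam c) one, iΓ1 c hc,
        map_zero, map_one, if_neg (Ne.symm (h.bar_ne hc))]
      simp only [if_true]
      ring
    · simp only [X, one, Pi.sub_apply, Pi.add_apply, Pi.smul_apply, h.gam_one, hp1, smul_eq_mul, mul_one,
        zero_add, Complex.sub_re, Complex.natCast_re, Complex.re_ofNat, sub_pos]
      have := h.prime.two_le
      exact_mod_cast lt_of_le_of_ne this (Ne.symm h.odd)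
  have iXX : ∀ c d, c ≠ CT.trivIrr P → d ≠ CT.trivIrr P → classInner (X c) (X d) =
      (if c = d then 1 else 0) + if c = h.bar d then 1 else 0 := by
    intro c d hc hd
    simp only [X, CT.classInner_sub_left, CT.classInner_sub_right, CT.classInner_add_left,
      CT.classInner_add_right, CT.classInner_smul_left, CT.classInner_smul_right, iΓπ, iΓ1 c hc,
      h.gam_gam hc hd, iππ, iπ1, i1π, i11, map_ofNat]
    rw [← CT.classInner_conj_symm (h.gam d) π, iΓπ, ← CT.classInner_conj_symm (h.gam d) one, iΓ1 d hd,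
      map_zero, map_one]
    ring
  have iXθ : ∀ c, c ≠ CT.trivIrr P → classInner (X c) θ = 0 := by
    intro c hc
    simp only [X, θ, CT.classInner_sub_left, CT.classInner_sub_right, CT.classInner_add_left,
      CT.classInner_smul_left, iΓπ, iΓ1 c hc, iππ, iπ1, i1π, i11]
    ring
  have iaX : ∀ c, c ≠ CT.trivIrr P → classInner a (X c) = 1 := by
    intro c hc
    simp only [X, CT.classInner_sub_right, CT.classInner_add_right, CT.classInner_smul_right,
      iaπ, ia1, map_ofNat]
    rw [← CT.classInner_conj_symm (h.gam c) a, iΓa, map_zero]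
    ring
  -- the decomposition
  set E := Finset.univ.erase (CT.trivIrr P) with hE
  have hEc : E.card = p - 1 := by
    rw [hE, Finset.card_erase_of_mem (Finset.mem_univ _), Finset.card_univ, h.card_irr']
  let D : G → ℂ := (2 : ℂ) • a - (2 : ℂ) • θ - ∑ c ∈ E, X c
  have hDcf : IsClassFunction G D := by
    intro x y
    simp only [D, Pi.sub_apply, Pi.smul_apply, Finset.sum_apply]
    rw [CT.isClassFunction_of_isCharacter ha x y, CT.isClassFunction_of_isIrr hθ x y,
      Finset.sum_congr rfl fun c hc =>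
        CT.isClassFunction_of_isIrr (hXirr c (Finset.ne_of_mem_erase hc)) x y]
  have hDnn : ∀ χ : IrrCharacter G, ∃ k : ℕ, classInner D χ = k := by
    intro χ
    simp only [D, CT.classInner_sub_left, CT.classInner_smul_left, CT.classInner_sum_left]
    by_cases h1 : (χ : G → ℂ) = θ
    · refine ⟨0, ?_⟩
      rw [h1, iaθ, iθθ, Finset.sum_eq_zero fun c hc => iXθ c (Finset.ne_of_mem_erase hc)]
      simp
    by_cases h2 : ∃ d ∈ E, (χ : G → ℂ) = X d
    · obtain ⟨d, hd, hχ⟩ := h2
      have hdt := Finset.ne_of_mem_erase hd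
      refine ⟨0, ?_⟩
      rw [hχ, iaX d hdt, ← CT.classInner_conj_symm (X d) θ, iXθ d hdt,
        Finset.sum_congr rfl fun c hc => iXX c d (Finset.ne_of_mem_erase hc) hdt,
        Finset.sum_add_distrib, Finset.sum_ite_eq', Finset.sum_ite_eq',
        if_pos hd, if_pos (Finset.mem_erase.mpr ⟨h.bar_ne_triv hdt, Finset.mem_univ _⟩)]
      simp
      norm_num
    · push Not at h2
      refine ⟨2 * CT.mult a χ, ?_⟩
      rw [CT.irr_inner_of_ne hθ χ.2 (Ne.symm h1),
        Finset.sum_eq_zero fun c hc => CT.irr_inner_of_ne (hXirr c (Finset.ne_of_mem_erase hc)) χ.2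
          (Ne.symm (h2 c hc)), CT.mult_spec ha (CT.isCharacter_of_isIrr χ.2)]
      push_cast
      ring
  have hfix1 : fixN G α (1 : G) = p := by
    simp [fixN, hα]
  have hD1 : D 1 = 0 := by
    simp only [D, Pi.sub_apply, Pi.smul_apply, Finset.sum_apply, smul_eq_mul, hav, θ, one, hp1, X,
      Pi.add_apply, h.gam_one, Finset.sum_const, hEc, nsmul_eq_mul]
    rw [mul_one, hfix1, Nat.cast_sub h.prime.one_le]
    push_cast
    ring
  have hD : D = 0 := by
    have hDc : IsCharacter G D := CT.isCharacter_iff.mpr ⟨hDcf, hDnn⟩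
    obtain ⟨n, ρ, hρ⟩ := hDc
    have hn0 : n = 0 := by
      have e := hD1
      rw [← hρ] at e
      simp [Representation.character] at e
      exact e
    subst hn0
    funext x
    rw [← hρ, Representation.character, Pi.zero_apply]
    rw [Subsingleton.elim (ρ x) 0, map_zero]
  -- evaluation
  have hfull : fixN G α g = p → g = 1 := by
    intro e
    have hu : Finset.univ.filter (fun x : α => g • x = x) = Finset.univ :=
      Finset.eq_univ_of_card _ (by rw [← fixN, e, hα])
    exact FaithfulSMul.eq_of_smul_eq_smul fun x : α => by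
      rw [one_smul]; exact (Finset.filter_eq_self.mp hu) x (Finset.mem_univ x)
  have hΓg : ∀ c, g ≠ 1 → h.gam c g = 0 := by
    intro c hg1
    refine CT.indFun_eq_zero_of_not_conj_mem P _ fun x hx => ?_
    have hne : x⁻¹ * g * x ≠ 1 := fun e => hg1 (by
      have e' := congrArg (fun t => x * t * x⁻¹) e
      simpa [mul_assoc] using e')
    obtain ⟨z, hz⟩ := Finset.card_pos.mp (lt_of_lt_of_le (by norm_num) hg : 0 < fixN G α g)
    refine hfree _ hx hne (x⁻¹ • z) ?_
    rw [mul_smul, mul_smul, smul_inv_smul, (Finset.mem_filter.mp hz).2]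
  by_contra hg1
  have e := congrFun hD g
  simp only [D, Pi.sub_apply, Pi.smul_apply, Finset.sum_apply, smul_eq_mul, hav, θ, one, hπv, X,
    Pi.add_apply, hΓg _ hg1, Finset.sum_const, hEc, nsmul_eq_mul, Pi.zero_apply, zero_add, mul_one,
    Nat.cast_sub h.prime.one_le, Nat.cast_one] at e
  have hmono : fixN G α g ≤ fixN G α (g * g) :=
    Finset.card_le_card (Finset.monotone_filter_right _ fun x _ hx => by
      show (g * g) • x = x
      rw [mul_smul, hx, hx])
  have hle : fixN G α g < p := lt_of_le_of_ne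
    (by rw [← hα]; exact Finset.card_le_univ _) fun e' => hg1 (hfull e')
  set F := fixN G α g
  set F2 := fixN G α (g * g)
  have e' : ((F : ℤ) * F - F2 - 2 * (F - 1) - (p - 1) * (F - 2) : ℂ) = 0 := by
    push_cast
    linear_combination e
  have eZ : (F : ℤ) * F - F2 - 2 * (F - 1) - ((p : ℤ) - 1) * (F - 2) = 0 := by exact_mod_cast e'
  nlinarith [mul_pos (by omega : (0 : ℤ) < (F : ℤ) - 2) (by omega : (0 : ℤ) < (p : ℤ) - F)]

end perm

end Cfsg.Agent.PermGp.PrimeTwoP
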