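import Cfsg.Agent.Lib.PermGp.PrimeTwoP
import Cfsg.Agent.Lib.ClassSum.Basic
import Mathlib.RingTheory.ZMod.UnitsCyclic

/-!
# A rational orthogonal character of degree `p - 1` when the Sylow normaliser has order `2p`

If `P` is self-centralizing of prime order `p` with normaliser of order `2p` and `θ` is such a
character, faithful, with value `-1` on `P`, then `θ(g)² - θ(g²) = (p-1)(θ(g)-1)` off the conjugates
of `P`, every involution has `θ = 0`, `(p-1)|G| = p(p-2)c²` for the centralizer order `c` of an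
involution, and `|G| = p(p-1)(p-2)` with `p - 1` a power of two.
-/

set_option autoImplicit false
set_option linter.unusedSectionVars false

namespace Cfsg.Agent.PermGp.PrimeTwoP

open scoped ComplexConjugate
open Cfsg.Agent

universe u

variable {G : Type u} [Group G] [Fintype G] {P : Subgroup G} [Fintype P] {p : ℕ}

namespace Hyp2

variable (h : Hyp2 G P p)
include h

theorem gam_triv : h.gam (CT.trivIrr P) = 0 := by
  rw [gam, show (CT.trivIrr P : P → ℂ) = fun _ => 1 from rfl, CT.indFun_sub, sub_self]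

theorem sum_irr_eq_zero {y : P} (hy : y ≠ 1) : ∑ c : IrrCharacter P, (c : P → ℂ) y = 0 := by
  classical
  have := CT.column_orthogonality (G := P) y 1
  simp only [h.irr_one, map_one, mul_one] at this
  rw [this, if_neg]
  intro e
  exact hy (isConj_one_right.mp e.symm)

theorem gam_inner_eq (c : IrrCharacter P) {χ : G → ℂ} (hχ : IsCharacter G χ) :
    classInner (h.gam c) χ =
      (CT.mult (fun z : P => χ z) (CT.trivIrr P : P → ℂ) : ℂ) - CT.mult (fun z : P => χ z) (c : P → ℂ) := by
  have hr := CT.isCharacter_restrict P hχ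
  rw [h.gam_inner c (CT.isClassFunction_of_isCharacter hχ), CT.classInner_sub_left,
    show (fun _ : P => (1 : ℂ)) = (CT.trivIrr P : P → ℂ) from rfl,
    CT.classInner_comm_of_char (CT.isCharacter_of_isIrr (CT.trivIrr P).2) hr,
    CT.classInner_comm_of_char (CT.isCharacter_of_isIrr c.2) hr,
    CT.mult_spec hr (CT.isCharacter_of_isIrr (CT.trivIrr P).2),
    CT.mult_spec hr (CT.isCharacter_of_isIrr c.2)]

theorem restrict_eq {χ : G → ℂ} (hχ : IsCharacter G χ) {y : P} (hy : y ≠ 1) :
    χ y = -∑ c : IrrCharacter P, classInner (h.gam c) χ * (c : P → ℂ) y := by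
  have hr := CT.isCharacter_restrict P hχ
  have e : ∀ c : IrrCharacter P, classInner (h.gam c) χ = _ := fun c => h.gam_inner_eq c hχ
  simp only [e, sub_mul, Finset.sum_sub_distrib, ← Finset.mul_sum, h.sum_irr_eq_zero hy, mul_zero,
    zero_sub, neg_neg]
  have := congrFun (CT.character_eq_sum hr) y
  simpa [Finset.sum_apply] using this

theorem centralizer_eq {s : G} (hs : s ∈ P) (hs1 : s ≠ 1) :
    Subgroup.centralizer ({s} : Set G) = P := by
  refine le_antisymm (fun g hg => h.cent g fun z hz => ?_) fun g hg => ?_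
  · obtain ⟨i, rfl⟩ := h.zpowers_eq hs hs1 hz
    exact (Commute.zpow_right (Subgroup.mem_centralizer_singleton_iff.mp hg : g * s = s * g) i).eq
  · exact Subgroup.mem_centralizer_singleton_iff.mpr (h.comm hg hs)

theorem not_sq_dvd : ¬ p ^ 2 ∣ Nat.card G := by
  intro hd
  haveI : Fact p.Prime := ⟨h.prime⟩
  have := Sylow.prime_pow_dvd_card_normalizer (n := 1) (H := P) hd (by rw [h.card, pow_one])
  rw [h.norm] at this
  have h2 : p ∣ 2 := Nat.dvd_of_mul_dvd_mul_right h.prime.pos (by rwa [← pow_two])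
  exact h.odd ((Nat.prime_dvd_prime_iff_eq h.prime Nat.prime_two).mp h2)

/-- An involution commutes with no element of order `p`. -/
theorem not_dvd_centralizer {t : G} (ht : orderOf t = 2) :
    ¬ p ∣ Nat.card (Subgroup.centralizer ({t} : Set G)) := by
  intro hd
  haveI : Fact p.Prime := ⟨h.prime⟩
  have hfac : (Nat.card G).factorization p = 1 := by
    have h1 := (h.prime.dvd_iff_one_le_factorization Nat.card_pos.ne').mp
      (hd.trans (Subgroup.card_subgroup_dvd_card _))
    have h2 : ¬ 2 ≤ (Nat.card G).factorization p := fun h2 =>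
      h.not_sq_dvd ((h.prime.pow_dvd_iff_le_factorization Nat.card_pos.ne').mpr h2)
    omega
  let Q : Sylow p G := Sylow.ofCard P (by rw [h.card, hfac, pow_one])
  obtain ⟨w, hw⟩ := exists_prime_orderOf_dvd_card' (G := Subgroup.centralizer ({t} : Set G)) p hd
  have hwo : orderOf (w : G) = p := by rw [Subgroup.orderOf_coe, hw]
  obtain ⟨R, hR⟩ := (IsPGroup.of_card (p := p) (n := 1)
    (by rw [Nat.card_zpowers, hwo, pow_one]) : IsPGroup p (Subgroup.zpowers (w : G))).exists_le_sylow
  obtain ⟨g, hg⟩ := MulAction.exists_smul_eq G R Q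
  have hwP : g * (w : G) * g⁻¹ ∈ P := by
    have h1 : (MulAut.conj g) (w : G) ∈ ((g • R : Sylow p G) : Subgroup G) := by
      rw [Sylow.coe_subgroup_smul]
      exact Subgroup.smul_mem_pointwise_smul _ _ _ (hR (Subgroup.mem_zpowers _))
    rw [hg] at h1
    simpa [Q] using h1
  have hw1 : g * (w : G) * g⁻¹ ≠ 1 := fun e => by
    have : orderOf (g * (w : G) * g⁻¹) = p := by
      rw [show g * (w : G) * g⁻¹ = (MulAut.conj g) (w : G) by simp, MulEquiv.orderOf_eq, hwo]
    rw [e, orderOf_one] at this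
    exact h.prime.one_lt.ne this
  have hcom : (w : G) * t = t * w := Subgroup.mem_centralizer_singleton_iff.mp w.2
  have htP : g * t * g⁻¹ ∈ P := by
    rw [← h.centralizer_eq hwP hw1, Subgroup.mem_centralizer_singleton_iff]
    calc g * t * g⁻¹ * (g * w * g⁻¹) = g * (t * w) * g⁻¹ := by group
      _ = g * (w : G) * g⁻¹ * (g * t * g⁻¹) := by rw [← hcom]; group
  have hd2 : orderOf (g * t * g⁻¹) ∣ p := orderOf_dvd_of_pow_eq_one (h.pow_p htP)
  rw [show g * t * g⁻¹ = (MulAut.conj g) t by simp, MulEquiv.orderOf_eq, ht] at hd2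
  exact h.odd ((Nat.prime_dvd_prime_iff_eq Nat.prime_two h.prime).mp hd2).symm

/-- The elements of the normaliser outside `P` are conjugate under `P`. -/
theorem isConj_of_outside {u v : G} (hu : u ∈ Subgroup.normalizer (P : Set G)) (huP : u ∉ P)
    (hv : v ∈ Subgroup.normalizer (P : Set G)) (hvP : v ∉ P) : IsConj u v := by
  have hidx : (P.subgroupOf (Subgroup.normalizer (P : Set G))).index = 2 := by
    have := (P.subgroupOf (Subgroup.normalizer (P : Set G))).card_mul_index
    rw [Nat.card_congr (Subgroup.subgroupOfEquivOfLe Subgroup.le_normalizer).toEquiv, h.card, h.norm,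
      mul_comm 2 p] at this
    exact Nat.eq_of_mul_eq_mul_left h.prime.pos this
  have hy : u⁻¹ * v ∈ P := by
    have := (Subgroup.mul_mem_iff_of_index_two hidx
      (a := (⟨u⁻¹, inv_mem hu⟩ : Subgroup.normalizer (P : Set G))) (b := ⟨v, hv⟩)).mpr
    simp [Subgroup.mem_subgroupOf, huP, hvP] at this
    exact this
  obtain ⟨r, hr⟩ := h.prime.odd_of_ne_two h.odd
  set y := u⁻¹ * v with hydef
  have hz : y ^ (r + 1) ∈ P := pow_mem hy _
  have hzz : y ^ (r + 1) * y ^ (r + 1) = y := by
    rw [← pow_add, show r + 1 + (r + 1) = p + 1 by omega, pow_succ, h.pow_p hy, one_mul]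
  have hinv := h.inverts hu huP hz
  refine isConj_iff.mpr ⟨(y ^ (r + 1))⁻¹, ?_⟩
  rw [inv_inv]
  calc (y ^ (r + 1))⁻¹ * u * y ^ (r + 1) = (u * y ^ (r + 1) * u⁻¹) * u * y ^ (r + 1) := by rw [hinv]
    _ = u * (y ^ (r + 1) * y ^ (r + 1)) := by group
    _ = v := by rw [hzz, hydef]; group

end Hyp2

/-- The character hypotheses. -/
structure CharData (G : Type u) [Group G] [Fintype G] (P : Subgroup G) (p : ℕ) (θ : G → ℂ) : Prop where
  hyp : Hyp2 G P p
  irr : IsIrrCharacter G θ
  one : θ 1 = (p : ℂ) - 1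
  onP : ∀ y ∈ P, y ≠ 1 → θ y = -1
  orth : CharFS.ind θ = 1

namespace CharData

variable {θ : G → ℂ} (D : CharData G P p θ)
include D

theorem real (g : G) : conj (θ g) = θ g :=
  CharFS.real_of_ind_ne_zero D.irr (by rw [D.orth]; exact one_ne_zero) g

theorem inner_one : classInner θ (fun _ : G => (1 : ℂ)) = 0 := by
  refine CT.irr_inner_of_ne D.irr CT.isIrrCharacter_one fun e => ?_
  obtain ⟨y, hy1⟩ : ∃ y : P, y ≠ 1 := by
    haveI : Nontrivial P := Finite.one_lt_card_iff_nontrivial.mp (D.hyp.card ▸ D.hyp.prime.one_lt)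
    exact exists_ne 1
  have := D.onP y y.2 (fun e' => hy1 (Subtype.ext e'))
  rw [e] at this
  norm_num at this

theorem gam_theta {c : IrrCharacter P} (hc : c ≠ CT.trivIrr P) : classInner (D.hyp.gam c) θ = -1 := by
  classical
  have hp0 : (p : ℂ) ≠ 0 := Nat.cast_ne_zero.mpr D.hyp.prime.ne_zero
  rw [D.hyp.gam_inner c (CT.isClassFunction_of_isIrr D.irr)]
  have e : (fun y : P => θ y) = fun y : P => (if y = 1 then (p : ℂ) else 0) - (CT.trivIrr P : P → ℂ) y := by
    funext y
    split_ifs with hy
    · simp [hy, D.one]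
    · simp [D.onP y y.2 (fun e' => hy (Subtype.ext e'))]
  rw [e, show (fun y : P => (if y = 1 then (p : ℂ) else 0) - (CT.trivIrr P : P → ℂ) y) =
      (fun y : P => if y = 1 then (p : ℂ) else 0) - (CT.trivIrr P : P → ℂ) from rfl,
    CT.classInner_sub_right, CT.classInner_sub_left,
    show (fun _ : P => (1 : ℂ)) = (CT.trivIrr P : P → ℂ) from rfl,
    CT.classInner_sub_left, CT.irr_inner_subtype, CT.irr_inner_subtype, if_pos rfl, if_neg hc]
  simp [classInner, D.hyp.irr_one, apply_ite]

theorem gam_one' {c : IrrCharacter P} (hc : c ≠ CT.trivIrr P) :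
    classInner (D.hyp.gam c) (fun _ : G => (1 : ℂ)) = 1 := by
  rw [D.hyp.gam_inner c (CT.isClassFunction_of_isIrr CT.isIrrCharacter_one), CT.classInner_sub_left]
  show classInner (CT.trivIrr P : P → ℂ) (CT.trivIrr P : P → ℂ) -
    classInner (c : P → ℂ) (CT.trivIrr P : P → ℂ) = 1
  rw [CT.irr_inner_subtype, CT.irr_inner_subtype, if_pos rfl, if_neg hc, sub_zero]

/-- An exceptional character. -/
noncomputable def exc (_D : CharData G P p θ) (c : IrrCharacter P) : G → ℂ :=
  _D.hyp.gam c + θ - fun _ => 1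

open Classical in
theorem exc_exc {c d : IrrCharacter P} (hc : c ≠ CT.trivIrr P) (hd : d ≠ CT.trivIrr P) :
    classInner (D.exc c) (D.exc d) = (if c = d then 1 else 0) + if c = D.hyp.bar d then 1 else 0 := by
  simp only [exc, CT.classInner_sub_left, CT.classInner_sub_right, CT.classInner_add_left,
    CT.classInner_add_right, D.hyp.gam_gam hc hd, D.gam_theta hc, D.gam_one' hc,
    CT.irr_inner_self D.irr, D.inner_one, CT.irr_inner_self (CT.isIrrCharacter_one (G := G))]
  rw [← CT.classInner_conj_symm (D.hyp.gam d) θ, D.gam_theta hd,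
    ← CT.classInner_conj_symm (D.hyp.gam d) (fun _ => (1 : ℂ)), D.gam_one' hd,
    ← CT.classInner_conj_symm θ (fun _ : G => (1 : ℂ)), D.inner_one]
  simp only [map_neg, map_one, map_zero]
  ring

theorem exc_theta {c : IrrCharacter P} (hc : c ≠ CT.trivIrr P) : classInner (D.exc c) θ = 0 := by
  simp only [exc, CT.classInner_sub_left, CT.classInner_add_left, D.gam_theta hc,
    CT.irr_inner_self D.irr]
  rw [← CT.classInner_conj_symm θ, D.inner_one, map_zero]
  ring

theorem exc_apply_one (c : IrrCharacter P) : D.exc c 1 = (p : ℂ) - 2 := by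
  simp only [exc, Pi.sub_apply, Pi.add_apply, D.hyp.gam_one, D.one]
  ring

theorem exc_irr {c : IrrCharacter P} (hc : c ≠ CT.trivIrr P) : IsIrrCharacter G (D.exc c) := by
  classical
  refine CT.isIrr_of_isGen_norm_one
    ⟨indFun P (fun _ => (1 : ℂ)) + θ, indFun P (c : P → ℂ) + fun _ => 1,
      CT.isCharacter_add (CT.isCharacter_indFun P CT.isCharacter_one) (CT.isCharacter_of_isIrr D.irr),
      CT.isCharacter_add (CT.isCharacter_indFun P (CT.isCharacter_of_isIrr c.2)) CT.isCharacter_one, ?_⟩ ?_ ?_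
  · simp only [exc, Hyp2.gam, CT.indFun_sub]; abel
  · rw [D.exc_exc hc hc, if_pos rfl, if_neg (Ne.symm (D.hyp.bar_ne hc)), add_zero]
  · rw [D.exc_apply_one]
    simp only [Complex.sub_re, Complex.natCast_re, Complex.re_ofNat, sub_pos]
    exact_mod_cast lt_of_le_of_ne D.hyp.prime.two_le (Ne.symm D.hyp.odd)

theorem gam_eq (c : IrrCharacter P) :
    D.hyp.gam c = (fun _ => (1 : ℂ)) - θ + D.exc c := by
  simp only [exc]; abel

/-- The basic identity off the conjugates of `P`. -/
theorem identity {g : G} (hg : ∀ x : G, x⁻¹ * g * x ∈ P → g = 1) :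
    θ g * θ g - θ (g * g) = ((p : ℂ) - 1) * (θ g - 1) := by
  classical
  set one : G → ℂ := fun _ => 1
  obtain ⟨s, a, -, ha, hsum, hdiff⟩ := CharFS.exists_sq_split (CT.isCharacter_of_isIrr D.irr)
  have hav : ∀ x, 2 * a x = θ x * θ x - θ (x * x) := fun x => by linear_combination hsum x - hdiff x
  have ia1 : classInner a one = 0 := by
    have e : (2 : ℂ) * classInner a one = classInner θ θ - CharFS.ind θ := by
      simp only [classInner, CharFS.ind, one, map_one, mul_one, D.real]
      rw [mul_left_comm, Finset.mul_sum]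
      simp only [hav, Finset.sum_sub_distrib]
      ring
    rw [CT.irr_inner_self D.irr, D.orth, sub_self] at e
    simpa using e
  have haP : ∀ y : P, y ≠ 1 → a y = 1 := fun y hy => by
    have hy2 : (y : G) * y ≠ 1 := by
      intro e
      have e2 : y * y = 1 := Subtype.ext e
      have ho : orderOf y ∣ 2 := orderOf_dvd_of_pow_eq_one (by rw [pow_two, e2])
      haveI : Fact p.Prime := ⟨D.hyp.prime⟩
      rw [orderOf_eq_prime (p := p) (Subtype.ext (by simpa using D.hyp.pow_p y.2)) hy] at ho
      exact D.hyp.odd ((Nat.prime_dvd_prime_iff_eq D.hyp.prime Nat.prime_two).mp ho)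
    have h1 : (2 : ℂ) * a y = 2 := by
      rw [hav, D.onP _ y.2 (fun e => hy (Subtype.ext e)), D.onP _ (mul_mem y.2 y.2) hy2]; ring
    simpa using h1
  have iΓa : ∀ c, c ≠ CT.trivIrr P → classInner (D.hyp.gam c) a = 1 := by
    intro c hc
    rw [D.hyp.gam_inner c (CT.isClassFunction_of_isCharacter ha)]
    have e : classInner ((fun _ => (1 : ℂ)) - (c : P → ℂ)) (fun y : P => a y) =
        classInner ((fun _ => (1 : ℂ)) - (c : P → ℂ)) (fun _ => 1) := by
      simp only [classInner]
      congr 1
      refine Finset.sum_congr rfl fun y _ => ?_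
      by_cases hy : y = 1
      · subst hy; simp [D.hyp.irr_one]
      · rw [haP y hy]
    rw [e, CT.classInner_sub_left, show (fun _ : P => (1 : ℂ)) = (CT.trivIrr P : P → ℂ) from rfl,
      CT.irr_inner_subtype, CT.irr_inner_subtype, if_pos rfl, if_neg hc, sub_zero]
  have iaX : ∀ c, c ≠ CT.trivIrr P → classInner a (D.exc c) = 1 + classInner a θ := by
    intro c hc
    simp only [exc, CT.classInner_sub_right, CT.classInner_add_right]
    rw [← CT.classInner_conj_symm (D.hyp.gam c) a, iΓa c hc, map_one]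
    show 1 + classInner a θ - classInner a one = _
    rw [ia1, sub_zero]
  set E := Finset.univ.erase (CT.trivIrr P) with hE
  have hEc : E.card = p - 1 := by
    rw [hE, Finset.card_erase_of_mem (Finset.mem_univ _), Finset.card_univ, D.hyp.card_irr']
  let W : G → ℂ := (2 : ℂ) • a - ∑ c ∈ E, D.exc c
  have hWcf : IsClassFunction G W := by
    intro x y
    simp only [W, Pi.sub_apply, Pi.smul_apply, Finset.sum_apply]
    rw [CT.isClassFunction_of_isCharacter ha x y,
      Finset.sum_congr rfl fun c hc =>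
        CT.isClassFunction_of_isIrr (D.exc_irr (Finset.ne_of_mem_erase hc)) x y]
  have hWnn : ∀ χ : IrrCharacter G, ∃ k : ℕ, classInner W χ = k := by
    intro χ
    simp only [W, CT.classInner_sub_left, CT.classInner_smul_left, CT.classInner_sum_left]
    by_cases h2 : ∃ d ∈ E, (χ : G → ℂ) = D.exc d
    · obtain ⟨d, hd, hχ⟩ := h2
      have hdt := Finset.ne_of_mem_erase hd
      refine ⟨2 * CT.mult a θ, ?_⟩
      rw [hχ, iaX d hdt,
        Finset.sum_congr rfl fun c hc => D.exc_exc (Finset.ne_of_mem_erase hc) hdt,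
        Finset.sum_add_distrib, Finset.sum_ite_eq', Finset.sum_ite_eq',
        if_pos hd, if_pos (Finset.mem_erase.mpr ⟨D.hyp.bar_ne_triv hdt, Finset.mem_univ _⟩),
        CT.mult_spec ha (CT.isCharacter_of_isIrr D.irr)]
      push_cast
      ring
    · push Not at h2
      refine ⟨2 * CT.mult a χ, ?_⟩
      rw [Finset.sum_eq_zero fun c hc => CT.irr_inner_of_ne (D.exc_irr (Finset.ne_of_mem_erase hc)) χ.2
          (Ne.symm (h2 c hc)), CT.mult_spec ha (CT.isCharacter_of_isIrr χ.2)]
      push_cast
      ring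
  have hW1 : W 1 = 0 := by
    simp only [W, Pi.sub_apply, Pi.smul_apply, Finset.sum_apply, smul_eq_mul, hav, mul_one, D.one,
      D.exc_apply_one, Finset.sum_const, hEc, nsmul_eq_mul]
    rw [Nat.cast_sub D.hyp.prime.one_le]
    push_cast
    ring
  have hW : W = 0 := by
    have hWc : IsCharacter G W := CT.isCharacter_iff.mpr ⟨hWcf, hWnn⟩
    obtain ⟨n, ρ, hρ⟩ := hWc
    have hn0 : n = 0 := by
      have e := hW1
      rw [← hρ] at e
      simp [Representation.character] at e
      exact e
    subst hn0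
    funext x
    rw [← hρ, Representation.character, Pi.zero_apply]
    rw [Subsingleton.elim (ρ x) 0, map_zero]
  have e := congrFun hW g
  have hΓ : ∀ c, D.hyp.gam c g = 0 := by
    intro c
    by_cases hg1 : g = 1
    · rw [hg1, D.hyp.gam_one]
    · exact CT.indFun_eq_zero_of_not_conj_mem P _ fun x hx => hg1 (hg x hx)
  simp only [W, exc, Pi.sub_apply, Pi.smul_apply, Finset.sum_apply, smul_eq_mul, hav, Pi.add_apply, hΓ,
    Finset.sum_const, hEc, nsmul_eq_mul, Pi.zero_apply, zero_add,
    Nat.cast_sub D.hyp.prime.one_le, Nat.cast_one] at e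
  linear_combination e

variable (hf : ∀ g : G, θ g = θ 1 → g = 1)
include hf

theorem involution {t : G} (ht : orderOf t = 2) : θ t = 0 := by
  have htt : t * t = 1 := by rw [← pow_two, ← ht, pow_orderOf_eq_one]
  have ht1 : t ≠ 1 := fun e => by rw [e, orderOf_one] at ht; norm_num at ht
  have e := D.identity (g := t) (fun x hx => by
    exfalso
    have h2 : orderOf (x⁻¹ * t * x) = 2 := by
      rw [show x⁻¹ * t * x = (MulAut.conj x⁻¹) t by simp, MulEquiv.orderOf_eq, ht]
    have hdvd : orderOf (x⁻¹ * t * x) ∣ p := orderOf_dvd_of_pow_eq_one (D.hyp.pow_p hx)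
    rw [h2] at hdvd
    exact D.hyp.odd ((Nat.prime_dvd_prime_iff_eq Nat.prime_two D.hyp.prime).mp hdvd).symm)
  rw [htt, D.one] at e
  have e' : θ t * (θ t - ((p : ℂ) - 1)) = 0 := by linear_combination e
  rcases mul_eq_zero.mp e' with h0 | h0
  · exact h0
  · exact absurd (hf t (by rw [D.one]; exact sub_eq_zero.mp h0)) ht1

theorem card_formula {t : G} (ht : orderOf t = 2) :
    Nat.card G * (p - 1) =
      p * (p - 2) * Nat.card (Subgroup.centralizer ({t} : Set G)) ^ 2 := by
  classical
  have hp3 : 3 ≤ p := by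
    have := D.hyp.prime.two_le; have := D.hyp.odd; omega
  have hθt := D.involution hf ht
  have htt : t * t = 1 := by rw [← pow_two, ← ht, pow_orderOf_eq_one]
  obtain ⟨s, hs, hs1⟩ : ∃ s ∈ P, s ≠ 1 := by
    haveI : Nontrivial P := Finite.one_lt_card_iff_nontrivial.mp (D.hyp.card ▸ D.hyp.prime.one_lt)
    obtain ⟨y, hy⟩ := exists_ne (1 : P)
    exact ⟨y, y.2, fun e => hy (Subtype.ext e)⟩
  have hCs : Nat.card (Subgroup.centralizer ({s} : Set G)) = p := by
    rw [D.hyp.centralizer_eq hs hs1, D.hyp.card]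
  set A := Finset.univ.filter (fun g : G => IsConj t g ∧ IsConj s (t * g)) with hA
  set kt := Nat.card {g : G // IsConj t g}
  set c := Nat.card (Subgroup.centralizer ({t} : Set G))
  have hkc : kt * c = Nat.card G := CT.card_conj_class_mul_centralizer t
  -- the character sum
  have hp2 : (p : ℂ) - 2 ≠ 0 := by
    rw [sub_ne_zero]; exact_mod_cast (show p ≠ 2 from D.hyp.odd)
  have hT : ∀ d : IrrCharacter P, d ≠ CT.trivIrr P →
      ∑ χ : IrrCharacter G, classInner (D.hyp.gam d) (χ : G → ℂ) *
        ((χ : G → ℂ) t * (χ : G → ℂ) t / (χ : G → ℂ) 1) = ((p : ℂ) - 1) / ((p : ℂ) - 2) := by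
    intro d hd
    have hX := D.exc_irr hd
    have e1 : ∀ χ : IrrCharacter G, classInner (D.hyp.gam d) (χ : G → ℂ) =
        (if CT.trivIrr G = χ then 1 else 0) - (if (⟨θ, D.irr⟩ : IrrCharacter G) = χ then 1 else 0) +
          if (⟨D.exc d, hX⟩ : IrrCharacter G) = χ then 1 else 0 := by
      intro χ
      rw [D.gam_eq d, CT.classInner_add_left, CT.classInner_sub_left, ← CT.irr_inner_subtype,
        ← CT.irr_inner_subtype, ← CT.irr_inner_subtype]
      rfl
    simp only [e1, add_mul, sub_mul, ite_mul, one_mul, zero_mul, Finset.sum_add_distrib,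
      Finset.sum_sub_distrib, Finset.sum_ite_eq, Finset.mem_univ, if_true]
    have hXt : D.exc d t = -1 := by
      have hΓt : D.hyp.gam d t = 0 := CT.indFun_eq_zero_of_not_conj_mem P _ fun x hx => by
        have h2 : orderOf (x⁻¹ * t * x) = 2 := by
          rw [show x⁻¹ * t * x = (MulAut.conj x⁻¹) t by simp, MulEquiv.orderOf_eq, ht]
        have hdvd : orderOf (x⁻¹ * t * x) ∣ p := orderOf_dvd_of_pow_eq_one (D.hyp.pow_p hx)
        rw [h2] at hdvd
        exact D.hyp.odd ((Nat.prime_dvd_prime_iff_eq Nat.prime_two D.hyp.prime).mp hdvd).symm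
      simp [exc, hΓt, hθt]
    rw [hθt, hXt, D.exc_apply_one, CT.trivIrr_apply, CT.trivIrr_apply]
    field_simp
    ring
  have hsum : ∑ χ : IrrCharacter G, (χ : G → ℂ) t * ((χ : G → ℂ) t / (χ : G → ℂ) 1) *
      conj ((χ : G → ℂ) s) = ((p : ℂ) - 1) / ((p : ℂ) - 2) := by
    have hre : ∀ χ : IrrCharacter G, conj ((χ : G → ℂ) s) =
        -∑ d : IrrCharacter P, classInner (D.hyp.gam d) (χ : G → ℂ) * conj ((d : P → ℂ) ⟨s, hs⟩) := by
      intro χ
      rw [show (χ : G → ℂ) s = (χ : G → ℂ) ((⟨s, hs⟩ : P) : G) from rfl,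
        D.hyp.restrict_eq (CT.isCharacter_of_isIrr χ.2) (y := ⟨s, hs⟩)
          (fun e => hs1 (congrArg Subtype.val e)), map_neg, map_sum]
      congr 1
      refine Finset.sum_congr rfl fun d _ => ?_
      rw [map_mul, D.hyp.gam_inner_eq d (CT.isCharacter_of_isIrr χ.2), map_sub, Complex.conj_natCast,
        Complex.conj_natCast]
    calc _ = -∑ d : IrrCharacter P, conj ((d : P → ℂ) ⟨s, hs⟩) *
          ∑ χ : IrrCharacter G, classInner (D.hyp.gam d) (χ : G → ℂ) *
            ((χ : G → ℂ) t * (χ : G → ℂ) t / (χ : G → ℂ) 1) := by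
          simp only [hre, mul_neg, Finset.sum_neg_distrib, Finset.mul_sum]
          rw [Finset.sum_comm]
          congr 1
          exact Finset.sum_congr rfl fun d _ => Finset.sum_congr rfl fun χ _ => by ring
      _ = _ := by
          rw [← Finset.add_sum_erase (Finset.univ : Finset (IrrCharacter P)) _
              (Finset.mem_univ (CT.trivIrr P)), D.hyp.gam_triv]
          rw [Finset.sum_congr (s₁ := Finset.univ.erase (CT.trivIrr P)) rfl
            fun d hd => by rw [hT d (Finset.ne_of_mem_erase hd)], ← Finset.sum_mul]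
          simp only [CT.classInner_zero_left, zero_mul, Finset.sum_const_zero, mul_zero, zero_add]
          have h0 := congrArg conj (D.hyp.sum_irr_eq_zero (y := ⟨s, hs⟩)
            (fun e => hs1 (congrArg Subtype.val e)))
          rw [map_sum, map_zero, ← Finset.add_sum_erase _ _ (Finset.mem_univ (CT.trivIrr P)),
            CT.trivIrr_apply, map_one] at h0
          linear_combination -(((p : ℂ) - 1) / ((p : ℂ) - 2)) * h0
  have hsum' := ClassSum.sum_char_omega_conj (f := ClassSum.classInd t) (ClassSum.classInd_isClassWeight t) t s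
  have hR : (∑ g, ((ClassSum.classInd t g : ℤ) : ℂ) * ((ClassSum.classInd s (t * g) : ℤ) : ℂ)) =
      (A.card : ℂ) := by
    rw [hA, Finset.card_filter]
    push_cast
    refine Finset.sum_congr rfl fun g _ => ?_
    by_cases h1 : IsConj t g
    · by_cases h2 : IsConj s (t * g)
      · rw [ClassSum.classInd_pos h1, ClassSum.classInd_pos h2, if_pos ⟨h1, h2⟩]; simp
      · rw [ClassSum.classInd_pos h1, ClassSum.classInd_neg h2, if_neg (fun e => h2 e.2)]; simp
    · rw [ClassSum.classInd_neg h1, if_neg (fun e => h1 e.1)]; simp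
  rw [hR, hCs, Finset.sum_congr rfl fun χ _ => by
    rw [ClassSum.omega_classInd _ (CT.isClassFunction_of_isIrr χ.2)]] at hsum'
  have key : (p : ℂ) * A.card * ((p : ℂ) - 2) = (kt : ℂ) * ((p : ℂ) - 1) := by
    rw [← hsum']
    calc _ = (kt : ℂ) * (∑ χ : IrrCharacter G, (χ : G → ℂ) t * ((χ : G → ℂ) t / (χ : G → ℂ) 1) *
          conj ((χ : G → ℂ) s)) * ((p : ℂ) - 2) := by
          rw [Finset.mul_sum]
          congr 1
          exact Finset.sum_congr rfl fun χ _ => by ring
      _ = _ := by rw [hsum]; field_simp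
  -- counting
  have hktpos : 0 < kt := by
    haveI : Nonempty {g : G // IsConj t g} := ⟨⟨t, IsConj.refl t⟩⟩
    exact Nat.card_pos
  have hAne : A.Nonempty := by
    rw [← Finset.card_pos]
    by_contra h0
    have h0' : A.card = 0 := by omega
    rw [h0', Nat.cast_zero, mul_zero, zero_mul, eq_comm, mul_eq_zero] at key
    rcases key with e | e
    · exact hktpos.ne' (by exact_mod_cast e)
    · rw [sub_eq_zero] at e
      exact D.hyp.prime.one_lt.ne' (by exact_mod_cast e)
  set S := Finset.univ.filter (fun x : G =>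
    x⁻¹ * t * x ∈ Subgroup.normalizer (P : Set G) ∧ x⁻¹ * t * x ∉ P) with hS
  have hmaps : ∀ x ∈ S, t * (x * s * x⁻¹) ∈ A := by
    intro x hx
    obtain ⟨hxN, hxP⟩ := (Finset.mem_filter.mp hx).2
    refine Finset.mem_filter.mpr ⟨Finset.mem_univ _, ?_, ?_⟩
    · refine ((isConj_iff.mpr ⟨x⁻¹, by rw [inv_inv]⟩ : IsConj t (x⁻¹ * t * x)).trans
        (D.hyp.isConj_of_outside hxN hxP (mul_mem hxN (Subgroup.le_normalizer hs)) fun e => hxP ?_)).trans
        (isConj_iff.mpr ⟨x, by group⟩)
      simpa using mul_mem e (inv_mem hs)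
    · rw [← mul_assoc t t, htt, one_mul]
      exact isConj_iff.mpr ⟨x, rfl⟩
  have hsur : ∀ g ∈ A, ∃ x ∈ S, t * (x * s * x⁻¹) = g := by
    intro g hg
    obtain ⟨-, hg1, hg2⟩ := Finset.mem_filter.mp hg
    obtain ⟨x, hx⟩ := isConj_iff.mp hg2
    have hgx : t * (x * s * x⁻¹) = g := by rw [hx, ← mul_assoc, htt, one_mul]
    have hgg : g * g = 1 := by
      obtain ⟨w, rfl⟩ := isConj_iff.mp hg1
      rw [show w * t * w⁻¹ * (w * t * w⁻¹) = w * (t * t) * w⁻¹ by group, htt]; group
    set u := x⁻¹ * t * x with hu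
    have huu : u * u = 1 := by
      rw [hu, show x⁻¹ * t * x * (x⁻¹ * t * x) = x⁻¹ * (t * t) * x by group, htt]; group
    have hus : u * s * u⁻¹ = s⁻¹ := by
      have h2 : (u * s) * (u * s) = 1 := by
        rw [hu, show x⁻¹ * t * x * s * (x⁻¹ * t * x * s) =
          x⁻¹ * ((t * (x * s * x⁻¹)) * (t * (x * s * x⁻¹))) * x by group, hgx, hgg]
        group
      calc u * s * u⁻¹ = u * s * (u * s) * (s⁻¹ * u⁻¹ * u⁻¹) := by group
        _ = s⁻¹ := by rw [h2, one_mul, mul_assoc, ← mul_inv_rev u u, huu]; group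
    refine ⟨x, Finset.mem_filter.mpr ⟨Finset.mem_univ _, ?_, ?_⟩, hgx⟩
    · have := D.hyp.inv_mem_normalizer_of_conj hs hs1 (x := u⁻¹) (by
        rw [inv_inv, hus]; exact inv_mem hs)
      simpa using inv_mem this
    · intro huP
      rw [D.hyp.comm huP hs, mul_inv_cancel_right] at hus
      have e2 : s ^ 2 = 1 := by rw [pow_two]; nth_rewrite 2 [hus]; exact mul_inv_cancel s
      haveI : Fact p.Prime := ⟨D.hyp.prime⟩
      have ho := orderOf_dvd_of_pow_eq_one e2
      rw [orderOf_eq_prime (D.hyp.pow_p hs) hs1] at ho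
      exact D.hyp.odd ((Nat.prime_dvd_prime_iff_eq D.hyp.prime Nat.prime_two).mp ho)
  have hSA : S.card = A.card * p := by
    rw [Finset.card_eq_sum_card_fiberwise (f := fun x => t * (x * s * x⁻¹)) (t := A) hmaps,
      Finset.sum_congr rfl (g := fun _ => p) fun g hg => ?_, Finset.sum_const, smul_eq_mul]
    obtain ⟨x₀, hx₀, rfl⟩ := hsur g hg
    rw [← D.hyp.card, Nat.card_eq_fintype_card, ← Finset.card_univ]
    refine Finset.card_bij' (fun x hx => (⟨x₀⁻¹ * x, ?_⟩ : P)) (fun y _ => x₀ * (y : G))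
      (fun x hx => Finset.mem_univ _) (fun y _ => ?_) (fun x _ => by simp) (fun y _ => by simp)
    · have e := mul_left_cancel (Finset.mem_filter.mp hx).2
      rw [← D.hyp.centralizer_eq hs hs1, Subgroup.mem_centralizer_singleton_iff]
      calc x₀⁻¹ * x * s = x₀⁻¹ * (x * s * x⁻¹) * x := by group
        _ = s * (x₀⁻¹ * x) := by rw [e]; group
    · have hcy := D.hyp.comm y.2 hs
      obtain ⟨hxN, hxP⟩ := (Finset.mem_filter.mp hx₀).2
      refine Finset.mem_filter.mpr ⟨Finset.mem_filter.mpr ⟨Finset.mem_univ _, ?_, ?_⟩, ?_⟩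
      · rw [show (x₀ * (y : G))⁻¹ * t * (x₀ * y) = (y : G)⁻¹ * (x₀⁻¹ * t * x₀) * y by group]
        exact mul_mem (mul_mem (inv_mem (Subgroup.le_normalizer y.2)) hxN) (Subgroup.le_normalizer y.2)
      · rw [show (x₀ * (y : G))⁻¹ * t * (x₀ * y) = (y : G)⁻¹ * (x₀⁻¹ * t * x₀) * y by group]
        intro e
        exact hxP (by simpa [mul_assoc] using mul_mem (mul_mem y.2 e) (inv_mem y.2))
      · congr 1
        calc x₀ * (y : G) * s * (x₀ * y)⁻¹ = x₀ * ((y : G) * s * (y : G)⁻¹) * x₀⁻¹ := by group
          _ = _ := by rw [hcy, mul_inv_cancel_right]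
  have hSc : S.card = p * c := by
    set U := Finset.univ.filter (fun u : G => u ∈ Subgroup.normalizer (P : Set G) ∧ u ∉ P)
    have hUc : U.card = p := by
      have hN : (Finset.univ.filter fun x : G => x ∈ Subgroup.normalizer (P : Set G)).card = 2 * p := by
        rw [← Fintype.card_subtype, ← D.hyp.norm, Nat.card_eq_fintype_card]
      have hs' := Finset.card_filter_add_card_filter_not
        (s := Finset.univ.filter fun x : G => x ∈ Subgroup.normalizer (P : Set G)) (fun x : G => x ∈ P)
      rw [Finset.filter_filter, Finset.filter_filter, hN] at hs'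
      have hP' : (Finset.univ.filter fun x : G => x ∈ Subgroup.normalizer (P : Set G) ∧ x ∈ P).card = p := by
        rw [← Fintype.card_subtype, ← D.hyp.card, Nat.card_eq_fintype_card]
        exact Fintype.card_congr (Equiv.subtypeEquivRight fun x =>
          ⟨fun e => e.2, fun e => ⟨Subgroup.le_normalizer e, e⟩⟩)
      rw [hP'] at hs'
      show (Finset.univ.filter _).card = p
      omega
    rw [Finset.card_eq_sum_card_fiberwise (f := fun x => x⁻¹ * t * x) (t := U)
      (fun x hx => Finset.mem_filter.mpr ⟨Finset.mem_univ _, (Finset.mem_filter.mp hx).2⟩),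
      Finset.sum_congr rfl (g := fun _ => c) fun u hu => ?_, Finset.sum_const, smul_eq_mul, hUc]
    obtain ⟨g, hg⟩ := hAne
    obtain ⟨x₁, hx₁, -⟩ := hsur g hg
    obtain ⟨huN, huP⟩ := (Finset.mem_filter.mp hu).2
    obtain ⟨h1N, h1P⟩ := (Finset.mem_filter.mp hx₁).2
    obtain ⟨w, hw⟩ := isConj_iff.mp (D.hyp.isConj_of_outside h1N h1P huN huP)
    set x₂ := x₁ * w⁻¹ with hx₂
    have hx₂u : x₂⁻¹ * t * x₂ = u := by rw [hx₂, ← hw]; group
    show _ = c
    rw [show c = Fintype.card (Subgroup.centralizer ({t} : Set G)) from Nat.card_eq_fintype_card,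
      ← Finset.card_univ]
    refine Finset.card_bij' (fun x hx => (⟨x * x₂⁻¹, ?_⟩ : Subgroup.centralizer ({t} : Set G)))
      (fun k _ => (k : G) * x₂) (fun x hx => Finset.mem_univ _) (fun k _ => ?_)
      (fun x _ => by simp) (fun k _ => by simp)
    · have e := (Finset.mem_filter.mp hx).2
      rw [Subgroup.mem_centralizer_singleton_iff]
      calc x * x₂⁻¹ * t = x * (x₂⁻¹ * t * x₂) * x₂⁻¹ := by group
        _ = t * (x * x₂⁻¹) := by rw [hx₂u, ← e]; group
    · have hk : (k : G) * t = t * k := Subgroup.mem_centralizer_singleton_iff.mp k.2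
      have e : ((k : G) * x₂)⁻¹ * t * ((k : G) * x₂) = u := by
        rw [show ((k : G) * x₂)⁻¹ * t * ((k : G) * x₂) = x₂⁻¹ * ((k : G)⁻¹ * (t * k)) * x₂ by group,
          ← hk, inv_mul_cancel_left, hx₂u]
      refine Finset.mem_filter.mpr ⟨Finset.mem_filter.mpr ⟨Finset.mem_univ _, ?_⟩, e⟩
      show ((k : G) * x₂)⁻¹ * t * ((k : G) * x₂) ∈ _ ∧ ((k : G) * x₂)⁻¹ * t * ((k : G) * x₂) ∉ P
      rw [e]; exact ⟨huN, huP⟩
  have hAc : A.card = c := Nat.eq_of_mul_eq_mul_right D.hyp.prime.pos (by rw [← hSA, hSc, mul_comm])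
  rw [hAc] at key
  have key' : p * c * (p - 2) = kt * (p - 1) := by
    have : ((p * c * (p - 2) : ℕ) : ℂ) = ((kt * (p - 1) : ℕ) : ℂ) := by
      push_cast [Nat.cast_sub (show 2 ≤ p by omega), Nat.cast_sub D.hyp.prime.one_le]
      linear_combination key
    exact_mod_cast this
  calc Nat.card G * (p - 1) = kt * (p - 1) * c := by rw [← hkc]; ring
    _ = _ := by rw [← key']; ring

/-- With rational values, the order of the group is determined. -/
theorem order (hrat : ∀ j : ℕ, j.Coprime (Nat.card G) → ∀ g : G, θ (g ^ j) = θ g) :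
    Nat.card G = p * (p - 1) * (p - 2) ∧ ∃ n : ℕ, p - 1 = 2 ^ n := by
  classical
  have hp3 : 3 ≤ p := by
    have := D.hyp.prime.two_le; have := D.hyp.odd; omega
  haveI : Fact p.Prime := ⟨D.hyp.prime⟩
  have hG0 : Nat.card G ≠ 0 := Nat.card_pos.ne'
  haveI : Fact (Nat.Prime 2) := ⟨Nat.prime_two⟩
  have h2G : 2 ∣ Nat.card G := by
    have := Subgroup.card_subgroup_dvd_card (Subgroup.normalizer (P : Set G))
    rw [D.hyp.norm] at this
    exact (dvd_mul_right 2 p).trans this
  -- odd primes other than `p`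
  have hodd : ∀ r : ℕ, r.Prime → r ≠ 2 → r ≠ p → r ^ (Nat.card G).factorization r ∣ p - 2 := by
    intro r hr hr2 hrp
    haveI : Fact r.Prime := ⟨hr⟩
    obtain ⟨R⟩ : Nonempty (Sylow r G) := inferInstance
    haveI := Fintype.ofFinite (R : Subgroup G)
    rw [← R.card_eq_multiplicity]
    have hv : ∀ y : (R : Subgroup G), y ≠ 1 → θ y = 1 := by
      intro y hy
      obtain ⟨b, hb⟩ := (IsPGroup.iff_orderOf.mp R.2) y
      have hyo : orderOf (y : G) = r ^ b := by rw [Subgroup.orderOf_coe, hb]
      have hcp : Nat.Coprime 2 (r ^ b) :=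
        Nat.Coprime.pow_right b ((Nat.coprime_primes Nat.prime_two hr).mpr (Ne.symm hr2))
      have hid := D.identity (g := (y : G)) (fun x hx => by
        have hd : orderOf (x⁻¹ * (y : G) * x) ∣ p := orderOf_dvd_of_pow_eq_one (D.hyp.pow_p hx)
        rw [show x⁻¹ * (y : G) * x = (MulAut.conj x⁻¹) (y : G) by simp, MulEquiv.orderOf_eq, hyo] at hd
        have h1 : r ^ b = 1 := Nat.eq_one_of_dvd_coprimes
          (Nat.Coprime.pow_left b ((Nat.coprime_primes hr D.hyp.prime).mpr hrp)) dvd_rfl hd
        exact orderOf_eq_one_iff.mp (hyo.trans h1))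
      have hdvd : orderOf (y : G) ∣ Nat.card G := orderOf_dvd_natCard _
      obtain ⟨v, hv⟩ := ZMod.unitsMap_surjective hdvd (ZMod.unitOfCoprime 2 (hyo ▸ hcp))
      have hjc : (v : ZMod (Nat.card G)).val.Coprime (Nat.card G) := ZMod.val_coe_unit_coprime v
      have hyj : (y : G) ^ (v : ZMod (Nat.card G)).val = (y : G) * y := by
        rw [← pow_two, pow_eq_pow_iff_modEq, ← ZMod.natCast_eq_natCast_iff]
        have hh := congrArg (fun w : (ZMod (orderOf (y : G)))ˣ => (w : ZMod (orderOf (y : G)))) hv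
        simp only [ZMod.unitsMap_val, ZMod.coe_unitOfCoprime] at hh
        rw [← hh]
        haveI : NeZero (Nat.card G) := ⟨hG0⟩
        exact ZMod.natCast_val _
      rw [← hyj, hrat _ hjc] at hid
      have e : (θ (y : G) - 1) * (θ (y : G) - ((p : ℂ) - 1)) = 0 := by linear_combination hid
      rcases mul_eq_zero.mp e with h0 | h0
      · exact sub_eq_zero.mp h0
      · exact absurd (Subtype.ext (hf y (by rw [D.one]; exact sub_eq_zero.mp h0)) : y = 1) hy
    obtain ⟨m, hm⟩ := CT.classInner_character_nat (CT.isCharacter_restrict (R : Subgroup G)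
      (CT.isCharacter_of_isIrr D.irr)) (CT.isCharacter_one (G := (R : Subgroup G)))
    simp only [classInner, map_one, mul_one] at hm
    rw [← Finset.add_sum_erase _ _ (Finset.mem_univ (1 : (R : Subgroup G))),
      Finset.sum_congr rfl fun y hy => hv y (Finset.ne_of_mem_erase hy), Finset.sum_const, nsmul_one,
      Finset.card_erase_of_mem (Finset.mem_univ _), Finset.card_univ, OneMemClass.coe_one, D.one,
      ← Nat.card_eq_fintype_card] at hm
    set n := Nat.card (R : Subgroup G)
    have hn : 0 < n := Nat.card_pos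
    have hn0 : (n : ℂ) ≠ 0 := Nat.cast_ne_zero.mpr hn.ne'
    rw [inv_mul_eq_iff_eq_mul₀ hn0] at hm
    have : (p - 1 + (n - 1) : ℕ) = n * m := by
      have : (((p - 1 + (n - 1) : ℕ)) : ℂ) = ((n * m : ℕ) : ℂ) := by
        push_cast [Nat.cast_sub D.hyp.prime.one_le]
        exact_mod_cast hm
      exact_mod_cast this
    refine (Nat.dvd_add_left (dvd_refl n)).mp ⟨m, ?_⟩
    omega
  -- a central involution of a Sylow subgroup
  obtain ⟨T⟩ : Nonempty (Sylow 2 G) := inferInstance
  haveI : Nontrivial (T : Subgroup G) := by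
    rw [← Finite.one_lt_card_iff_nontrivial, T.card_eq_multiplicity]
    exact Nat.one_lt_pow (Nat.prime_two.factorization_pos_of_dvd hG0 h2G).ne' one_lt_two
  obtain ⟨z, hzo⟩ := exists_prime_orderOf_dvd_card' (G := Subgroup.center (T : Subgroup G)) 2
    (by
      haveI := IsPGroup.center_nontrivial T.2
      obtain ⟨k, hk, hk'⟩ := (T.2.to_subgroup (Subgroup.center (T : Subgroup G))).nontrivial_iff_card.mp
        inferInstance
      rw [hk']; exact dvd_pow_self 2 hk.ne')
  set t : G := ((z : (T : Subgroup G)) : G)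
  have ht : orderOf t = 2 := by rw [Subgroup.orderOf_coe, Subgroup.orderOf_coe, hzo]
  have hTC : (T : Subgroup G) ≤ Subgroup.centralizer ({t} : Set G) := fun w hw => by
    rw [Subgroup.mem_centralizer_singleton_iff]
    exact congrArg Subtype.val (Subgroup.mem_center_iff.mp z.2 ⟨w, hw⟩)
  have hf2 := D.card_formula hf ht
  set c := Nat.card (Subgroup.centralizer ({t} : Set G))
  have hc0 : c ≠ 0 := Nat.card_pos.ne'
  have hcdvd : c ∣ Nat.card G := Subgroup.card_subgroup_dvd_card _
  have hp1 : p - 1 ≠ 0 := by omega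
  have hp20 : p - 2 ≠ 0 := by omega
  have hfac : ∀ r, (Nat.card G).factorization r + (p - 1).factorization r =
      p.factorization r + (p - 2).factorization r + 2 * c.factorization r := by
    intro r
    have := congrArg (fun k => k.factorization r) hf2
    simp only [Nat.factorization_mul hG0 hp1, Nat.factorization_mul (mul_ne_zero D.hyp.prime.ne_zero hp20)
      (pow_ne_zero 2 hc0), Nat.factorization_mul D.hyp.prime.ne_zero hp20, Nat.factorization_pow,
      Finsupp.add_apply, Finsupp.smul_apply, smul_eq_mul] at this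
    exact this
  have hpf : ∀ r, p.factorization r = if p = r then 1 else 0 := fun r => by
    rw [D.hyp.prime.factorization, Finsupp.single_apply]
  have hsame : ∀ r, r ≠ 2 → (p - 1).factorization r = 0 := by
    intro r hr2
    by_cases hr : r.Prime
    swap; · exact Nat.factorization_eq_zero_of_not_prime _ hr
    by_cases hrp : r = p
    · subst hrp
      exact Nat.factorization_eq_zero_of_lt (by omega)
    have hle : (Nat.card G).factorization r ≤ (p - 2).factorization r :=
      (hr.pow_dvd_iff_le_factorization hp20).mp (hodd r hr hr2 hrp)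
    by_cases hr1 : r ∣ p - 1
    · have : ¬ r ∣ p - 2 := fun h2 => hr.one_lt.ne' (Nat.dvd_one.mp (by
        have := Nat.dvd_sub hr1 h2
        rwa [show p - 1 - (p - 2) = 1 by omega] at this))
      have h0 := Nat.factorization_eq_zero_of_not_dvd this
      have hc' : c.factorization r ≤ (Nat.card G).factorization r :=
        (Nat.factorization_le_iff_dvd hc0 hG0).mpr hcdvd r
      have := hfac r
      rw [hpf, if_neg (Ne.symm hrp)] at this
      omega
    · exact Nat.factorization_eq_zero_of_not_dvd hr1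
  have h2 : c.factorization 2 = (Nat.card G).factorization 2 := by
    refine le_antisymm ((Nat.factorization_le_iff_dvd hc0 hG0).mpr hcdvd 2) ?_
    refine (Nat.prime_two.pow_dvd_iff_le_factorization hc0).mp ?_
    rw [← T.card_eq_multiplicity]
    exact Subgroup.card_dvd_of_le hTC
  refine ⟨?_, (p - 1).factorization 2, Nat.eq_pow_of_factorization_eq_single hp1 ?_⟩
  · refine Nat.eq_of_factorization_eq hG0 (by positivity) fun r => ?_
    rw [Nat.factorization_mul (mul_ne_zero D.hyp.prime.ne_zero hp1) hp20,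
      Nat.factorization_mul D.hyp.prime.ne_zero hp1, Finsupp.add_apply, Finsupp.add_apply]
    have := hfac r
    by_cases hr2 : r = 2
    · subst hr2
      have h20 : (p - 2).factorization 2 = 0 := Nat.factorization_eq_zero_of_not_dvd fun h => by
        obtain ⟨k, hk⟩ := D.hyp.prime.odd_of_ne_two D.hyp.odd
        omega
      rw [hpf, if_neg D.hyp.odd] at this ⊢
      omega
    · have h1 := hsame r hr2
      have hc' : c.factorization r ≤ (Nat.card G).factorization r :=
        (Nat.factorization_le_iff_dvd hc0 hG0).mpr hcdvd r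
      by_cases hr : r.Prime
      · by_cases hrp : r = p
        · subst hrp
          have hcz : c.factorization r = 0 :=
            Nat.factorization_eq_zero_of_not_dvd (D.hyp.not_dvd_centralizer ht)
          have h20 : (r - 2).factorization r = 0 := Nat.factorization_eq_zero_of_lt (by omega)
          rw [hpf, if_pos rfl] at this ⊢
          omega
        · have hle : (Nat.card G).factorization r ≤ (p - 2).factorization r :=
            (hr.pow_dvd_iff_le_factorization hp20).mp (hodd r hr hr2 hrp)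
          rw [hpf, if_neg (Ne.symm hrp)] at this ⊢
          omega
      · simp [Nat.factorization_eq_zero_of_not_prime _ hr] at this ⊢
  · ext r
    rw [Finsupp.single_apply]
    split_ifs with e
    · rw [← e]
    · exact hsame r (Ne.symm e)

end CharData

end Cfsg.Agent.PermGp.PrimeTwoP
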