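import Cfsg.Agent.Lib.PermGp.PermChar
import Mathlib.LinearAlgebra.Matrix.Charpoly.Eigs
import Mathlib.LinearAlgebra.Eigenspace.Zero
import Mathlib.LinearAlgebra.Eigenspace.Charpoly
import Mathlib.LinearAlgebra.Charpoly.ToMatrix

/-! Permutation characters of transitive groups: rank and subdegrees. -/

set_option autoImplicit false
set_option linter.unusedSectionVars false

namespace Cfsg.Agent.PermGp

open scoped ComplexConjugate
open Representation Module Cfsg.Agent.CT

universe u v

variable {G : Type u} [Group G] [Fintype G] {Ω : Type v} [Fintype Ω] [MulAction G Ω]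

theorem isCharacter_permChar : IsCharacter G (permChar G Ω) := isCharacter_perm Ω

theorem permChar_one : permChar G Ω 1 = (Fintype.card Ω : ℂ) := by
  rw [permChar, show MulAction.fixedBy Ω (1 : G) = Set.univ from
    Set.eq_univ_iff_forall.mpr fun x => one_smul G x]
  simp [Nat.card_eq_fintype_card]

theorem sum_permChar (G : Type u) [Group G] [Fintype G] (Ω : Type v) [Fintype Ω] [MulAction G Ω] :
    ∑ g : G, permChar G Ω g = ((Nat.card G * Nat.card (MulAction.orbitRel.Quotient G Ω) : ℕ) : ℂ) := by
  classical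
  have h := MulAction.sum_card_fixedBy_eq_card_orbits_mul_card_group G Ω
  simp only [permChar, Nat.card_eq_fintype_card]
  rw [← Nat.cast_sum, h, mul_comm]

theorem classInner_permChar_one [MulAction.IsPretransitive G Ω] [Nonempty Ω] :
    classInner (permChar G Ω) (fun _ => 1) = 1 := by
  classical
  have : Subsingleton (MulAction.orbitRel.Quotient G Ω) :=
    (MulAction.pretransitive_iff_subsingleton_quotient G Ω).mp ‹_›
  have hq : Nat.card (MulAction.orbitRel.Quotient G Ω) = 1 := Nat.card_eq_one_iff_unique.mpr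
    ⟨this, ⟨Quotient.mk'' (Classical.arbitrary Ω)⟩⟩
  simp only [classInner, map_one, mul_one]
  rw [sum_permChar, hq, mul_one, inv_mul_cancel₀ card_ne_zero]

/-- The norm of the permutation character is the rank. -/
theorem classInner_permChar_self [MulAction.IsPretransitive G Ω] (a : Ω) :
    classInner (permChar G Ω) (permChar G Ω) =
      (Nat.card (MulAction.orbitRel.Quotient (MulAction.stabilizer G a) Ω) : ℂ) := by
  classical
  have : Nonempty Ω := ⟨a⟩
  have hreal : ∀ g, conj (permChar G Ω g) = permChar G Ω g := fun g => by simp [permChar]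
  simp only [classInner, hreal]
  have hpt : ∀ x : Ω, ∑ g : G, (if g • x = x then permChar G Ω g else 0) =
      ∑ g : G, (if g • a = a then permChar G Ω g else 0) := by
    intro x
    obtain ⟨k, rfl⟩ := MulAction.exists_smul_eq G a x
    refine (Fintype.sum_equiv (MulAut.conj k).toEquiv _ _ fun g => ?_).symm
    show _ = if (k * g * k⁻¹) • (k • a) = k • a then _ else _
    refine if_congr ?_ ?_ rfl
    · rw [mul_smul, mul_smul, inv_smul_smul, smul_left_cancel_iff]
    · exact (isClassFunction_of_isCharacter isCharacter_permChar g k).symm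
  have hexp : ∀ g : G, permChar G Ω g * permChar G Ω g =
      ∑ x : Ω, if g • x = x then permChar G Ω g else 0 := fun g => by
    rw [← Finset.sum_filter, Finset.sum_const, nsmul_eq_mul]
    congr 1
    simp [permChar, Nat.card_eq_fintype_card, ← Fintype.card_subtype]
  rw [Finset.sum_congr rfl fun g _ => hexp g, Finset.sum_comm, Finset.sum_congr rfl fun x _ => hpt x,
    Finset.sum_const, nsmul_eq_mul, ← Finset.sum_filter,
    Finset.sum_subtype (Finset.univ.filter fun g : G => g • a = a)
      (p := fun g => g ∈ MulAction.stabilizer G a) (fun g => by simp [MulAction.mem_stabilizer_iff])]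
  have h2 := sum_permChar (MulAction.stabilizer G a) Ω
  rw [show ∑ g : MulAction.stabilizer G a, permChar G Ω g =
    ∑ g : MulAction.stabilizer G a, permChar (MulAction.stabilizer G a) Ω g from rfl, h2]
  have hc : (Finset.univ : Finset Ω).card * Nat.card (MulAction.stabilizer G a) = Nat.card G := by
    rw [Finset.card_univ, ← Nat.card_eq_fintype_card, ← MulAction.index_stabilizer_of_transitive G a,
      Subgroup.index_mul_card]
  have hc' : ((Finset.univ : Finset Ω).card : ℂ) * (Nat.card (MulAction.stabilizer G a) : ℂ) = Nat.card G := by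
    exact_mod_cast hc
  rw [Nat.cast_mul, ← mul_assoc ((Finset.univ : Finset Ω).card : ℂ), hc', ← mul_assoc,
    inv_mul_cancel₀ card_ne_zero, one_mul]

/-- The hypothesis that all non-principal constituents have degree divisible by `f`. -/
def DegreesDvd (G : Type u) [Group G] [Fintype G] (Ω : Type v) [MulAction G Ω] (f : ℕ) : Prop :=
  ∀ χ : G → ℂ, IsIrrCharacter G χ → χ ≠ (fun _ => 1) → classInner (permChar G Ω) χ ≠ 0 →
    ∃ m : ℕ, χ 1 = (f : ℂ) * m

theorem exists_deg_eq_of_le {f : ℕ} (hf : DegreesDvd G Ω f) {θ : G → ℂ} (hθ : IsCharacter G θ)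
    (hsub : ∀ χ : IrrCharacter G, classInner θ χ ≠ 0 → classInner (permChar G Ω) χ ≠ 0) :
    ∃ k : ℕ, deg θ = mult θ (fun _ : G => (1 : ℂ)) + f * k := by
  classical
  have hdvd : ∀ χ : IrrCharacter G, χ ≠ trivIrr G → f ∣ mult θ χ * deg (χ : G → ℂ) := by
    intro χ hne
    by_cases h0 : mult θ χ = 0
    · simp [h0]
    have h1 : classInner (permChar G Ω) χ ≠ 0 := hsub χ (by
      rw [mult_spec hθ (isCharacter_of_isIrr χ.2)]; exact_mod_cast h0)
    obtain ⟨m, hm⟩ := hf χ χ.2 (fun e => hne (Subtype.ext e)) h1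
    rw [deg_eq (isCharacter_of_isIrr χ.2)] at hm
    have : deg (χ : G → ℂ) = f * m := by exact_mod_cast hm
    exact Dvd.dvd.mul_left ⟨m, this⟩ _
  have h := congrFun (character_eq_sum hθ) 1
  rw [deg_eq hθ, Finset.sum_apply] at h
  simp only [Pi.smul_apply, smul_eq_mul] at h
  rw [Finset.sum_congr rfl fun c _ => by rw [deg_eq (isCharacter_of_isIrr c.2)]] at h
  have h' : deg θ = ∑ c : IrrCharacter G, mult θ c * deg (c : G → ℂ) := by exact_mod_cast h
  rw [← Finset.add_sum_erase _ _ (Finset.mem_univ (trivIrr G))] at h'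
  obtain ⟨k, hk⟩ := Finset.dvd_sum (s := Finset.univ.erase (trivIrr G))
    fun c hc => hdvd c (Finset.ne_of_mem_erase hc)
  refine ⟨k, ?_⟩
  rw [h', hk, show deg (trivIrr G : G → ℂ) = 1 by simp [deg], mul_one]
  rfl

theorem trivial_character : (Representation.trivial ℂ G ℂ).character = fun _ => (1 : ℂ) := funext fun g => by
  show LinearMap.trace ℂ ℂ _ = 1
  rw [show Representation.trivial ℂ G ℂ g = LinearMap.id from LinearMap.ext fun x => by simp,
    LinearMap.trace_id, Module.finrank_self, Nat.cast_one]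

theorem classInner_restrict_one_ne_zero_iff [MulAction.IsPretransitive G Ω] (U : Submodule ℂ (Ω → ℂ))
    (hU : ∀ g, ∀ v ∈ U, CT.permRep G Ω g v ∈ U) [Nonempty Ω] :
    classInner (restrictSub (CT.permRep G Ω) U hU).character (fun _ => 1) ≠ 0 ↔
      (fun _ => (1 : ℂ)) ∈ U := by
  rw [← trivial_character (G := G)]
  constructor
  · intro h
    obtain ⟨φ, hφ0, hφ⟩ := exists_intertwining _ _ h
    set w := φ 1 with hw
    have hfix : ∀ g, CT.permRep G Ω g (w : Ω → ℂ) = w := fun g => by
      have h1 := congrArg Subtype.val (hφ g 1)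
      rw [show Representation.trivial ℂ G ℂ g 1 = 1 by simp] at h1
      exact h1.symm
    obtain ⟨x₀⟩ := ‹Nonempty Ω›
    have hconst : (w : Ω → ℂ) = (w : Ω → ℂ) x₀ • (fun _ => (1 : ℂ)) := funext fun x => by
      obtain ⟨g, rfl⟩ := MulAction.exists_smul_eq G x₀ x
      have h1 := congrFun (hfix g) (g • x₀)
      rw [permRep_apply, inv_smul_smul] at h1
      simp [h1]
    have hne : (w : Ω → ℂ) x₀ ≠ 0 := fun e => hφ0 (LinearMap.ext_ring (Subtype.ext (by
      show (w : Ω → ℂ) = 0
      rw [hconst, e, zero_smul])))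
    have h2 := U.smul_mem ((w : Ω → ℂ) x₀)⁻¹ w.2
    nth_rewrite 2 [hconst] at h2
    rwa [smul_smul, inv_mul_cancel₀ hne, one_smul] at h2
  · intro h e
    have h1 := intertwining_eq_zero _ _ e (LinearMap.toSpanSingleton ℂ U ⟨_, h⟩) fun g c => by
      apply Subtype.ext
      simp [Subrepresentation.toRepresentation]
      funext x
      simp [permRep_apply]
    have h2 := congrArg (fun z : U => (z : Ω → ℂ) (Classical.arbitrary Ω)) (LinearMap.congr_fun h1 1)
    simp at h2

/-- A common divisor of the degrees of the non-principal constituents divides all subdegrees. -/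
theorem dvd_subdegree [MulAction.IsPretransitive G Ω] {f : ℕ} (hf : DegreesDvd G Ω f) {a b : Ω}
    (hab : b ≠ a) : f ∣ Nat.card (MulAction.orbit (MulAction.stabilizer G a) b) := by
  classical
  have : Nonempty Ω := ⟨a⟩
  set l := Nat.card (MulAction.orbit (MulAction.stabilizer G a) b) with hl
  let N : Matrix Ω Ω ℤ := fun x y => if ∃ g : G, g • a = x ∧ g • b = y then 1 else 0
  set M : Matrix Ω Ω ℂ := N.map (Int.castRingHom ℂ) with hM
  have hNinv : ∀ (g : G) (x y : Ω), N (g • x) (g • y) = N x y := fun g x y => by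
    refine if_congr ⟨?_, ?_⟩ rfl rfl
    · rintro ⟨k, hk1, hk2⟩
      exact ⟨g⁻¹ * k, by rw [mul_smul, hk1, inv_smul_smul], by rw [mul_smul, hk2, inv_smul_smul]⟩
    · rintro ⟨k, hk1, hk2⟩
      exact ⟨g * k, by rw [mul_smul, hk1], by rw [mul_smul, hk2]⟩
  have hMinv : IsInvMatrix G M := fun g x y => by simp [hM, hNinv]
  have hT := commute_toLin' hMinv
  set T := Matrix.toLin' M with hTdef
  have hdiag : M.trace = 0 := Finset.sum_eq_zero fun x _ => by
    have : N x x = 0 := if_neg fun ⟨g, h1, h2⟩ => hab (MulAction.injective g (h2.trans h1.symm))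
    simp [hM, this]
  have hrow : ∀ x, ∑ y, M x y = (l : ℂ) := by
    intro x
    obtain ⟨k, rfl⟩ := MulAction.exists_smul_eq G a x
    rw [← Fintype.sum_equiv (MulAction.toPerm k) (fun y => M a y) _ fun y => (hMinv k a y).symm]
    have e : ∀ y, M a y = if y ∈ MulAction.orbit (MulAction.stabilizer G a) b then 1 else 0 := fun y => by
      have : (∃ g : G, g • a = a ∧ g • b = y) ↔ y ∈ MulAction.orbit (MulAction.stabilizer G a) b :=
        ⟨fun ⟨g, h1, h2⟩ => ⟨⟨g, h1⟩, h2⟩, fun ⟨⟨g, h1⟩, h2⟩ => ⟨g, h1, h2⟩⟩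
      by_cases hy : y ∈ MulAction.orbit (MulAction.stabilizer G a) b
      · rw [if_pos hy, hM, Matrix.map_apply, show N a y = 1 from if_pos (this.mpr hy)]; simp
      · rw [if_neg hy, hM, Matrix.map_apply, show N a y = 0 from if_neg (fun hh => hy (this.mp hh))]; simp
    rw [Finset.sum_congr rfl fun y _ => e y, Finset.sum_boole, hl, Nat.card_eq_fintype_card,
      ← Fintype.card_subtype]
  have hone : Module.End.HasEigenvector T (l : ℂ) (fun _ => 1) := by
    refine ⟨Module.End.mem_eigenspace_iff.mpr (funext fun x => ?_), fun e => one_ne_zero (congrFun e a)⟩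
    simpa [hTdef, Matrix.mulVec, dotProduct] using hrow x
  have hlroot : M.charpoly.IsRoot (l : ℂ) := by
    rw [← Matrix.charpoly_toLin']
    exact (Module.End.hasEigenvalue_iff_isRoot_charpoly T l).mp (Module.End.hasEigenvalue_of_hasEigenvector hone)
  have hmon := M.charpoly_monic.ne_zero
  set R := M.charpoly.roots.toFinset
  have hlR : (l : ℂ) ∈ R := by rw [Multiset.mem_toFinset, Polynomial.mem_roots hmon]; exact hlroot
  have hint : ∀ μ ∈ R, IsIntegral ℤ μ := by
    intro μ hμ
    rw [Multiset.mem_toFinset, Polynomial.mem_roots hmon, hM, Matrix.charpoly_map] at hμ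
    refine ⟨N.charpoly, N.charpoly_monic, ?_⟩
    rw [← Polynomial.eval_map]
    exact hμ
  have hdim : ∀ μ : ℂ, ∃ k : ℕ, M.charpoly.rootMultiplicity μ = (if μ = (l : ℂ) then 1 else 0) + f * k := by
    intro μ
    set U := Module.End.maxGenEigenspace T μ
    have hU : ∀ g, ∀ v ∈ U, CT.permRep G Ω g v ∈ U := fun g v hv =>
      Module.End.mapsTo_maxGenEigenspace_of_comm (LinearMap.ext fun w => hT g w) μ hv
    obtain ⟨U', hc, hU'⟩ := exists_isCompl_invariant (CT.permRep G Ω) U hU
    set θ := (restrictSub (CT.permRep G Ω) U hU).character with hθdef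
    have hθ : IsCharacter G θ := isCharacter_character _
    have hθ' := isCharacter_character (restrictSub (CT.permRep G Ω) U' hU')
    have hpi : permChar G Ω = θ + (restrictSub (CT.permRep G Ω) U' hU').character := by
      rw [← character_permRep, char_isCompl _ hc hU hU']
    obtain ⟨k, hk⟩ := exists_deg_eq_of_le hf hθ fun χ hne e => by
      rw [hpi, classInner_add_left] at e
      obtain ⟨i, hi⟩ := classInner_character_nat hθ (isCharacter_of_isIrr χ.2)
      obtain ⟨j, hj⟩ := classInner_character_nat hθ' (isCharacter_of_isIrr χ.2)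
      rw [hi, hj] at e
      rw [hi] at hne
      norm_cast at e hne
      omega
    refine ⟨k, ?_⟩
    rw [← Matrix.charpoly_toLin', ← hTdef, ← LinearMap.finrank_maxGenEigenspace_eq,
      ← deg_eq_finrank (restrictSub (CT.permRep G Ω) U hU), ← hθdef, hk]
    congr 1
    have hspec : classInner θ (fun _ => 1) = (mult θ (fun _ : G => (1 : ℂ)) : ℂ) := mult_spec hθ isCharacter_one
    have hle : mult θ (fun _ : G => (1 : ℂ)) ≤ 1 := by
      obtain ⟨j, hj⟩ := classInner_character_nat hθ' (isCharacter_one (G := G))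
      have e := classInner_permChar_one (G := G) (Ω := Ω)
      rw [hpi, classInner_add_left, hspec, hj] at e
      norm_cast at e
      omega
    have hiff := classInner_restrict_one_ne_zero_iff U hU
    rw [← hθdef, hspec, Nat.cast_ne_zero] at hiff
    have hmem : (fun _ => (1 : ℂ)) ∈ Module.End.maxGenEigenspace T (l : ℂ) :=
      Module.End.eigenspace_le_maxGenEigenspace hone.1
    split_ifs with hμ
    · subst hμ
      have := hiff.mpr hmem
      omega
    · by_contra hne
      have hd := (Module.End.independent_maxGenEigenspace T).pairwiseDisjoint hμ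
      exact one_ne_zero (congrFun (Submodule.disjoint_def.mp hd _ (hiff.mp hne) hmem) a)
  choose k hk using hdim
  have htr : (l : ℂ) + (f : ℂ) * ∑ μ ∈ R, (k μ : ℂ) * μ = 0 := by
    rw [← hdiag, Matrix.trace_eq_sum_roots_charpoly, Finset.sum_multiset_count, Finset.mul_sum]
    have : ∀ μ ∈ R, M.charpoly.roots.count μ • μ =
        (if μ = (l : ℂ) then μ else 0) + (f : ℂ) * ((k μ : ℂ) * μ) := fun μ _ => by
      rw [Polynomial.count_roots, hk μ, nsmul_eq_mul]
      split_ifs <;> push_cast <;> ring
    rw [Finset.sum_congr rfl this, Finset.sum_add_distrib, Finset.sum_ite_eq', if_pos hlR]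
  rcases Nat.eq_zero_or_pos f with rfl | hfpos
  · rw [Nat.cast_zero, zero_mul, add_zero, Nat.cast_eq_zero] at htr
    rw [htr]
  refine dvd_of_isIntegral_div hfpos.ne' ?_
  have hdiv : (l : ℂ) / f = -∑ μ ∈ R, (k μ : ℂ) * μ := by
    rw [div_eq_iff (Nat.cast_ne_zero.mpr hfpos.ne')]
    linear_combination htr
  rw [hdiv]
  exact (IsIntegral.sum _ fun μ hμ => (isIntegral_natCast (k μ)).mul (hint μ hμ)).neg
where
  isIntegral_natCast (n : ℕ) : IsIntegral ℤ (n : ℂ) := by
    rw [show (n : ℂ) = algebraMap ℤ ℂ n by simp]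
    exact isIntegral_algebraMap

/-- The degrees of the constituents and the norm, for a common constituent degree. -/
theorem exists_mult_sums [MulAction.IsPretransitive G Ω] (a : Ω) :
    ∃ (s : Finset (IrrCharacter G)),
      (∀ χ ∈ s, (χ : G → ℂ) ≠ fun _ => 1) ∧
      (∀ χ : IrrCharacter G, (χ : G → ℂ) ≠ (fun _ => 1) → classInner (permChar G Ω) χ ≠ 0 → χ ∈ s) ∧
      Fintype.card Ω = 1 + ∑ χ ∈ s, mult (permChar G Ω) χ * deg (χ : G → ℂ) ∧
      Nat.card (MulAction.orbitRel.Quotient (MulAction.stabilizer G a) Ω) =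
        1 + ∑ χ ∈ s, mult (permChar G Ω) χ ^ 2 := by
  classical
  have : Nonempty Ω := ⟨a⟩
  have hπ := isCharacter_permChar (G := G) (Ω := Ω)
  refine ⟨Finset.univ.erase (trivIrr G), fun χ hχ e => Finset.ne_of_mem_erase hχ (Subtype.ext e),
    fun χ hne _ => Finset.mem_erase.mpr ⟨fun e => hne (congrArg Subtype.val e), Finset.mem_univ _⟩, ?_, ?_⟩
  · have hone : mult (permChar G Ω) (trivIrr G) * deg (trivIrr G : G → ℂ) = 1 := by
      have h1 : (mult (permChar G Ω) (fun _ : G => (1 : ℂ)) : ℂ) = 1 := by
        rw [← mult_spec hπ isCharacter_one]; exact classInner_permChar_one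
      rw [show deg (trivIrr G : G → ℂ) = 1 by simp [deg], mul_one]
      exact_mod_cast h1
    have h := congrFun (character_eq_sum hπ) 1
    rw [permChar_one, Finset.sum_apply] at h
    simp only [Pi.smul_apply, smul_eq_mul] at h
    rw [Finset.sum_congr rfl fun c _ => by rw [deg_eq (isCharacter_of_isIrr c.2)]] at h
    have h' : Fintype.card Ω = ∑ c : IrrCharacter G, mult (permChar G Ω) c * deg (c : G → ℂ) := by
      exact_mod_cast h
    rw [h', ← Finset.add_sum_erase _ _ (Finset.mem_univ (trivIrr G)), hone]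
  · have hone : mult (permChar G Ω) (trivIrr G) = 1 := by
      have h1 : (mult (permChar G Ω) (fun _ : G => (1 : ℂ)) : ℂ) = 1 := by
        rw [← mult_spec hπ isCharacter_one]; exact classInner_permChar_one
      exact_mod_cast h1
    have h := classInner_permChar_self (G := G) a
    rw [classInner_eq_sum (isClassFunction_of_isCharacter hπ),
      Finset.sum_congr rfl fun c _ => by rw [mult_spec hπ (isCharacter_of_isIrr c.2)]] at h
    simp only [Complex.conj_natCast, ← pow_two] at h
    norm_cast at h
    rw [← h, ← Finset.add_sum_erase _ _ (Finset.mem_univ (trivIrr G)), hone, one_pow]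

end Cfsg.Agent.PermGp
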