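import Cfsg.Agent.Lib.PermGp.PrimeDegree
import Cfsg.Agent.Lib.PermGp.Subdegree

/-!
# Sums of powers of fixed point numbers in a triply transitive group
-/

set_option autoImplicit false
set_option linter.unusedSectionVars false

namespace Cfsg.Agent.PermGp.PrimeTwoP

open MulAction Finset

variable {G : Type*} [Group G] [Fintype G] {α : Type*} [Fintype α] [DecidableEq α] [MulAction G α]

/-- The number of elements with the given images at three points. -/
def cnt3 (G : Type*) [Group G] [Fintype G] [MulAction G α] (x y z x' y' z' : α) : ℕ :=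
  (univ.filter fun g : G => g • x = x' ∧ g • y = y' ∧ g • z = z').card

/-- The number of elements with the given images at two points. -/
def cnt2 (G : Type*) [Group G] [Fintype G] [MulAction G α] (x y x' y' : α) : ℕ :=
  (univ.filter fun g : G => g • x = x' ∧ g • y = y').card

/-- The number of elements with the given image at a point. -/
def cnt1 (G : Type*) [Group G] [Fintype G] [MulAction G α] (x x' : α) : ℕ :=
  (univ.filter fun g : G => g • x = x').card

theorem exists_map3 (h3 : IsMultiplyPretransitive G α 3) {x y z x' y' z' : α} (h1 : x ≠ y)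
    (h2 : x ≠ z) (h3' : y ≠ z) (h4 : x' ≠ y') (h5 : x' ≠ z') (h6 : y' ≠ z') :
    ∃ g : G, g • x = x' ∧ g • y = y' ∧ g • z = z' := by
  have inj : ∀ {a b c : α}, a ≠ b → a ≠ c → b ≠ c → Function.Injective ![a, b, c] := by
    intro a b c h1 h2 h3 i j h
    fin_cases i <;> fin_cases j <;> simp_all
  obtain ⟨g, hg⟩ := h3.exists_smul_eq (⟨_, inj h1 h2 h3'⟩ : Fin 3 ↪ α) ⟨_, inj h4 h5 h6⟩
  exact ⟨g, DFunLike.congr_fun hg 0, DFunLike.congr_fun hg 1, DFunLike.congr_fun hg 2⟩

theorem cnt3_eq (h3 : IsMultiplyPretransitive G α 3) {x y z x' y' z' a b c : α} (h1 : x ≠ y)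
    (h2 : x ≠ z) (h3' : y ≠ z) (h4 : x' ≠ y') (h5 : x' ≠ z') (h6 : y' ≠ z') (hab : a ≠ b)
    (hac : a ≠ c) (hbc : b ≠ c) : cnt3 G x y z x' y' z' = cnt3 G a b c a b c := by
  obtain ⟨u, hu1, hu2, hu3⟩ := exists_map3 h3 hab hac hbc h1 h2 h3'
  obtain ⟨v, hv1, hv2, hv3⟩ := exists_map3 h3 h4 h5 h6 hab hac hbc
  refine Finset.card_equiv ((Equiv.mulLeft v).trans (Equiv.mulRight u)) fun g => ?_
  simp only [mem_filter, mem_univ, true_and, Equiv.trans_apply, Equiv.coe_mulLeft, Equiv.coe_mulRight,
    mul_smul, hu1, hu2, hu3]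
  constructor
  · rintro ⟨e1, e2, e3⟩
    exact ⟨by rw [e1, hv1], by rw [e2, hv2], by rw [e3, hv3]⟩
  · rintro ⟨e1, e2, e3⟩
    refine ⟨(smul_left_cancel_iff v).mp ?_, (smul_left_cancel_iff v).mp ?_, (smul_left_cancel_iff v).mp ?_⟩
    · rw [hv1]; exact e1
    · rw [hv2]; exact e2
    · rw [hv3]; exact e3

theorem cnt2_eq_sum (x y z x' y' : α) :
    cnt2 G x y x' y' = ∑ w : α, cnt3 G x y z x' y' w := by
  rw [cnt2, card_eq_sum_card_fiberwise (f := fun g : G => g • z) (t := univ) (fun _ _ => mem_univ _)]
  exact sum_congr rfl fun w _ => by rw [cnt3, filter_filter]; simp only [and_assoc]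

theorem cnt1_eq_sum (x y x' : α) : cnt1 G x x' = ∑ w : α, cnt2 G x y x' w := by
  rw [cnt1, card_eq_sum_card_fiberwise (f := fun g : G => g • y) (t := univ) (fun _ _ => mem_univ _)]
  exact sum_congr rfl fun w _ => by rw [cnt2, filter_filter]

theorem card_eq_sum_cnt1 (x : α) : Fintype.card G = ∑ w : α, cnt1 G x w := by
  rw [← card_univ, card_eq_sum_card_fiberwise (f := fun g : G => g • x) (t := univ) (fun _ _ => mem_univ _)]
  rfl

theorem cnt3_eq_zero {x y z x' y' z' : α} (h : x = z) (h' : x' ≠ z') :
    cnt3 G x y z x' y' z' = 0 :=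
  card_eq_zero.mpr (filter_eq_empty_iff.mpr fun g _ hg => h' (by rw [← hg.1, ← hg.2.2, h]))

theorem cnt3_eq_zero₂ {x y z x' y' z' : α} (h : y = z) (h' : y' ≠ z') :
    cnt3 G x y z x' y' z' = 0 :=
  card_eq_zero.mpr (filter_eq_empty_iff.mpr fun g _ hg => h' (by rw [← hg.2.1, ← hg.2.2, h]))

/-- All counting data of a triply transitive group, in terms of the order of a three point
stabiliser. -/
theorem exists_const (h3 : IsMultiplyPretransitive G α 3) (hn : 3 ≤ Fintype.card α) :
    ∃ k : ℕ, 0 < k ∧ Fintype.card G = Fintype.card α * (Fintype.card α - 1) * (Fintype.card α - 2) * k ∧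
      (∀ x x' : α, cnt1 G x x' = (Fintype.card α - 1) * (Fintype.card α - 2) * k) ∧
      (∀ x y x' y' : α, x ≠ y → x' ≠ y' → cnt2 G x y x' y' = (Fintype.card α - 2) * k) ∧
      ∀ x y z x' y' z' : α, x ≠ y → x ≠ z → y ≠ z → x' ≠ y' → x' ≠ z' → y' ≠ z' →
        cnt3 G x y z x' y' z' = k := by
  obtain ⟨a, b, c, hab, hac, hbc⟩ := Fintype.two_lt_card_iff.mp (by omega : 2 < Fintype.card α)
  set k := cnt3 G a b c a b c with hk
  have hkpos : 0 < k := card_pos.mpr ⟨1, by simp⟩
  have hc3 : ∀ x y z x' y' z' : α, x ≠ y → x ≠ z → y ≠ z → x' ≠ y' → x' ≠ z' → y' ≠ z' →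
      cnt3 G x y z x' y' z' = k := fun x y z x' y' z' h1 h2 h3' h4 h5 h6 =>
    cnt3_eq h3 h1 h2 h3' h4 h5 h6 hab hac hbc
  have hex : ∀ x y : α, ∃ z, z ≠ x ∧ z ≠ y := fun x y => by
    obtain ⟨z, -, hz⟩ := exists_mem_notMem_of_card_lt_card (s := ({x, y} : Finset α)) (t := univ)
      (by rw [card_univ]; exact lt_of_le_of_lt Finset.card_le_two (by omega))
    exact ⟨z, by simpa [not_or] using hz⟩
  have hc2 : ∀ x y x' y' : α, x ≠ y → x' ≠ y' → cnt2 G x y x' y' = (Fintype.card α - 2) * k := by
    intro x y x' y' hxy hxy'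
    obtain ⟨z, hzx, hzy⟩ := hex x y
    rw [cnt2_eq_sum x y z, ← sum_subset (subset_univ ((univ.erase x').erase y')) fun w _ hw => ?_]
    · rw [sum_congr rfl fun w hw => hc3 x y z x' y' w hxy hzx.symm hzy.symm hxy'
        (ne_of_mem_erase (mem_of_mem_erase hw)).symm (ne_of_mem_erase hw).symm, sum_const, smul_eq_mul,
        card_erase_of_mem (mem_erase.mpr ⟨hxy'.symm, mem_univ _⟩), card_erase_of_mem (mem_univ _),
        card_univ, show Fintype.card α - 1 - 1 = Fintype.card α - 2 by omega]
    · refine card_eq_zero.mpr (filter_eq_empty_iff.mpr fun g _ hg => hw ?_)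
      refine mem_erase.mpr ⟨fun e => hzy ((smul_left_cancel_iff g).mp (by rw [hg.2.2, hg.2.1, e])),
        mem_erase.mpr ⟨fun e => hzx ((smul_left_cancel_iff g).mp (by rw [hg.2.2, hg.1, e])), mem_univ _⟩⟩
  have hc1 : ∀ x x' : α, cnt1 G x x' = (Fintype.card α - 1) * (Fintype.card α - 2) * k := by
    intro x x'
    obtain ⟨y, hyx, -⟩ := hex x x
    rw [cnt1_eq_sum x y, ← sum_subset (subset_univ (univ.erase x')) fun w _ hw => ?_]
    · rw [sum_congr rfl fun w hw => hc2 x y x' w hyx.symm (ne_of_mem_erase hw).symm, sum_const,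
        smul_eq_mul, card_erase_of_mem (mem_univ _), card_univ, mul_assoc]
    · refine card_eq_zero.mpr (filter_eq_empty_iff.mpr fun g _ hg => hw ?_)
      exact mem_erase.mpr ⟨fun e => hyx ((smul_left_cancel_iff g).mp (by rw [hg.2, hg.1, e])), mem_univ _⟩
  refine ⟨k, hkpos, ?_, hc1, hc2, hc3⟩
  rw [card_eq_sum_cnt1 (G := G) a, sum_congr rfl fun w _ => hc1 a w, sum_const, smul_eq_mul, card_univ]
  ring

variable (G α) in
/-- The number of fixed points. -/
def fixN (g : G) : ℕ := (univ.filter fun x : α => g • x = x).card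

theorem fixN_eq_sum (g : G) : fixN G α g = ∑ x : α, if g • x = x then 1 else 0 := card_filter _ _

theorem fixN_sq_eq_sum (g : G) :
    fixN G α (g * g) = ∑ x : α, ∑ y : α, if g • x = y ∧ g • y = x then 1 else 0 := by
  rw [fixN_eq_sum]
  refine sum_congr rfl fun x _ => ?_
  rw [sum_eq_single (g • x) (fun y _ hy => if_neg fun e => hy e.1.symm) (fun h => absurd (mem_univ _) h)]
  simp [mul_smul]

/-- The moment identities. -/
theorem moments (h3 : IsMultiplyPretransitive G α 3) (hn : 3 ≤ Fintype.card α) :
    ∑ g : G, fixN G α g = Fintype.card G ∧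
    ∑ g : G, fixN G α g * fixN G α g = 2 * Fintype.card G ∧
    ∑ g : G, fixN G α (g * g) = 2 * Fintype.card G ∧
    ∑ g : G, fixN G α g * (fixN G α g * fixN G α g) =
      2 * Fintype.card G + ∑ g : G, fixN G α g * fixN G α (g * g) := by
  obtain ⟨k, -, hG, h1, h2, h3c⟩ := exists_const (G := G) h3 hn
  set n := Fintype.card α with hn'
  have hpair : ∀ x : α, ∑ y : α, (if x = y then (n - 1) * (n - 2) * k else (n - 2) * k) =
      2 * ((n - 1) * (n - 2) * k) := by
    intro x
    rw [← add_sum_erase _ _ (mem_univ x), if_pos rfl,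
      sum_congr rfl fun y hy => if_neg (ne_of_mem_erase hy).symm, sum_const, smul_eq_mul,
      card_erase_of_mem (mem_univ _), card_univ, ← hn']
    ring
  refine ⟨?_, ?_, ?_, ?_⟩
  · simp only [fixN_eq_sum]
    rw [sum_comm]
    calc ∑ x : α, ∑ g : G, (if g • x = x then 1 else 0) = ∑ x : α, cnt1 G x x :=
          sum_congr rfl fun x _ => (card_filter _ _).symm
      _ = _ := by rw [sum_congr rfl fun x _ => h1 x x, sum_const, smul_eq_mul, card_univ, hG]; ring
  · simp only [fixN_eq_sum, sum_mul_sum]
    rw [sum_comm]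
    calc ∑ x : α, ∑ g : G, ∑ y : α, (if g • x = x then 1 else 0) * (if g • y = y then 1 else 0)
        = ∑ x : α, ∑ y : α, (if x = y then (n - 1) * (n - 2) * k else (n - 2) * k) := by
          refine sum_congr rfl fun x _ => ?_
          rw [sum_comm]
          refine sum_congr rfl fun y _ => ?_
          simp only [← ite_and, ite_mul, one_mul, zero_mul]
          rw [← card_filter]
          split_ifs with hxy
          · subst hxy
            rw [← h1 x x, cnt1]
            simp
          · exact h2 x y x y hxy hxy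
      _ = _ := by rw [sum_congr rfl fun x _ => hpair x, sum_const, smul_eq_mul, card_univ, hG, ← hn']; ring
  · simp only [fixN_sq_eq_sum]
    rw [sum_comm]
    calc ∑ x : α, ∑ g : G, ∑ y : α, (if g • x = y ∧ g • y = x then 1 else 0)
        = ∑ x : α, ∑ y : α, (if x = y then (n - 1) * (n - 2) * k else (n - 2) * k) := by
          refine sum_congr rfl fun x _ => ?_
          rw [sum_comm]
          refine sum_congr rfl fun y _ => ?_
          rw [← card_filter]
          split_ifs with hxy
          · subst hxy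
            rw [← h1 x x, cnt1]
            simp
          · exact h2 x y y x hxy (Ne.symm hxy)
      _ = _ := by rw [sum_congr rfl fun x _ => hpair x, sum_const, smul_eq_mul, card_univ, hG, ← hn']; ring
  · have eA : ∑ g : G, fixN G α g * (fixN G α g * fixN G α g) =
        ∑ z : α, ∑ x : α, ∑ y : α, cnt3 G x y z x y z := by
      calc ∑ g : G, fixN G α g * (fixN G α g * fixN G α g)
          = ∑ g : G, ∑ z : α, ∑ x : α, ∑ y : α, (if g • x = x ∧ g • y = y ∧ g • z = z then 1 else 0) := by
            refine sum_congr rfl fun g _ => ?_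
            rw [fixN_eq_sum, sum_mul_sum, sum_mul]
            refine sum_congr rfl fun z _ => ?_
            rw [mul_sum]
            refine sum_congr rfl fun x _ => ?_
            rw [mul_sum]
            refine sum_congr rfl fun y _ => ?_
            by_cases e1 : g • x = x <;> by_cases e2 : g • y = y <;> by_cases e3 : g • z = z <;> simp [e1, e2, e3]
        _ = _ := by
            rw [sum_comm]
            refine sum_congr rfl fun z _ => ?_
            rw [sum_comm]
            refine sum_congr rfl fun x _ => ?_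
            rw [sum_comm]
            exact sum_congr rfl fun y _ => (card_filter _ _).symm
    have eB : ∑ g : G, fixN G α g * fixN G α (g * g) =
        ∑ z : α, ∑ x : α, ∑ y : α, cnt3 G x y z y x z := by
      calc ∑ g : G, fixN G α g * fixN G α (g * g)
          = ∑ g : G, ∑ z : α, ∑ x : α, ∑ y : α, (if g • x = y ∧ g • y = x ∧ g • z = z then 1 else 0) := by
            refine sum_congr rfl fun g _ => ?_
            rw [fixN_sq_eq_sum, fixN_eq_sum, sum_mul]
            refine sum_congr rfl fun z _ => ?_
            rw [mul_sum]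
            refine sum_congr rfl fun x _ => ?_
            rw [mul_sum]
            refine sum_congr rfl fun y _ => ?_
            by_cases e1 : g • x = y <;> by_cases e2 : g • y = x <;> by_cases e3 : g • z = z <;> simp [e1, e2, e3]
        _ = _ := by
            rw [sum_comm]
            refine sum_congr rfl fun z _ => ?_
            rw [sum_comm]
            refine sum_congr rfl fun x _ => ?_
            rw [sum_comm]
            exact sum_congr rfl fun y _ => (card_filter _ _).symm
    have hsplit : ∀ z x y : α, cnt3 G x y z x y z =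
        cnt3 G x y z y x z + if x ≠ y ∧ (z = x ∨ z = y) then (n - 2) * k else 0 := by
      intro z x y
      by_cases hxy : x = y
      · subst hxy; simp
      by_cases hzx : z = x
      · subst hzx
        rw [cnt3_eq_zero (x := z) (z := z) rfl (Ne.symm hxy), if_pos ⟨hxy, Or.inl rfl⟩, zero_add,
          ← h2 z y z y hxy hxy, cnt2, cnt3]
        exact congrArg card (filter_congr fun g _ => ⟨fun h => ⟨h.1, h.2.1⟩, fun h => ⟨h.1, h.2, h.1⟩⟩)
      by_cases hzy : z = y
      · subst hzy
        rw [cnt3_eq_zero₂ (y := z) (z := z) rfl hxy, if_pos ⟨hxy, Or.inr rfl⟩, zero_add,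
          ← h2 x z x z hxy hxy, cnt2, cnt3]
        exact congrArg card (filter_congr fun g _ => ⟨fun h => ⟨h.1, h.2.1⟩, fun h => ⟨h.1, h.2, h.2⟩⟩)
      rw [if_neg (by tauto), add_zero, h3c x y z x y z hxy (Ne.symm hzx) (Ne.symm hzy) hxy (Ne.symm hzx)
        (Ne.symm hzy), h3c x y z y x z hxy (Ne.symm hzx) (Ne.symm hzy) (Ne.symm hxy) (Ne.symm hzy)
        (Ne.symm hzx)]
    rw [eA, eB]
    simp only [hsplit, sum_add_distrib]
    rw [add_comm, Nat.add_right_cancel_iff]
    have key : ∀ z : α, ∑ x : α, ∑ y : α, (if x ≠ y ∧ (z = x ∨ z = y) then (n - 2) * k else 0) =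
        2 * ((n - 1) * (n - 2) * k) := by
      intro z
      have hf : ∀ x y : α, (if x ≠ y ∧ (z = x ∨ z = y) then (n - 2) * k else 0) =
          (if x = z then (if y = z then 0 else (n - 2) * k) else 0) +
            (if y = z then (if x = z then 0 else (n - 2) * k) else 0) := by
        intro x y
        by_cases hx : x = z
        · subst hx
          by_cases hy : y = x
          · subst hy; simp
          · simp [hy, Ne.symm hy]
        · by_cases hy : y = z
          · subst hy; simp [hx]
          · simp [hx, hy, Ne.symm hx, Ne.symm hy]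
      simp only [hf, sum_add_distrib]
      rw [sum_eq_single z (fun x _ hx => sum_eq_zero fun y _ => if_neg hx) (fun h => absurd (mem_univ _) h),
        sum_comm (f := fun x y => if y = z then _ else _),
        sum_eq_single z (fun x _ hx => sum_eq_zero fun y _ => if_neg hx) (fun h => absurd (mem_univ _) h)]
      simp only [if_true]
      rw [← add_sum_erase _ _ (mem_univ z), if_pos rfl,
        sum_congr rfl fun y hy => if_neg (ne_of_mem_erase hy), sum_const, smul_eq_mul,
        card_erase_of_mem (mem_univ _), card_univ, ← hn']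
      ring
    rw [sum_congr rfl fun z _ => key z, sum_const, smul_eq_mul, card_univ, hG, ← hn']
    ring

end Cfsg.Agent.PermGp.PrimeTwoP
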