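import Cfsg.Agent.Lib.PermGp.Basic

/-! Regular normal subgroups of multiply primitive and multiply transitive groups. -/

set_option autoImplicit false
set_option linter.unusedSectionVars false

namespace Cfsg.Agent.PermGp

open MulAction

open scoped Pointwise

variable {G : Type*} [Group G] {X : Type*} [MulAction G X]

/-- `k`-transitivity, elementwise, for three points. -/
theorem three_trans_exists (h : IsMultiplyPretransitive G X 3) {a b c a' b' c' : X}
    (h1 : a ≠ b) (h2 : a ≠ c) (h3 : b ≠ c) (h4 : a' ≠ b') (h5 : a' ≠ c') (h6 : b' ≠ c') :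
    ∃ g : G, g • a = a' ∧ g • b = b' ∧ g • c = c' := by
  have i1 : Function.Injective ![a, b, c] := by
    intro i j h; fin_cases i <;> fin_cases j <;> simp_all
  have i2 : Function.Injective ![a', b', c'] := by
    intro i j h; fin_cases i <;> fin_cases j <;> simp_all
  obtain ⟨g, hg⟩ := h.exists_smul_eq (⟨_, i1⟩ : Fin 3 ↪ X) ⟨_, i2⟩
  exact ⟨g, DFunLike.congr_fun hg 0, DFunLike.congr_fun hg 1, DFunLike.congr_fun hg 2⟩

theorem four_trans_exists (h : IsMultiplyPretransitive G X 4) {a b c d a' b' c' d' : X}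
    (i1 : Function.Injective ![a, b, c, d]) (i2 : Function.Injective ![a', b', c', d']) :
    ∃ g : G, g • a = a' ∧ g • b = b' ∧ g • c = c' ∧ g • d = d' := by
  obtain ⟨g, hg⟩ := h.exists_smul_eq (⟨_, i1⟩ : Fin 4 ↪ X) ⟨_, i2⟩
  exact ⟨g, DFunLike.congr_fun hg 0, DFunLike.congr_fun hg 1, DFunLike.congr_fun hg 2,
    DFunLike.congr_fun hg 3⟩

omit [Group G] [MulAction G X] in
theorem injective_four {a b c d : X} (h1 : a ≠ b) (h2 : a ≠ c) (h3 : a ≠ d) (h4 : b ≠ c) (h5 : b ≠ d)
    (h6 : c ≠ d) : Function.Injective ![a, b, c, d] := by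
  intro i j h
  fin_cases i <;> fin_cases j <;> simp [h1, h1.symm, h2, h2.symm, h3, h3.symm, h4, h4.symm, h5, h5.symm, h6, h6.symm] at h ⊢

variable (N : Subgroup G) [N.Normal] (hreg : ∀ x : X, stabilizer N x = ⊥)

include hreg

theorem regular_inj {a : X} {u v : N} (h : u • a = v • a) : u = v := by
  have : v⁻¹ * u ∈ stabilizer N a := by
    rw [mem_stabilizer_iff, mul_smul, inv_smul_eq_iff]; exact h
  rw [hreg, Subgroup.mem_bot, inv_mul_eq_one] at this
  exact this.symm

omit hreg in
/-- Conjugation by an element fixing the base point agrees with the action. -/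
theorem conj_smul_base {a : X} {g : G} (hg : g • a = a) (u : N) :
    g • (u • a) = (⟨g * u * g⁻¹, Subgroup.Normal.conj_mem inferInstance _ u.2 g⟩ : N) • a := by
  show g • ((u : G) • a) = (g * (u : G) * g⁻¹) • a
  rw [mul_smul, mul_smul, inv_smul_eq_iff.mpr hg.symm]

theorem card_eq_card_of_regular (ht : IsPretransitive N X) (a : X) : Nat.card N = Nat.card X :=
  Nat.card_eq_of_bijective (fun u : N => u • a)
    ⟨fun _ _ h => regular_inj N hreg h, fun y => ht.exists_smul_eq a y⟩

theorem comm_of_exponent_two (h : ∀ u : N, u * u = 1) (u v : N) : u * v = v * u := by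
  have hu : u⁻¹ = u := inv_eq_of_mul_eq_one_right (h u)
  have hv : v⁻¹ = v := inv_eq_of_mul_eq_one_right (h v)
  have huv : (u * v)⁻¹ = u * v := inv_eq_of_mul_eq_one_right (h (u * v))
  rw [mul_inv_rev, hu, hv] at huv
  exact huv.symm

/-- In a doubly primitive group a regular normal subgroup has exponent two, unless the degree is three. -/
theorem exponent_two_of_two_primitive [Finite X] (h2 : IsMultiplyPreprimitive G X 2) (hX : 2 ≤ Nat.card X)
    (ht : IsPretransitive N X) : Nat.card X = 3 ∨ ∀ u : N, u * u = 1 := by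
  classical
  by_cases hall : ∀ u : N, u * u = 1
  · exact Or.inr hall
  left
  push Not at hall
  obtain ⟨u, hu⟩ := hall
  have : Nonempty X := (Nat.card_pos_iff.mp (by omega)).1
  obtain ⟨a⟩ := this
  have hprim : IsPreprimitive (fixingSubgroup G ({a} : Set X)) (SubMulAction.ofFixingSubgroup G ({a} : Set X)) :=
    h2.isPreprimitive_ofFixingSubgroup (by
      rw [Set.encard_singleton]; norm_num)
  have hne : u ≠ u⁻¹ := fun h => hu (by nth_rewrite 2 [h]; exact mul_inv_cancel u)
  have hua : ∀ v : N, v ≠ 1 → v • a ∈ SubMulAction.ofFixingSubgroup G ({a} : Set X) := by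
    intro v hv
    rw [SubMulAction.mem_ofFixingSubgroup_iff, Set.mem_singleton_iff]
    exact fun e => hv (regular_inj N hreg (e.trans (one_smul N a).symm))
  have hu1 : u ≠ 1 := fun h => hu (by rw [h, mul_one])
  have hui1 : u⁻¹ ≠ 1 := fun h => hu1 (inv_eq_one.mp h)
  set p : SubMulAction.ofFixingSubgroup G ({a} : Set X) := ⟨u • a, hua u hu1⟩ with hp
  set q : SubMulAction.ofFixingSubgroup G ({a} : Set X) := ⟨u⁻¹ • a, hua _ hui1⟩ with hq
  -- the pair of a non-trivial element and its inverse is a block
  let act : fixingSubgroup G ({a} : Set X) → N → N := fun g v =>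
    ⟨(g : G) * v * (g : G)⁻¹, Subgroup.Normal.conj_mem inferInstance _ v.2 _⟩
  have hga : ∀ g : fixingSubgroup G ({a} : Set X), (g : G) • a = a := fun g =>
    (mem_fixingSubgroup_iff G).mp g.2 a rfl
  have hinv : ∀ g v, act g v⁻¹ = (act g v)⁻¹ := fun g v => Subtype.ext (by
    simp [act, mul_assoc])
  have hB : IsBlock (fixingSubgroup G ({a} : Set X)) ({p, q} : Set _) := by
    rw [isBlock_iff_smul_eq_of_nonempty]
    intro g hne'
    have e1 : g • p = ⟨(act g u) • a, hua _ (fun h => hu1 (Subtype.ext (by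
        have := congrArg Subtype.val h
        simp only [act, Subgroup.coe_one, mul_inv_eq_one, mul_eq_left] at this
        simpa using this)))⟩ := Subtype.ext (conj_smul_base N (hga g) u)
    have e2 : ((g • q : SubMulAction.ofFixingSubgroup G ({a} : Set X)) : X) = (act g u)⁻¹ • a := by
      rw [← hinv]; exact conj_smul_base N (hga g) u⁻¹
    have e1' : ((g • p : SubMulAction.ofFixingSubgroup G ({a} : Set X)) : X) = (act g u) • a := congrArg Subtype.val e1
    have himg : g • ({p, q} : Set _) = {g • p, g • q} := by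
      show (fun y => g • y) '' ({p, q} : Set _) = _
      rw [Set.image_pair]
    rw [himg] at hne' ⊢
    have hw : act g u = u ∨ act g u = u⁻¹ := by
      obtain ⟨y, hy1, hy2⟩ := hne'
      simp only [Set.mem_insert_iff, Set.mem_singleton_iff] at hy1 hy2
      rcases hy1 with rfl | rfl <;> rcases hy2 with h | h <;> have h' := congrArg Subtype.val h
      · exact Or.inl (regular_inj N hreg (e1'.symm.trans h'))
      · exact Or.inr (regular_inj N hreg (e1'.symm.trans h'))
      · exact Or.inr (inv_eq_iff_eq_inv.mp (regular_inj N hreg (e2.symm.trans h')))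
      · exact Or.inl (inv_inj.mp (regular_inj N hreg (e2.symm.trans h')))
    rcases hw with hw | hw
    · rw [show g • p = p from Subtype.ext (by rw [e1', hw]),
        show g • q = q from Subtype.ext (by rw [e2, hw])]
    · rw [show g • p = q from Subtype.ext (by rw [e1', hw]),
        show g • q = p from Subtype.ext (by rw [e2, hw, inv_inv]), Set.pair_comm]
  rcases hprim.isTrivialBlock_of_isBlock hB with hs | huniv
  · exact absurd (regular_inj N hreg (congrArg Subtype.val (hs (by simp) (by simp) : p = q))) hne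
  · have hset : (Set.univ : Set X) = {a, u • a, u⁻¹ • a} := by
      ext x
      simp only [Set.mem_univ, Set.mem_insert_iff, Set.mem_singleton_iff, true_iff]
      by_cases hx : x = a
      · exact Or.inl hx
      · right
        have hx' : (⟨x, by rw [SubMulAction.mem_ofFixingSubgroup_iff, Set.mem_singleton_iff]; exact hx⟩ :
            SubMulAction.ofFixingSubgroup G ({a} : Set X)) ∈ ({p, q} : Set _) := huniv ▸ trivial
        simp only [Set.mem_insert_iff, Set.mem_singleton_iff, Subtype.ext_iff, hp, hq] at hx'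
        exact hx'
    rw [← Set.ncard_univ, hset, Set.ncard_eq_three]
    exact ⟨a, u • a, u⁻¹ • a,
      fun e => hu1 (regular_inj N hreg (e.symm.trans (one_smul N a).symm)),
      fun e => hui1 (regular_inj N hreg (e.symm.trans (one_smul N a).symm)),
      fun e => hne (regular_inj N hreg e), rfl⟩

/-- With a regular normal subgroup, triple transitivity on at least four points forces exponent two. -/
theorem exponent_two_of_three_trans (h3 : IsMultiplyPretransitive G X 3)
    (ht : IsPretransitive N X) (hbig : ∀ a b c : X, ∃ d, d ≠ a ∧ d ≠ b ∧ d ≠ c) (a : X) :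
    ∀ u : N, u * u = 1 := by
  intro u
  by_contra hu
  have hu1 : u ≠ 1 := fun h => hu (by rw [h, mul_one])
  have hne : u ≠ u⁻¹ := fun h => hu (by nth_rewrite 2 [h]; exact mul_inv_cancel u)
  obtain ⟨d, hda, hdu, hdi⟩ := hbig a (u • a) (u⁻¹ • a)
  have h1 : a ≠ u • a := fun e => hu1 (regular_inj N hreg (e.symm.trans (one_smul N a).symm))
  have h2 : a ≠ u⁻¹ • a := fun e => hu1 (inv_eq_one.mp (regular_inj N hreg (e.symm.trans (one_smul N a).symm)))
  obtain ⟨g, g1, g2, g3⟩ := three_trans_exists h3 h1 h2 (fun e => hne (regular_inj N hreg e))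
    h1 hda.symm hdu.symm
  have e1 := conj_smul_base N g1 u
  rw [g2] at e1
  have e2 := regular_inj N hreg e1
  have e3 := conj_smul_base N g1 u⁻¹
  rw [g3] at e3
  apply hdi
  rw [e3]
  congr 1
  apply Subtype.ext
  show g * ((u⁻¹ : N) : G) * g⁻¹ = ((u⁻¹ : N) : G)
  have e2' : (u : G) = g * (u : G) * g⁻¹ := congrArg Subtype.val e2
  rw [Subgroup.coe_inv]
  conv_rhs => rw [e2']
  group

/-- With a regular normal subgroup, quadruple transitivity forces degree at most four. -/
theorem not_four_trans (h4 : IsMultiplyPretransitive G X 4) (ht : IsPretransitive N X)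
    (hexp : ∀ u : N, u * u = 1) (hbig : ∀ a b c d : X, ∃ e, e ≠ a ∧ e ≠ b ∧ e ≠ c ∧ e ≠ d) (a : X) :
    False := by
  classical
  obtain ⟨b, hb, -⟩ := hbig a a a a
  obtain ⟨u, hu⟩ := ht.exists_smul_eq a b
  obtain ⟨c, hca, hcb, -⟩ := hbig a b a a
  obtain ⟨v, hv⟩ := ht.exists_smul_eq a c
  obtain ⟨d, hda, hdb, hdc, hde⟩ := hbig a b c ((u * v) • a)
  have hu1 : u ≠ 1 := fun h => hb (by rw [← hu, h, one_smul])
  have hv1 : v ≠ 1 := fun h => hca (by rw [← hv, h, one_smul])
  have huv1 : u * v ≠ 1 := fun h => hcb (by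
    rw [← hu, ← hv, show u = v⁻¹ from eq_inv_of_mul_eq_one_left h, inv_eq_of_mul_eq_one_right (hexp v)])
  have ha' : (u * v) • a ≠ a := fun e => huv1 (regular_inj N hreg (e.trans (one_smul N a).symm))
  have hb' : (u * v) • a ≠ b := fun e => hv1 (by
    have := regular_inj N hreg (e.trans hu.symm)
    exact mul_eq_left.mp this)
  have hc' : (u * v) • a ≠ c := fun e => hu1 (by
    have := regular_inj N hreg (e.trans hv.symm)
    exact mul_eq_right.mp this)
  obtain ⟨g, g1, g2, g3, g4⟩ := four_trans_exists h4 (a := a) (b := b) (c := c) (d := (u * v) • a)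
    (a' := a) (b' := b) (c' := c) (d' := d)
    (injective_four hb.symm hca.symm ha'.symm hcb.symm hb'.symm hc'.symm)
    (injective_four hb.symm hca.symm hda.symm hcb.symm hdb.symm hdc.symm)
  apply hde
  rw [← g4, conj_smul_base N g1]
  congr 1
  have e1 := conj_smul_base N g1 u
  rw [hu, g2, ← hu] at e1
  have e2 := conj_smul_base N g1 v
  rw [hv, g3, ← hv] at e2
  apply Subtype.ext
  show g * ((u * v : N) : G) * g⁻¹ = ((u * v : N) : G)
  have f1 : (u : G) = g * (u : G) * g⁻¹ := congrArg Subtype.val (regular_inj N hreg e1)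
  have f2 : (v : G) = g * (v : G) * g⁻¹ := congrArg Subtype.val (regular_inj N hreg e2)
  rw [Subgroup.coe_mul]
  conv_rhs => rw [f1, f2]
  group

end Cfsg.Agent.PermGp
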