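import Mathlib.GroupTheory.Subgroup.Simple
import Mathlib.GroupTheory.Index
import Mathlib.GroupTheory.Abelianization.Defs
import Mathlib.Data.Fintype.Pi
import Mathlib.Algebra.Group.Pi.Lemmas
import Mathlib.Algebra.Group.Subgroup.Finite

/-!
# Powers of a non-abelian simple group

Automorphisms permute the coordinates, and a subdirect subgroup is a product of diagonals.
-/

set_option autoImplicit false

namespace Cfsg.Agent.PermGp.SimplePower

variable {T : Type*} [Group T] {ι : Type*} [DecidableEq ι]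

/-- The standing hypothesis: simple and non-abelian. -/
structure NA (T : Type*) [Group T] : Prop where
  simple : IsSimpleGroup T
  noncomm : ∃ a b : T, a * b ≠ b * a

theorem NA.center_bot (h : NA T) {t : T} (ht : ∀ u, u * t = t * u) : t = 1 := by
  haveI := h.simple
  rcases IsSimpleGroup.eq_bot_or_eq_top_of_normal (Subgroup.center T) inferInstance with h0 | h0
  · have : t ∈ Subgroup.center T := Subgroup.mem_center_iff.mpr ht
    rwa [h0, Subgroup.mem_bot] at this
  · obtain ⟨a, b, hab⟩ := h.noncomm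
    exact absurd (Subgroup.mem_center_iff.mp (h0 ▸ Subgroup.mem_top b) a) hab

theorem NA.eq_top_of_commutators (h : NA T) (M : Subgroup T) (hM : ∀ a b : T, a * b * a⁻¹ * b⁻¹ ∈ M) :
    M = ⊤ := by
  haveI := h.simple
  rcases IsSimpleGroup.eq_bot_or_eq_top_of_normal (commutator T) inferInstance with h0 | h0
  · obtain ⟨a, b, hab⟩ := h.noncomm
    refine absurd ?_ hab
    have : a * b * a⁻¹ * b⁻¹ ∈ commutator T :=
      Subgroup.commutator_mem_commutator (Subgroup.mem_top a) (Subgroup.mem_top b)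
    rw [h0, Subgroup.mem_bot, mul_inv_eq_one, mul_inv_eq_iff_eq_mul] at this
    exact this
  · rw [eq_top_iff, ← h0, commutator_def, Subgroup.commutator_le]
    exact fun a _ b _ => hM a b

theorem mulSingle_comm_eq (f : ι → T) (i : ι) (t : T) :
    f * Pi.mulSingle i t * f⁻¹ * (Pi.mulSingle i t)⁻¹ = Pi.mulSingle i (f i * t * (f i)⁻¹ * t⁻¹) := by
  ext j
  rcases eq_or_ne j i with rfl | h
  · simp
  · simp [Pi.mulSingle_eq_of_ne h]

/-- A normal subgroup contains each coordinate subgroup it projects onto non-trivially. -/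
theorem NA.single_mem (h : NA T) (U : Subgroup (ι → T)) [hU : U.Normal] {f : ι → T} (hf : f ∈ U) {i : ι}
    (hi : f i ≠ 1) (t : T) : Pi.mulSingle i t ∈ U := by
  haveI := h.simple
  have hV : (U.comap (MonoidHom.mulSingle (fun _ : ι => T) i)) = ⊤ := by
    rcases IsSimpleGroup.eq_bot_or_eq_top_of_normal _ (hU.comap (MonoidHom.mulSingle (fun _ : ι => T) i)) with
      h0 | h0
    · exfalso
      refine hi (h.center_bot fun u => ?_)
      have hm : Pi.mulSingle i (f i * u * (f i)⁻¹ * u⁻¹) ∈ U := by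
        rw [← mulSingle_comm_eq]
        have := U.mul_mem hf (hU.conj_mem _ (U.inv_mem hf) (Pi.mulSingle i u))
        simpa only [mul_assoc] using this
      have hm' : f i * u * (f i)⁻¹ * u⁻¹ ∈ U.comap (MonoidHom.mulSingle (fun _ : ι => T) i) := hm
      rw [h0, Subgroup.mem_bot, mul_inv_eq_one, mul_inv_eq_iff_eq_mul] at hm'
      exact hm'.symm
    · exact h0
  exact (hV ▸ Subgroup.mem_top t : t ∈ U.comap (MonoidHom.mulSingle (fun _ : ι => T) i))

variable [Fintype ι] [Finite T]

/-- An automorphism of a power permutes the coordinates. -/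
theorem NA.aut_eq (h : NA T) (φ : (ι → T) ≃* (ι → T)) :
    ∃ (p : Equiv.Perm ι) (ψ : ι → T → T), (∀ i, Function.Bijective (ψ i)) ∧
      ∀ f i, φ f (p i) = ψ i (f i) := by
  classical
  haveI := h.simple
  obtain ⟨x, hx⟩ := exists_ne (1 : T)
  have hex : ∀ i, ∃ j, φ (Pi.mulSingle i x) j ≠ 1 := fun i => by
    by_contra! hall
    have : Pi.mulSingle i x = (1 : ι → T) := φ.injective ((funext hall).trans (map_one φ).symm)
    exact hx (Pi.mulSingle_eq_one_iff.mp this)
  choose p hp using hex
  have hone : ∀ i j, j ≠ p i → ∀ t, φ (Pi.mulSingle i t) j = 1 := by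
    intro i j hj t
    let U := (MonoidHom.mulSingle (fun _ : ι => T) i).range.map φ.toMonoidHom
    haveI hn : U.Normal := by
      refine Subgroup.Normal.map ⟨?_⟩ _ φ.surjective
      rintro _ ⟨s, rfl⟩ g
      refine ⟨g i * s * (g i)⁻¹, ?_⟩
      ext k
      rcases eq_or_ne k i with rfl | hk
      · simp
      · simp [Pi.mulSingle_eq_of_ne hk]
    have hU : ∀ s, φ (Pi.mulSingle i s) ∈ U := fun s => ⟨_, ⟨s, rfl⟩, rfl⟩
    have hle : (MonoidHom.mulSingle (fun _ : ι => T) (p i)).range ≤ U := by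
      rintro _ ⟨s, rfl⟩; exact h.single_mem U (hU x) (hp i) s
    have hinj : ∀ k : ι, Function.Injective (MonoidHom.mulSingle (fun _ : ι => T) k) :=
      fun k => Pi.mulSingle_injective (M := fun _ : ι => T) k
    have heq : (MonoidHom.mulSingle (fun _ : ι => T) (p i)).range = U :=
      Subgroup.eq_of_le_of_card_ge hle (le_of_eq (by
        rw [Subgroup.card_map_of_injective φ.injective, ← Nat.card_congr (MonoidHom.ofInjective (hinj i)).toEquiv,
          ← Nat.card_congr (MonoidHom.ofInjective (hinj (p i))).toEquiv]))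
    obtain ⟨s, hs⟩ := heq.symm ▸ hU t
    rw [← hs]
    exact Pi.mulSingle_eq_of_ne (M := fun _ : ι => T) hj s
  let ψ : ι → T →* T := fun i =>
    ((Pi.evalMonoidHom (fun _ : ι => T) (p i)).comp φ.toMonoidHom).comp (MonoidHom.mulSingle (fun _ : ι => T) i)
  have hsingle : ∀ i t, φ (Pi.mulSingle i t) = Pi.mulSingle (p i) (ψ i t) := fun i t => by
    ext j
    rcases eq_or_ne j (p i) with rfl | hj
    · rw [Pi.mulSingle_eq_same]; rfl
    · rw [hone i j hj t, Pi.mulSingle_eq_of_ne hj]
  have hψ : ∀ i, Function.Bijective (ψ i) := fun i => by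
    refine Finite.injective_iff_bijective.mp fun s t hst => ?_
    exact Pi.mulSingle_injective i (φ.injective (by rw [hsingle, hsingle, hst]))
  have hpinj : Function.Injective p := by
    intro i j hij
    by_contra hne
    obtain ⟨y, hy⟩ := (hψ j).2 (ψ i x)
    have : φ (Pi.mulSingle i x) = φ (Pi.mulSingle j y) := by rw [hsingle, hsingle, hy, hij]
    have := congrFun (φ.injective this) i
    rw [Pi.mulSingle_eq_same, Pi.mulSingle_eq_of_ne hne] at this
    exact hx this
  let p' : Equiv.Perm ι := Equiv.ofBijective p (Finite.injective_iff_bijective.mp hpinj)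
  refine ⟨p', fun i => ψ i, hψ, fun f i => ?_⟩
  have key : φ.toMonoidHom = Pi.monoidHom (fun j => (ψ (p'.symm j)).comp (Pi.evalMonoidHom _ (p'.symm j))) := by
    refine MonoidHom.ext fun g => Subgroup.pi_mem_of_mulSingle_mem (H := MonoidHom.eqLocus φ.toMonoidHom _) g
      fun k => ?_
    generalize g k = t
    ext j
    show φ (Pi.mulSingle k t) j = ψ (p'.symm j) ((Pi.mulSingle k t : ι → T) (p'.symm j))
    rw [hsingle]
    rcases eq_or_ne j (p k) with rfl | hj
    · rw [show p'.symm (p k) = k from p'.symm_apply_apply k, Pi.mulSingle_eq_same, Pi.mulSingle_eq_same]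
    · rw [Pi.mulSingle_eq_of_ne hj, Pi.mulSingle_eq_of_ne (fun e => hj (by
        rw [← e]; exact (p'.apply_symm_apply j).symm)), map_one]
  have := congrFun (DFunLike.congr_fun key f) (p' i)
  show φ f (p' i) = ψ i (f i)
  refine this.trans ?_
  show ψ (p'.symm (p' i)) (f (p'.symm (p' i))) = _
  rw [p'.symm_apply_apply]

/-- The kernel of a projection. -/
def ker (S : Subgroup (ι → T)) (i : ι) : Subgroup (ι → T) :=
  S ⊓ (Pi.evalMonoidHom (fun _ : ι => T) i).ker

theorem mem_ker {S : Subgroup (ι → T)} {i : ι} {f : ι → T} : f ∈ ker S i ↔ f ∈ S ∧ f i = 1 := Iff.rfl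

section subdirect

variable {S : Subgroup (ι → T)} (hfull : ∀ i t, ∃ f ∈ S, f i = t)

include hfull in
theorem exists_factor {i j : ι} (hij : ker S i = ker S j) :
    ∃ θ : T ≃* T, ∀ f ∈ S, f j = θ (f i) := by
  choose f hf hfi using hfull i
  have hwell : ∀ g ∈ S, g j = f (g i) j := fun g hg => by
    have h1 : g⁻¹ * f (g i) ∈ ker S i := mem_ker.mpr ⟨S.mul_mem (S.inv_mem hg) (hf _), by simp [hfi]⟩
    rw [hij] at h1
    have h2 := (mem_ker.mp h1).2
    rw [Pi.mul_apply, Pi.inv_apply, inv_mul_eq_one] at h2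
    exact h2
  let θ : T →* T := MonoidHom.mk' (fun t => f t j) fun s t => by
    have := hwell _ (S.mul_mem (hf s) (hf t))
    rw [Pi.mul_apply, Pi.mul_apply, hfi, hfi] at this
    exact this.symm
  refine ⟨MulEquiv.ofBijective θ (Finite.surjective_iff_bijective.mp fun t => ?_), fun g hg => hwell g hg⟩
  obtain ⟨g, hg, rfl⟩ := hfull j t
  exact ⟨g i, (hwell g hg).symm⟩

include hfull in
theorem exists_separating (h : NA T) {q : ι} (Q : Finset ι) (hQ : ∀ p ∈ Q, ker S p ≠ ker S q) (t : T) :
    ∃ f ∈ S, (∀ p ∈ Q, f p = 1) ∧ f q = t := by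
  haveI := h.simple
  classical
  induction Q using Finset.induction generalizing t with
  | empty =>
    obtain ⟨f, hf, hfq⟩ := hfull q t
    exact ⟨f, hf, fun p hp => absurd hp (Finset.notMem_empty p), hfq⟩
  | @insert p Q hp ih =>
    have hone : ∀ t, ∃ f ∈ S, f p = 1 ∧ f q = t := by
      let M := (ker S p).map (Pi.evalMonoidHom (fun _ : ι => T) q)
      haveI : M.Normal := ⟨by
        rintro _ ⟨f, hf, rfl⟩ s
        obtain ⟨g, hg, rfl⟩ := hfull q s
        refine ⟨g * f * g⁻¹, mem_ker.mpr ⟨S.mul_mem (S.mul_mem hg (mem_ker.mp hf).1) (S.inv_mem hg), ?_⟩, rfl⟩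
        simp [(mem_ker.mp hf).2]⟩
      rcases IsSimpleGroup.eq_bot_or_eq_top_of_normal M inferInstance with h0 | h0
      · exfalso
        refine hQ p (Finset.mem_insert_self p Q) (Subgroup.eq_of_le_of_card_ge (fun f hf => ?_) ?_)
        · refine mem_ker.mpr ⟨(mem_ker.mp hf).1, ?_⟩
          have : f q ∈ M := ⟨f, hf, rfl⟩
          rwa [h0, Subgroup.mem_bot] at this
        · have hk : ∀ i, Nat.card (ker S i) * Nat.card T = Nat.card S := fun i => by
            let π := (Pi.evalMonoidHom (fun _ : ι => T) i).comp S.subtype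
            have hs : Function.Surjective π := fun t => by
              obtain ⟨f, hf, hft⟩ := hfull i t; exact ⟨⟨f, hf⟩, hft⟩
            rw [← Subgroup.card_mul_index π.ker, Subgroup.index_ker, MonoidHom.range_eq_top.mpr hs,
              Subgroup.card_top]
            congr 1
            exact Nat.card_congr
              { toFun := fun f => ⟨⟨f.1, f.2.1⟩, f.2.2⟩
                invFun := fun f => ⟨f.1.1, f.1.2, f.2⟩
                left_inv := fun _ => rfl
                right_inv := fun _ => rfl }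
          have := (hk p).trans (hk q).symm
          exact (Nat.eq_of_mul_eq_mul_right Nat.card_pos this).ge
      · intro t
        obtain ⟨f, hf, hft⟩ := (h0 ▸ Subgroup.mem_top t : t ∈ M)
        exact ⟨f, (mem_ker.mp hf).1, (mem_ker.mp hf).2, hft⟩
    have ih' := ih fun p' hp' => hQ p' (Finset.mem_insert_of_mem hp')
    let M : Subgroup T :=
      { carrier := {t | ∃ f ∈ S, (∀ p' ∈ insert p Q, f p' = 1) ∧ f q = t}
        one_mem' := ⟨1, S.one_mem, fun _ _ => rfl, rfl⟩
        mul_mem' := by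
          rintro _ _ ⟨f, hf, hf1, rfl⟩ ⟨g, hg, hg1, rfl⟩
          exact ⟨f * g, S.mul_mem hf hg, fun p' hp' => by simp [hf1 p' hp', hg1 p' hp'], rfl⟩
        inv_mem' := by
          rintro _ ⟨f, hf, hf1, rfl⟩
          exact ⟨f⁻¹, S.inv_mem hf, fun p' hp' => by simp [hf1 p' hp'], rfl⟩ }
    have hM : M = ⊤ := h.eq_top_of_commutators M fun a b => by
      obtain ⟨f, hf, hfp, rfl⟩ := hone a
      obtain ⟨g, hg, hg1, rfl⟩ := ih' b
      refine ⟨f * g * f⁻¹ * g⁻¹, S.mul_mem (S.mul_mem (S.mul_mem hf hg) (S.inv_mem hf)) (S.inv_mem hg),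
        fun p' hp' => ?_, rfl⟩
      rcases Finset.mem_insert.mp hp' with rfl | hp'
      · simp [hfp]
      · simp [hg1 p' hp']
    exact (hM ▸ Subgroup.mem_top t : t ∈ M)

include hfull in
/-- A subdirect subgroup is the set of tuples respecting its diagonals. -/
theorem mem_of_compat (h : NA T) (f : ι → T)
    (hf : ∀ i j, ker S i = ker S j → ∀ g ∈ S, g i = f i → g j = f j) : f ∈ S := by
  classical
  have key : ∀ Q : Finset ι, (∀ i ∈ Q, ∀ j, ker S i = ker S j → j ∈ Q) → ∃ g ∈ S, ∀ i, (i ∈ Q → g i = f i) ∧ (i ∉ Q → g i = 1) := by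
    intro Q
    induction hc : Q.card using Nat.strong_induction_on generalizing Q with
    | _ n ih =>
      intro hQ
      rcases Q.eq_empty_or_nonempty with rfl | ⟨q, hq⟩
      · exact ⟨1, S.one_mem, fun i => ⟨fun hi => absurd hi (Finset.notMem_empty i), fun _ => rfl⟩⟩
      set B := Finset.univ.filter fun j => ker S q = ker S j with hB
      have hBQ : B ⊆ Q := fun j hj => hQ q hq j (Finset.mem_filter.mp hj).2
      have hqB : q ∈ B := Finset.mem_filter.mpr ⟨Finset.mem_univ _, rfl⟩
      obtain ⟨g, hg, hgQ⟩ := ih _ (by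
        rw [← hc]
        exact Finset.card_lt_card (Finset.sdiff_ssubset hBQ ⟨q, hqB⟩)) (Q \ B) rfl (fun i hi j hij => by
          rw [Finset.mem_sdiff] at hi ⊢
          refine ⟨hQ i hi.1 j hij, fun hj => hi.2 ?_⟩
          exact Finset.mem_filter.mpr ⟨Finset.mem_univ _, (Finset.mem_filter.mp hj).2.trans hij.symm⟩)
      obtain ⟨d, hd, hd1, hdq⟩ := exists_separating hfull h (q := q) (Bᶜ) (fun p hp e => by
        rw [Finset.mem_compl] at hp
        exact hp (Finset.mem_filter.mpr ⟨Finset.mem_univ _, e.symm⟩)) (f q)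
      refine ⟨g * d, S.mul_mem hg hd, fun i => ⟨fun hi => ?_, fun hi => ?_⟩⟩
      · by_cases hiB : i ∈ B
        · rw [Pi.mul_apply, (hgQ i).2 (fun h' => (Finset.mem_sdiff.mp h').2 hiB), one_mul]
          exact hf q i (Finset.mem_filter.mp hiB).2 d hd hdq
        · rw [Pi.mul_apply, (hgQ i).1 (Finset.mem_sdiff.mpr ⟨hi, hiB⟩), hd1 i (Finset.mem_compl.mpr hiB), mul_one]
      · have hiB : i ∉ B := fun h' => hi (hBQ h')
        rw [Pi.mul_apply, (hgQ i).2 (fun h' => hi (Finset.mem_sdiff.mp h').1), hd1 i (Finset.mem_compl.mpr hiB),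
          one_mul]
  obtain ⟨g, hg, hgf⟩ := key Finset.univ fun i _ j _ => Finset.mem_univ j
  rwa [show f = g from funext fun i => ((hgf i).1 (Finset.mem_univ i)).symm]

end subdirect

end Cfsg.Agent.PermGp.SimplePower
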