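import Mathlib

/-!
# A maximal core-free subgroup with two conjugates meeting in a 2-group of index 3

The chain of intersections along a shift, the commutation bound and the exclusion of length 6.
-/

set_option autoImplicit false

namespace Cfsg.Agent.SubThree

variable {G : Type*} [Group G]

/-- Conjugation of subgroups. -/
def cj (g : G) (K : Subgroup G) : Subgroup G := K.map (MulAut.conj g).toMonoidHom

theorem mem_cj {g y : G} {K : Subgroup G} : y ∈ cj g K ↔ g⁻¹ * y * g ∈ K := by
  constructor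
  · rintro ⟨z, hz, rfl⟩
    show g⁻¹ * (g * z * g⁻¹) * g ∈ K
    rwa [show g⁻¹ * (g * z * g⁻¹) * g = z by group]
  · exact fun h => ⟨g⁻¹ * y * g, h, by show g * (g⁻¹ * y * g) * g⁻¹ = y; group⟩

theorem conj_mem_cj {g z : G} {K : Subgroup G} (hz : z ∈ K) : g * z * g⁻¹ ∈ cj g K := ⟨z, hz, rfl⟩

theorem cj_cj (a b : G) (K : Subgroup G) : cj a (cj b K) = cj (a * b) K := by
  ext y; simp only [mem_cj]
  rw [show b⁻¹ * (a⁻¹ * y * a) * b = (a * b)⁻¹ * y * (a * b) by group]

theorem cj_one (K : Subgroup G) : cj 1 K = K := by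
  ext y; simp [mem_cj]

theorem cj_mono (g : G) {A B : Subgroup G} (h : A ≤ B) : cj g A ≤ cj g B := Subgroup.map_mono h

theorem cj_inj {g : G} {A B : Subgroup G} (h : cj g A = cj g B) : A = B := by
  have := congrArg (cj g⁻¹) h
  rwa [cj_cj, cj_cj, inv_mul_cancel, cj_one, cj_one] at this

theorem card_cj (g : G) (K : Subgroup G) : Nat.card (cj g K) = Nat.card K :=
  (Nat.card_congr (K.equivMapOfInjective _ (MulAut.conj g).injective).toEquiv).symm

theorem mem_normalizer_of_cj {g : G} {K : Subgroup G} (h : cj g K = K) :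
    g ∈ Subgroup.normalizer (K : Set G) := by
  rw [Subgroup.mem_normalizer_iff]
  intro y
  constructor
  · intro hy; rw [← h]; exact conj_mem_cj hy
  · intro hy
    have h2 : g * y * g⁻¹ ∈ cj g K := h.symm ▸ hy
    rw [mem_cj, show g⁻¹ * (g * y * g⁻¹) * g = y by group] at h2
    exact h2

theorem cj_of_mem_normalizer {g : G} {K : Subgroup G} (h : g ∈ Subgroup.normalizer (K : Set G)) :
    cj g K = K := by
  ext y
  rw [mem_cj, Subgroup.mem_normalizer_iff.1 h (g⁻¹ * y * g),
    show g * (g⁻¹ * y * g) * g⁻¹ = y by group]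

theorem cj_sup (g : G) (A B : Subgroup G) : cj g (A ⊔ B) = cj g A ⊔ cj g B := Subgroup.map_sup _ _ _

theorem normalized_of_card [Finite G] {A B : Subgroup G} (hAB : A ≤ B)
    (hc : Nat.card B = 2 * Nat.card A) : B ≤ Subgroup.normalizer (A : Set G) := by
  have h2 : (A.subgroupOf B).index = 2 := by
    have h := Subgroup.card_mul_index (A.subgroupOf B)
    rw [Nat.card_congr (Subgroup.subgroupOfEquivOfLe hAB).toEquiv, hc, mul_comm 2] at h
    exact Nat.eq_of_mul_eq_mul_left Nat.card_pos h
  have := Subgroup.normal_of_index_eq_two h2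
  exact (Subgroup.normal_subgroupOf_iff_le_normalizer hAB).1 this

theorem eq_top_of_normalizer {H : Subgroup G} (hmax : ∀ K, H < K → K = ⊤) {X : Subgroup G}
    {g : G} (hH : H ≤ Subgroup.normalizer (X : Set G)) (hg : g ∈ Subgroup.normalizer (X : Set G))
    (hgH : g ∉ H) : X.Normal :=
  Subgroup.normalizer_eq_top_iff.1 (hmax _ (lt_of_le_of_ne hH fun he => hgH (he.symm ▸ hg)))

/-- The set-up: a maximal core-free subgroup `H` of order `3·2^k` and an element `h`. -/
structure Setup (H : Subgroup G) (h : G) (k : ℕ) : Prop where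
  hmax : ∀ K, H < K → K = ⊤
  hcore : ∀ X : Subgroup G, X.Normal → X ≤ H → X = ⊥
  hne : cj h H ≠ H
  hk : 1 ≤ k
  cardH : Nat.card H = 3 * 2 ^ k
  card1 : Nat.card ↥(H ⊓ cj h H) = 2 ^ k
  hS : cj h (H ⊓ cj h H) ≠ H ⊓ cj h H

/-- The chain of intersections. -/
def chain (H : Subgroup G) (h : G) : ℕ → Subgroup G
  | 0 => H
  | j + 1 => chain H h j ⊓ cj h (chain H h j)

/-- The interval of length `n` starting at `i`. -/
def iv (H : Subgroup G) (h : G) (k : ℕ) (i : ℤ) (n : ℕ) : Subgroup G :=
  cj (h ^ (i + n - (k + 1) : ℤ)) (chain H h (k + 1 - n))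

namespace Setup

variable {H : Subgroup G} {h : G} {k : ℕ}

theorem chain_anti (H : Subgroup G) (h : G) {a b : ℕ} (hab : a ≤ b) : chain H h b ≤ chain H h a := by
  induction hab with
  | refl => exact le_rfl
  | step _ ih => exact inf_le_left.trans ih

theorem notMem (S : Setup H h k) : h ∉ H := fun hh => S.hne (cj_of_mem_normalizer
  (Subgroup.le_normalizer hh))

theorem card_chain [Finite G] (S : Setup H h k) : ∀ i, 1 ≤ i → i ≤ k + 1 →
    Nat.card (chain H h i) = 2 ^ (k + 1 - i) := by
  intro i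
  induction i using Nat.strong_induction_on with
  | _ i ih =>
  intro hi hik
  obtain ⟨j, rfl⟩ := Nat.exists_eq_add_of_le' hi
  rcases Nat.eq_zero_or_pos j with rfl | hj
  · rw [show k + 1 - (0 + 1) = k by omega]; exact S.card1
  have hcj := ih j (by omega) hj (by omega)
  have hle : chain H h (j + 1) ≤ chain H h j := inf_le_left
  obtain ⟨c, hc, hcard⟩ : ∃ c, c ≤ k + 1 - j ∧ Nat.card (chain H h (j + 1)) = 2 ^ c := by
    have := Subgroup.card_dvd_of_le hle
    rw [hcj] at this
    obtain ⟨c, hc, hcard⟩ := (Nat.dvd_prime_pow Nat.prime_two).1 this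
    exact ⟨c, hc, hcard⟩
  -- the index is at most 2
  have hge : Nat.card (chain H h j) ≤ 2 * Nat.card (chain H h (j + 1)) := by
    rcases Nat.lt_or_ge 1 j with hj1 | hj1
    · obtain ⟨l, rfl⟩ := Nat.exists_eq_add_of_le' (show 1 ≤ j by omega)
      have hl := ih l (by omega) (by omega) (by omega)
      have hsub : cj h (chain H h (l + 1)) ≤ cj h (chain H h l) := cj_mono h inf_le_left
      have hrel : (cj h (chain H h (l + 1))).relIndex (chain H h (l + 1)) ≤
          (cj h (chain H h (l + 1))).relIndex (cj h (chain H h l)) :=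
        Subgroup.relIndex_le_of_le_right inf_le_right
          (fun h0 => by rw [Subgroup.relIndex] at h0; exact Subgroup.index_ne_zero_of_finite h0)
      have e1 : (cj h (chain H h (l + 1))).relIndex (cj h (chain H h l)) = 2 := by
        have h1 := Subgroup.card_mul_index ((cj h (chain H h (l + 1))).subgroupOf (cj h (chain H h l)))
        rw [Nat.card_congr (Subgroup.subgroupOfEquivOfLe hsub).toEquiv, card_cj, card_cj, hcj, hl,
          show k + 1 - l = k + 1 - (l + 1) + 1 by omega, pow_succ] at h1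
        exact Nat.eq_of_mul_eq_mul_left (by positivity) h1
      have h1 := Subgroup.card_mul_index ((cj h (chain H h (l + 1))).subgroupOf (chain H h (l + 1)))
      rw [← Nat.card_congr (Subgroup.subgroupOfEquivOfLe hle).toEquiv] 
      have heq : (cj h (chain H h (l + 1))).subgroupOf (chain H h (l + 1)) =
          (chain H h (l + 1 + 1)).subgroupOf (chain H h (l + 1)) := by
        ext y; simp [Subgroup.mem_subgroupOf, chain]
      rw [← heq, ← h1, mul_comm 2]
      exact Nat.mul_le_mul_left _ (hrel.trans e1.le)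
    · obtain rfl : j = 1 := by omega
      have hrel : (cj h (chain H h 1)).relIndex (chain H h 1) ≤
          (cj h (chain H h 1)).relIndex (cj h H) :=
        Subgroup.relIndex_le_of_le_right inf_le_right
          (fun h0 => by rw [Subgroup.relIndex] at h0; exact Subgroup.index_ne_zero_of_finite h0)
      have e1 : (cj h (chain H h 1)).relIndex (cj h H) = 3 := by
        have h1 := Subgroup.card_mul_index ((cj h (chain H h 1)).subgroupOf (cj h H))
        have hs : cj h (chain H h 1) ≤ cj h H := cj_mono h inf_le_left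
        rw [Nat.card_congr (Subgroup.subgroupOfEquivOfLe hs).toEquiv, card_cj,
          card_cj, S.cardH, mul_comm 3] at h1
        change Nat.card ↥(H ⊓ cj h H) * _ = _ at h1
        rw [S.card1] at h1
        exact Nat.eq_of_mul_eq_mul_left (by positivity) h1
      have h1 := Subgroup.card_mul_index ((cj h (chain H h 1)).subgroupOf (chain H h 1))
      have heq : (cj h (chain H h 1)).subgroupOf (chain H h 1) =
          (chain H h (1 + 1)).subgroupOf (chain H h 1) := by
        ext y; simp [Subgroup.mem_subgroupOf, chain]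
      rw [heq, Nat.card_congr (Subgroup.subgroupOfEquivOfLe hle).toEquiv] at h1
      have h2 : ((chain H h (1 + 1)).subgroupOf (chain H h 1)).index ≤ 3 := by
        rw [← heq]; exact hrel.trans e1.le
      rw [hcj, hcard] at h1 ⊢
      rcases Nat.lt_or_ge c (k + 1 - 1) with hlt | hgt
      · obtain ⟨d, hd⟩ := Nat.exists_eq_add_of_lt hlt
        rw [hd, show c + d + 1 = c + (d + 1) by omega, pow_add] at h1 ⊢
        have h3 := Nat.eq_of_mul_eq_mul_left (by positivity) h1
        rw [h3] at h2
        rcases d with _ | d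
        · norm_num; omega
        · have : 4 ≤ 2 ^ (d + 1 + 1) := by
            calc 4 = 2 ^ 2 := by norm_num
              _ ≤ _ := Nat.pow_le_pow_right (by norm_num) (by omega)
          omega
      · rw [show c = k + 1 - 1 by omega]; omega
  -- and it is not 1
  have hneq : c ≠ k + 1 - j := by
    intro hceq
    have heq : chain H h (j + 1) = chain H h j :=
      Subgroup.eq_of_le_of_card_ge hle (by rw [hcard, hcj, hceq])
    have hinv : cj h (chain H h j) = chain H h j := by
      refine (Subgroup.eq_of_le_of_card_ge ?_ (by rw [card_cj])).symm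
      conv_lhs => rw [← heq]
      exact inf_le_right
    have key : ∀ d, d ≤ j → chain H h (j - d) ≤ Subgroup.normalizer (chain H h j : Set G) := by
      intro d
      induction d with
      | zero => intro _; exact Subgroup.le_normalizer
      | succ d ihd =>
        intro hd
        obtain ⟨l, hl⟩ : ∃ l, j - d = l + 1 := ⟨j - d - 1, by omega⟩
        have hjl : j - (d + 1) = l := by omega
        rw [hjl]
        have ha := ihd (by omega)
        rw [hl] at ha
        rcases Nat.eq_zero_or_pos d with rfl | hd0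
        · rw [Nat.sub_zero] at hl
          subst hl
          rcases Nat.eq_zero_or_pos l with rfl | hl0
          · exact absurd hinv S.hS
          exact normalized_of_card inf_le_left (by
            rw [hcj, ih l (by omega) hl0 (by omega), ← pow_succ']; congr 1; omega)
        · have hhn : h⁻¹ ∈ Subgroup.normalizer (chain H h j : Set G) :=
            (Subgroup.normalizer _).inv_mem (mem_normalizer_of_cj hinv)
          have hb : cj h⁻¹ (chain H h (l + 1)) ≤ Subgroup.normalizer (chain H h j : Set G) := by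
            rintro y ⟨z, hz, rfl⟩
            exact Subgroup.mul_mem _ (Subgroup.mul_mem _ hhn (ha hz)) (Subgroup.inv_mem _ hhn)
          have hsub2 : cj h⁻¹ (chain H h (l + 1)) ≤ chain H h l := by
            refine (cj_mono h⁻¹ inf_le_right).trans ?_
            rw [cj_cj, inv_mul_cancel, cj_one]
          have hdiff : cj h⁻¹ (chain H h (l + 1)) ≠ chain H h (l + 1) := by
            intro he
            have he' : cj h (chain H h (l + 1)) = chain H h (l + 1) := by
              conv_lhs => rw [← he]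
              rw [cj_cj, mul_inv_cancel, cj_one]
            have : chain H h (l + 2) = chain H h (l + 1) := by
              show chain H h (l + 1) ⊓ cj h (chain H h (l + 1)) = _
              rw [he', inf_idem]
            have hc2 := congrArg (fun K : Subgroup G => Nat.card K) this
            simp only [ih (l + 2) (by omega) (by omega) (by omega),
              ih (l + 1) (by omega) (by omega) (by omega)] at hc2
            have := Nat.pow_right_injective le_rfl hc2
            omega
          refine le_trans ?_ (sup_le ha hb)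
          refine le_of_eq (Subgroup.eq_of_le_of_card_ge
            (sup_le (show chain H h (l + 1) ≤ chain H h l from inf_le_left) hsub2) ?_).symm
          have hlt : chain H h (l + 1) < chain H h (l + 1) ⊔ cj h⁻¹ (chain H h (l + 1)) := by
            refine lt_of_le_of_ne le_sup_left fun he => hdiff ?_
            refine Subgroup.eq_of_le_of_card_ge ?_ (by rw [card_cj])
            conv_rhs => rw [he]
            exact le_sup_right
          have hd1 := Subgroup.card_dvd_of_le hlt.le
          have hd2 := Subgroup.card_dvd_of_le (sup_le (show chain H h (l + 1) ≤ chain H h l from inf_le_left) hsub2)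
          have hlt' := Set.ncard_lt_ncard (SetLike.coe_ssubset_coe.2 hlt)
          rw [← Nat.card_coe_set_eq, ← Nat.card_coe_set_eq] at hlt'
          change Nat.card (chain H h (l + 1)) < Nat.card ↥(_ ⊔ _ : Subgroup G) at hlt'
          rw [ih (l + 1) (by omega) (by omega) (by omega)] at hd1 hlt'
          obtain ⟨q, hq⟩ := hd1
          rcases Nat.eq_zero_or_pos l with rfl | hl0
          · rw [show k + 1 - (0 + 1) = k by omega] at hq hlt'
            rw [hq, show Nat.card (chain H h 0) = 3 * 2 ^ k from S.cardH, mul_comm (2 ^ k)] at hd2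
            rw [hq, show Nat.card (chain H h 0) = 3 * 2 ^ k from S.cardH]
            have hq3 := Nat.dvd_of_mul_dvd_mul_right (by positivity) hd2
            rcases (Nat.dvd_prime Nat.prime_three).1 hq3 with rfl | rfl
            · omega
            · rw [mul_comm]
          · rw [hq, ih l (by omega) hl0 (by omega), show k + 1 - l = k + 1 - (l + 1) + 1 by omega,
              pow_succ] at hd2
            rw [hq, ih l (by omega) hl0 (by omega), show k + 1 - l = k + 1 - (l + 1) + 1 by omega,
              pow_succ]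
            have hq2 := Nat.dvd_of_mul_dvd_mul_left (by positivity) hd2
            rcases (Nat.dvd_prime Nat.prime_two).1 hq2 with rfl | rfl
            · omega
            · exact le_rfl
    have hH := key j le_rfl
    rw [Nat.sub_self] at hH
    have hN := eq_top_of_normalizer S.hmax hH (mem_normalizer_of_cj hinv) S.notMem
    have := S.hcore _ hN (chain_anti H h (Nat.zero_le j))
    rw [this, Subgroup.card_bot] at hcj
    have : 2 ^ 1 ≤ 2 ^ (k + 1 - j) := Nat.pow_le_pow_right (by norm_num) (by omega)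
    omega
  rw [hcard]
  congr 1
  rw [hcj, hcard, ← pow_succ'] at hge
  have := (Nat.pow_le_pow_iff_right (by norm_num)).1 hge
  omega

theorem card_iv [Finite G] (S : Setup H h k) (i : ℤ) {n : ℕ} (hn : n ≤ k) :
    Nat.card (iv H h k i n) = 2 ^ n := by
  rw [iv, card_cj, S.card_chain _ (by omega) (by omega), show k + 1 - (k + 1 - n) = n by omega]

theorem iv_full (H : Subgroup G) (h : G) (k : ℕ) : iv H h k 0 (k + 1) = H := by
  rw [iv, Nat.sub_self, show (0 : ℤ) + ((k + 1 : ℕ) : ℤ) - ((k : ℤ) + 1) = 0 by push_cast; ring,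
    zpow_zero, cj_one]
  rfl

theorem iv_top (H : Subgroup G) (h : G) (k : ℕ) : iv H h k 1 k = H ⊓ cj h H := by
  rw [iv, show k + 1 - k = 1 by omega, show (1 : ℤ) + (k : ℤ) - ((k : ℤ) + 1) = 0 by ring,
    zpow_zero, cj_one]
  rfl

theorem cj_iv (H : Subgroup G) (h : G) (k : ℕ) (i : ℤ) (n : ℕ) :
    cj h (iv H h k i n) = iv H h k (i + 1) n := by
  rw [iv, iv, cj_cj]
  congr 1
  rw [← zpow_one_add]; congr 1; ring

theorem iv_zero [Finite G] (S : Setup H h k) (i : ℤ) : iv H h k i 0 = ⊥ :=
  Subgroup.eq_bot_of_card_eq _ (by rw [S.card_iv i (Nat.zero_le k), pow_zero])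

theorem iv_left (H : Subgroup G) (h : G) {k n : ℕ} (i : ℤ) (hn : n ≤ k) :
    iv H h k i n ≤ iv H h k i (n + 1) := by
  obtain ⟨j, rfl⟩ : ∃ j, k = n + j := ⟨k - n, by omega⟩
  rw [iv, iv, show n + j + 1 - n = j + 1 by omega, show n + j + 1 - (n + 1) = j by omega,
    show i + ((n + 1 : ℕ) : ℤ) - (((n + j : ℕ) : ℤ) + 1) =
      (i + (n : ℤ) - (((n + j : ℕ) : ℤ) + 1)) + 1 by push_cast; ring,
    zpow_add_one, ← cj_cj]
  exact cj_mono _ inf_le_right

theorem iv_right (H : Subgroup G) (h : G) {k n : ℕ} (i : ℤ) (hn : n ≤ k) :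
    iv H h k (i + 1) n ≤ iv H h k i (n + 1) := by
  obtain ⟨j, rfl⟩ : ∃ j, k = n + j := ⟨k - n, by omega⟩
  rw [iv, iv, show n + j + 1 - n = j + 1 by omega, show n + j + 1 - (n + 1) = j by omega,
    show i + ((n + 1 : ℕ) : ℤ) - (((n + j : ℕ) : ℤ) + 1) =
      i + 1 + (n : ℤ) - (((n + j : ℕ) : ℤ) + 1) by push_cast; ring]
  exact cj_mono _ inf_le_left

theorem iv_ne [Finite G] (S : Setup H h k) (i : ℤ) {n : ℕ} (h1 : 1 ≤ n) (hn : n ≤ k) :
    iv H h k i n ≠ iv H h k (i + 1) n := by
  intro he
  rw [iv, iv, show i + 1 + (n : ℤ) - ((k : ℤ) + 1) = (i + (n : ℤ) - ((k : ℤ) + 1)) + 1 by ring,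
    zpow_add_one, ← cj_cj] at he
  have he' := cj_inj he
  have hc := congrArg (fun K : Subgroup G => Nat.card K)
    (show chain H h (k + 1 - n + 1) = chain H h (k + 1 - n) by
      show chain H h (k + 1 - n) ⊓ cj h (chain H h (k + 1 - n)) = _
      rw [← he', inf_idem])
  simp only [S.card_chain (k + 1 - n) (by omega) (by omega),
    S.card_chain (k + 1 - n + 1) (by omega) (by omega)] at hc
  have := Nat.pow_right_injective le_rfl hc
  omega

theorem iv_sup [Finite G] (S : Setup H h k) (i : ℤ) {n : ℕ} (h1 : 1 ≤ n) (hn : n ≤ k) :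
    iv H h k i (n + 1) = iv H h k i n ⊔ iv H h k (i + 1) n := by
  have hle : iv H h k i n ⊔ iv H h k (i + 1) n ≤ iv H h k i (n + 1) :=
    sup_le (iv_left H h i hn) (iv_right H h i hn)
  refine (Subgroup.eq_of_le_of_card_ge hle ?_).symm
  have hlt : iv H h k i n < iv H h k i n ⊔ iv H h k (i + 1) n := by
    refine lt_of_le_of_ne le_sup_left fun he => S.iv_ne i h1 hn ?_
    refine (Subgroup.eq_of_le_of_card_ge ?_ (by rw [S.card_iv _ hn, S.card_iv _ hn])).symm
    conv_rhs => rw [he]
    exact le_sup_right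
  have hlt' := Set.ncard_lt_ncard (SetLike.coe_ssubset_coe.2 hlt)
  rw [← Nat.card_coe_set_eq, ← Nat.card_coe_set_eq] at hlt'
  change Nat.card (iv H h k i n) < Nat.card ↥(_ ⊔ _ : Subgroup G) at hlt'
  rw [S.card_iv _ hn] at hlt'
  obtain ⟨q, hq⟩ := Subgroup.card_dvd_of_le hlt.le
  rw [S.card_iv _ hn] at hq
  have hd := Subgroup.card_dvd_of_le hle
  rw [hq] at hd hlt' ⊢
  rcases Nat.lt_or_ge n k with hnk | hnk
  · rw [S.card_iv _ (show n + 1 ≤ k by omega), pow_succ] at hd ⊢
    rcases (Nat.dvd_prime Nat.prime_two).1 (Nat.dvd_of_mul_dvd_mul_left (by positivity) hd) with rfl | rfl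
    · omega
    · exact le_rfl
  · obtain rfl : n = k := by omega
    rw [iv, card_cj, Nat.sub_self, show Nat.card (chain H h 0) = 3 * 2 ^ n from S.cardH, mul_comm 3] at hd ⊢
    rcases (Nat.dvd_prime Nat.prime_three).1 (Nat.dvd_of_mul_dvd_mul_left (by positivity) hd) with rfl | rfl
    · omega
    · exact le_rfl

theorem iv_normalize [Finite G] (S : Setup H h k) (i : ℤ) {n : ℕ} (hn : n + 1 ≤ k) :
    iv H h k i (n + 1) ≤ Subgroup.normalizer (iv H h k i n : Set G) ∧
      iv H h k i (n + 1) ≤ Subgroup.normalizer (iv H h k (i + 1) n : Set G) := by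
  constructor <;> refine normalized_of_card ?_ (by
    rw [S.card_iv _ hn, S.card_iv _ (by omega), pow_succ']) 
  · exact iv_left H h i (by omega)
  · exact iv_right H h i (by omega)

theorem iv_inter [Finite G] (S : Setup H h k) (i : ℤ) {n : ℕ} (hn : n + 2 ≤ k + 1) :
    iv H h k i (n + 1) ⊓ iv H h k (i + 1) (n + 1) = iv H h k (i + 1) n := by
  refine (Subgroup.eq_of_le_of_card_ge (le_inf (iv_right H h i (by omega))
    (iv_left H h (i + 1) (by omega))) ?_).symm
  have hlt : iv H h k i (n + 1) ⊓ iv H h k (i + 1) (n + 1) < iv H h k i (n + 1) := by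
    refine lt_of_le_of_ne inf_le_left fun he => S.iv_ne i (n := n + 1) (by omega) (by omega) ?_
    exact Subgroup.eq_of_le_of_card_ge (inf_eq_left.1 he)
      (by rw [S.card_iv _ (show n + 1 ≤ k by omega), S.card_iv _ (show n + 1 ≤ k by omega)])
  have hlt' := Set.ncard_lt_ncard (SetLike.coe_ssubset_coe.2 hlt)
  rw [← Nat.card_coe_set_eq, ← Nat.card_coe_set_eq] at hlt'
  change Nat.card ↥(_ ⊓ _ : Subgroup G) < Nat.card (iv H h k i (n + 1)) at hlt'
  obtain ⟨c, -, hc⟩ := (Nat.dvd_prime_pow Nat.prime_two).1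
    ((S.card_iv i (show n + 1 ≤ k by omega)) ▸ Subgroup.card_dvd_of_le hlt.le)
  rw [hc, S.card_iv _ (show n + 1 ≤ k by omega)] at hlt'
  rw [hc, S.card_iv _ (by omega)]
  exact Nat.pow_le_pow_right (by norm_num)
    (by have := (Nat.pow_lt_pow_iff_right (by norm_num : 1 < 2)).1 hlt'; omega)

/-- The generator of the interval of length one at `i`. -/
noncomputable def pt (H : Subgroup G) (h : G) (k : ℕ) (i : ℤ) : G :=
  h ^ i * Classical.epsilon (fun a : G => a ∈ iv H h k 0 1 ∧ a ≠ 1) * (h ^ i)⁻¹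

theorem pt_spec [Finite G] (S : Setup H h k) (i : ℤ) :
    iv H h k i 1 = Subgroup.zpowers (pt H h k i) ∧ pt H h k i ≠ 1 ∧ pt H h k i * pt H h k i = 1 := by
  set a := Classical.epsilon (fun a : G => a ∈ iv H h k 0 1 ∧ a ≠ 1) with ha
  have hc := S.card_iv 0 S.hk
  rw [pow_one] at hc
  have hex : ∃ a : G, a ∈ iv H h k 0 1 ∧ a ≠ 1 := by
    obtain ⟨⟨b, hb⟩, hb1⟩ := (iv H h k 0 1).ne_bot_iff_exists_ne_one.1
      ((Subgroup.one_lt_card_iff_ne_bot _).1 (by omega))
    exact ⟨b, hb, fun hh => hb1 (Subtype.ext hh)⟩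
  have hspec := Classical.epsilon_spec hex
  have hi : iv H h k i 1 = cj (h ^ i) (iv H h k 0 1) := by
    rw [iv, iv, cj_cj, ← zpow_add]; congr 2; ring
  have hmem : pt H h k i ∈ iv H h k i 1 := hi ▸ conj_mem_cj hspec.1
  have hne : pt H h k i ≠ 1 := fun hh => hspec.2 (conj_eq_one_iff.1 hh)
  have hci := S.card_iv i S.hk
  rw [pow_one] at hci
  have hsq : pt H h k i * pt H h k i = 1 := by
    have := pow_card_eq_one' (G := iv H h k i 1) (x := ⟨_, hmem⟩)
    rw [hci, pow_two] at this
    exact congrArg Subtype.val this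
  refine ⟨(Subgroup.eq_of_le_of_card_ge (Subgroup.zpowers_le.2 hmem) ?_).symm, hne, hsq⟩
  rw [hci, Nat.card_zpowers, orderOf_eq_prime (p := 2) (by rw [pow_two]; exact hsq) hne]

theorem pt_shift (H : Subgroup G) (h : G) (k : ℕ) (i j : ℤ) :
    h ^ j * pt H h k i * (h ^ j)⁻¹ = pt H h k (j + i) := by
  rw [pt, pt, zpow_add]; group

theorem pt_mem [Finite G] (S : Setup H h k) {i j : ℤ} {n : ℕ} (hn : n ≤ k + 1) (h1 : i ≤ j)
    (h2 : j < i + n) : pt H h k j ∈ iv H h k i n := by
  induction n generalizing i with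
  | zero => omega
  | succ n ih =>
    rcases eq_or_lt_of_le h1 with rfl | hlt
    · rcases Nat.eq_zero_or_pos n with rfl | hn0
      · rw [(S.pt_spec i).1]; exact Subgroup.mem_zpowers _
      · exact iv_left H h i (by omega) (ih (by omega) le_rfl (by omega))
    · exact iv_right H h i (by omega) (ih (by omega) (by omega) (by omega))

theorem iv_le_iff [Finite G] (S : Setup H h k) (i : ℤ) {n : ℕ} (hn : n ≤ k + 1) (K : Subgroup G)
    (hK : ∀ j : ℤ, i ≤ j → j < i + n → pt H h k j ∈ K) : iv H h k i n ≤ K := by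
  induction n generalizing i with
  | zero => rw [S.iv_zero]; exact bot_le
  | succ n ih =>
    rcases Nat.eq_zero_or_pos n with rfl | hn0
    · rw [(S.pt_spec i).1, Subgroup.zpowers_le]; exact hK i le_rfl (by omega)
    · rw [S.iv_sup i hn0 (by omega)]
      exact sup_le (ih i (by omega) fun j h1 h2 => hK j h1 (by omega))
        (ih (i + 1) (by omega) fun j h1 h2 => hK j (by omega) (by omega))

theorem pt_notMem_left [Finite G] (S : Setup H h k) (i : ℤ) {n : ℕ} (hn : n ≤ k) :
    pt H h k (i + n) ∉ iv H h k i n := by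
  intro hmem
  rcases Nat.eq_zero_or_pos n with rfl | hn0
  · rw [S.iv_zero, Subgroup.mem_bot] at hmem; exact (S.pt_spec _).2.1 hmem
  refine S.iv_ne i hn0 hn ?_
  refine (Subgroup.eq_of_le_of_card_ge ?_ (by rw [S.card_iv _ hn, S.card_iv _ hn])).symm
  refine S.iv_le_iff _ (by omega) _ fun j h1 h2 => ?_
  rcases eq_or_lt_of_le (show j ≤ i + n by omega) with rfl | hlt
  · exact hmem
  · exact S.pt_mem (by omega) (by omega) hlt

theorem pt_notMem_right [Finite G] (S : Setup H h k) (i : ℤ) {n : ℕ} (hn : n ≤ k) :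
    pt H h k i ∉ iv H h k (i + 1) n := by
  intro hmem
  rcases Nat.eq_zero_or_pos n with rfl | hn0
  · rw [S.iv_zero, Subgroup.mem_bot] at hmem; exact (S.pt_spec _).2.1 hmem
  refine S.iv_ne i hn0 hn ?_
  refine Subgroup.eq_of_le_of_card_ge ?_ (by rw [S.card_iv _ hn, S.card_iv _ hn])
  refine S.iv_le_iff _ (by omega) _ fun j h1 h2 => ?_
  rcases eq_or_lt_of_le h1 with rfl | hlt
  · exact hmem
  · exact S.pt_mem (by omega) (by omega) (by omega)

theorem split_left [Finite G] (S : Setup H h k) (i : ℤ) {n : ℕ} (hn : n + 1 ≤ k) {e : G}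
    (he : e ∈ iv H h k i (n + 1)) (he' : e ∉ iv H h k i n) :
    ∃ f ∈ iv H h k i n, e = f * pt H h k (i + n) := by
  have hx : pt H h k (i + n) ∈ iv H h k i (n + 1) := S.pt_mem (by omega) (by omega) (by omega)
  have h2 : ((iv H h k i n).subgroupOf (iv H h k i (n + 1))).index = 2 := by
    have hh := Subgroup.card_mul_index ((iv H h k i n).subgroupOf (iv H h k i (n + 1)))
    rw [Nat.card_congr (Subgroup.subgroupOfEquivOfLe (iv_left H h i (by omega))).toEquiv,
      S.card_iv _ hn, S.card_iv _ (show n ≤ k by omega), pow_succ] at hh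
    exact Nat.eq_of_mul_eq_mul_left (by positivity) hh
  refine ⟨e * pt H h k (i + n), ?_, by rw [mul_assoc, (S.pt_spec _).2.2, mul_one]⟩
  have h3 := (Subgroup.mul_mem_iff_of_index_two h2 (a := ⟨e, he⟩) (b := ⟨_, hx⟩)).2
    (iff_of_false he' (S.pt_notMem_left i (by omega)))
  exact h3

theorem split_right [Finite G] (S : Setup H h k) (i : ℤ) {n : ℕ} (hn : n + 1 ≤ k) {e : G}
    (he : e ∈ iv H h k i (n + 1)) (he' : e ∉ iv H h k (i + 1) n) :
    ∃ f ∈ iv H h k (i + 1) n, e = pt H h k i * f := by
  have hx : pt H h k i ∈ iv H h k i (n + 1) := S.pt_mem (by omega) le_rfl (by omega)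
  have h2 : ((iv H h k (i + 1) n).subgroupOf (iv H h k i (n + 1))).index = 2 := by
    have hh := Subgroup.card_mul_index ((iv H h k (i + 1) n).subgroupOf (iv H h k i (n + 1)))
    rw [Nat.card_congr (Subgroup.subgroupOfEquivOfLe (iv_right H h i (by omega))).toEquiv,
      S.card_iv _ hn, S.card_iv _ (show n ≤ k by omega), pow_succ] at hh
    exact Nat.eq_of_mul_eq_mul_left (by positivity) hh
  refine ⟨pt H h k i * e, ?_, by rw [← mul_assoc, (S.pt_spec _).2.2, one_mul]⟩
  have h3 := (Subgroup.mul_mem_iff_of_index_two h2 (a := ⟨_, hx⟩) (b := ⟨e, he⟩)).2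
    (iff_of_false (S.pt_notMem_right i (by omega)) he')
  exact h3

open scoped commutatorElement in
/-- The commutator of the ends of an interval lies strictly inside it. -/
theorem comm_mem [Finite G] (S : Setup H h k) (i : ℤ) {n : ℕ} (hn : n + 2 ≤ k) :
    ⁅pt H h k i, pt H h k (i + (n + 1 : ℕ))⁆ ∈ iv H h k (i + 1) n := by
  rw [← S.iv_inter i (show n + 2 ≤ k + 1 by omega)]
  have hN := S.iv_normalize i (n := n + 1) (by omega)
  set a := pt H h k i
  set b := pt H h k (i + (n + 1 : ℕ))
  have ha : a ∈ iv H h k i (n + 1) := S.pt_mem (by omega) le_rfl (by omega)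
  have hb : b ∈ iv H h k (i + 1) (n + 1) := S.pt_mem (by omega) (by omega) (by omega)
  have ha' : a ∈ iv H h k i (n + 1 + 1) := iv_left H h i (by omega) ha
  have hb' : b ∈ iv H h k i (n + 1 + 1) := iv_right H h i (by omega) hb
  refine Subgroup.mem_inf.2 ⟨?_, ?_⟩
  · rw [commutatorElement_def, show a * b * a⁻¹ * b⁻¹ = a * (b * a⁻¹ * b⁻¹) by group]
    exact Subgroup.mul_mem _ ha ((Subgroup.mem_normalizer_iff.1 (hN.1 hb') _).1 (Subgroup.inv_mem _ ha))
  · rw [commutatorElement_def]
    exact Subgroup.mul_mem _ ((Subgroup.mem_normalizer_iff.1 (hN.2 ha') _).1 hb) (Subgroup.inv_mem _ hb)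

theorem commute_shift (H : Subgroup G) (h : G) (k : ℕ) (i j d : ℤ) :
    Commute (pt H h k i) (pt H h k j) ↔ Commute (pt H h k (d + i)) (pt H h k (d + j)) := by
  rw [← pt_shift H h k i d, ← pt_shift H h k j d]
  constructor
  · intro hc; exact hc.map (MulAut.conj (h ^ d))
  · intro hc
    have := hc.map (MulAut.conj (h ^ d)⁻¹)
    simp only [MulAut.conj_apply, inv_inv] at this
    convert this using 1 <;> group

end Setup

/-- `m` is the exact range of commutation. -/
structure Range (H : Subgroup G) (h : G) (k m : ℕ) : Prop where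
  comm : ∀ i j : ℤ, i - j < m → j - i < m → Commute (Setup.pt H h k i) (Setup.pt H h k j)
  pos : 1 ≤ m
  le : m ≤ k
  ncomm : m < k → ∀ i : ℤ, ¬ Commute (Setup.pt H h k i) (Setup.pt H h k (i + m))

namespace Setup

variable {H : Subgroup G} {h : G} {k : ℕ}

theorem exists_range [Finite G] (S : Setup H h k) : ∃ m, Range H h k m ∧ (2 ≤ k → 2 ≤ m) := by
  classical
  let P : ℕ → Prop := fun d => 1 ≤ d ∧ (k ≤ d ∨ ¬ Commute (pt H h k 0) (pt H h k d))
  have hex : ∃ d, P d := ⟨k, S.hk, Or.inl le_rfl⟩
  have hspec := Nat.find_spec hex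
  have hlt : ∀ d : ℕ, d < Nat.find hex → Commute (pt H h k 0) (pt H h k d) := by
    intro d hd
    rcases Nat.eq_zero_or_pos d with rfl | hd0
    · simp
    by_contra hc
    exact Nat.find_min hex hd ⟨hd0, Or.inr hc⟩
  refine ⟨Nat.find hex, ⟨fun i j h1 h2 => ?_, hspec.1, Nat.find_min' hex ⟨S.hk, Or.inl le_rfl⟩,
    fun hmk i hc => ?_⟩, fun hk2 => ?_⟩
  · rcases le_total i j with hle | hle
    · have := (commute_shift H h k 0 ((j - i).toNat : ℤ) i).1 (hlt (j - i).toNat (by omega))
      rwa [add_zero, show i + ((j - i).toNat : ℤ) = j by omega] at this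
    · have := (commute_shift H h k 0 ((i - j).toNat : ℤ) j).1 (hlt (i - j).toNat (by omega))
      rw [add_zero, show j + ((i - j).toNat : ℤ) = i by omega] at this
      exact this.symm
  · refine hspec.2.elim (fun hh => by omega) fun hn => hn ?_
    have := (commute_shift H h k 0 (Nat.find hex : ℤ) i).2
    rw [add_zero] at this
    exact this hc
  · by_contra hh
    have h1 : Nat.find hex = 1 := by have := hspec.1; omega
    rw [h1] at hspec
    refine hspec.2.elim (fun hh => by omega) fun hn => hn ?_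
    have := S.comm_mem 0 (n := 0) (by omega)
    rw [S.iv_zero, Subgroup.mem_bot, commutatorElement_eq_one_iff_commute] at this
    simpa using this

theorem commute_iv [Finite G] (S : Setup H h k) {m : ℕ} (R : Range H h k m) (i : ℤ) {n : ℕ}
    (hn : n ≤ k + 1) (j : ℤ) (h1 : i + n - 1 - j < m) (h2 : j - i < m) {e : G}
    (he : e ∈ iv H h k i n) : Commute (pt H h k j) e := by
  have : iv H h k i n ≤ Subgroup.centralizer ({pt H h k j} : Set G) := by
    refine S.iv_le_iff i hn _ fun l hl1 hl2 => ?_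
    rw [Subgroup.mem_centralizer_singleton_iff]
    first
      | exact (R.comm j l (by omega) (by omega)).eq
      | exact (R.comm l j (by omega) (by omega)).eq
  have h3 := Subgroup.mem_centralizer_singleton_iff.1 (this he)
  first | exact h3 | exact h3.symm

theorem iv_sq [Finite G] (S : Setup H h k) {m : ℕ} (R : Range H h k m) (i : ℤ) {n : ℕ}
    (hn : n ≤ m) {e : G} (he : e ∈ iv H h k i n) : e * e = 1 := by
  induction n generalizing e with
  | zero => rw [S.iv_zero, Subgroup.mem_bot] at he; rw [he, one_mul]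
  | succ n ih =>
    by_cases he' : e ∈ iv H h k i n
    · exact ih (by omega) he'
    obtain ⟨f, hf, rfl⟩ := S.split_left i (by have := R.le; omega) he he'
    have hc := S.commute_iv R i (by have := R.le; omega) (i + n) (by omega) (by omega) hf
    rw [show f * pt H h k (i + n) * (f * pt H h k (i + n)) = f * f * (pt H h k (i + n) * pt H h k (i + n)) by
      rw [mul_assoc, ← mul_assoc (pt H h k (i + n)), hc.eq]; group, ih (by omega) hf, (S.pt_spec _).2.2,
      one_mul]

/-- The centre of `H` is small. -/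
theorem range_small [Finite G] (S : Setup H h k) {m : ℕ} (R : Range H h k m) : 2 * m ≤ k + 2 := by
  by_contra hlt
  let D := iv H h k ((k : ℤ) - m + 2) (2 * m - k - 2)
  have hle := R.le
  have hD1 : 1 ≤ 2 * m - k - 2 := by omega
  have hDH : D ≤ H := by
    rw [← iv_full H h k]
    refine S.iv_le_iff _ (by omega) _ fun j h1 h2 => S.pt_mem le_rfl (by omega) (by omega)
  have hcen : ∀ j : ℤ, 0 ≤ j → j ≤ k + 1 → ∀ e ∈ D, Commute (pt H h k j) e := fun j h1 h2 e he =>
    S.commute_iv R _ (by omega) j (by omega) (by omega) he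
  have hnorm : ∀ i : ℤ, 0 ≤ i → i ≤ 1 → iv H h k i (k + 1) ≤ Subgroup.normalizer (D : Set G) := by
    intro i hi hi'
    refine le_trans (S.iv_le_iff i le_rfl (Subgroup.centralizer (D : Set G)) fun j h1 h2 => ?_)
      (Subgroup.centralizer_le_normalizer _)
    exact Subgroup.mem_centralizer_iff.2 fun e he => (hcen j (by omega) (by omega) e he).symm.eq
  have hH : H ≤ Subgroup.normalizer (D : Set G) := iv_full H h k ▸ hnorm 0 le_rfl (by norm_num)
  have hK : cj h H ≤ Subgroup.normalizer (D : Set G) := by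
    have := hnorm 1 (by norm_num) le_rfl
    rwa [← zero_add (1 : ℤ), ← cj_iv, iv_full] at this
  have hnot : ¬ cj h H ≤ H := fun hh => S.hne (Subgroup.eq_of_le_of_card_ge hh (by rw [card_cj]))
  obtain ⟨g, hg, hgH⟩ := SetLike.not_le_iff_exists.1 hnot
  have := S.hcore D (eq_top_of_normalizer S.hmax hH (hK hg) hgH) hDH
  have hc := S.card_iv ((k : ℤ) - m + 2) (show 2 * m - k - 2 ≤ k by omega)
  rw [show iv H h k ((k : ℤ) - m + 2) (2 * m - k - 2) = D from rfl, this, Subgroup.card_bot] at hc
  have : 2 ^ 1 ≤ 2 ^ (2 * m - k - 2) := Nat.pow_le_pow_right (by norm_num) hD1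
  omega

open scoped commutatorElement in
/-- The commutator of the closest noncommuting pair. -/
theorem comm_bound [Finite G] (S : Setup H h k) {m : ℕ} (R : Range H h k m) (hm2 : 2 ≤ m)
    (hmk : m < k) :
    2 * k ≤ 3 * m ∧
      ⁅pt H h k 0, pt H h k m⁆ ∈ iv H h k ((k : ℤ) - m) (3 * m + 1 - 2 * k) ∧
      ⁅pt H h k 0, pt H h k m⁆ ≠ 1 := by
  set a := pt H h k 0 with ha
  set b := pt H h k m with hb
  set w := ⁅a, b⁆ with hw
  have hw1 : w ≠ 1 := fun hh => R.ncomm hmk 0 (by
    simpa [← ha, ← hb] using commutatorElement_eq_one_iff_commute.1 hh)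
  have hfix : ∀ (y u : G), y * a * y⁻¹ = a * u → Commute y b → Commute u b →
      y * w * y⁻¹ = w := by
    intro y u h1 h2 h3
    have e1 : y * b * y⁻¹ = b := by rw [h2.eq]; group
    calc y * w * y⁻¹ = (y * a * y⁻¹) * (y * b * y⁻¹) * (y * a * y⁻¹)⁻¹ * (y * b * y⁻¹)⁻¹ := by
          rw [hw, commutatorElement_def]; group
      _ = a * (u * b * u⁻¹) * a⁻¹ * b⁻¹ := by rw [h1, e1]; group
      _ = w := by rw [h3.eq, hw, commutatorElement_def]; group
  -- the first half
  have hlow : ∀ r : ℕ, 1 ≤ r → r ≤ k - m → r ≤ m ∧ w ∈ iv H h k r (m - r) := by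
    intro r
    induction r with
    | zero => intro hh; omega
    | succ r ih =>
      intro _ hr
      rcases Nat.eq_zero_or_pos r with rfl | hr0
      · refine ⟨by omega, ?_⟩
        have := S.comm_mem 0 (n := m - 1) (by omega)
        rw [show (0 : ℤ) + ((m - 1 + 1 : ℕ) : ℤ) = (m : ℤ) by omega, zero_add] at this
        exact this
      obtain ⟨hrm, hwr⟩ := ih hr0 (by omega)
      have hrm' : r < m := by
        by_contra hh
        rw [show m - r = 0 by omega, S.iv_zero, Subgroup.mem_bot] at hwr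
        exact hw1 hwr
      refine ⟨hrm', ?_⟩
      by_contra hout
      obtain ⟨e, he, hwe⟩ := S.split_right (r : ℤ) (n := m - (r + 1)) (by omega)
        (by rwa [show m - (r + 1) + 1 = m - r by omega]) (by push_cast at hout ⊢; exact hout)
      set y := pt H h k ((r + m : ℕ) : ℤ) with hy
      have hyb : Commute y b := R.comm _ _ (by omega) (by omega)
      obtain ⟨u, hu, huy⟩ : ∃ u, u ∈ iv H h k 1 (r + m - 1) ∧ y * a * y⁻¹ = a * u := by
        refine ⟨⁅a⁻¹, y⁆, ?_, by rw [commutatorElement_def]; group⟩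
        have := S.comm_mem 0 (n := r + m - 1) (by omega)
        rw [show (0 : ℤ) + ((r + m - 1 + 1 : ℕ) : ℤ) = ((r + m : ℕ) : ℤ) by omega, zero_add] at this
        rw [show a⁻¹ = a from inv_eq_of_mul_eq_one_right (S.pt_spec 0).2.2]
        exact this
      have hub : Commute u b := (S.commute_iv R 1 (by omega) (m : ℤ) (by omega) (by omega) hu).symm
      have h5 := hfix y u huy hyb hub
      have hye : Commute y e := S.commute_iv R ((r : ℤ) + 1) (by omega) _ (by omega) (by omega) he
      rw [hwe] at h5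
      have h6 : y * pt H h k r * y⁻¹ = pt H h k r := by
        have h7 : y * (pt H h k r * e) * y⁻¹ = (y * pt H h k r * y⁻¹) * (y * e * y⁻¹) := by group
        rw [h7, hye.eq, mul_inv_cancel_right] at h5
        exact mul_right_cancel h5
      apply R.ncomm hmk (r : ℤ)
      rw [show (r : ℤ) + (m : ℤ) = ((r + m : ℕ) : ℤ) by push_cast; ring]
      exact (mul_inv_eq_iff_eq_mul.1 h6).symm
  obtain ⟨hkm, hwk⟩ := hlow (k - m) (by omega) le_rfl
  -- the second half
  have hhigh : ∀ d : ℕ, d + 1 ≤ k - m → d ≤ m - (k - m) ∧ w ∈ iv H h k ((k - m : ℕ) : ℤ) (m - (k - m) - d) := by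
    intro d
    induction d with
    | zero => intro _; exact ⟨Nat.zero_le _, by simpa using hwk⟩
    | succ d ih =>
      intro hd
      obtain ⟨hd', hwd⟩ := ih (by omega)
      have hpos : d < m - (k - m) := by
        by_contra hh
        rw [show m - (k - m) - d = 0 by omega, S.iv_zero, Subgroup.mem_bot] at hwd
        exact hw1 hwd
      refine ⟨hpos, ?_⟩
      by_contra hout
      obtain ⟨n, hn⟩ : ∃ n, m - (k - m) - d = n + 1 := ⟨m - (k - m) - d - 1, by omega⟩
      rw [hn] at hwd
      rw [show m - (k - m) - (d + 1) = n by omega] at hout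
      obtain ⟨e, he, hwe⟩ := S.split_left _ (by omega) hwd hout
      set p : ℤ := ((k - m : ℕ) : ℤ) + n with hp
      set y := pt H h k (p - m) with hy
      have hya : Commute y a := R.comm _ _ (by omega) (by omega)
      obtain ⟨u, hu, huy⟩ : ∃ u, u ∈ iv H h k (p - m + 1) ((2 * m : ℤ) - p - 1).toNat ∧
          y * b * y⁻¹ = u * b := by
        refine ⟨⁅y, b⁆, ?_, by rw [commutatorElement_def]; group⟩
        have := S.comm_mem (p - m) (n := ((2 * m : ℤ) - p - 1).toNat) (by omega)
        rw [show p - (m : ℤ) + ((((2 * m : ℤ) - p - 1).toNat + 1 : ℕ) : ℤ) = (m : ℤ) by omega] at this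
        exact this
      have hua : Commute u a :=
        (S.commute_iv R (p - m + 1) (by omega) (0 : ℤ) (by omega) (by omega) hu).symm
      have e1 : y * a * y⁻¹ = a := by rw [hya.eq]; group
      have h5 : y * w * y⁻¹ = w * (b * (a * b⁻¹ * a⁻¹)) * (a * u * a⁻¹) * (a * b * a⁻¹) * b⁻¹ * u⁻¹ := by
        calc y * w * y⁻¹ = (y * a * y⁻¹) * (y * b * y⁻¹) * (y * a * y⁻¹)⁻¹ * (y * b * y⁻¹)⁻¹ := by
              rw [hw, commutatorElement_def]; group
          _ = _ := by rw [e1, huy, hw, commutatorElement_def]; group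
      rw [show a * u * a⁻¹ = u by rw [hua.symm.eq]; group] at h5
      have hww : w * (b * (a * b⁻¹ * a⁻¹)) = 1 := by rw [hw, commutatorElement_def]; group
      rw [hww, one_mul] at h5
      -- `u` lies in an abelian interval containing `w`
      have huw : Commute u w := by
        have hwI : w ∈ iv H h k ((k - m : ℕ) : ℤ) (n + 1) := hwd
        have : iv H h k (p - m + 1) ((2 * m : ℤ) - p - 1).toNat ≤ Subgroup.centralizer ({w} : Set G) := by
          refine S.iv_le_iff _ (by omega) _ fun l hl1 hl2 => ?_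
          rw [Subgroup.mem_centralizer_singleton_iff]
          have := S.commute_iv R ((k - m : ℕ) : ℤ) (by omega) l (by omega) (by omega) hwI
          first | exact this.eq | exact this.symm.eq
        have h3 := Subgroup.mem_centralizer_singleton_iff.1 (this hu)
        first | exact h3 | exact h3.symm
      have h6 : y * w * y⁻¹ = w := by
        calc y * w * y⁻¹ = u * (a * b * a⁻¹) * b⁻¹ * u⁻¹ := h5
          _ = u * w * u⁻¹ := by rw [hw, commutatorElement_def]; group
          _ = w := by rw [huw.eq]; group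
      have hye : Commute y e := S.commute_iv R _ (by omega) _ (by omega) (by omega) he
      rw [hwe] at h6
      have h7 : y * (e * pt H h k p) * y⁻¹ = (y * e * y⁻¹) * (y * pt H h k p * y⁻¹) := by group
      rw [h7, hye.eq, mul_inv_cancel_right] at h6
      have h8 := mul_left_cancel h6
      apply R.ncomm hmk (p - m)
      rw [sub_add_cancel]
      exact mul_inv_eq_iff_eq_mul.1 h8
  obtain ⟨hd', hfin⟩ := hhigh (k - m - 1) (by omega)
  have hpos : k - m - 1 < m - (k - m) := by
    by_contra hh
    rw [show m - (k - m) - (k - m - 1) = 0 by omega, S.iv_zero, Subgroup.mem_bot] at hfin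
    exact hw1 hfin
  refine ⟨by omega, ?_, hw1⟩
  rw [show ((k : ℤ) - m) = ((k - m : ℕ) : ℤ) by omega,
    show 3 * m + 1 - 2 * k = m - (k - m) - (k - m - 1) by omega]
  exact hfin

open scoped commutatorElement in
/-- Length six does not occur. -/
theorem length_ne_six [Finite G] (S : Setup H h k) (hk6 : k = 6) {m : ℕ} (R : Range H h k m)
    (hm : m = 4) : False := by
  subst hk6 hm
  haveI : Fact (Nat.Prime 2) := ⟨Nat.prime_two⟩
  set x := pt H h 6 with hx
  obtain ⟨-, hw, hw1⟩ := S.comm_bound R (by norm_num) (by norm_num)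
  have hw2 : ⁅x 0, x 4⁆ = x 2 := by
    have : iv H h 6 2 1 = Subgroup.zpowers (x 2) := (S.pt_spec 2).1
    norm_num at hw hw1
    rw [this] at hw
    obtain ⟨j, hj⟩ := Subgroup.mem_zpowers_iff.1 hw
    rw [← zpow_mod_orderOf, orderOf_eq_prime (p := 2) (by rw [pow_two]; exact (S.pt_spec 2).2.2)
      (S.pt_spec 2).2.1] at hj
    rcases Int.emod_two_eq j with hh | hh <;> norm_num [hh] at hj
    · exact absurd hj.symm hw1
    · exact hj.symm
  have hinv : ∀ i, (x i)⁻¹ = x i := fun i => inv_eq_of_mul_eq_one_right (S.pt_spec i).2.2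
  have hw26 : ⁅x 2, x 6⁆ = x 4 := by
    have e : MulAut.conj (h ^ (2 : ℤ)) ⁅x 0, x 4⁆ = MulAut.conj (h ^ (2 : ℤ)) (x 2) := by rw [hw2]
    rw [map_commutatorElement] at e
    simpa only [MulAut.conj_apply, hx, pt_shift, show (2 : ℤ) + 0 = 2 by norm_num,
      show (2 : ℤ) + 4 = 6 by norm_num, show (2 : ℤ) + 2 = 4 by norm_num] using e
  have hw15 : ⁅x 1, x 5⁆ = x 3 := by
    have e : MulAut.conj (h ^ (1 : ℤ)) ⁅x 0, x 4⁆ = MulAut.conj (h ^ (1 : ℤ)) (x 2) := by rw [hw2]
    rw [map_commutatorElement] at e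
    simpa only [MulAut.conj_apply, hx, pt_shift, show (1 : ℤ) + 0 = 1 by norm_num,
      show (1 : ℤ) + 4 = 5 by norm_num, show (1 : ℤ) + 2 = 3 by norm_num] using e
  -- the commutator of distance five
  have hu05 : ⁅x 0, x 5⁆ ∈ iv H h 6 1 3 := by
    have hu : ⁅x 0, x 5⁆ ∈ iv H h 6 1 4 := by
      have := S.comm_mem 0 (n := 4) (by norm_num); norm_num at this; exact this
    by_contra hout
    obtain ⟨e, he, hue⟩ := S.split_left 1 (by norm_num) hu hout
    have hsq : ⁅x 0, x 5⁆ * ⁅x 0, x 5⁆ = 1 := S.iv_sq R 1 le_rfl hu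
    have hc : Commute (x 0) ⁅x 0, x 5⁆ := by
      have e1 : x 0 * ⁅x 0, x 5⁆ * (x 0)⁻¹ = ⁅x 0, x 5⁆⁻¹ := by
        rw [commutatorElement_inv, commutatorElement_def, commutatorElement_def, hinv, hinv]
        rw [show x 0 * (x 0 * x 5 * x 0 * x 5) * x 0 = (x 0 * x 0) * x 5 * x 0 * x 5 * x 0 by group,
          (S.pt_spec 0).2.2, one_mul]
      rw [inv_eq_of_mul_eq_one_right hsq] at e1
      exact mul_inv_eq_iff_eq_mul.1 e1
    rw [hue] at hc
    have he0 : Commute (x 0) e := S.commute_iv R 1 (by norm_num) 0 (by norm_num) (by norm_num) he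
    have := he0.inv_right.mul_right hc
    rw [inv_mul_cancel_left] at this
    exact R.ncomm (by norm_num) 0 (by simpa using this)
  have hu16 : ⁅x 1, x 6⁆ ∈ iv H h 6 2 3 := by
    have e : MulAut.conj (h ^ (1 : ℤ)) ⁅x 0, x 5⁆ ∈ cj (h ^ (1 : ℤ)) (iv H h 6 1 3) := conj_mem_cj hu05
    rw [map_commutatorElement] at e
    simp only [MulAut.conj_apply, hx, pt_shift] at e
    norm_num [cj_iv] at e
    exact e
  have hH : iv H h 6 0 7 = H := iv_full H h 6
  have hgen : ∀ (K : Subgroup G), (∀ j : ℤ, 0 ≤ j → j < 7 → x j ∈ K) → H ≤ K := fun K hK =>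
    hH ▸ S.iv_le_iff 0 le_rfl K (fun j h1 h2 => hK j h1 (by omega))
  have hnormOf : ∀ (F : Subgroup G) (y : G), y * y = 1 → (∀ f ∈ F, y * f * y⁻¹ ∈ F) →
      y ∈ Subgroup.normalizer (F : Set G) := fun F y hy hF => by
    refine Subgroup.mem_normalizer_iff.2 fun f => ⟨hF f, fun hf => ?_⟩
    have := hF _ hf
    rwa [inv_eq_of_mul_eq_one_right hy, show y * (y * f * y) * y = (y * y) * f * (y * y) by group, hy,
      one_mul, mul_one] at this
  have hmove : ∀ (F : Subgroup G) (a b : G), a ∈ F → ⁅b, a⁆ ∈ F → b * a * b⁻¹ ∈ F := fun F a b ha hc => by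
    have := F.mul_mem hc ha
    rwa [commutatorElement_def, inv_mul_cancel_right] at this
  -- `F` and `Q` are normal in `H`
  set F := iv H h 6 1 4 with hF
  have hxF : ∀ j : ℤ, 1 ≤ j → j < 5 → x j ∈ F := fun j h1 h2 => S.pt_mem (by norm_num) h1 (by omega)
  have hFn : H ≤ Subgroup.normalizer (F : Set G) := by
    refine hgen _ fun j h1 h2 => hnormOf F _ (S.pt_spec j).2.2 fun f hf => ?_
    have hle : F ≤ F.comap (MulAut.conj (x j)).toMonoidHom := by
      refine S.iv_le_iff 1 (by norm_num) _ fun l hl1 hl2 => ?_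
      show x j * x l * (x j)⁻¹ ∈ F
      by_cases hc : j - l < 4 ∧ l - j < 4
      · rw [(R.comm j l hc.1 hc.2).eq, mul_inv_cancel_right]; exact hxF l hl1 (by omega)
      refine hmove F _ _ (hxF l hl1 (by omega)) ?_
      obtain h' | h' | h' | h' : (j = 0 ∧ l = 4) ∨ (j = 5 ∧ l = 1) ∨ (j = 6 ∧ l = 1) ∨ (j = 6 ∧ l = 2) := by
        omega
      all_goals obtain ⟨rfl, rfl⟩ := h'
      · rw [hw2]; exact hxF 2 (by norm_num) (by norm_num)
      · rw [← commutatorElement_inv, hw15]; exact F.inv_mem (hxF 3 (by norm_num) (by norm_num))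
      · rw [← commutatorElement_inv]
        refine F.inv_mem (S.iv_le_iff 2 (by norm_num) F (fun i h1 h2 => hxF i (by omega) (by omega)) hu16)
      · rw [← commutatorElement_inv, hw26]; exact F.inv_mem (hxF 4 (by norm_num) (by norm_num))
    exact hle hf
  have hS1 : iv H h 6 1 6 = cj h (iv H h 6 0 6) := by rw [cj_iv]; rfl
  set S0 := iv H h 6 0 6 with hS0
  set Q := iv H h 6 1 5 with hQ
  have hQn : H ≤ Subgroup.normalizer (Q : Set G) := by
    rw [← hH, show (7 : ℕ) = 6 + 1 from rfl, S.iv_sup 0 (by norm_num) le_rfl]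
    exact sup_le (S.iv_normalize 0 (n := 5) le_rfl).2 (S.iv_normalize (0 + 1) (n := 5) le_rfl).1
  -- an element of `H` carrying `S0` to its shift
  have hS0H : S0 ≤ H := (iv_left H h (k := 6) (n := 6) 0 le_rfl).trans hH.le
  have hS1H : iv H h 6 1 6 ≤ H := (iv_right H h (k := 6) (n := 6) 0 le_rfl).trans hH.le
  obtain ⟨v, hvH, hv⟩ : ∃ v ∈ H, cj v S0 = iv H h 6 1 6 := by
    have hfac : (Nat.card H).factorization 2 = 6 := by
      rw [S.cardH, Nat.factorization_mul (by norm_num) (by norm_num), Finsupp.add_apply,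
        Nat.Prime.factorization_pow Nat.prime_two, Finsupp.single_eq_same,
        Nat.factorization_eq_zero_of_not_dvd (by norm_num)]
    let P0 : Sylow 2 H := Sylow.ofCard (S0.subgroupOf H) (by
      rw [hfac, Nat.card_congr (Subgroup.subgroupOfEquivOfLe hS0H).toEquiv, S.card_iv _ le_rfl])
    let P1 : Sylow 2 H := Sylow.ofCard ((iv H h 6 1 6).subgroupOf H) (by
      rw [hfac, Nat.card_congr (Subgroup.subgroupOfEquivOfLe hS1H).toEquiv, S.card_iv _ le_rfl])
    obtain ⟨v, hv⟩ := MulAction.exists_smul_eq H P0 P1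
    refine ⟨v, v.2, Subgroup.eq_of_le_of_card_ge ?_ (by rw [card_cj, S.card_iv _ le_rfl, S.card_iv _ le_rfl])⟩
    rintro y ⟨z, hz, rfl⟩
    have hmem : v * (⟨z, hS0H hz⟩ : H) * v⁻¹ ∈ (P1 : Subgroup H) := by
      rw [← hv]
      refine Subgroup.mem_map.2 ⟨⟨z, hS0H hz⟩, ?_, rfl⟩
      exact Subgroup.mem_subgroupOf.2 hz
    exact Subgroup.mem_subgroupOf.1 hmem
  obtain ⟨g, hg⟩ : ∃ g, g = v⁻¹ * h := ⟨_, rfl⟩
  have hgS : cj g S0 = S0 := by
    rw [hg, ← cj_cj, ← hS1, ← hv, cj_cj, inv_mul_cancel, cj_one]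
  have hgx : ∀ j : ℤ, g * x j * g⁻¹ = v⁻¹ * x (1 + j) * v := fun j => by
    rw [hx, ← pt_shift H h 6 j 1, zpow_one, hg]; group
  have hC : H ≤ Subgroup.centralizer ({x 3} : Set G) := hgen _ fun j h1 h2 => by
    rw [Subgroup.mem_centralizer_singleton_iff]
    first
      | exact (R.comm j 3 (by omega) (by omega)).eq
      | exact (R.comm 3 j (by omega) (by omega)).eq
  have hg2 : g * x 2 * g⁻¹ = x 3 := by
    rw [hgx, show (1 : ℤ) + 2 = 3 by norm_num]
    have h3 := Subgroup.mem_centralizer_singleton_iff.1 (hC (H.inv_mem hvH))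
    first
      | (rw [h3, inv_mul_cancel_right]; done)
      | (rw [← h3, inv_mul_cancel_right])
  -- the four-group of the neighbours
  set W := Subgroup.closure ({x 2, x 4} : Set G) with hW
  have h24 : Commute (x 2) (x 4) := R.comm 2 4 (by norm_num) (by norm_num)
  have hWmem : ∀ w ∈ W, w = 1 ∨ w = x 2 ∨ w = x 4 ∨ w = x 2 * x 4 := by
    intro w hw
    induction hw using Subgroup.closure_induction with
    | mem y hy => rcases hy with rfl | rfl <;> simp
    | one => simp
    | mul y z _ _ hy hz =>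
      have a2 := (S.pt_spec 2).2.2; have a4 := (S.pt_spec 4).2.2
      rw [← hx] at a2 a4
      have e42 : x 4 * x 2 = x 2 * x 4 := h24.symm.eq
      rcases hy with rfl | rfl | rfl | rfl <;> rcases hz with rfl | rfl | rfl | rfl <;>
        simp [← mul_assoc, a2, a4, e42, mul_assoc (x 2) (x 4) (x 2), mul_assoc (x 2) (x 4) (x 4)] <;>
        simp [mul_assoc, a2, a4]
    | inv y _ hy =>
      rcases hy with rfl | rfl | rfl | rfl <;> simp [hinv, h24.symm.eq]
  have hWn : H ≤ Subgroup.normalizer (W : Set G) := by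
    refine hgen _ fun j h1 h2 => hnormOf W _ (S.pt_spec j).2.2 fun f hf => ?_
    have hle : W ≤ W.comap (MulAut.conj (x j)).toMonoidHom := by
      rw [hW, Subgroup.closure_le]
      rintro y hy
      have hyW : y ∈ W := Subgroup.subset_closure hy
      show x j * y * (x j)⁻¹ ∈ W
      rcases hy with rfl | rfl
      · by_cases hj : j = 6
        · subst hj
          refine hmove W _ _ hyW ?_
          rw [← commutatorElement_inv, hw26]; exact W.inv_mem (Subgroup.subset_closure (by simp))
        · rw [(R.comm j 2 (by omega) (by omega)).eq, mul_inv_cancel_right]; exact hyW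
      · by_cases hj : j = 0
        · subst hj
          exact hmove W _ _ hyW (by rw [hw2]; exact Subgroup.subset_closure (by simp))
        · rw [(R.comm j 4 (by omega) (by omega)).eq, mul_inv_cancel_right]; exact hyW
    exact hle hf
  have hg3 : g * x 3 * g⁻¹ = x 2 := by
    rw [hgx, show (1 : ℤ) + 3 = 4 by norm_num]
    have hmem : v⁻¹ * x 4 * v ∈ W := by
      have h3 := (Subgroup.mem_normalizer_iff.1 (hWn (H.inv_mem hvH)) (x 4)).1
        (Subgroup.subset_closure (by simp))
      rwa [inv_inv] at h3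
    have hcom : Commute (x 0) (v⁻¹ * x 4 * v) := by
      have h0 : v * x 0 * v⁻¹ ∈ iv H h 6 1 6 :=
        hv ▸ conj_mem_cj (S.pt_mem (by norm_num) le_rfl (by norm_num))
      have h1 := S.commute_iv R 1 (by norm_num) 4 (by norm_num) (by norm_num) h0
      have h2 := h1.map (MulAut.conj v).symm
      simp only [MulAut.conj_symm_apply] at h2
      rw [show v⁻¹ * (v * x 0 * v⁻¹) * v = x 0 by group] at h2
      exact h2.symm
    have hnc : ¬ Commute (x 0) (x 4) := by simpa using R.ncomm (by norm_num) 0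
    rcases hWmem _ hmem with hh | hh | hh | hh
    · exact absurd (show x 4 = 1 by
        calc x 4 = v * (v⁻¹ * x 4 * v) * v⁻¹ := by group
          _ = 1 := by rw [hh]; group) (S.pt_spec 4).2.1
    · exact hh
    · exact absurd (hh ▸ hcom) hnc
    · have h2' : Commute (x 0) (x 2) := R.comm 0 2 (by norm_num) (by norm_num)
      rw [hh] at hcom
      have := h2'.inv_right.mul_right hcom
      rw [inv_mul_cancel_left] at this
      exact absurd this hnc
  -- hence `g²` lies in `S0`
  have hg2H : g * g ∈ H := by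
    by_contra hout
    have hfix : g * g * x 3 = x 3 * (g * g) := by
      have : (g * g) * x 3 * (g * g)⁻¹ = x 3 := by
        rw [show (g * g) * x 3 * (g * g)⁻¹ = g * (g * x 3 * g⁻¹) * g⁻¹ by group, hg3, hg2]
      exact mul_inv_eq_iff_eq_mul.1 this
    have hN : (Subgroup.zpowers (x 3)).Normal := by
      refine eq_top_of_normalizer S.hmax (g := g * g) ?_ ?_ hout
      · exact hC.trans (by
          rw [Subgroup.zpowers_eq_closure, ← Subgroup.centralizer_closure]
          exact Subgroup.centralizer_le_normalizer _)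
      · refine Subgroup.centralizer_le_normalizer _ ?_
        rw [Subgroup.zpowers_eq_closure, Subgroup.centralizer_closure,
          Subgroup.mem_centralizer_singleton_iff]
        first | exact hfix | exact hfix.symm
    have := S.hcore _ hN (Subgroup.zpowers_le.2 (hH ▸ S.pt_mem le_rfl (by norm_num) (by norm_num)))
    exact (S.pt_spec 3).2.1 (Subgroup.zpowers_eq_bot.1 this)
  have hg2S : g * g ∈ S0 := by
    by_contra hout
    have hnS : g * g ∈ Subgroup.normalizer (S0 : Set G) :=
      mem_normalizer_of_cj (by rw [← cj_cj, hgS, hgS])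
    -- then `S0` is normal in `H`
    have hlt : S0 < H ⊓ Subgroup.normalizer (S0 : Set G) :=
      lt_of_le_of_ne (le_inf hS0H Subgroup.le_normalizer) fun he => hout (he ▸ ⟨hg2H, hnS⟩)
    have hlt' := Set.ncard_lt_ncard (SetLike.coe_ssubset_coe.2 hlt)
    rw [← Nat.card_coe_set_eq, ← Nat.card_coe_set_eq] at hlt'
    change Nat.card S0 < Nat.card ↥(H ⊓ _ : Subgroup G) at hlt'
    obtain ⟨q, hq⟩ := Subgroup.card_dvd_of_le hlt.le
    have hd := Subgroup.card_dvd_of_le (inf_le_left : H ⊓ Subgroup.normalizer (S0 : Set G) ≤ H)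
    rw [hq, S.card_iv _ le_rfl, S.cardH, mul_comm 3] at hd
    rw [hq, S.card_iv _ le_rfl] at hlt'
    rcases (Nat.dvd_prime Nat.prime_three).1 (Nat.dvd_of_mul_dvd_mul_left (by positivity) hd) with rfl | rfl
    · omega
    have heq : H ⊓ Subgroup.normalizer (S0 : Set G) = H :=
      Subgroup.eq_of_le_of_card_ge inf_le_left (by rw [hq, S.card_iv _ le_rfl, S.cardH, mul_comm])
    have := cj_of_mem_normalizer ((inf_eq_left.1 heq) hvH)
    rw [hv] at this
    exact S.iv_ne 0 (by norm_num) le_rfl this.symm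
  -- contradiction
  have h1 : g * x 0 * g⁻¹ ∈ F := by
    rw [hgx, show (1 : ℤ) + 0 = 1 by norm_num]
    have := (Subgroup.mem_normalizer_iff.1 (hFn (H.inv_mem hvH)) (x 1)).1 (hxF 1 le_rfl (by norm_num))
    rwa [inv_inv] at this
  have h2 : cj g F ≤ Q := by
    refine Subgroup.map_le_iff_le_comap.2 (S.iv_le_iff 1 (by norm_num) _ fun l hl1 hl2 => ?_)
    show g * x l * g⁻¹ ∈ Q
    rw [hgx]
    have := (Subgroup.mem_normalizer_iff.1 (hQn (H.inv_mem hvH)) (x (1 + l))).1
      (S.pt_mem (by norm_num) (by omega) (by omega))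
    rwa [inv_inv] at this
  have h3 : (g * g) * x 0 * (g * g)⁻¹ ∈ Q := by
    rw [show (g * g) * x 0 * (g * g)⁻¹ = g * (g * x 0 * g⁻¹) * g⁻¹ by group]
    exact h2 (conj_mem_cj h1)
  have h4 := (Subgroup.mem_normalizer_iff.1 ((S.iv_normalize 0 (n := 5) le_rfl).2 hg2S) (x 0)).2 h3
  exact S.pt_notMem_right 0 (n := 5) (by norm_num) h4

/-- The length is at most 4. -/
theorem length_le [Finite G] (S : Setup H h k) : k ≤ 4 := by
  by_contra hk
  obtain ⟨m, R, hm2⟩ := S.exists_range
  have h1 := S.range_small R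
  have hmk : m < k := by omega
  have h2 := (S.comm_bound R (hm2 (by omega)) hmk).1
  exact S.length_ne_six (by omega) R (by omega)

end Setup

end Cfsg.Agent.SubThree
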