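import Cfsg.Agent.Lib.PermGp.SubThree

/-!
# The five types of point stabilisers with a suborbit of length 3
-/

set_option autoImplicit false

namespace Cfsg.Agent.SubThree

open scoped commutatorElement

section General

variable {G : Type*} [Group G]

theorem inv_self {a : G} (h : a * a = 1) : a⁻¹ = a := inv_eq_of_mul_eq_one_right h

/-- The homomorphism from a dihedral group given by two involutions. -/
theorem dihedral_hom {a c : G} (ha : a * a = 1) (hc : c * c = 1) (n : ℕ) (hn : 3 ≤ n)
    (hord : orderOf (a * c) = n) :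
    ∃ f : DihedralGroup n →* G, Function.Injective f ∧ f.range = Subgroup.closure {a, c} := by
  haveI : NeZero n := ⟨by omega⟩
  set z := a * c with hz
  have hzn : z ^ n = 1 := hord ▸ pow_orderOf_eq_one z
  have hcz : a * z * a⁻¹ = z⁻¹ := by
    rw [hz, mul_inv_rev, inv_self ha, inv_self hc, ← mul_assoc a a c, ha, one_mul]
  let p : ZMod n → G := fun i => z ^ i.val
  have hadd : ∀ i j, p (i + j) = p i * p j := fun i j => by
    show z ^ (i + j).val = z ^ i.val * z ^ j.val
    rw [ZMod.val_add, ← pow_eq_pow_mod _ hzn, pow_add]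
  have hneg : ∀ i, p (-i) = (p i)⁻¹ := fun i => eq_inv_of_mul_eq_one_left (by
    rw [← hadd, neg_add_cancel]; show z ^ (0 : ZMod n).val = 1; simp)
  have hflip : ∀ i, p i * a = a * p (-i) := fun i => by
    have h : a * p i * a⁻¹ = p (-i) := by
      show MulAut.conj a (z ^ i.val) = _
      rw [map_pow, MulAut.conj_apply, hcz, inv_pow, hneg]
    calc p i * a = a * (a * p i * a⁻¹) := by
          rw [inv_self ha, ← mul_assoc, ← mul_assoc, ha, one_mul]
      _ = _ := by rw [h]
  let g : DihedralGroup n → G := fun x => match x with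
    | DihedralGroup.r i => p i
    | DihedralGroup.sr i => a * p i
  have hg : ∀ x y, g (x * y) = g x * g y := by
    rintro (i | i) (j | j)
    · exact hadd i j
    · show a * p (j - i) = p i * (a * p j)
      rw [← mul_assoc, hflip, mul_assoc, ← hadd, neg_add_eq_sub]
    · show a * p (i + j) = a * p i * p j
      rw [hadd, mul_assoc]
    · show p (j - i) = a * p i * (a * p j)
      rw [mul_assoc, ← mul_assoc (p i), hflip, mul_assoc a (p (-i)), ← hadd, ← mul_assoc, ha, one_mul,
        neg_add_eq_sub]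
  let f : DihedralGroup n →* G := MonoidHom.mk' g hg
  have hp1 : p 1 = z := by
    show z ^ (1 : ZMod n).val = z
    haveI : Fact (1 < n) := ⟨by omega⟩
    rw [ZMod.val_one, pow_one]
  have hp0 : p 0 = 1 := by show z ^ (0 : ZMod n).val = 1; simp
  have hnot : ∀ k : ℕ, z ^ k ≠ a := by
    intro k hk
    have hcomm : Commute z a := hk ▸ (Commute.refl z).pow_right k
    have h1 : z⁻¹ = z := by rw [← hcz, ← hcomm.eq, mul_inv_cancel_right]
    have h2 : z ^ 2 = 1 := by rw [pow_two]; nth_rw 1 [← h1]; rw [inv_mul_cancel]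
    have := Nat.le_of_dvd (by norm_num) (orderOf_dvd_of_pow_eq_one h2)
    omega
  refine ⟨f, ?_, le_antisymm ?_ ?_⟩
  · refine (injective_iff_map_eq_one f).2 ?_
    rintro (i | i) hi
    · have hi' : z ^ i.val = 1 := hi
      have := Nat.eq_zero_of_dvd_of_lt (orderOf_dvd_of_pow_eq_one hi') (hord.symm ▸ i.val_lt)
      rw [(ZMod.val_eq_zero i).1 this]; rfl
    · have hi' : a * z ^ i.val = 1 := hi
      exact absurd ((inv_eq_of_mul_eq_one_right hi').symm.trans (inv_self ha)) (hnot _)
  · rintro y ⟨x, rfl⟩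
    have haC : a ∈ Subgroup.closure ({a, c} : Set G) := Subgroup.subset_closure (by simp)
    have hzC : z ∈ Subgroup.closure ({a, c} : Set G) :=
      Subgroup.mul_mem _ haC (Subgroup.subset_closure (by simp))
    rcases x with i | i
    · exact pow_mem hzC _
    · exact Subgroup.mul_mem _ haC (pow_mem hzC _)
  · rw [Subgroup.closure_le]
    rintro y (rfl | rfl)
    · exact ⟨DihedralGroup.sr 0, by show _ * p 0 = _; rw [hp0, mul_one]⟩
    · exact ⟨DihedralGroup.sr 1, by show a * p 1 = _; rw [hp1, hz, ← mul_assoc, ha, one_mul]⟩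

/-- A group of order `2n` generated by two involutions. -/
theorem dihedral_equiv [Finite G] {a c : G} (ha : a * a = 1) (hc : c * c = 1) (n : ℕ) (hn : 3 ≤ n)
    (hord : orderOf (a * c) = n) (hcard : Nat.card G = 2 * n) :
    Nonempty (G ≃* DihedralGroup n) := by
  obtain ⟨f, hf, -⟩ := dihedral_hom ha hc n hn hord
  have hbij : Function.Bijective f :=
    (Nat.bijective_iff_injective_and_card _).2 ⟨hf, by rw [DihedralGroup.nat_card, hcard]⟩
  exact ⟨(MulEquiv.ofBijective f hbij).symm⟩

/-- Two distinct involutions of a group of order 6. -/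
theorem order_six [Finite G] (hG : Nat.card G = 6) {a c : G} (ha : a * a = 1) (hc : c * c = 1)
    (ha1 : a ≠ 1) (hc1 : c ≠ 1) (hac : a ≠ c) : orderOf (a * c) = 3 := by
  have hd : orderOf (a * c) ∣ 6 := hG ▸ orderOf_dvd_natCard _
  have hne1 : orderOf (a * c) ≠ 1 := fun h => hac (by
    rw [orderOf_eq_one_iff] at h
    exact (eq_inv_of_mul_eq_one_left h).trans (inv_self hc))
  have hne2 : orderOf (a * c) ≠ 2 := by
    intro h
    have h4 : (a * c) * (a * c) = 1 := by rw [← pow_two, ← h]; exact pow_orderOf_eq_one _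
    have hcomm : a * c = c * a := by
      rw [← inv_self h4, mul_inv_rev, inv_self ha, inv_self hc]
      rw [show (c * a)⁻¹ = a * c by rw [mul_inv_rev, inv_self ha, inv_self hc]] at *
    let K : Subgroup G :=
      { carrier := {1, a, c, a * c}
        one_mem' := by simp
        mul_mem' := by
          have e1 : a * (a * c) = c := by rw [← mul_assoc, ha, one_mul]
          have e2 : c * (a * c) = a := by rw [hcomm, ← mul_assoc, hc, one_mul]
          have e3 : a * c * a = c := by rw [hcomm, mul_assoc, ha, mul_one]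
          have e4 : a * c * c = a := by rw [mul_assoc, hc, mul_one]
          rintro x y (rfl | rfl | rfl | rfl) (rfl | rfl | rfl | rfl) <;>
            simp [ha, hc, ← hcomm, e1, e2, e3, e4, h4]
        inv_mem' := by
          rintro x (rfl | rfl | rfl | rfl) <;> simp [inv_self ha, inv_self hc, ← hcomm] }
    have hK : Nat.card K = 4 := by
      rw [← SetLike.coe_sort_coe, Nat.card_coe_set_eq]
      show ({1, a, c, a * c} : Set G).ncard = 4
      have n1 : a * c ≠ 1 := fun h' => hne1 (orderOf_eq_one_iff.2 h')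
      have n2 : a * c ≠ a := fun h' => hc1 (by simpa using h')
      have n3 : a * c ≠ c := fun h' => ha1 (by simpa using h')
      rw [Set.ncard_insert_of_notMem (by simp [Ne.symm ha1, Ne.symm hc1, Ne.symm n1]),
        Set.ncard_insert_of_notMem (by simp [hac, Ne.symm n2]),
        Set.ncard_insert_of_notMem (by simp [Ne.symm n3]), Set.ncard_singleton]
    have := Subgroup.card_subgroup_dvd_card K
    rw [hK, hG] at this
    omega
  have hne6 : orderOf (a * c) ≠ 6 := by
    intro h
    haveI : IsCyclic G := isCyclic_of_orderOf_eq_card _ (h.trans hG.symm)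
    have hcomm : Commute a c := by
      let _ : CommGroup G := IsCyclic.commGroup
      exact mul_comm a c
    have h2 : (a * c) ^ 2 = 1 := by rw [hcomm.mul_pow, pow_two, pow_two, ha, hc, one_mul]
    have := orderOf_dvd_of_pow_eq_one h2
    rw [h] at this
    omega
  have hle := Nat.le_of_dvd (by norm_num) hd
  interval_cases hh : orderOf (a * c) <;> omega

/-- Three involutions generating a group of order 12, the middle one central. -/
theorem order_twelve [Finite G] (hG : Nat.card G = 12) {a b c : G} (ha : a * a = 1) (hb : b * b = 1)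
    (hc : c * c = 1) (hb1 : b ≠ 1) (hbz : ∀ g, b * g = g * b)
    (ha' : a ∉ Subgroup.zpowers b) (hc' : c ∉ Subgroup.zpowers b) (hac : a * c ∉ Subgroup.zpowers b) :
    ∃ e, (e = c ∨ e = c * b) ∧ e * e = 1 ∧ orderOf (a * e) = 3 ∧ orderOf (a * (e * b)) = 6 := by
  haveI : (Subgroup.zpowers b).Normal := ⟨fun x hx g => by
    obtain ⟨k, rfl⟩ := Subgroup.mem_zpowers_iff.1 hx
    rw [((Commute.symm (hbz g)).zpow_right k).eq, mul_inv_cancel_right]
    exact Subgroup.zpow_mem _ (Subgroup.mem_zpowers b) k⟩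
  have hb2 : orderOf b = 2 := orderOf_eq_prime (by rw [pow_two]; exact hb) hb1
  let π := QuotientGroup.mk' (Subgroup.zpowers b)
  have hQ : Nat.card (G ⧸ Subgroup.zpowers b) = 6 := by
    have := Subgroup.card_eq_card_quotient_mul_card_subgroup (Subgroup.zpowers b)
    rw [hG, Nat.card_zpowers, hb2] at this
    omega
  have h3 : orderOf (π a * π c) = 3 := by
    refine order_six hQ (by rw [← map_mul, ha, map_one]) (by rw [← map_mul, hc, map_one])
      (fun h => ha' ((QuotientGroup.eq_one_iff a).1 h)) (fun h => hc' ((QuotientGroup.eq_one_iff c).1 h))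
      fun h => hac ?_
    have := QuotientGroup.eq.1 h
    rwa [inv_self ha] at this
  have hz3 : (a * c) ^ 3 ∈ Subgroup.zpowers b := by
    rw [← QuotientGroup.eq_one_iff]
    show π ((a * c) ^ 3) = 1
    rw [map_pow, map_mul, ← h3, pow_orderOf_eq_one]
  have hmem : (a * c) ^ 3 = 1 ∨ (a * c) ^ 3 = b := by
    obtain ⟨k, hk⟩ := Subgroup.mem_zpowers_iff.1 hz3
    rw [← zpow_mod_orderOf, hb2] at hk
    rcases Int.emod_two_eq k with h | h <;> norm_num [h] at hk
    · exact Or.inl hk.symm
    · exact Or.inr hk.symm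
  obtain ⟨e, he, hez⟩ : ∃ e, (e = c ∨ e = c * b) ∧ (a * e) ^ 3 = 1 := by
    rcases hmem with h | h
    · exact ⟨c, Or.inl rfl, h⟩
    · refine ⟨c * b, Or.inr rfl, ?_⟩
      rw [← mul_assoc, (Commute.symm (hbz (a * c))).mul_pow, h, show b ^ 3 = b * b * b from by rw [pow_succ, pow_two], hb, one_mul, hb]
  have hee : e * e = 1 := by
    rcases he with rfl | rfl
    · exact hc
    · rw [mul_assoc, ← mul_assoc b c b, hbz c, mul_assoc c b b, hb, mul_one, hc]
  have hne : a * e ∉ Subgroup.zpowers b := by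
    rcases he with rfl | rfl
    · exact hac
    · exact fun h => hac (by
        have := Subgroup.mul_mem _ h (Subgroup.mem_zpowers b)
        rwa [← mul_assoc, mul_assoc (a * c), hb, mul_one] at this)
  have h3e : orderOf (a * e) = 3 := by
    haveI : Fact (Nat.Prime 3) := ⟨Nat.prime_three⟩
    exact orderOf_eq_prime hez fun h => hne (h ▸ Subgroup.one_mem _)
  refine ⟨e, he, hee, h3e, ?_⟩
  rw [← mul_assoc, (Commute.symm (hbz (a * e))).orderOf_mul_eq_mul_orderOf_of_coprime
    (by rw [h3e, hb2]; norm_num), h3e, hb2]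

/-- A group of order 24 with a four-group on which two involutions act as distinct transvections. -/
theorem sym_four [Finite G] (hG : Nat.card G = 24) (Q : Subgroup G) [hQn : Q.Normal]
    (hQ : Nat.card Q = 4) {u v a c : G} (hu : u ∈ Q) (hv : v ∈ Q) (hu1 : u ≠ 1) (hv1 : v ≠ 1)
    (huv : u ≠ v) (hu2 : u * u = 1) (ha : a * a = 1) (hau : a * u * a = u) (hav : a * v * a = v * u)
    (hc : c * c = 1) (hcv : c * v * c = v) (hcu : c * u * c = u * v) :
    Nonempty (G ≃* Equiv.Perm (Fin 4)) := by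
  classical
  haveI : Fact (Nat.Prime 3) := ⟨Nat.prime_three⟩
  haveI : Fact (Nat.Prime 2) := ⟨Nat.prime_two⟩
  haveI := Fintype.ofFinite Q
  have hQ' : Fintype.card Q = 4 := by rw [← Nat.card_eq_fintype_card]; exact hQ
  have hQc : ∀ p ∈ Q, ∀ q ∈ Q, p * q = q * p := fun p hp q hq => by
    haveI := IsPGroup.isMulCommutative_of_card_eq_prime_sq (p := 2) (G := Q) (by rw [hQ]; norm_num)
    exact congrArg Subtype.val (mul_comm' (⟨p, hp⟩ : Q) ⟨q, hq⟩)
  have hfour : ∀ q ∈ Q, q = 1 ∨ q = u ∨ q = v ∨ q = u * v := by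
    intro q hq
    by_contra hne
    push Not at hne
    have n1 : u * v ≠ u := fun h => hv1 (by simpa using h)
    have n2 : u * v ≠ v := fun h => hu1 (by simpa using h)
    have n3 : u * v ≠ 1 := fun h => huv (by
      rw [← inv_eq_of_mul_eq_one_right h]; exact (inv_self hu2).symm)
    let z : Fin 5 → Q := ![1, ⟨u, hu⟩, ⟨v, hv⟩, ⟨u * v, Q.mul_mem hu hv⟩, ⟨q, hq⟩]
    have hz : Function.Injective z := by
      intro i j h
      have h' := congrArg Subtype.val h
      fin_cases i <;> fin_cases j <;>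
        simp [z, hu1, Ne.symm hu1, hv1, Ne.symm hv1, huv, Ne.symm huv, n1, Ne.symm n1, n2,
          Ne.symm n2, n3, Ne.symm n3, hne.1, Ne.symm hne.1, hne.2.1, Ne.symm hne.2.1, hne.2.2.1,
          Ne.symm hne.2.2.1, hne.2.2.2, Ne.symm hne.2.2.2] at h' ⊢
    have := Fintype.card_le_of_injective z hz
    rw [hQ', Fintype.card_fin] at this
    omega
  have huv' : v * u = u * v := (hQc u hu v hv).symm
  let ψ : G →* MulAut Q := MulAut.conjNormal
  have hψval : ∀ (g : G) (q : Q), ((ψ g q : Q) : G) = g * q * g⁻¹ := fun g q => rfl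
  have hψa : ψ a ≠ 1 := fun h => by
    have h1 := hψval a ⟨v, hv⟩
    rw [h, inv_self ha, hav] at h1
    exact hu1 (mul_eq_left.1 h1.symm)
  have hψc : ψ c ≠ 1 := fun h => by
    have h1 := hψval c ⟨u, hu⟩
    rw [h, inv_self hc, hcu] at h1
    exact hv1 (mul_eq_left.1 h1.symm)
  have hψac : ψ a ≠ ψ c := fun h => by
    have h1 := hψval a ⟨u, hu⟩
    rw [h, hψval, inv_self hc, inv_self ha, hcu, hau] at h1
    exact hv1 (mul_eq_left.1 h1)
  have hkerQ : ∀ x, ψ x = 1 → x ∈ Q := by
    intro x hx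
    by_contra hxQ
    have hQker : Q ≤ ψ.ker := fun q hq => MulEquiv.ext fun p => Subtype.ext (by
      rw [hψval, hQc q hq _ p.2, mul_inv_cancel_right]; rfl)
    have hlt : Q < ψ.ker := lt_of_le_of_ne hQker fun h => hxQ (by rw [h]; exact hx)
    have hlt' := Set.ncard_lt_ncard (SetLike.coe_ssubset_coe.2 hlt)
    rw [← Nat.card_coe_set_eq, ← Nat.card_coe_set_eq] at hlt'
    change Nat.card Q < Nat.card ψ.ker at hlt'
    have h1 := Subgroup.card_mul_index ψ.ker
    rw [Subgroup.index_ker, hG] at h1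
    obtain ⟨d, hd⟩ := Subgroup.card_dvd_of_le hQker
    rw [hd, hQ] at h1 hlt'
    have hd6 : d * Nat.card ψ.range = 6 := by linarith
    have h3 : 3 ≤ Nat.card ψ.range := by
      rw [← SetLike.coe_sort_coe, Nat.card_coe_set_eq]
      refine le_trans ?_ (Set.ncard_le_ncard (s := {1, ψ a, ψ c}) (by
        rintro y (rfl | rfl | rfl)
        exacts [ψ.range.one_mem, ⟨a, rfl⟩, ⟨c, rfl⟩]) (Set.toFinite _))
      rw [Set.ncard_insert_of_notMem (by simp [Ne.symm hψa, Ne.symm hψc]),
        Set.ncard_insert_of_notMem (by simp [hψac]), Set.ncard_singleton]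
    have hr3 : Nat.card ψ.range = 3 := by
      have : Nat.card ψ.range ∣ 6 := ⟨d, by linarith⟩
      have hle := Nat.le_of_dvd (by norm_num) this
      interval_cases hr : Nat.card ψ.range <;> omega
    have h4 := pow_card_eq_one' (G := ψ.range) (x := ⟨ψ a, a, rfl⟩)
    rw [hr3] at h4
    have h5 : (ψ a) ^ 3 = 1 := congrArg Subtype.val h4
    rw [pow_succ, pow_two, ← map_mul, ha, map_one, one_mul] at h5
    exact hψa h5
  -- the Sylow 3-subgroups
  have hfac : (Nat.card G).factorization 3 = 1 := by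
    rw [hG, show 24 = 3 ^ 1 * 8 by norm_num, Nat.factorization_mul (by norm_num) (by norm_num),
      Finsupp.add_apply, Nat.Prime.factorization_pow Nat.prime_three, Finsupp.single_eq_same,
      Nat.factorization_eq_zero_of_not_dvd (by norm_num)]
  have hP3 : ∀ P : Sylow 3 G, Nat.card P = 3 := fun P => by
    rw [Sylow.card_eq_multiplicity, hfac, pow_one]
  have hn : Nat.card (Sylow 3 G) = 4 := by
    obtain ⟨P⟩ : Nonempty (Sylow 3 G) := inferInstance
    have hdvd : Nat.card (Sylow 3 G) ∣ 8 := by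
      have h1 := Subgroup.card_mul_index (P : Subgroup G)
      rw [hG, hP3 P] at h1
      have := P.card_dvd_index
      rwa [show (P : Subgroup G).index = 8 by omega] at this
    have hmod := card_sylow_modEq_one 3 G
    unfold Nat.ModEq at hmod
    have hne1 : Nat.card (Sylow 3 G) ≠ 1 := by
      intro h1
      haveI : Subsingleton (Sylow 3 G) := (Nat.card_eq_one_iff_unique.1 h1).1
      haveI : (P : Subgroup G).Normal := P.normal_of_subsingleton
      have hdis : Disjoint (P : Subgroup G) Q := by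
        rw [disjoint_iff]
        exact Subgroup.eq_bot_of_card_eq _ (Nat.eq_one_of_dvd_coprimes (by norm_num : Nat.Coprime 3 4)
          ((Subgroup.card_dvd_of_le inf_le_left).trans (hP3 P).dvd)
          (by rw [← hQ]; exact Subgroup.card_dvd_of_le inf_le_right))
      have hle : (P : Subgroup G) ≤ Q := fun x hx => hkerQ x (MulEquiv.ext fun q => Subtype.ext (by
        rw [hψval, (Subgroup.commute_of_normal_of_disjoint _ _ inferInstance inferInstance hdis x q hx q.2).eq,
          mul_inv_cancel_right]; rfl))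
      have := Subgroup.card_dvd_of_le hle
      rw [hP3, hQ] at this
      norm_num at this
    have hle8 := Nat.le_of_dvd (by norm_num) hdvd
    interval_cases hh : Nat.card (Sylow 3 G) <;> omega
  haveI := Fintype.ofFinite (Sylow 3 G)
  let φ := MulAction.toPermHom G (Sylow 3 G)
  have hφker : φ.ker = ⊥ := by
    rw [Subgroup.eq_bot_iff_forall]
    intro x hx
    -- the kernel has no element of order 3
    have h3 : ∀ y ∈ φ.ker, y ^ 3 = 1 → y = 1 := by
      intro y hy hy3
      by_contra hy1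
      obtain ⟨P, hP⟩ : ∃ P : Sylow 3 G, Subgroup.zpowers y ≤ P :=
        (IsPGroup.of_card (p := 3) (n := 1) (by
          rw [Nat.card_zpowers, orderOf_eq_prime hy3 hy1, pow_one])).exists_le_sylow
      have hall : ∀ R : Sylow 3 G, R = P := by
        intro R
        have hyR : y ∈ Subgroup.normalizer ((R : Subgroup G) : Set G) := by
          exact Sylow.smul_eq_iff_mem_normalizer.1 (Equiv.ext_iff.1 (MonoidHom.mem_ker.1 hy) R)
        have hsup : IsPGroup 3 ↥(Subgroup.zpowers y ⊔ (R : Subgroup G)) :=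
          IsPGroup.to_sup_of_normal_right' (IsPGroup.of_card (p := 3) (n := 1) (by
            rw [Nat.card_zpowers, orderOf_eq_prime hy3 hy1, pow_one])) R.isPGroup'
            (Subgroup.zpowers_le.2 hyR)
        have hR := R.is_maximal' hsup le_sup_right
        have hyR' : Subgroup.zpowers y ≤ R := le_sup_left.trans hR.le
        refine Sylow.ext ?_
        have e1 : Subgroup.zpowers y = (R : Subgroup G) := Subgroup.eq_of_le_of_card_ge hyR'
          (by rw [hP3, Nat.card_zpowers, orderOf_eq_prime hy3 hy1])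
        have e2 : Subgroup.zpowers y = (P : Subgroup G) := Subgroup.eq_of_le_of_card_ge hP
          (by rw [hP3, Nat.card_zpowers, orderOf_eq_prime hy3 hy1])
        rw [← e1, e2]
      haveI : Subsingleton (Sylow 3 G) := ⟨fun A B => (hall A).trans (hall B).symm⟩
      rw [Nat.card_of_subsingleton (Classical.arbitrary (Sylow 3 G))] at hn
      omega
    -- so it is a central subgroup of order at most 2
    have hk2 : Nat.card φ.ker ≤ 2 := by
      obtain ⟨P⟩ : Nonempty (Sylow 3 G) := inferInstance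
      have hsub : φ.ker ≤ Subgroup.normalizer ((P : Subgroup G) : Set G) := fun y hy => by
        exact Sylow.smul_eq_iff_mem_normalizer.1 (Equiv.ext_iff.1 (MonoidHom.mem_ker.1 hy) P)
      have hN : Nat.card (Subgroup.normalizer ((P : Subgroup G) : Set G)) = 6 := by
        have h1 := Subgroup.card_mul_index (Subgroup.normalizer ((P : Subgroup G) : Set G))
        have h2 := P.card_eq_index_normalizer
        rw [hn] at h2
        rw [hG] at h1
        erw [← h2] at h1
        omega
      have hd := hN ▸ Subgroup.card_dvd_of_le hsub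
      have h3' : ¬ 3 ∣ Nat.card φ.ker := fun hd3 => by
        obtain ⟨y, hy⟩ := exists_prime_orderOf_dvd_card' (G := φ.ker) 3 hd3
        have := h3 y y.2 (by rw [← Subgroup.coe_pow]; have h' := pow_orderOf_eq_one y; rw [hy] at h'; rw [h']; rfl)
        rw [show y = 1 from Subtype.ext this, orderOf_one] at hy
        omega
      have hle := Nat.le_of_dvd (by norm_num) hd
      interval_cases hh : Nat.card φ.ker <;> omega
    by_contra hx1
    have hcentral : ∀ g, g * x = x * g := by
      intro g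
      have hmem : g * x * g⁻¹ ∈ φ.ker := φ.normal_ker.conj_mem x hx g
      by_contra hne
      have h3' : 3 ≤ Nat.card φ.ker := by
        rw [← SetLike.coe_sort_coe, Nat.card_coe_set_eq]
        refine le_trans ?_ (Set.ncard_le_ncard (s := {1, x, g * x * g⁻¹}) (by
          rintro y (rfl | rfl | rfl)
          exacts [φ.ker.one_mem, hx, hmem]) (Set.toFinite _))
        rw [Set.ncard_insert_of_notMem (by simp [Ne.symm hx1, eq_comm (a := (1 : G)), hx1]),
          Set.ncard_insert_of_notMem (by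
            rw [Set.mem_singleton_iff]; intro h; exact hne (by rw [eq_mul_inv_iff_mul_eq] at h; exact h.symm)),
          Set.ncard_singleton]
      omega
    have hxQ : x ∈ Q := hkerQ x (MulEquiv.ext fun q => Subtype.ext (by
      rw [hψval, ← hcentral, mul_inv_cancel_right]; rfl))
    have hca : a * x * a = x := by rw [hcentral, mul_assoc, ha, mul_one]
    have hcc : c * x * c = x := by rw [hcentral, mul_assoc, hc, mul_one]
    rcases hfour x hxQ with h | h | h | h
    · exact hx1 h
    · rw [h, hcu] at hcc; exact hv1 (mul_eq_left.1 hcc)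
    · rw [h, hav] at hca; exact hu1 (mul_eq_left.1 hca)
    · rw [h] at hca
      have : a * (u * v) * a = v := by
        calc a * (u * v) * a = (a * u * a) * (a * v * a) := by
              rw [show (a * u * a) * (a * v * a) = a * u * (a * a) * v * a by group, ha]; group
          _ = v := by rw [hau, hav, huv', ← mul_assoc, hu2, one_mul]
      exact hu1 (mul_eq_right.1 (hca.symm.trans this))
  have hinj : Function.Injective φ := (MonoidHom.ker_eq_bot_iff φ).1 hφker
  have hbij : Function.Bijective φ := (Nat.bijective_iff_injective_and_card _).2 ⟨hinj, by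
    rw [Nat.card_perm, hn, hG]; rfl⟩
  have e : Sylow 3 G ≃ Fin 4 := (Fintype.equivFin _).trans (finCongr (by rw [← Nat.card_eq_fintype_card]; exact hn))
  exact ⟨(MulEquiv.ofBijective φ hbij).trans e.permCongrHom⟩

end General

section Types

variable {G : Type*} [Group G] [Finite G] {H : Subgroup G} {h : G} {k : ℕ}

/-- The points of the interval `[0, k]`, as elements of `H`. -/
theorem pt_mem_H (S : Setup H h k) {j : ℤ} (h1 : 0 ≤ j) (h2 : j ≤ k) : Setup.pt H h k j ∈ H :=
  (Setup.iv_full H h k).le (S.pt_mem le_rfl h1 (by push_cast; omega))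

theorem notMem_span (S : Setup H h k) {i j : ℤ} {n : ℕ} (hn : n ≤ k) (hj : j = i + n ∨ j + 1 = i)
    {e : G} (he : e ∈ iv H h k i n) : Setup.pt H h k j * e ∉ iv H h k i n := fun hh => by
  have h0 := Subgroup.mul_mem _ hh (Subgroup.inv_mem _ he)
  rw [mul_inv_cancel_right] at h0
  rcases hj with rfl | rfl
  · exact S.pt_notMem_left i hn h0
  · exact S.pt_notMem_right j hn h0

theorem top_of_pts (S : Setup H h k) (K : Subgroup H)
    (hK : ∀ (j : ℤ) (h1 : 0 ≤ j) (h2 : j ≤ k), (⟨Setup.pt H h k j, pt_mem_H S h1 h2⟩ : H) ∈ K) :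
    K = ⊤ := by
  refine eq_top_iff.2 fun y _ => ?_
  have : H ≤ K.map H.subtype := by
    conv_lhs => rw [← Setup.iv_full H h k]
    exact S.iv_le_iff 0 le_rfl _ fun j h1 h2 => ⟨_, hK j h1 (by push_cast at h2; omega), rfl⟩
  obtain ⟨z, hz, hzy⟩ := this y.2
  rwa [← (Subtype.ext hzy : z = y)]

theorem type_one (S : Setup H h 1) : Nonempty (H ≃* Equiv.Perm (Fin 3)) := by
  have hH : Nat.card H = 6 := by rw [S.cardH]; norm_num
  let a : H := ⟨_, pt_mem_H S (j := 0) le_rfl (by norm_num)⟩
  let c : H := ⟨_, pt_mem_H S (j := 1) (by norm_num) (by norm_num)⟩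
  have h1 := order_six hH (a := a) (c := c) (Subtype.ext (S.pt_spec 0).2.2) (Subtype.ext (S.pt_spec 1).2.2)
    (fun h => (S.pt_spec 0).2.1 (congrArg Subtype.val h))
    (fun h => (S.pt_spec 1).2.1 (congrArg Subtype.val h)) (fun h => by
      refine S.pt_notMem_left 0 (n := 1) le_rfl ?_
      have h' : Setup.pt H _ 1 0 = Setup.pt H _ 1 1 := congrArg Subtype.val h
      show Setup.pt H _ 1 (0 + ((1 : ℕ) : ℤ)) ∈ _
      rw [show (0 : ℤ) + ((1 : ℕ) : ℤ) = 1 by norm_num, ← h']
      exact S.pt_mem (by norm_num) le_rfl (by norm_num))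
  obtain ⟨e₁⟩ := dihedral_equiv (Subtype.ext (S.pt_spec 0).2.2) (Subtype.ext (S.pt_spec 1).2.2) 3 le_rfl h1
    (by rw [hH])
  have h2 : orderOf (Equiv.swap (0 : Fin 3) 1 * Equiv.swap 1 2) = 3 :=
    orderOf_eq_prime (by decide) (by decide)
  obtain ⟨e₂⟩ := dihedral_equiv (G := Equiv.Perm (Fin 3)) (a := Equiv.swap 0 1) (c := Equiv.swap 1 2)
    (by decide) (by decide) 3 le_rfl h2 (by rw [Nat.card_perm, Nat.card_fin]; rfl)
  exact ⟨e₁.trans e₂.symm⟩

theorem iv_le_two (S : Setup H h 2) {y : G} (hy : y ∈ iv H h 2 1 1) : y ∈ iv H h 2 1 2 :=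
  Setup.iv_left H h 1 (by norm_num) hy

theorem iv_le_three (S : Setup H h 3) {y : G} (hy : y ∈ iv H h 3 1 2) : y ∈ iv H h 3 (0 + 1) 3 :=
  Setup.iv_left H h 1 (by norm_num) hy

theorem pt_of_mem (S : Setup H h k) {y : G} {i : ℤ} (hy : y ∈ iv H h k i 1) (hy1 : y ≠ 1) :
    y = Setup.pt H h k i := by
  rw [(S.pt_spec i).1] at hy
  obtain ⟨j, rfl⟩ := Subgroup.mem_zpowers_iff.1 hy
  rw [← zpow_mod_orderOf, orderOf_eq_prime (p := 2) (by rw [pow_two]; exact (S.pt_spec i).2.2)
    (S.pt_spec i).2.1] at hy1 ⊢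
  rcases Int.emod_two_eq j with hh | hh <;> simp_all

omit [Finite G] in
theorem shift_comm (d : ℤ) {i j l : ℤ}
    (e : ⁅Setup.pt H h k i, Setup.pt H h k j⁆ = Setup.pt H h k l) :
    ⁅Setup.pt H h k (d + i), Setup.pt H h k (d + j)⁆ = Setup.pt H h k (d + l) := by
  rw [← Setup.pt_shift H h k i d, ← Setup.pt_shift H h k j d, ← Setup.pt_shift H h k l d, ← e]
  exact (map_commutatorElement (MulAut.conj (h ^ d)).toMonoidHom _ _).symm

theorem conj_of_comm (S : Setup H h k) {i j : ℤ}
    (hc : Commute (Setup.pt H h k i) (Setup.pt H h k j)) :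
    Setup.pt H h k i * Setup.pt H h k j * Setup.pt H h k i = Setup.pt H h k j := by
  rw [hc.eq, mul_assoc, (S.pt_spec i).2.2, mul_one]

theorem conj_eq (S : Setup H h k) {i j : ℤ} {w : G}
    (e : ⁅Setup.pt H h k i, Setup.pt H h k j⁆ = w) :
    Setup.pt H h k i * Setup.pt H h k j * Setup.pt H h k i = w * Setup.pt H h k j := by
  rw [← e, commutatorElement_def, inv_self (S.pt_spec i).2.2, inv_mul_cancel_right]

theorem conj_eq' (S : Setup H h k) {i j : ℤ} {w : G}
    (e : ⁅Setup.pt H h k i, Setup.pt H h k j⁆ = w)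
    (hw : w * w = 1) :
    Setup.pt H h k j * Setup.pt H h k i * Setup.pt H h k j = w * Setup.pt H h k i :=
  conj_eq S (by rw [← commutatorElement_inv, e]; exact inv_self hw)

theorem type_two (S : Setup H h 2) : Nonempty (H ≃* DihedralGroup 6) := by
  obtain ⟨m, R, hm⟩ := S.exists_range
  have hm2 : m = 2 := le_antisymm R.le (hm le_rfl)
  subst hm2
  have hH : Nat.card H = 12 := by rw [S.cardH]; norm_num
  let a : H := ⟨_, pt_mem_H S (j := 0) le_rfl (by norm_num)⟩
  let b : H := ⟨_, pt_mem_H S (j := 1) (by norm_num) (by norm_num)⟩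
  let c : H := ⟨_, pt_mem_H S (j := 2) (by norm_num) (by norm_num)⟩
  have hbz : ∀ g : H, b * g = g * b := by
    have : Subgroup.centralizer ({b} : Set H) = ⊤ := top_of_pts S _ fun j h1 h2 => by
      rw [Subgroup.mem_centralizer_singleton_iff]
      refine Subtype.ext ?_
      first
        | exact (R.comm j 1 (by omega) (by omega)).eq
        | exact (R.comm 1 j (by omega) (by omega)).eq
    intro g
    have h3 := Subgroup.mem_centralizer_singleton_iff.1 (this ▸ Subgroup.mem_top g)
    first | exact h3 | exact h3.symm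
  have hzb : ∀ y : H, y ∈ Subgroup.zpowers b → (y : G) ∈ iv H h 2 1 1 := by
    intro y hy
    obtain ⟨i, rfl⟩ := Subgroup.mem_zpowers_iff.1 hy
    rw [(S.pt_spec 1).1, SubgroupClass.coe_zpow]
    exact Subgroup.zpow_mem_zpowers _ i
  obtain ⟨e, -, he2, -, h6⟩ := order_twelve hH (a := a) (b := b) (c := c) (Subtype.ext (S.pt_spec 0).2.2)
    (Subtype.ext (S.pt_spec 1).2.2) (Subtype.ext (S.pt_spec 2).2.2)
    (fun h => (S.pt_spec 1).2.1 (congrArg Subtype.val h)) hbz
    (fun hh => S.pt_notMem_right 0 (n := 1) (by norm_num) (hzb a hh))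
    (fun hh => S.pt_notMem_left 1 (n := 1) (by norm_num) (hzb c hh))
    (fun hh => by
      have h1 : (a : G) * c ∈ iv H h 2 1 2 := iv_le_two S (hzb (a * c) hh)
      have h2 : (c : G) ∈ iv H h 2 1 2 := S.pt_mem (by norm_num) (by norm_num) (by norm_num)
      have h3 := Subgroup.mul_mem _ h1 (Subgroup.inv_mem _ h2)
      rw [mul_inv_cancel_right] at h3
      exact S.pt_notMem_right 0 (n := 2) le_rfl h3)
  exact dihedral_equiv (Subtype.ext (S.pt_spec 0).2.2)
    (show (e * b) * (e * b) = 1 by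
      rw [mul_assoc, ← mul_assoc b e b, hbz e, mul_assoc e b b,
        show b * b = 1 from Subtype.ext (S.pt_spec 1).2.2, mul_one, he2]) 6 (by norm_num) h6 (by rw [hH])

theorem type_three (S : Setup H h 3) : Nonempty (H ≃* Equiv.Perm (Fin 4)) := by
  obtain ⟨m, R, hm⟩ := S.exists_range
  have hm2 : m = 2 := le_antisymm (by have := S.range_small R; omega) (hm (by norm_num))
  subst hm2
  obtain ⟨-, hw, hw1⟩ := S.comm_bound R le_rfl (by norm_num)
  have hw01 : ⁅Setup.pt H h 3 0, Setup.pt H h 3 2⁆ = Setup.pt H h 3 1 := pt_of_mem S (by norm_num at hw ⊢; exact hw) (by norm_num at hw1 ⊢; exact hw1)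
  have hw12 : ⁅Setup.pt H h 3 1, Setup.pt H h 3 3⁆ = Setup.pt H h 3 2 := by
    have := shift_comm (H := H) (h := h) (k := 3) 1 hw01
    norm_num at this; exact this
  have hH : Nat.card H = 24 := by rw [S.cardH]; norm_num
  set Q := iv H h 3 1 2 with hQ
  have hQH : Q ≤ H := fun y hy => by
    rw [← Setup.iv_full H h 3]; exact Setup.iv_right H h 0 le_rfl (iv_le_three S hy)
  have hQn : H ≤ Subgroup.normalizer (Q : Set G) := by
    conv_lhs => rw [← Setup.iv_full H h 3, show (3 + 1 : ℕ) = 3 + 1 from rfl, S.iv_sup 0 (by norm_num) le_rfl]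
    exact sup_le (S.iv_normalize 0 (n := 2) le_rfl).2 (S.iv_normalize (0 + 1) (n := 2) le_rfl).1
  haveI : (Q.subgroupOf H).Normal := (Subgroup.normal_subgroupOf_iff_le_normalizer hQH).2 hQn
  have hx : ∀ j : ℤ, 0 ≤ j → j ≤ 3 → Setup.pt H h 3 j ∈ H := fun j h1 h2 => pt_mem_H S h1 h2
  refine sym_four hH (Q.subgroupOf H)
    (by rw [Nat.card_congr (Subgroup.subgroupOfEquivOfLe hQH).toEquiv, S.card_iv 1 (by norm_num)]; norm_num)
    (u := ⟨_, hx 1 (by norm_num) (by norm_num)⟩) (v := ⟨_, hx 2 (by norm_num) (by norm_num)⟩)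
    (a := ⟨_, hx 0 le_rfl (by norm_num)⟩) (c := ⟨_, hx 3 (by norm_num) le_rfl⟩)
    (Subgroup.mem_subgroupOf.2 (S.pt_mem (by norm_num) (by norm_num) (by norm_num)))
    (Subgroup.mem_subgroupOf.2 (S.pt_mem (by norm_num) (by norm_num) (by norm_num)))
    (fun h => (S.pt_spec 1).2.1 (congrArg Subtype.val h))
    (fun h => (S.pt_spec 2).2.1 (congrArg Subtype.val h))
    (fun h => ?_) (Subtype.ext (S.pt_spec 1).2.2) (Subtype.ext (S.pt_spec 0).2.2) ?_ ?_
    (Subtype.ext (S.pt_spec 3).2.2) ?_ ?_
  · refine S.pt_notMem_left 1 (n := 1) (by norm_num) ?_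
    show Setup.pt H _ 3 (1 + ((1 : ℕ) : ℤ)) ∈ _
    have h' : Setup.pt H _ 3 1 = Setup.pt H _ 3 2 := congrArg Subtype.val h
    rw [show (1 : ℤ) + ((1 : ℕ) : ℤ) = 2 by norm_num, ← h']
    exact S.pt_mem (by norm_num) le_rfl (by norm_num)
  · exact Subtype.ext (conj_of_comm S (R.comm 0 1 (by norm_num) (by norm_num)))
  · refine Subtype.ext ?_
    show Setup.pt H h 3 0 * Setup.pt H h 3 2 * Setup.pt H h 3 0 = Setup.pt H h 3 2 * Setup.pt H h 3 1
    rw [conj_eq S hw01, (R.comm 1 2 (by norm_num) (by norm_num)).eq]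
  · exact Subtype.ext (conj_of_comm S (R.comm 3 2 (by norm_num) (by norm_num)))
  · refine Subtype.ext ?_
    show Setup.pt H h 3 3 * Setup.pt H h 3 1 * Setup.pt H h 3 3 = Setup.pt H h 3 1 * Setup.pt H h 3 2
    rw [conj_eq' S hw12 (S.pt_spec 2).2.2, (R.comm 2 1 (by norm_num) (by norm_num)).eq]

theorem type_four (S : Setup H h 4) :
    Nonempty (H ≃* Equiv.Perm (Fin 4) × Multiplicative (ZMod 2)) := by
  haveI : Fact (Nat.Prime 2) := ⟨Nat.prime_two⟩
  obtain ⟨m, R, hm⟩ := S.exists_range
  have hsmall := S.range_small R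
  have hm2 := hm (by norm_num)
  have hmk : m < 4 := by omega
  obtain ⟨h83, hw, hw1⟩ := S.comm_bound R hm2 hmk
  have hm3 : m = 3 := by omega
  subst hm3
  norm_num at hw hw1
  set x := Setup.pt H h 4 with hx
  have hH : Nat.card H = 48 := by rw [S.cardH]; norm_num
  have hinv : ∀ i, (x i)⁻¹ = x i := fun i => inv_self (S.pt_spec i).2.2
  have hcm : ∀ i j : ℤ, i - j < 3 → j - i < 3 → x i * x j = x j * x i := fun i j h1 h2 =>
    (R.comm i j (by exact_mod_cast h1) (by exact_mod_cast h2)).eq
  -- the centre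
  have hbz : ∀ y ∈ H, x 2 * y = y * x 2 := by
    have : H ≤ Subgroup.centralizer ({x 2} : Set G) := by
      conv_lhs => rw [← Setup.iv_full H h 4]
      refine S.iv_le_iff 0 le_rfl _ fun j h1 h2 => ?_
      rw [Subgroup.mem_centralizer_singleton_iff]
      first
        | exact hcm j 2 (by omega) (by omega)
        | exact hcm 2 j (by omega) (by omega)
    intro y hy
    have h3 := Subgroup.mem_centralizer_singleton_iff.1 (this hy)
    first | exact h3 | exact h3.symm
  -- the two Sylow 2-subgroups and the commutator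
  obtain ⟨v, hvH, hv⟩ : ∃ v ∈ H, cj v (iv H h 4 0 4) = iv H h 4 1 4 := by
    have hS0H : iv H h 4 0 4 ≤ H := (Setup.iv_left H h (k := 4) (n := 4) 0 le_rfl).trans (Setup.iv_full H h 4).le
    have hS1H : iv H h 4 1 4 ≤ H := (Setup.iv_right H h (k := 4) (n := 4) 0 le_rfl).trans (Setup.iv_full H h 4).le
    have hfac : (Nat.card H).factorization 2 = 4 := by
      rw [hH, show 48 = 2 ^ 4 * 3 by norm_num, Nat.factorization_mul (by norm_num) (by norm_num),
        Finsupp.add_apply, Nat.Prime.factorization_pow Nat.prime_two, Finsupp.single_eq_same,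
        Nat.factorization_eq_zero_of_not_dvd (by norm_num)]
    let P0 : Sylow 2 H := Sylow.ofCard ((iv H h 4 0 4).subgroupOf H) (by
      rw [hfac, Nat.card_congr (Subgroup.subgroupOfEquivOfLe hS0H).toEquiv, S.card_iv _ le_rfl])
    let P1 : Sylow 2 H := Sylow.ofCard ((iv H h 4 1 4).subgroupOf H) (by
      rw [hfac, Nat.card_congr (Subgroup.subgroupOfEquivOfLe hS1H).toEquiv, S.card_iv _ le_rfl])
    obtain ⟨v, hv⟩ := MulAction.exists_smul_eq H P0 P1
    refine ⟨v, v.2, Subgroup.eq_of_le_of_card_ge ?_ (by rw [card_cj, S.card_iv _ le_rfl, S.card_iv _ le_rfl])⟩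
    rintro y ⟨z, hz, rfl⟩
    have hmem : v * (⟨z, hS0H hz⟩ : H) * v⁻¹ ∈ (P1 : Subgroup H) := by
      rw [← hv]
      refine Subgroup.mem_map.2 ⟨⟨z, hS0H hz⟩, ?_, rfl⟩
      exact Subgroup.mem_subgroupOf.2 hz
    exact Subgroup.mem_subgroupOf.1 hmem
  set w := ⁅x 0, x 3⁆ with hwdef
  obtain ⟨w', hw'⟩ : ∃ w', w' = ⁅x 1, x 4⁆ := ⟨_, rfl⟩
  have hw'shift : w' = h * w * h⁻¹ := by
    rw [hw', hwdef, show h * ⁅x 0, x 3⁆ * h⁻¹ = MulAut.conj h ⁅x 0, x 3⁆ from rfl, map_commutatorElement]
    simp only [MulAut.conj_apply, hx]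
    have e : ∀ i, h * Setup.pt H h 4 i * h⁻¹ = Setup.pt H h 4 (1 + i) := fun i => by
      rw [← Setup.pt_shift H h 4 i 1, zpow_one]
    rw [e, e]; norm_num
  have hw'mem : w' ∈ iv H h 4 2 2 := by
    rw [hw'shift, show (2 : ℤ) = 1 + 1 by norm_num, ← Setup.cj_iv H h 4 1 2]; exact conj_mem_cj hw
  have hw'sq : w' * w' = 1 := S.iv_sq R 2 (by norm_num) hw'mem
  have hw'com : ∀ p ∈ iv H h 4 1 4, p * w' = w' * p := by
    have : iv H h 4 1 4 ≤ Subgroup.centralizer ({w'} : Set G) := by
      refine S.iv_le_iff 1 (by norm_num) _ fun l h1 h2 => ?_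
      rw [Subgroup.mem_centralizer_singleton_iff]
      have h5 := S.commute_iv R 2 (by norm_num) l (by push_cast; omega) (by push_cast; omega) hw'mem
      first | exact h5.eq | exact h5.symm.eq
    intro p hp
    have h3 := Subgroup.mem_centralizer_singleton_iff.1 (this hp)
    first | exact h3 | exact h3.symm
  have hderived : ∀ p ∈ iv H h 4 1 4, ∀ q ∈ iv H h 4 1 4, ⁅p, q⁆ ∈ Subgroup.zpowers w' := by
    have hZc : ∀ p ∈ iv H h 4 1 4, ∀ z ∈ Subgroup.zpowers w', p * z * p⁻¹ = z := by
      intro p hp z hz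
      obtain ⟨i, rfl⟩ := Subgroup.mem_zpowers_iff.1 hz
      rw [(Commute.zpow_right (hw'com p hp : Commute p w') i).eq, mul_inv_cancel_right]
    have hclos : iv H h 4 1 4 = Subgroup.closure (x '' Set.Ico 1 5) := by
      refine le_antisymm (S.iv_le_iff 1 (by norm_num) _ fun j h1 h2 =>
        Subgroup.subset_closure ⟨j, ⟨h1, by push_cast at h2; omega⟩, rfl⟩) ((Subgroup.closure_le _).2 ?_)
      rintro y ⟨j, ⟨h1, h2⟩, rfl⟩
      exact S.pt_mem (by norm_num) h1 (by push_cast; omega)
    intro p hp q hq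
    rw [hclos] at hp hq hZc
    induction hp, hq using Subgroup.closure_induction₂ with
    | mem a b ha hb =>
      obtain ⟨i, hi, rfl⟩ := ha
      obtain ⟨j, hj, rfl⟩ := hb
      obtain ⟨hi1, hi2⟩ := hi
      obtain ⟨hj1, hj2⟩ := hj
      by_cases hc : i - j < 3 ∧ j - i < 3
      · rw [commutatorElement_eq_one_iff_mul_comm.2 (hcm i j hc.1 hc.2)]; exact Subgroup.one_mem _
      obtain ⟨rfl, rfl⟩ | ⟨rfl, rfl⟩ : (i = 1 ∧ j = 4) ∨ (i = 4 ∧ j = 1) := by omega
      · rw [← hw']; exact Subgroup.mem_zpowers _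
      · rw [← commutatorElement_inv, ← hw']; exact Subgroup.inv_mem _ (Subgroup.mem_zpowers _)
    | one_left => rw [commutatorElement_one_left]; exact Subgroup.one_mem _
    | one_right => rw [commutatorElement_one_right]; exact Subgroup.one_mem _
    | mul_left a b c ha hb hc hac hbc =>
      rw [show ⁅a * b, c⁆ = (a * ⁅b, c⁆ * a⁻¹) * ⁅a, c⁆ by simp only [commutatorElement_def]; group,
        hZc a ha _ hbc]
      exact Subgroup.mul_mem _ hbc hac
    | mul_right b c a hb hc ha hab hac =>
      rw [show ⁅a, b * c⁆ = ⁅a, b⁆ * (b * ⁅a, c⁆ * b⁻¹) by simp only [commutatorElement_def]; group,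
        hZc b hb _ hac]
      exact Subgroup.mul_mem _ hab hac
    | inv_left a c ha hc hac =>
      rw [show ⁅a⁻¹, c⁆ = a⁻¹ * ⁅a, c⁆⁻¹ * a⁻¹⁻¹ by simp only [commutatorElement_def]; group,
        hZc a⁻¹ (Subgroup.inv_mem _ ha) _ (Subgroup.inv_mem _ hac)]
      exact Subgroup.inv_mem _ hac
    | inv_right a c ha hc hac =>
      rw [show ⁅a, c⁻¹⁆ = c⁻¹ * ⁅a, c⁆⁻¹ * c⁻¹⁻¹ by simp only [commutatorElement_def]; group,
        hZc c⁻¹ (Subgroup.inv_mem _ hc) _ (Subgroup.inv_mem _ hac)]
      exact Subgroup.inv_mem _ hac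
  have hvw : v * w * v⁻¹ = w' := by
    have hm0 : ∀ j : ℤ, 0 ≤ j → j < 4 → v * x j * v⁻¹ ∈ iv H h 4 1 4 := fun j h1 h2 =>
      hv ▸ conj_mem_cj (S.pt_mem (by norm_num) h1 (by push_cast; omega))
    have h5 := hderived _ (hm0 0 le_rfl (by norm_num)) _ (hm0 3 (by norm_num) (by norm_num))
    have e : MulAut.conj v ⁅x 0, x 3⁆ = ⁅v * x 0 * v⁻¹, v * x 3 * v⁻¹⁆ := map_commutatorElement _ _ _
    rw [← e] at h5
    change v * w * v⁻¹ ∈ _ at h5
    obtain ⟨i, hi⟩ := Subgroup.mem_zpowers_iff.1 h5
    have hw'1 : w' ≠ 1 := by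
      rw [hw'shift]; intro hh; exact hw1 (conj_eq_one_iff.1 hh)
    rw [← zpow_mod_orderOf, orderOf_eq_prime (p := 2) (by rw [pow_two]; exact hw'sq) hw'1] at hi
    rcases Int.emod_two_eq i with hh | hh <;> norm_num [hh] at hi
    · exact absurd (conj_eq_one_iff.1 hi.symm) hw1
    · exact hi.symm
  have hn2 : (x 1) ≠ x 2 := fun e => S.pt_notMem_left 1 (n := 1) (by norm_num) (by
    rw [show (1 : ℤ) + ((1 : ℕ) : ℤ) = 2 by norm_num, show Setup.pt H h 4 2 = x 1 from e.symm]
    exact S.pt_mem (by norm_num) le_rfl (by norm_num))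
  have hsh : ∀ i, h * x i * h⁻¹ = x (1 + i) := fun i => by
    rw [hx, ← Setup.pt_shift H h 4 i 1, zpow_one]
  have hw12 : w = x 1 * x 2 := by
    by_cases hout : w ∈ iv H h 4 1 1
    · exfalso
      rw [(pt_of_mem S hout hw1 : w = x 1)] at hvw hw'shift
      rw [hsh 1, show (1 : ℤ) + 1 = 2 by norm_num] at hw'shift
      rw [hw'shift] at hvw
      refine hn2 ?_
      calc x 1 = v⁻¹ * (v * x 1 * v⁻¹) * v := by group
        _ = v⁻¹ * (x 2 * v) := by rw [hvw]; group
        _ = x 2 := by rw [hbz v hvH, inv_mul_cancel_left]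
    obtain ⟨f, hf, hwf⟩ := S.split_left 1 (n := 1) (by norm_num) hw hout
    rw [show (1 : ℤ) + ((1 : ℕ) : ℤ) = 2 by norm_num] at hwf
    by_cases hf1 : f = 1
    · exfalso
      rw [hf1, one_mul] at hwf
      rw [hwf] at hvw hw'shift
      have h5 : v * x 2 * v⁻¹ = x 2 := by rw [← hbz v hvH, mul_inv_cancel_right]
      rw [show Setup.pt H h 4 2 = x 2 from rfl, h5] at hvw
      rw [show Setup.pt H h 4 2 = x 2 from rfl, hsh 2, ← hvw] at hw'shift
      refine S.pt_notMem_left 2 (n := 1) (by norm_num) ?_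
      rw [show (2 : ℤ) + ((1 : ℕ) : ℤ) = 1 + 2 by norm_num, ← show x 2 = Setup.pt H h 4 (1 + 2) from hw'shift]
      exact S.pt_mem (by norm_num) le_rfl (by norm_num)
    · rw [hwf, pt_of_mem S hf hf1]
  have hw23 : w' = x 2 * x 3 := by
    rw [hw'shift, hw12, show h * (x 1 * x 2) * h⁻¹ = (h * x 1 * h⁻¹) * (h * x 2 * h⁻¹) by group, hsh, hsh]
    norm_num
  -- the elements of `H`
  have hmem : ∀ j : ℤ, 0 ≤ j → j ≤ 4 → x j ∈ H := fun j h1 h2 => pt_mem_H S h1 (by exact_mod_cast h2)
  let a : H := ⟨_, hmem 0 le_rfl (by norm_num)⟩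
  let b : H := ⟨_, hmem 2 (by norm_num) (by norm_num)⟩
  let c : H := ⟨_, hmem 4 (by norm_num) le_rfl⟩
  let d1 : H := ⟨_, hmem 1 (by norm_num) (by norm_num)⟩
  let d3 : H := ⟨_, hmem 3 (by norm_num) (by norm_num)⟩
  have hb2 : b * b = 1 := Subtype.ext (S.pt_spec 2).2.2
  have hbcen : ∀ g : H, b * g = g * b := fun g => Subtype.ext (hbz g g.2)
  let W : Subgroup H := Subgroup.closure {d1 * b, b * d3}
  have hWmem : ∀ y ∈ W, (y : G) ∈ iv H h 4 1 3 := by
    intro y hy
    have hle : W ≤ (iv H h 4 1 3).comap H.subtype := by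
      refine (Subgroup.closure_le _).2 ?_
      rintro z (rfl | rfl)
      · exact Subgroup.mul_mem _ (S.pt_mem (by norm_num) (by norm_num) (by norm_num))
          (S.pt_mem (by norm_num) (by norm_num) (by norm_num))
      · exact Subgroup.mul_mem _ (S.pt_mem (by norm_num) (by norm_num) (by norm_num))
          (S.pt_mem (by norm_num) (by norm_num) (by norm_num))
    exact hle hy
  have e12 : (x 1 * x 2) * (x 1 * x 2) = 1 :=
    S.iv_sq R 1 (n := 3) (by norm_num) (Subgroup.mul_mem _ (S.pt_mem (by norm_num) (by norm_num) (by norm_num))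
      (S.pt_mem (by norm_num) (by norm_num) (by norm_num)))
  have e23 : (x 2 * x 3) * (x 2 * x 3) = 1 := hw23 ▸ hw'sq
  have e1223 : (x 1 * x 2) * (x 2 * x 3) = x 1 * x 3 := by
    rw [mul_assoc, ← mul_assoc (x 2), (S.pt_spec 2).2.2, one_mul]
  have hWfour : ∀ y ∈ W, y = 1 ∨ y = d1 * b ∨ y = b * d3 ∨ y = d1 * b * (b * d3) := by
    intro y hy
    have q1 : (d1 * b) * (d1 * b) = 1 := Subtype.ext e12
    have q2 : (b * d3) * (b * d3) = 1 := Subtype.ext e23
    have q3 : (b * d3) * (d1 * b) = (d1 * b) * (b * d3) := Subtype.ext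
      ((((R.comm 2 1 (by norm_num) (by norm_num)).mul_right (Commute.refl _)).mul_left
        ((R.comm 3 1 (by norm_num) (by norm_num)).mul_right (R.comm 3 2 (by norm_num) (by norm_num)))).eq)
    induction hy using Subgroup.closure_induction with
    | mem z hz => rcases hz with rfl | rfl <;> simp
    | one => simp
    | mul p q _ _ hp hq =>
      set A := d1 * b
      set B := b * d3
      rcases hp with rfl | rfl | rfl | rfl <;> rcases hq with rfl | rfl | rfl | rfl <;>
        simp [q1, q2, q3, mul_assoc A B A, mul_assoc A B B, mul_assoc A B (A * B), ← mul_assoc A A B,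
          ← mul_assoc B A B] <;> simp [mul_assoc, q2]
    | inv p _ hp =>
      set A := d1 * b
      set B := b * d3
      rcases hp with rfl | rfl | rfl | rfl <;> simp [inv_self q1, inv_self q2, q3]
  set u := d1 * b with hu
  set v' := b * d3 with hv'
  have huW : u ∈ W := Subgroup.subset_closure (Or.inl rfl)
  have hvW : v' ∈ W := Subgroup.subset_closure (Or.inr rfl)
  have hu1 : u ≠ 1 := fun hh => hn2 (by
    have h5 : x 1 * x 2 = 1 := congrArg Subtype.val hh
    rw [eq_inv_of_mul_eq_one_left h5, hinv])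
  have hv1 : v' ≠ 1 := fun hh => by
    have h5 : x 2 * x 3 = 1 := congrArg Subtype.val hh
    refine S.pt_notMem_left 2 (n := 1) (by norm_num) ?_
    rw [show (2 : ℤ) + ((1 : ℕ) : ℤ) = 3 by norm_num, show Setup.pt H h 4 3 = (x 2)⁻¹ from (inv_eq_of_mul_eq_one_right h5).symm]
    exact Subgroup.inv_mem _ (S.pt_mem (by norm_num) le_rfl (by norm_num))
  have h3out : x 3 ∉ iv H h 4 1 2 := by
    have := S.pt_notMem_left 1 (n := 2) (by norm_num)
    norm_num at this
    exact this
  have huv : u ≠ v' := fun hh => by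
    have h5 : x 1 * x 2 = x 2 * x 3 := congrArg Subtype.val hh
    refine h3out ?_
    rw [show x 3 = (x 2)⁻¹ * (x 1 * x 2) by rw [h5]; group]
    exact Subgroup.mul_mem _ (Subgroup.inv_mem _ (S.pt_mem (by norm_num) (by norm_num) (by norm_num)))
      (Subgroup.mul_mem _ (S.pt_mem (by norm_num) (by norm_num) (by norm_num))
        (S.pt_mem (by norm_num) (by norm_num) (by norm_num)))
  have huu : u * u = 1 := Subtype.ext e12
  have hau : a * u * a = u := Subtype.ext (by
    show x 0 * (x 1 * x 2) * x 0 = x 1 * x 2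
    rw [((R.comm 0 1 (by norm_num) (by norm_num)).mul_right (R.comm 0 2 (by norm_num) (by norm_num))).eq,
      mul_assoc, (S.pt_spec 0).2.2, mul_one])
  have hav : a * v' * a = v' * u := Subtype.ext (by
    show x 0 * (x 2 * x 3) * x 0 = (x 2 * x 3) * (x 1 * x 2)
    calc x 0 * (x 2 * x 3) * x 0 = (x 0 * x 2) * x 3 * x 0 := by group
      _ = x 2 * (x 0 * x 3 * x 0) := by rw [hcm 0 2 (by norm_num) (by norm_num)]; group
      _ = x 2 * ((x 1 * x 2) * x 3) := by rw [conj_eq S (show ⁅x 0, x 3⁆ = x 1 * x 2 from hw12)]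
      _ = x 2 * (x 3 * (x 1 * x 2)) := by
          rw [((R.comm 3 1 (by norm_num) (by norm_num)).mul_right (R.comm 3 2 (by norm_num) (by norm_num))).eq]
      _ = _ := by group)
  have hcv : c * v' * c = v' := Subtype.ext (by
    show x 4 * (x 2 * x 3) * x 4 = x 2 * x 3
    rw [((R.comm 4 2 (by norm_num) (by norm_num)).mul_right (R.comm 4 3 (by norm_num) (by norm_num))).eq,
      mul_assoc, (S.pt_spec 4).2.2, mul_one])
  have hcu : c * u * c = u * v' := Subtype.ext (by
    show x 4 * (x 1 * x 2) * x 4 = (x 1 * x 2) * (x 2 * x 3)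
    calc x 4 * (x 1 * x 2) * x 4 = x 4 * x 1 * (x 2 * x 4) := by group
      _ = (x 4 * x 1 * x 4) * x 2 := by rw [hcm 2 4 (by norm_num) (by norm_num)]; group
      _ = (x 2 * x 3) * x 1 * x 2 := by
          rw [conj_eq' S (show ⁅x 1, x 4⁆ = x 2 * x 3 from hw'.symm.trans hw23) e23]
      _ = (x 2 * x 3) * (x 1 * x 2) := by group
      _ = _ := ((((R.comm 2 1 (by norm_num) (by norm_num)).mul_right (Commute.refl _)).mul_left
        ((R.comm 3 1 (by norm_num) (by norm_num)).mul_right (R.comm 3 2 (by norm_num) (by norm_num)))).eq))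
  haveI hWn : W.Normal := by
    refine Subgroup.normalizer_eq_top_iff.1 (top_of_pts S _ fun j h1 h2 => ?_)
    have hyy : (⟨x j, hmem j h1 h2⟩ : H) * ⟨x j, hmem j h1 h2⟩ = 1 := Subtype.ext (S.pt_spec j).2.2
    set y : H := ⟨x j, hmem j h1 h2⟩ with hy
    have hconj : ∀ q ∈ W, y * q * y ∈ W := by
      intro q hq
      have hle : W ≤ W.comap (MulAut.conj y).toMonoidHom := by
        refine (Subgroup.closure_le _).2 ?_
        intro z hz
        have hzW : z ∈ W := Subgroup.subset_closure hz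
        show y * z * y⁻¹ ∈ W
        rw [inv_self hyy]
        by_cases hj : j = 0
        · subst hj
          rcases hz with rfl | rfl
          · rw [show y = a from rfl, hau]; exact huW
          · rw [show y = a from rfl, hav]; exact W.mul_mem hvW huW
        by_cases hj4 : j = 4
        · subst hj4
          rcases hz with rfl | rfl
          · rw [show y = c from rfl, hcu]; exact W.mul_mem huW hvW
          · rw [show y = c from rfl, hcv]; exact hvW
        · have hc : Commute (x j) (z : G) :=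
            S.commute_iv R 1 (by norm_num) j (by push_cast at h2 ⊢; omega) (by push_cast at h2 ⊢; omega) (hWmem z hzW)
          rw [show y * z = z * y from Subtype.ext hc.eq, mul_assoc, hyy, mul_one]
          exact hzW
      have h5 : y * q * y⁻¹ ∈ W := hle hq
      rwa [inv_self hyy] at h5
    refine Subgroup.mem_normalizer_iff.2 fun q => ⟨fun hq => by rw [inv_self hyy]; exact hconj q hq, fun hq => ?_⟩
    rw [inv_self hyy] at hq
    have h5 := hconj _ hq
    rwa [show y * (y * q * y) * y = (y * y) * q * (y * y) by group, hyy, one_mul, mul_one] at h5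
  have hWcard : Nat.card W = 4 := by
    have hset : (W : Set H) = {1, u, v', u * v'} := by
      refine Set.Subset.antisymm (fun y hy => by simpa using hWfour y hy) ?_
      rintro y (rfl | rfl | rfl | rfl)
      exacts [W.one_mem, huW, hvW, W.mul_mem huW hvW]
    have n1 : u * v' ≠ u := fun hh => hv1 (by simpa using hh)
    have n2 : u * v' ≠ v' := fun hh => hu1 (by simpa using hh)
    have n3 : u * v' ≠ 1 := fun hh => huv (by rw [← inv_eq_of_mul_eq_one_right hh, inv_self huu])
    rw [← SetLike.coe_sort_coe, Nat.card_coe_set_eq, hset,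
      Set.ncard_insert_of_notMem (by simp [Ne.symm hu1, Ne.symm hv1, Ne.symm n3]),
      Set.ncard_insert_of_notMem (by simp [huv, Ne.symm n1]),
      Set.ncard_insert_of_notMem (by simp [Ne.symm n2]), Set.ncard_singleton]
  let π := QuotientGroup.mk' W
  have hπs : Function.Surjective π := QuotientGroup.mk'_surjective W
  have hQ12 : Nat.card (H ⧸ W) = 12 := by
    have := Subgroup.card_eq_card_quotient_mul_card_subgroup W
    rw [hH, hWcard] at this
    omega
  have hπd1 : π d1 = π b := (QuotientGroup.eq.2 (by rw [inv_self (Subtype.ext (S.pt_spec 1).2.2 : d1 * d1 = 1)]; exact huW))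
  have hπd3 : π d3 = π b := (QuotientGroup.eq.2 (by rw [inv_self hb2]; exact hvW)).symm
  have hbW : b ∉ W := fun hh => by
    rcases hWfour b hh with e | e | e | e
    · exact (S.pt_spec 2).2.1 (congrArg Subtype.val e)
    · exact (S.pt_spec 1).2.1 (congrArg Subtype.val (mul_eq_right.1 e.symm))
    · exact (S.pt_spec 3).2.1 (congrArg Subtype.val (mul_eq_left.1 e.symm))
    · have h5 : x 2 = x 1 * x 3 := (congrArg Subtype.val e).trans e1223
      refine h3out ?_
      rw [show x 3 = (x 1)⁻¹ * x 2 by rw [h5]; group]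
      exact Subgroup.mul_mem _ (Subgroup.inv_mem _ (S.pt_mem (by norm_num) le_rfl (by norm_num)))
        (S.pt_mem (by norm_num) (by norm_num) (by norm_num))
  have hlift : ∀ y : H, π y ∈ Subgroup.zpowers (π b) → (y : G) ∈ iv H h 4 1 3 := by
    intro y hy
    obtain ⟨i, hi⟩ := Subgroup.mem_zpowers_iff.1 hy
    rw [← map_zpow] at hi
    have h5 := hWmem _ (QuotientGroup.eq.1 hi)
    have h6 : ((b ^ i : H) : G) ∈ iv H h 4 1 3 := by
      rw [SubgroupClass.coe_zpow]; exact Subgroup.zpow_mem _ (S.pt_mem (by norm_num) (by norm_num) (by norm_num)) i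
    have h7 := Subgroup.mul_mem _ h6 h5
    rwa [Subgroup.coe_mul, Subgroup.coe_inv, mul_inv_cancel_left] at h7
  have ha2 : a * a = 1 := Subtype.ext (S.pt_spec 0).2.2
  have hc2 : c * c = 1 := Subtype.ext (S.pt_spec 4).2.2
  have hbQ : π b ≠ 1 := fun hh => hbW ((QuotientGroup.eq_one_iff b).1 hh)
  obtain ⟨e, he, -, he3, -⟩ := order_twelve hQ12 (a := π a) (b := π b) (c := π c)
    (by rw [← map_mul, ha2, map_one]) (by rw [← map_mul, hb2, map_one]) (by rw [← map_mul, hc2, map_one]) hbQ
    (fun g => by obtain ⟨g, rfl⟩ := hπs g; rw [← map_mul, ← map_mul, hbcen])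
    (fun hh => S.pt_notMem_right 0 (n := 3) (by norm_num) (hlift a hh))
    (fun hh => by
      have := S.pt_notMem_left 1 (n := 3) (by norm_num); norm_num at this; exact this (hlift c hh))
    (fun hh => by
      have h1 : (a : G) * c ∈ iv H h 4 1 4 := Setup.iv_left H h 1 (by norm_num) (hlift (a * c) (by rw [map_mul]; exact hh))
      have h2 : (c : G) ∈ iv H h 4 1 4 := S.pt_mem (by norm_num) (by norm_num) (by norm_num)
      have h3 := Subgroup.mul_mem _ h1 (Subgroup.inv_mem _ h2)
      rw [mul_inv_cancel_right] at h3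
      exact S.pt_notMem_right 0 (n := 4) le_rfl h3)
  obtain ⟨c₀, hc₀, rfl⟩ : ∃ c₀, (c₀ = c ∨ c₀ = c * b) ∧ e = π c₀ := by
    rcases he with rfl | rfl
    · exact ⟨c, Or.inl rfl, rfl⟩
    · exact ⟨c * b, Or.inr rfl, by rw [map_mul]⟩
  have hc₀2 : c₀ * c₀ = 1 := by
    rcases hc₀ with rfl | rfl
    · exact hc2
    · rw [mul_assoc, ← mul_assoc b c b, hbcen c, mul_assoc c b b, hb2, mul_one, hc2]
  obtain ⟨φ, hφ, hφr⟩ := dihedral_hom (a := π a) (c := π c₀) (by rw [← map_mul, ha2, map_one])
    (by rw [← map_mul, hc₀2, map_one]) 3 le_rfl he3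
  set C := Subgroup.closure ({π a, π c₀} : Set (H ⧸ W)) with hC
  have hC6 : Nat.card C = 6 := by
    rw [← hφr, ← Nat.card_congr (MonoidHom.ofInjective hφ).toEquiv, DihedralGroup.nat_card]
  let M : Subgroup H := C.comap π
  have hMidx : M.index = 2 := by
    rw [Subgroup.index_comap_of_surjective _ hπs]
    have := Subgroup.card_mul_index C
    rw [hC6, hQ12] at this
    omega
  have hM24 : Nat.card M = 24 := by
    have := Subgroup.card_mul_index M
    rw [hMidx, hH] at this
    omega
  have hbM : b ∉ M := by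
    intro hb'
    have hbC : π b ∈ C := hb'
    have haC : π a ∈ C := Subgroup.subset_closure (by simp)
    have hc₀C : π c₀ ∈ C := Subgroup.subset_closure (by simp)
    have hcC : π c ∈ C := by
      rcases hc₀ with rfl | rfl
      · exact hc₀C
      · have := C.mul_mem hc₀C (C.inv_mem hbC)
        rwa [map_mul, mul_inv_cancel_right] at this
    have htop : M = ⊤ := top_of_pts S _ fun j h1 h2 => by
      obtain rfl | rfl | rfl | rfl | rfl : j = 0 ∨ j = 1 ∨ j = 2 ∨ j = 3 ∨ j = 4 := by
        push_cast at h2; omega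
      · exact haC
      · show π d1 ∈ C; rw [hπd1]; exact hbC
      · exact hbC
      · show π d3 ∈ C; rw [hπd3]; exact hbC
      · exact hcC
    rw [htop, Subgroup.index_top] at hMidx
    omega
  have hWM : W ≤ M := fun y hy => by
    show π y ∈ C
    rw [show π y = 1 from (QuotientGroup.eq_one_iff y).2 hy]; exact C.one_mem
  have haM : a ∈ M := Subgroup.subset_closure (by simp)
  have hc₀M : c₀ ∈ M := Subgroup.subset_closure (by simp)
  have hc₀v : c₀ * v' * c₀ = v' ∧ c₀ * u * c₀ = u * v' := by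
    rcases hc₀ with rfl | rfl
    · exact ⟨hcv, hcu⟩
    · have hbb : ∀ q : H, c * b * q * (c * b) = c * q * c := fun q => by
        calc c * b * q * (c * b) = c * (b * q) * (c * b) := by group
          _ = c * q * (b * c * b) := by rw [hbcen q]; group
          _ = c * q * c := by rw [hbcen c, mul_assoc c b b, hb2, mul_one]
      exact ⟨(hbb v').trans hcv, (hbb u).trans hcu⟩
  haveI : (W.subgroupOf M).Normal := inferInstance
  obtain ⟨eM⟩ := sym_four (G := M) hM24 (W.subgroupOf M)
    (by rw [Nat.card_congr (Subgroup.subgroupOfEquivOfLe hWM).toEquiv, hWcard])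
    (u := ⟨u, hWM huW⟩) (v := ⟨v', hWM hvW⟩) (a := ⟨a, haM⟩) (c := ⟨c₀, hc₀M⟩)
    (Subgroup.mem_subgroupOf.2 huW) (Subgroup.mem_subgroupOf.2 hvW)
    (fun hh => hu1 (congrArg Subtype.val hh)) (fun hh => hv1 (congrArg Subtype.val hh))
    (fun hh => huv (congrArg Subtype.val hh)) (Subtype.ext huu) (Subtype.ext ha2)
    (Subtype.ext hau) (Subtype.ext hav) (Subtype.ext hc₀2) (Subtype.ext hc₀v.1) (Subtype.ext hc₀v.2)
  let f2 : Multiplicative (ZMod 2) →* H := MonoidHom.mk' (fun z => b ^ z.toAdd.val) fun p q => by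
    show b ^ (p.toAdd + q.toAdd).val = _
    rw [ZMod.val_add, ← pow_eq_pow_mod _ (by rw [pow_two]; exact hb2), pow_add]
  let F : M × Multiplicative (ZMod 2) →* H :=
    MonoidHom.noncommCoprod M.subtype f2 fun p z => ((Commute.symm (hbcen (p : H))).pow_right _)
  have hF : Function.Injective F := by
    refine (injective_iff_map_eq_one F).2 ?_
    rintro ⟨p, z⟩ hpz
    have h5 : (p : H) * b ^ z.toAdd.val = 1 := hpz
    have hz : z.toAdd.val = 0 := by
      have := z.toAdd.val_lt
      by_contra hz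
      rw [show z.toAdd.val = 1 by omega, pow_one] at h5
      exact hbM (by rw [← inv_eq_of_mul_eq_one_right h5]; exact M.inv_mem p.2)
    rw [hz, pow_zero, mul_one] at h5
    exact Prod.ext (Subtype.ext h5) (Multiplicative.toAdd.injective ((ZMod.val_eq_zero _).1 hz))
  have hbij : Function.Bijective F := (Nat.bijective_iff_injective_and_card _).2 ⟨hF, by
    rw [Nat.card_prod, hM24, Nat.card_congr Multiplicative.toAdd, Nat.card_zmod, hH]⟩
  exact ⟨(MulEquiv.ofBijective F hbij).symm.trans (eM.prodCongr (MulEquiv.refl _))⟩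

end Types

end Cfsg.Agent.SubThree
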