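import Mathlib.GroupTheory.Sylow
import Mathlib.GroupTheory.SpecificGroups.Alternating
import Mathlib.Algebra.Group.Subgroup.Pointwise
import Mathlib.GroupTheory.GroupAction.Quotient
import Cfsg.Agent.Lib.PermGp.AltIndex

/-!
# Pairs of Sylow two-subgroups in the automorphism group of `A₆`
-/

set_option autoImplicit false

namespace Cfsg.Agent.PermGp.SylowASix

open Equiv
open scoped Pointwise

local notation "A" => alternatingGroup (Fin 6)
local notation "sw" => (Equiv.swap : Fin 6 → Fin 6 → Perm (Fin 6))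

def rr : Perm (Fin 6) := sw 0 1 * sw 2 4 * sw 4 3 * sw 3 5
def ss : Perm (Fin 6) := sw 0 1 * sw 2 3
def gg : Perm (Fin 6) := sw 1 2 * sw 2 3
def tt : Perm (Fin 6) := sw 4 5
def zz : Perm (Fin 6) := sw 0 1 * sw 1 2

/-- The elements of the Sylow subgroup. -/
def els : Finset (Perm (Fin 6)) :=
  {1, rr, rr * rr, rr * rr * rr, ss, ss * rr, ss * (rr * rr), ss * (rr * rr * rr)}

/-- Representatives of the Sylow subgroups meeting the given one. -/
def reps : List (Perm (Fin 6)) :=
  [1, sw 3 4 * sw 4 5, sw 3 5 * sw 5 4, sw 0 2 * sw 1 3, sw 0 2 * sw 1 3 * sw 3 4 * sw 4 5,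
   sw 0 2 * sw 1 3 * sw 3 5 * sw 5 4, sw 0 2 * sw 1 4 * sw 4 5 * sw 5 3, sw 0 2 * sw 1 5 * sw 5 4 * sw 4 3,
   sw 0 3 * sw 3 1 * sw 1 4 * sw 4 2, sw 0 3 * sw 3 1 * sw 1 5 * sw 5 2, sw 0 4 * sw 4 2 * sw 1 5 * sw 5 3,
   sw 0 4 * sw 4 3 * sw 3 2 * sw 1 5, sw 0 4 * sw 4 1 * sw 1 5 * sw 5 2]

theorem sign_data : Perm.sign rr = 1 ∧ Perm.sign ss = 1 ∧ Perm.sign gg = 1 ∧ Perm.sign zz = 1 ∧
    ∀ x ∈ reps, Perm.sign x = 1 := by decide +kernel

theorem mul_data : ∀ x ∈ els, ∀ y ∈ els, x * y ∈ els := by decide +kernel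
theorem inv_data : ∀ x ∈ els, x⁻¹ ∈ els := by decide +kernel
theorem sign_els : ∀ x ∈ els, Perm.sign x = 1 := by decide +kernel
theorem card_els : els.card = 8 := by decide +kernel

theorem normalizer_data : ∀ y : Perm (Fin 6), y * rr * y⁻¹ ∈ els → y * ss * y⁻¹ ∈ els → Perm.sign y = 1 → y ∈ els := by
  decide +kernel

theorem cand_data : ∀ y : Perm (Fin 6), y ^ 3 = 1 → (ss * y) ^ 3 = 1 → (rr * rr * y) ^ 2 = 1 →
    y ∈ ({sw 1 2 * sw 2 3, sw 1 3 * sw 3 2, sw 0 2 * sw 2 3, sw 0 3 * sw 3 2} : Finset (Perm (Fin 6))) := by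
  decide +kernel

theorem gg_rel : gg ^ 3 = 1 ∧ (ss * gg) ^ 3 = 1 ∧ (rr * rr * gg) ^ 2 = 1 := by decide +kernel

theorem five_data : rr * ss * gg ≠ 1 ∧ (rr * ss * gg) ^ 5 = 1 ∧ gg ≠ 1 := by decide +kernel

theorem pair_data : ∀ x ∈ els, ∀ y ∈ els, x * x ≠ 1 → y * y = 1 → x * y ≠ y * x →
    x ∈ ({rr, rr * rr * rr} : Finset (Perm (Fin 6))) ∧
      y ∈ ({ss, ss * rr, ss * (rr * rr), ss * (rr * rr * rr)} : Finset (Perm (Fin 6))) := by decide +kernel

theorem pair_rel : rr * rr ≠ 1 ∧ ss * ss = 1 ∧ rr * ss ≠ ss * rr := by decide +kernel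

theorem tt_data : tt * rr * tt ∈ els ∧ tt * ss * tt ∈ els ∧ tt * gg * tt = gg ∧ tt * rr * tt ≠ rr ∧ tt * tt = 1 ∧ tt * zz = zz * tt ∧
    (∀ x ∈ els, tt * x * tt ∈ els) := by
  decide +kernel

theorem zz_data : ∀ x ∈ els, zz⁻¹ * x * zz ∈ els → x = 1 := by decide +kernel

theorem reps_data : (∀ a ∈ reps, ∃ p ∈ els, p ≠ 1 ∧ a⁻¹ * p * a ∈ els) ∧
    reps.Pairwise (fun a b => ¬ ∀ p ∈ els, (a⁻¹ * b) * p * (a⁻¹ * b)⁻¹ ∈ els) := by
  decide +kernel

/-- The Sylow two-subgroup. -/
def PP : Subgroup A where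
  carrier := {a | (a : Perm (Fin 6)) ∈ els}
  one_mem' := by show (1 : Perm (Fin 6)) ∈ els; decide +kernel
  mul_mem' := fun {a b} ha hb => mul_data _ ha _ hb
  inv_mem' := fun {a} ha => inv_data _ ha

def aR : A := ⟨rr, Perm.mem_alternatingGroup.mpr sign_data.1⟩
def aS : A := ⟨ss, Perm.mem_alternatingGroup.mpr sign_data.2.1⟩
def aG : A := ⟨gg, Perm.mem_alternatingGroup.mpr sign_data.2.2.1⟩
def aZ : A := ⟨zz, Perm.mem_alternatingGroup.mpr sign_data.2.2.2.1⟩

theorem mem_PP {a : A} : a ∈ PP ↔ (a : Perm (Fin 6)) ∈ els := Iff.rfl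

theorem card_PP : Nat.card PP = 8 := by
  rw [← card_els, ← Nat.card_eq_finsetCard]
  exact Nat.card_congr
    { toFun := fun a => ⟨a.1.1, a.2⟩
      invFun := fun x => ⟨⟨x.1, Perm.mem_alternatingGroup.mpr (sign_els _ x.2)⟩, x.2⟩
      left_inv := fun _ => rfl
      right_inv := fun _ => rfl }

theorem card_A : Nat.card A = 360 := by
  rw [nat_card_alternatingGroup, Nat.card_eq_fintype_card, Fintype.card_fin]; rfl

theorem normalizer_le {a : A} (h : ∀ p ∈ PP, a * p * a⁻¹ ∈ PP) : a ∈ PP :=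
  normalizer_data _ (h aR (by rw [mem_PP]; show rr ∈ els; decide +kernel))
    (h aS (by rw [mem_PP]; show ss ∈ els; decide +kernel)) (Perm.mem_alternatingGroup.mp a.2)

theorem gen_top : Subgroup.closure ({aR, aS, aG} : Set A) = ⊤ := by
  set K := Subgroup.closure ({aR, aS, aG} : Set A) with hK
  have hr : aR ∈ K := Subgroup.subset_closure (by simp)
  have hs : aS ∈ K := Subgroup.subset_closure (by simp)
  have hg : aG ∈ K := Subgroup.subset_closure (by simp)
  have hle : PP ≤ K := by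
    intro a ha
    rw [mem_PP] at ha
    simp only [els, Finset.mem_insert, Finset.mem_singleton] at ha
    rcases ha with e | e | e | e | e | e | e | e
    · rw [show a = 1 from Subtype.ext e]; exact K.one_mem
    · rw [show a = aR from Subtype.ext e]; exact hr
    · rw [show a = aR * aR from Subtype.ext e]; exact K.mul_mem hr hr
    · rw [show a = aR * aR * aR from Subtype.ext e]; exact K.mul_mem (K.mul_mem hr hr) hr
    · rw [show a = aS from Subtype.ext e]; exact hs
    · rw [show a = aS * aR from Subtype.ext e]; exact K.mul_mem hs hr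
    · rw [show a = aS * (aR * aR) from Subtype.ext e]; exact K.mul_mem hs (K.mul_mem hr hr)
    · rw [show a = aS * (aR * aR * aR) from Subtype.ext e]; exact K.mul_mem hs (K.mul_mem (K.mul_mem hr hr) hr)
  have h8 : 8 ∣ Nat.card K := card_PP ▸ Subgroup.card_dvd_of_le hle
  have hord : ∀ (n : ℕ) (a : A), n.Prime → a ∈ K → (a : Perm (Fin 6)) ≠ 1 → (a : Perm (Fin 6)) ^ n = 1 →
      n ∣ Nat.card K := fun n a hn ha h1 h2 => by
    haveI := Fact.mk hn
    have he : orderOf a = n := by
      rw [← Subgroup.orderOf_coe]; exact orderOf_eq_prime h2 h1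
    rw [← he, ← Subgroup.orderOf_mk a ha]
    exact orderOf_dvd_natCard _
  have h3 := hord 3 aG Nat.prime_three hg five_data.2.2 gg_rel.1
  have h5 := hord 5 (aR * aS * aG) (by norm_num) (K.mul_mem (K.mul_mem hr hs) hg) five_data.1 five_data.2.1
  have h120 : 120 ∣ Nat.card K := by omega
  by_contra hne
  have h6 := alternating_index_ge (α := Fin 6) (by simp) (K := K) hne
  have hm := K.card_mul_index
  rw [card_A] at hm
  have h120' := Nat.le_of_dvd Nat.card_pos h120
  have := Nat.mul_le_mul h120' h6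
  rw [Fintype.card_fin] at this
  omega

/-- At most four automorphisms of `A₆` agree on the Sylow subgroup, and there are at most eight restrictions. -/
theorem aut_count {H : Type*} [Group H] [Finite H] (c : H →* MulAut A) (hc : Function.Injective c)
    (hP : ∀ h, ∀ p ∈ PP, c h p ∈ PP) (hcard : Nat.card H = 32) {u v w : A} (hu : u ∈ PP) (hv : v ∈ PP)
    (hu2 : u * u ≠ 1) (hv2 : v * v = 1) (huv : u * v ≠ v * u) (hw : w ^ 3 = 1) (hvw : (v * w) ^ 3 = 1)
    (huw : (u * u * w) ^ 2 = 1) :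
    ∃ h, c h aR = u ∧ c h aS = v ∧ c h aG = w := by
  classical
  haveI := Fintype.ofFinite H
  have hrP : aR ∈ PP := by rw [mem_PP]; show rr ∈ els; decide +kernel
  have hsP : aS ∈ PP := by rw [mem_PP]; show ss ∈ els; decide +kernel
  have hr2 : aR * aR ≠ 1 := fun e => pair_rel.1 (congrArg Subtype.val e)
  have hs2 : aS * aS = 1 := Subtype.ext pair_rel.2.1
  have hrs : aR * aS ≠ aS * aR := fun e => pair_rel.2.2 (congrArg Subtype.val e)
  -- the eight possible restrictions
  set D : Finset (Perm (Fin 6) × Perm (Fin 6)) :=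
    ({rr, rr * rr * rr} : Finset (Perm (Fin 6))) ×ˢ ({ss, ss * rr, ss * (rr * rr), ss * (rr * rr * rr)} : Finset (Perm (Fin 6)))
    with hD
  have hDc : D.card ≤ 8 := by
    rw [hD, Finset.card_product]
    exact Nat.mul_le_mul (Finset.card_le_two) (Finset.card_le_four)
  let F : H → Perm (Fin 6) × Perm (Fin 6) := fun h => ((c h aR : A).1, (c h aS : A).1)
  have hFD : ∀ h, F h ∈ D := fun h => by
    rw [hD, Finset.mem_product]
    exact pair_data _ (hP h _ hrP) _ (hP h _ hsP)
      (fun e => hr2 ((c h).injective (by rw [map_mul, map_one]; exact Subtype.ext e)))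
      (by have := congrArg (fun x => (c h x : A).1) hs2; simpa using this)
      (fun e => hrs ((c h).injective (by rw [map_mul, map_mul]; exact Subtype.ext e)))
  -- agreement on the three generators
  have hsep : ∀ h k, c h aR = c k aR → c h aS = c k aS → c h aG = c k aG → h = k := fun h k e1 e2 e3 => hc (by
    have := MonoidHom.eq_of_eqOn_dense gen_top (f := (c h).toMonoidHom) (g := (c k).toMonoidHom)
      (by rintro x (rfl | rfl | rfl) <;> assumption)
    exact MulEquiv.toMonoidHom_injective this)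
  -- the fibres
  set K : Finset H := Finset.univ.filter (fun k => c k aR = aR ∧ c k aS = aS) with hK
  set C : Finset (Perm (Fin 6)) :=
    {sw 1 2 * sw 2 3, sw 1 3 * sw 3 2, sw 0 2 * sw 2 3, sw 0 3 * sw 3 2} with hC
  have hC4 : C.card ≤ 4 := Finset.card_le_four
  have hgC : ∀ {f : MulAut A}, f aR = aR → f aS = aS → (f aG : A).1 ∈ C := fun {f} e1 e2 => by
    have hg1 : aG ^ 3 = 1 := Subtype.ext gg_rel.1
    have hg2 : (aS * aG) ^ 3 = 1 := Subtype.ext gg_rel.2.1
    have hg3 : (aR * aR * aG) ^ 2 = 1 := Subtype.ext gg_rel.2.2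
    refine cand_data _ ?_ ?_ ?_
    · have := congrArg (fun x => (f x : A).1) hg1; simpa using this
    · have := congrArg (fun x => (f x : A).1) hg2
      simp only [map_pow, map_mul, e2, map_one] at this
      simpa [aS] using this
    · have := congrArg (fun x => (f x : A).1) hg3
      simp only [map_pow, map_mul, e1, map_one] at this
      simpa [aR] using this
  have hKsub : K.image (fun k => (c k aG : A).1) ⊆ C := fun x hx => by
    obtain ⟨k, hk, rfl⟩ := Finset.mem_image.mp hx
    obtain ⟨e1, e2⟩ := (Finset.mem_filter.mp hk).2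
    exact hgC e1 e2
  have hKinj : Set.InjOn (fun k => (c k aG : A).1) K := fun h hh k hk e => by
    obtain ⟨h1, h2⟩ := (Finset.mem_filter.mp hh).2
    obtain ⟨k1, k2⟩ := (Finset.mem_filter.mp hk).2
    exact hsep h k (h1.trans k1.symm) (h2.trans k2.symm) (Subtype.ext e)
  have hfib : ∀ d ∈ Finset.univ.image F, (Finset.univ.filter (fun h => F h = d)).card ≤ K.card := fun d hd => by
    obtain ⟨h0, -, rfl⟩ := Finset.mem_image.mp hd
    refine Finset.card_le_card_of_injOn (fun h => h0⁻¹ * h) (fun h hh => ?_) fun a _ b _ e => mul_left_cancel e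
    have e := (Finset.mem_filter.mp hh).2
    have e1 : c h aR = c h0 aR := Subtype.ext (congrArg Prod.fst e)
    have e2 : c h aS = c h0 aS := Subtype.ext (congrArg Prod.snd e)
    refine Finset.mem_filter.mpr ⟨Finset.mem_univ _, ?_, ?_⟩
    · rw [map_mul, map_inv, MulAut.mul_apply, e1, MulAut.inv_apply_self]
    · rw [map_mul, map_inv, MulAut.mul_apply, e2, MulAut.inv_apply_self]
  have h32 : 32 = (Finset.univ : Finset H).card := by rw [Finset.card_univ, ← Nat.card_eq_fintype_card, hcard]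
  have himsub : Finset.univ.image F ⊆ D := fun x hx => by
    obtain ⟨h, -, rfl⟩ := Finset.mem_image.mp hx; exact hFD h
  have hK4 : K.card ≤ 4 := by
    rw [← Finset.card_image_of_injOn hKinj]; exact (Finset.card_le_card hKsub).trans hC4
  have hbound := Finset.card_le_mul_card_image (f := F) (s := (Finset.univ : Finset H)) K.card hfib
  rw [← h32] at hbound
  have him8 : (Finset.univ.image F).card ≤ 8 := (Finset.card_le_card himsub).trans hDc
  have hKeq : K.card = 4 := by
    by_contra hne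
    have h1 : K.card * (Finset.univ.image F).card ≤ 3 * 8 := Nat.mul_le_mul (by omega) him8
    omega
  rw [hKeq] at hbound
  have himD : Finset.univ.image F = D := Finset.eq_of_subset_of_card_le himsub (by omega)
  have hKC : K.image (fun k => (c k aG : A).1) = C :=
    Finset.eq_of_subset_of_card_le hKsub (by rw [Finset.card_image_of_injOn hKinj, hKeq]; exact hC4)
  -- realise the prescribed triple
  have hmem : (u.1, v.1) ∈ Finset.univ.image F := by
    rw [himD, hD, Finset.mem_product]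
    exact pair_data _ hu _ hv (fun e => hu2 (Subtype.ext e)) (congrArg Subtype.val hv2) fun e => huv (Subtype.ext e)
  obtain ⟨h0, -, hh0⟩ := Finset.mem_image.mp hmem
  have e1 : c h0 aR = u := Subtype.ext (congrArg Prod.fst hh0)
  have e2 : c h0 aS = v := Subtype.ext (congrArg Prod.snd hh0)
  have hcand : (((c h0)⁻¹ w : A)).1 ∈ C := by
    refine cand_data _ ?_ ?_ ?_
    · have := congrArg (fun x => ((c h0)⁻¹ x : A).1) hw; simpa using this
    · have := congrArg (fun x => ((c h0)⁻¹ x : A).1) hvw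
      simp only [map_pow, map_mul, map_one, ← e2, MulAut.inv_apply_self] at this
      simpa [aS] using this
    · have := congrArg (fun x => ((c h0)⁻¹ x : A).1) huw
      simp only [map_pow, map_mul, map_one, ← e1, MulAut.inv_apply_self] at this
      simpa [aR] using this
  rw [← hKC, Finset.mem_image] at hcand
  obtain ⟨k, hk, hkg⟩ := hcand
  obtain ⟨k1, k2⟩ := (Finset.mem_filter.mp hk).2
  refine ⟨h0 * k, ?_, ?_, ?_⟩
  · rw [map_mul, MulAut.mul_apply, k1, e1]
  · rw [map_mul, MulAut.mul_apply, k2, e2]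
  · rw [map_mul, MulAut.mul_apply, show c k aG = (c h0)⁻¹ w from Subtype.ext hkg, MulAut.apply_inv_self]

end Cfsg.Agent.PermGp.SylowASix
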