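import Cfsg.Agent.Lib.SymSylow.Two
import Cfsg.Agent.Lib.ImprimMax.AltPartition
import Cfsg.Agent.Lib.PermGp.AltIndex
import Mathlib

/-!
# Maximal subgroups over a Sylow 2-subgroup of a symmetric or alternating group

For `n = 2 ^ k + 1` there is exactly one, for all other `n ≥ 5`, `n ≠ 6` there are at least two.
-/

set_option autoImplicit false
set_option linter.unusedSectionVars false

namespace Cfsg.Agent.SylTwoMax

open Equiv Equiv.Perm MulAction Cfsg.Agent.SymSylow
open scoped Pointwise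

/-- Exactly one maximal subgroup contains `R`. -/
def UniqueOver {G : Type*} [Group G] (R : Subgroup G) : Prop :=
  ∃! M : Subgroup G, IsCoatom M ∧ R ≤ M

theorem not_uniqueOver {G : Type*} [Group G] [Finite G] {R H₁ H₂ : Subgroup G} (h₁ : IsCoatom H₁)
    (hR₁ : R ≤ H₁) (hR₂ : R ≤ H₂) {t : G} (ht : t ∉ H₂) {g : G} (hg : g ∈ H₂) (hg₁ : g ∉ H₁) :
    ¬ UniqueOver R := by
  rintro ⟨M, -, hu⟩
  obtain ⟨M', hM', hle⟩ := (eq_top_or_exists_le_coatom H₂).resolve_left
    (fun e => ht (e ▸ Subgroup.mem_top t))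
  have e1 := hu H₁ ⟨h₁, hR₁⟩
  have e2 := hu M' ⟨hM', hR₂.trans hle⟩
  exact hg₁ (e1.trans e2.symm ▸ hle hg)

variable {α : Type*} [DecidableEq α] [Fintype α]

/-- Two subgroups showing that `P` and `P ∩ Alt` lie in two maximal subgroups. -/
theorem both_not_unique (P H₁ H₂ : Subgroup (Perm α)) (R : Subgroup (alternatingGroup α))
    (hR : R.map (alternatingGroup α).subtype ≤ P) (h₁ : IsCoatom H₁)
    (h₁' : IsCoatom (H₁.subgroupOf (alternatingGroup α))) (hP₁ : P ≤ H₁) (hP₂ : P ≤ H₂)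
    {t : Perm α} (htA : t ∈ alternatingGroup α) (ht : t ∉ H₂) {g : Perm α}
    (hgA : g ∈ alternatingGroup α) (hg : g ∈ H₂) (hg₁ : g ∉ H₁) :
    ¬ UniqueOver P ∧ ¬ UniqueOver R := by
  refine ⟨not_uniqueOver h₁ hP₁ hP₂ ht hg hg₁, ?_⟩
  refine not_uniqueOver (H₂ := H₂.subgroupOf (alternatingGroup α)) h₁' ?_ ?_
    (t := ⟨t, htA⟩) (fun h => ht h) (g := ⟨g, hgA⟩) hg (fun h => hg₁ h)
  · exact fun r hr => hP₁ (hR ⟨r, hr, rfl⟩)
  · exact fun r hr => hP₂ (hR ⟨r, hr, rfl⟩)

theorem mem_alt_swap_mul_swap {x y u v : α} (hxy : x ≠ y) (huv : u ≠ v) :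
    swap x y * swap u v ∈ alternatingGroup α := by
  rw [mem_alternatingGroup, map_mul, sign_swap hxy, sign_swap huv]; rfl

theorem stab_alt (s : Set α) :
    (stabilizer (Perm α) s).subgroupOf (alternatingGroup α) = stabilizer (alternatingGroup α) s :=
  rfl

theorem coatom_set {s : Set α} (h0 : s.Nonempty) (h1 : sᶜ.Nonempty)
    (hs : Nat.card α ≠ 2 * s.ncard) : IsCoatom (stabilizer (Perm α) s) ∧
      IsCoatom ((stabilizer (Perm α) s).subgroupOf (alternatingGroup α)) :=
  ⟨Equiv.Perm.isCoatom_stabilizer h0 h1 hs,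
    (stab_alt s).symm ▸ alternatingGroup.isCoatom_stabilizer h0 h1 hs⟩

theorem mem_iff_of_stab {g : Perm α} {s : Set α} (hg : g ∈ stabilizer (Perm α) s) (x : α) :
    g x ∈ s ↔ x ∈ s := by
  conv_lhs => rw [← show g • s = s from hg]
  exact Set.smul_mem_smul_set_iff (a := g) (x := x) (s := s)

/-- A Sylow 2-subgroup preserves its orbits. -/
theorem le_stab_orbit (P : Subgroup (Perm α)) (x : α) : P ≤ stabilizer (Perm α) (orbit P x) :=
  fun g hg => MulAction.smul_orbit (⟨g, hg⟩ : P) x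

theorem orbit_two_pow (P : Sylow 2 (Perm α)) (x : α) :
    ∃ j : ℕ, (orbit (P : Subgroup (Perm α)) x).ncard = 2 ^ j := by
  obtain ⟨j, hj⟩ := P.isPGroup'.card_orbit x
  exact ⟨j, by rw [← Nat.card_coe_set_eq]; exact hj⟩

theorem exists_fixed (P : Sylow 2 (Perm α)) (hodd : Odd (Fintype.card α)) :
    ∃ a : α, ∀ g ∈ P, g a = a := by
  obtain ⟨a, ha⟩ := P.isPGroup'.nonempty_fixed_point_of_prime_not_dvd_card (α := α) (by
    rw [Nat.card_eq_fintype_card]
    exact fun hd => Nat.not_even_iff_odd.2 hodd (even_iff_two_dvd.2 hd))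
  exact ⟨a, fun g hg => ha ⟨g, hg⟩⟩

/-- Every Sylow 2-subgroup contains many transpositions. -/
theorem exists_swap_moving (P : Sylow 2 (Perm α)) {a x : α} (ha : ∀ g ∈ P, g a = a) (hx : x ≠ a) :
    ∃ τ ∈ swaps (P : Subgroup (Perm α)), τ x ≠ x := by
  by_contra hc
  push Not at hc
  exact hx (unpaired_unique P hc (fun τ hτ => ha τ hτ.2))

theorem exists_swap_moving_even (P : Sylow 2 (Perm α)) (heven : Even (Fintype.card α)) (x : α) :
    ∃ τ ∈ swaps (P : Subgroup (Perm α)), τ x ≠ x := by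
  classical
  have hs := card_swaps_ge P
  have hb : Function.Bijective (pts (P : Subgroup (Perm α))) := by
    refine (Fintype.bijective_iff_injective_and_card _).2 ⟨pts_injective _ P.2, le_antisymm
      (Fintype.card_le_of_injective _ (pts_injective _ P.2)) ?_⟩
    rw [Fintype.card_prod, Fintype.card_bool, ← Nat.card_eq_fintype_card (α := swaps _)]
    obtain ⟨m, hm⟩ := heven
    omega
  obtain ⟨p, rfl⟩ := hb.2 x
  exact ⟨_, p.1.2, moved_pts _ p⟩

theorem odd_not_unique (P : Sylow 2 (Perm α)) (R : Subgroup (alternatingGroup α))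
    (hR : R.map (alternatingGroup α).subtype ≤ P) (h5 : 5 ≤ Fintype.card α)
    (hodd : Odd (Fintype.card α)) (hn : ¬ ∃ k, 2 ≤ k ∧ Fintype.card α = 2 ^ k + 1) :
    ¬ UniqueOver (P : Subgroup (Perm α)) ∧ ¬ UniqueOver R := by
  classical
  obtain ⟨a, ha⟩ := exists_fixed P hodd
  obtain ⟨b, hb⟩ := Fintype.exists_ne_of_one_lt_card (show 1 < Fintype.card α by omega) a
  set O := orbit (P : Subgroup (Perm α)) b
  have hbO : b ∈ O := mem_orbit_self b
  have haO : a ∉ O := by
    rintro ⟨⟨g, hg⟩, hga⟩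
    exact hb (g.injective ((show g b = a from hga).trans (ha g hg).symm))
  obtain ⟨τ, hτ, hτb⟩ := exists_swap_moving P ha hb
  have hτO : τ b ∈ O := ⟨⟨τ, hτ.2⟩, rfl⟩
  obtain ⟨j, hj⟩ := orbit_two_pow P b
  obtain ⟨c, hca, hcO⟩ : ∃ c, c ≠ a ∧ c ∉ O := by
    by_contra hc
    push Not at hc
    have hO : O = {a}ᶜ := Set.ext fun x => ⟨fun hx (e : x = a) => haO (e ▸ hx), hc x⟩
    rw [show orbit (P : Subgroup (Perm α)) b = {a}ᶜ from hO, Set.ncard_compl, Set.ncard_singleton,
      Nat.card_eq_fintype_card] at hj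
    refine hn ⟨j, ?_, by omega⟩
    by_contra hj2
    have : j = 0 ∨ j = 1 := by omega
    rcases this with rfl | rfl <;> simp at hj <;> omega
  have hs : Nat.card α ≠ 2 * ({a} : Set α).ncard := by
    rw [Set.ncard_singleton, Nat.card_eq_fintype_card]; omega
  obtain ⟨hc1, hc2⟩ := coatom_set (Set.singleton_nonempty a) ⟨b, hb⟩ hs
  refine both_not_unique P _ (stabilizer (Perm α) O) R hR hc1 hc2 ?_ (le_stab_orbit _ b)
    (t := swap a b * swap b (τ b)) (mem_alt_swap_mul_swap (Ne.symm hb) (Ne.symm hτb)) ?_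
    (g := swap a c * swap b (τ b)) (mem_alt_swap_mul_swap (Ne.symm hca) (Ne.symm hτb)) ?_ ?_
  · intro g hg
    show g • ({a} : Set α) = {a}
    rw [Set.smul_set_singleton, Perm.smul_def, ha g hg]
  · intro ht
    have h := (mem_iff_of_stab ht (τ b)).2 hτO
    rw [Perm.mul_apply, swap_apply_right, swap_apply_right] at h
    exact haO h
  · have hbc : b ≠ c := fun e => hcO (e ▸ hbO)
    have hdc : τ b ≠ c := fun e => hcO (e ▸ hτO)
    have hda : τ b ≠ a := fun e => haO (e ▸ hτO)
    refine MulAction.mem_stabilizer_set.2 fun x => ?_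
    rw [Perm.smul_def, Perm.mul_apply]
    rcases eq_or_ne x b with rfl | h1
    · rw [swap_apply_left, swap_apply_of_ne_of_ne hda hdc]; exact iff_of_true hτO hbO
    rcases eq_or_ne x (τ b) with rfl | h2
    · rw [swap_apply_right, swap_apply_of_ne_of_ne hb hbc]; exact iff_of_true hbO hτO
    rw [swap_apply_of_ne_of_ne h1 h2]
    rcases eq_or_ne x a with rfl | h3
    · rw [swap_apply_left]; exact iff_of_false hcO haO
    rcases eq_or_ne x c with rfl | h4
    · rw [swap_apply_right]; exact iff_of_false haO hcO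
    rw [swap_apply_of_ne_of_ne h3 h4]
  · intro hg
    have h := (mem_iff_of_stab hg a).2 rfl
    rw [Perm.mul_apply, swap_apply_of_ne_of_ne (Ne.symm hb) (fun e => haO (e ▸ hτO)),
      swap_apply_left] at h
    exact hca h

/-! ### Even degree -/

/-- The partner of a point. -/
theorem exists_pairing (P : Sylow 2 (Perm α)) (heven : Even (Fintype.card α)) :
    ∃ f : α → swaps (P : Subgroup (Perm α)), (∀ x, (f x).1 x ≠ x) ∧
      (∀ (τ : swaps (P : Subgroup (Perm α))) x, τ.1 x ≠ x → f x = τ) ∧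
      (P : Subgroup (Perm α)) ≤ ImprimMax.fibreStab f := by
  choose f hf hfx using exists_swap_moving_even P heven
  have huniq : ∀ (τ : swaps (P : Subgroup (Perm α))) x, τ.1 x ≠ x →
      (⟨f x, hf x⟩ : swaps (P : Subgroup (Perm α))) = τ := fun τ x hτ =>
    Subtype.ext (swaps_common P.2 (hf x) τ.2 (hfx x) hτ)
  refine ⟨fun x => ⟨f x, hf x⟩, hfx, huniq, fun g hg x y => ?_⟩
  have key : ∀ x, f (g x) = g * f x * g⁻¹ := fun x => by
    refine congrArg Subtype.val (huniq ⟨g * f x * g⁻¹, isSwap_conj (hf x).1 g,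
      mul_mem (mul_mem hg (hf x).2) (inv_mem hg)⟩ (g x) ?_)
    simp only [Perm.mul_apply, Perm.coe_inv, Equiv.symm_apply_apply]
    exact fun e => hfx x (g.injective e)
  simp only [Subtype.ext_iff, key]
  exact ⟨fun h => by rw [h], fun h => mul_left_cancel (mul_right_cancel h)⟩

/-- Exchange of the pair of `x` and the pair of `y`. -/
theorem exists_pair_exchange {ι : Type*} (f : α → ι) (τ σ : α → α) {x y : α}
    (hτ : ∀ z, f z = f x ↔ z = x ∨ z = τ x) (hσ : ∀ z, f z = f y ↔ z = y ∨ z = σ y)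
    (hτx : τ x ≠ x) (hσy : σ y ≠ y) (hxy : f x ≠ f y) :
    swap x y * swap (τ x) (σ y) ∈ ImprimMax.fibreStab f := by
  classical
  have hfτ : f (τ x) = f x := (hτ _).2 (Or.inr rfl)
  have hfσ : f (σ y) = f y := (hσ _).2 (Or.inr rfl)
  have h1 : τ x ≠ y := fun e => hxy (hfτ.symm.trans (congrArg f e))
  have h2 : σ y ≠ x := fun e => hxy ((congrArg f e).symm.trans hfσ)
  have key : ∀ z, f ((swap x y * swap (τ x) (σ y)) z) = swap (f x) (f y) (f z) := by
    intro z
    rw [Perm.mul_apply]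
    by_cases hz1 : f z = f x
    · rw [hz1, swap_apply_left]
      rcases (hτ z).1 hz1 with e | e <;> rw [e]
      · rw [swap_apply_of_ne_of_ne (Ne.symm hτx) (Ne.symm h2), swap_apply_left]
      · rw [swap_apply_left, swap_apply_of_ne_of_ne h2 hσy, hfσ]
    by_cases hz2 : f z = f y
    · rw [hz2, swap_apply_right]
      rcases (hσ z).1 hz2 with e | e <;> rw [e]
      · rw [swap_apply_of_ne_of_ne (Ne.symm h1) (Ne.symm hσy), swap_apply_right]
      · rw [swap_apply_right, swap_apply_of_ne_of_ne hτx h1, hfτ]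
    have e1 : swap (τ x) (σ y) z = z :=
      swap_apply_of_ne_of_ne (fun e => hz1 (e ▸ hfτ)) (fun e => hz2 (e ▸ hfσ))
    rw [e1, swap_apply_of_ne_of_ne (fun e : z = x => hz1 (congrArg f e))
      (fun e : z = y => hz2 (congrArg f e)), swap_apply_of_ne_of_ne hz1 hz2]
  exact fun u v => by rw [key, key]; exact (swap (f x) (f y)).injective.eq_iff.symm

/-- If a maximal `H` containing `P` does not preserve the pairs it is not alone. -/
theorem even_not_unique (P : Sylow 2 (Perm α)) (R : Subgroup (alternatingGroup α))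
    (hR : R.map (alternatingGroup α).subtype ≤ P) (heven : Even (Fintype.card α))
    (H : Subgroup (Perm α)) (h₁ : IsCoatom H) (h₁' : IsCoatom (H.subgroupOf (alternatingGroup α)))
    (hP : (P : Subgroup (Perm α)) ≤ H)
    (hwit : ∃ x y, ∀ τ σ : swaps (P : Subgroup (Perm α)), τ.1 x ≠ x → σ.1 y ≠ y →
      τ ≠ σ ∧ swap x y * swap (τ.1 x) (σ.1 y) ∉ H) :
    ¬ UniqueOver (P : Subgroup (Perm α)) ∧ ¬ UniqueOver R := by
  classical
  obtain ⟨f, hf, huniq, hPf⟩ := exists_pairing P heven
  have hfib : ∀ x z, f z = f x ↔ z = x ∨ z = (f x).1 x := by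
    intro x z
    have e := swap_of_moved (f x).2.1 (hf x)
    constructor
    · intro h
      have hz : (f x).1 z ≠ z := h ▸ hf z
      by_contra hc
      push Not at hc
      rw [e, swap_apply_of_ne_of_ne hc.1 hc.2] at hz
      exact hz rfl
    · rintro (h | h)
      · rw [h]
      · refine huniq _ _ ?_
        rw [h, e, swap_apply_left, swap_apply_right]
        exact (hf x).symm
  obtain ⟨x, y, hxy⟩ := hwit
  obtain ⟨hne, hgH⟩ := hxy (f x) (f y) (hf x) (hf y)
  have hxy' : x ≠ y := fun e => hne (e ▸ rfl)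
  have hmem := exists_pair_exchange f (fun _ => (f x).1 x) (fun _ => (f y).1 y) (hfib x) (hfib y)
    (hf x) (hf y) hne
  have hτσ : (f x).1 x ≠ (f y).1 y := fun e => hne (by
    rw [← (hfib x _).2 (Or.inr rfl), e, (hfib y _).2 (Or.inr rfl)])
  refine both_not_unique P H (ImprimMax.fibreStab f) R hR h₁ h₁' hP hPf
    (t := swap x ((f x).1 x) * swap x y) (mem_alt_swap_mul_swap (hf x).symm hxy') ?_
    (g := swap x y * swap ((f x).1 x) ((f y).1 y)) (mem_alt_swap_mul_swap hxy' hτσ) hmem hgH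
  intro ht
  have h := (ht x ((f x).1 x)).1 ((hfib x _).2 (Or.inr rfl)).symm
  have hy1 : y ≠ (f x).1 x := fun e => hne (((hfib x y).2 (Or.inr e)).symm)
  rw [Perm.mul_apply, Perm.mul_apply, swap_apply_left, swap_apply_of_ne_of_ne (Ne.symm hxy') hy1,
    swap_apply_of_ne_of_ne (hf x) (fun e => hy1 e.symm), swap_apply_right] at h
  exact hne h.symm

theorem even_set_not_unique (P : Sylow 2 (Perm α)) (R : Subgroup (alternatingGroup α))
    (hR : R.map (alternatingGroup α).subtype ≤ P) (heven : Even (Fintype.card α))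
    (h5 : 5 ≤ Fintype.card α) (h1 : ¬ ∃ k, Fintype.card α = 2 ^ k) :
    ¬ UniqueOver (P : Subgroup (Perm α)) ∧ ¬ UniqueOver R := by
  classical
  have hpos : 0 < Fintype.card α := by omega
  obtain ⟨b⟩ := Fintype.card_pos_iff.1 hpos
  set O := orbit (P : Subgroup (Perm α)) b
  obtain ⟨j, hj⟩ := orbit_two_pow P b
  obtain ⟨c, hcO⟩ : ∃ c, c ∉ O := by
    by_contra hc
    push Not at hc
    refine h1 ⟨j, ?_⟩
    rw [← hj, show orbit (P : Subgroup (Perm α)) b = Set.univ from Set.eq_univ_iff_forall.2 hc,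
      Set.ncard_univ, Nat.card_eq_fintype_card]
  have hs : Nat.card α ≠ 2 * O.ncard := by
    intro e
    refine h1 ⟨j + 1, ?_⟩
    rw [pow_succ', ← hj, ← Nat.card_eq_fintype_card]
    exact e
  obtain ⟨hc1, hc2⟩ := coatom_set ⟨b, mem_orbit_self b⟩ ⟨c, hcO⟩ hs
  refine even_not_unique P R hR heven _ hc1 hc2 (le_stab_orbit _ b) ⟨b, c, fun τ σ hτ hσ => ?_⟩
  have hτO : τ.1 b ∈ O := ⟨⟨τ.1, τ.2.2⟩, rfl⟩
  have hne : τ ≠ σ := by
    rintro rfl
    have e := swap_of_moved τ.2.1 hτ
    rw [e] at hσ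
    by_cases h : c = τ.1 b
    · exact hcO (h ▸ hτO)
    · exact hσ (swap_apply_of_ne_of_ne (fun e' => hcO (e' ▸ mem_orbit_self b)) h)
  refine ⟨hne, fun hg => ?_⟩
  have h := (mem_iff_of_stab hg b).2 (mem_orbit_self b)
  have hσc : b ≠ σ.1 c := fun e => hne (Subtype.ext (swaps_common P.2 τ.2 σ.2 hτ (e ▸ fun e' => hσ (σ.1.injective e'))))
  rw [Perm.mul_apply, swap_apply_of_ne_of_ne (Ne.symm hτ) hσc, swap_apply_left] at h
  exact hcO h

/-- A coatom among the even stabilisers of partitions into blocks of size at least three. -/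
theorem evenFibre_coatom {ι : Type*} [DecidableEq ι] [Fintype ι] [Nontrivial ι] {f : α → ι} {a : ℕ}
    (hf : ∀ i, Nat.card {x : α // f x = i} = a) (ha : 3 ≤ a) :
    IsCoatom ((ImprimMax.fibreStab f).subgroupOf (alternatingGroup α)) := by
  have hsub : (ImprimMax.fibreStab f).subgroupOf (alternatingGroup α) =
      (ImprimMax.evenFibreStab f).subgroupOf (alternatingGroup α) := by
    ext g
    simp [Subgroup.mem_subgroupOf, ImprimMax.evenFibreStab]
  rw [hsub]
  obtain ⟨i₀, i₁, hi⟩ := exists_pair_ne ι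
  obtain ⟨x, x', hx, hx', hxx, -, -⟩ := ImprimMax.exists_pair_in hf i₀ ∅ (by simp; omega)
  obtain ⟨y, y', hy, hy', hyy, -, -⟩ := ImprimMax.exists_pair_in hf i₁ ∅ (by simp; omega)
  have hxy : x ≠ y := fun e => hi (by rw [← hx, e, hy])
  have hx'y : x' ≠ y := fun e => hi (by rw [← hx', e, hy])
  refine ⟨fun htop => ?_, fun K hK => ?_⟩
  · have hmem := mem_alt_swap_mul_swap hxy hxx
    have h1 : swap x y * swap x x' ∈ ImprimMax.evenFibreStab f := Subgroup.mem_subgroupOf.mp
      (htop.symm ▸ Subgroup.mem_top (⟨_, hmem⟩ : alternatingGroup α))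
    have := (ImprimMax.mem_fibreStab.1 h1.1 x x').1 (hx.trans hx'.symm)
    simp [swap_apply_of_ne_of_ne hxx.symm hx'y, hy, hx'] at this
    exact hi this
  set G := K.map (alternatingGroup α).subtype
  have hGA : G ≤ alternatingGroup α := Subgroup.map_subtype_le K
  have hW : ImprimMax.evenFibreStab f ≤ G := fun g hg =>
    ⟨⟨g, hg.2⟩, hK.le (Subgroup.mem_subgroupOf.mpr hg), rfl⟩
  have hnle : ¬ G ≤ ImprimMax.fibreStab f := fun h => hK.not_ge fun k hk =>
    Subgroup.mem_subgroupOf.mpr ⟨h ⟨k, hk, rfl⟩, k.2⟩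
  have hprim := ImprimMax.preprimitive_of_evenFibreStab hf (by omega) (Or.inl ha) hW hnle
  obtain ⟨w, w', hw, hw', hww, hwx, hw'x⟩ := ImprimMax.exists_pair_in hf i₀ {x} (by
    have := Finset.card_filter_le ({x} : Finset α) (fun z => f z = i₀)
    simp at this ⊢; omega)
  simp at hwx hw'x
  have hc := hW (ImprimMax.swap_pair_mem (hx.trans hw'.symm) (Ne.symm hw'x) (hx.trans hw.symm)
    (Ne.symm hwx))
  have := alternatingGroup_le_of_isPreprimitive_of_isThreeCycle_mem hprim
    (isThreeCycle_swap_mul_swap_same (Ne.symm hwx) (Ne.symm hw'x) hww) hc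
  rw [eq_top_iff]
  intro k _
  obtain ⟨k', hk', he⟩ := this k.2
  exact Subtype.ext he ▸ hk'

theorem two_pow_not_unique (P : Sylow 2 (Perm α)) (R : Subgroup (alternatingGroup α))
    (hR : R.map (alternatingGroup α).subtype ≤ P) {k : ℕ} (hk : 3 ≤ k)
    (hn : Fintype.card α = 2 ^ k) :
    ¬ UniqueOver (P : Subgroup (Perm α)) ∧ ¬ UniqueOver R := by
  classical
  haveI : Fact (Nat.Prime 2) := ⟨Nat.prime_two⟩
  have heven : Even (Fintype.card α) := by
    rw [hn]; exact (Nat.even_pow).2 ⟨even_two, by omega⟩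
  by_cases htrans : ∀ x y : α, ∃ g ∈ (P : Subgroup (Perm α)), g x = y
  swap
  · -- otherwise use an orbit which is not half of the points, or half of them
    exfalso
    apply htrans
    intro x y
    -- a cycle of length `n` lies in some Sylow 2-subgroup
    let c : Perm α := ((Fintype.equivFin α).trans (finRotate (Fintype.card α))).trans (Fintype.equivFin α).symm
    have hcyc : ∀ u v, ∃ i : ℕ, (c ^ i) u = v := by
      intro u v
      have hc : ∀ i : ℕ, ∀ u, Fintype.equivFin α ((c ^ i) u) = (finRotate _ ^ i) (Fintype.equivFin α u) := by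
        intro i
        induction i with
        | zero => simp
        | succ i ih => intro u; rw [pow_succ, pow_succ, Perm.mul_apply, Perm.mul_apply, ih]; simp [c]
      have h2 : 2 ≤ Fintype.card α := by rw [hn]; exact le_self_pow₀ (by norm_num) (by omega)
      have hs : (finRotate (Fintype.card α)).SameCycle (Fintype.equivFin α u) (Fintype.equivFin α v) := by
        refine (isCycle_finRotate_of_le h2).sameCycle ?_ ?_ <;>
          rw [← mem_support, support_finRotate_of_le h2] <;> exact Finset.mem_univ _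
      obtain ⟨i, -, -, hi⟩ := hs.exists_pow_eq
      exact ⟨i, (Fintype.equivFin α).injective (by rw [hc, hi])⟩
    have hct : c ^ 2 ^ k = 1 := by
      have h2 : 2 ≤ Fintype.card α := by rw [hn]; exact le_self_pow₀ (by norm_num) (by omega)
      have hf : finRotate (Fintype.card α) ^ 2 ^ k = 1 := by
        have := (isCycle_finRotate_of_le h2).orderOf
        rw [support_finRotate_of_le h2, Finset.card_univ, Fintype.card_fin] at this
        rw [← hn]; conv_lhs => arg 2; rw [← this]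
        exact pow_orderOf_eq_one _
      ext u
      have hc : ∀ i : ℕ, ∀ u, Fintype.equivFin α ((c ^ i) u) = (finRotate _ ^ i) (Fintype.equivFin α u) := by
        intro i
        induction i with
        | zero => simp
        | succ i ih => intro u; rw [pow_succ, pow_succ, Perm.mul_apply, Perm.mul_apply, ih]; simp [c]
      exact (Fintype.equivFin α).injective (by rw [hc, hf]; rfl)
    have hp : IsPGroup 2 (Subgroup.zpowers c) := by
      refine IsPGroup.iff_orderOf.2 fun g => ?_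
      obtain ⟨m, -, hm⟩ := (Nat.dvd_prime_pow Nat.prime_two).1
        ((Subgroup.orderOf_dvd_natCard _ g.2).trans
          (by rw [Nat.card_zpowers]; exact orderOf_dvd_of_pow_eq_one hct))
      exact ⟨m, by rw [← Subgroup.orderOf_coe, hm]⟩
    obtain ⟨Q, hQ⟩ := hp.exists_le_sylow
    obtain ⟨g, hg⟩ := MulAction.exists_smul_eq (Perm α) Q P
    obtain ⟨i, hi⟩ := hcyc (g⁻¹ x) (g⁻¹ y)
    refine ⟨g * c ^ i * g⁻¹, ?_, ?_⟩
    · rw [← hg]
      exact ⟨c ^ i, hQ (Subgroup.npow_mem_zpowers c i), rfl⟩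
    · rw [Perm.mul_apply, Perm.mul_apply, hi]; simp
  obtain ⟨x₀⟩ : Nonempty α := Fintype.card_pos_iff.1 (by rw [hn]; positivity)
  set S := stabilizer (P : Subgroup (Perm α)) x₀ with hS
  haveI : IsPretransitive (P : Subgroup (Perm α)) α := ⟨fun x y => by
    obtain ⟨g, hg, hgxy⟩ := htrans x y; exact ⟨⟨g, hg⟩, hgxy⟩⟩
  have hSi : S.index = 2 ^ k := by
    rw [hS, index_stabilizer_of_transitive, Nat.card_eq_fintype_card, hn]
  obtain ⟨e, he⟩ := P.isPGroup'.exists_card_eq
  obtain ⟨s, hs⟩ := (P.isPGroup'.to_subgroup S).exists_card_eq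
  have hes : e = s + k := by
    have := S.card_mul_index
    rw [hs, hSi, ← pow_add, he] at this
    exact (Nat.pow_right_injective le_rfl this).symm
  obtain ⟨K, hK, hSK⟩ := Sylow.exists_subgroup_card_pow_prime_le 2 (m := s + k - 1)
    (by rw [he, hes]; exact pow_dvd_pow _ (by omega)) S hs (by omega)
  have hKi : K.index = 2 := by
    have := K.card_mul_index
    rw [hK, he, hes, show s + k = (s + k - 1) + 1 by omega, pow_succ] at this
    exact Nat.eq_of_mul_eq_mul_left (by positivity) this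
  choose rep hrep using fun x => htrans x₀ x
  let f : α → (P : Subgroup (Perm α)) ⧸ K := fun x => QuotientGroup.mk ⟨rep x, (hrep x).1⟩
  have hequiv : ∀ (h : (P : Subgroup (Perm α))) x, f (h.1 x) = h • f x := by
    intro h x
    show QuotientGroup.mk _ = QuotientGroup.mk _
    refine QuotientGroup.eq.2 (hSK ?_)
    show ((rep (h.1 x))⁻¹ * (h.1 * rep x)) x₀ = x₀
    rw [Perm.mul_apply, Perm.mul_apply, (hrep x).2]
    conv_rhs => rw [← Equiv.symm_apply_apply (rep (h.1 x)) x₀, (hrep (h.1 x)).2]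
    rfl
  have hPf : (P : Subgroup (Perm α)) ≤ ImprimMax.fibreStab f := fun g hg x y => by
    rw [hequiv ⟨g, hg⟩ x, hequiv ⟨g, hg⟩ y, smul_left_cancel_iff]
  haveI : Fintype ((P : Subgroup (Perm α)) ⧸ K) := Fintype.ofFinite _
  have hcard2 : Nat.card ((P : Subgroup (Perm α)) ⧸ K) = 2 := hKi
  haveI : Nontrivial ((P : Subgroup (Perm α)) ⧸ K) :=
    Finite.one_lt_card_iff_nontrivial.1 (by omega)
  have hfibEq : ∀ i j, Nat.card {x : α // f x = i} = Nat.card {x : α // f x = j} := by
    intro i j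
    obtain ⟨h, rfl⟩ := MulAction.exists_smul_eq (P : Subgroup (Perm α)) i j
    exact Nat.card_congr ((h.1).subtypeEquiv fun x => by rw [hequiv, smul_left_cancel_iff])
  have hfib : ∀ i, Nat.card {x : α // f x = i} = 2 ^ (k - 1) := by
    intro i
    have h := Nat.card_congr (Equiv.sigmaFiberEquiv f)
    rw [Nat.card_sigma, Finset.sum_congr rfl (fun j _ => hfibEq j i), Finset.sum_const,
      Finset.card_univ, smul_eq_mul, ← Nat.card_eq_fintype_card, hcard2,
      Nat.card_eq_fintype_card (α := α), hn, show k = (k - 1) + 1 by omega, pow_succ] at h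
    omega
  have h4 : 4 ≤ 2 ^ (k - 1) := by
    calc 4 = 2 ^ 2 := by norm_num
      _ ≤ _ := Nat.pow_le_pow_right (by norm_num) (by omega)
  refine even_not_unique P R hR heven _ (ImprimMax.isCoatom_fibreStab hfib (by omega))
    (evenFibre_coatom hfib (by omega)) hPf ?_
  -- a swap in `P` stays inside a block
  have hin : ∀ (τ : swaps (P : Subgroup (Perm α))) x, f (τ.1 x) = f x := by
    intro τ x
    by_contra hne
    obtain ⟨u, u', hu, hu', huu, hux, hu'x⟩ := ImprimMax.exists_pair_in hfib (f x) {x, τ.1 x} (by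
      have := Finset.card_filter_le ({x, τ.1 x} : Finset α) (fun z => f z = f x)
      have h3 : ({x, τ.1 x} : Finset α).card ≤ 2 := Finset.card_le_two
      omega)
    simp at hux hu'x
    have hτx : τ.1 x ≠ x := fun e => hne (by rw [e])
    have e := swap_of_moved τ.2.1 hτx
    have h := (hPf τ.2.2 x u).1 hu.symm
    rw [show τ.1 u = u by rw [e]; exact swap_apply_of_ne_of_ne hux.1 hux.2, hu] at h
    exact hne h
  obtain ⟨i₀, i₁, hi⟩ := exists_pair_ne ((P : Subgroup (Perm α)) ⧸ K)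
  obtain ⟨x, -, hx, -, -, -, -⟩ := ImprimMax.exists_pair_in hfib i₀ ∅ (by simp; omega)
  obtain ⟨y, -, hy, -, -, -, -⟩ := ImprimMax.exists_pair_in hfib i₁ ∅ (by simp; omega)
  refine ⟨x, y, fun τ σ hτ hσ => ⟨?_, fun hg => ?_⟩⟩
  · rintro rfl
    have e := swap_of_moved τ.2.1 hτ
    by_cases h : y = τ.1 x
    · exact hi (by rw [← hx, ← hy, h, hin])
    · rw [e] at hσ
      exact hσ (swap_apply_of_ne_of_ne (fun e' => hi (by rw [← hx, ← hy, e'])) h)
  · obtain ⟨u, u', hu, hu', huu, hux, hu'x⟩ := ImprimMax.exists_pair_in hfib i₀ {x, τ.1 x} (by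
      have := Finset.card_filter_le ({x, τ.1 x} : Finset α) (fun z => f z = i₀)
      have h3 : ({x, τ.1 x} : Finset α).card ≤ 2 := Finset.card_le_two
      omega)
    simp at hux hu'x
    have hne1 : ∀ {z w : α}, f z = i₀ → f w = i₁ → z ≠ w := fun hz hw e => hi (by rw [← hz, e, hw])
    have hσy : f (σ.1 y) = i₁ := (hin σ y).trans hy
    have h := (hg u x).1 (hu.trans hx.symm)
    rw [Perm.mul_apply, Perm.mul_apply, swap_apply_of_ne_of_ne hux.2 (hne1 hu hσy),
      swap_apply_of_ne_of_ne hux.1 (hne1 hu hy),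
      swap_apply_of_ne_of_ne (Ne.symm hτ) (hne1 hx hσy), swap_apply_left, hu, hy] at h
    exact hi h

/-! ### Degree `2 ^ k + 1` -/

theorem comm_swaps (g : Perm α) {x y : α} (hx : g x = x) (hy : g y = y) : Commute g (swap x y) := by
  show g * swap x y = swap x y * g
  rw [← mul_inv_eq_iff_eq_mul, ← Equiv.swap_apply_apply, hx, hy]

/-- A fixed point and a transitive action on the remaining points. -/
theorem exists_fixed_transitive (P : Sylow 2 (Perm α)) {k : ℕ} (hk : 2 ≤ k)
    (hn : Fintype.card α = 2 ^ k + 1) :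
    ∃ a : α, (∀ g ∈ P, g a = a) ∧
      ∀ x y, x ≠ a → y ≠ a → ∃ g ∈ (P : Subgroup (Perm α)), g x = y := by
  classical
  haveI : Fact (Nat.Prime 2) := ⟨Nat.prime_two⟩
  have hodd : Odd (Fintype.card α) := by
    rw [hn]; exact (Nat.even_pow.2 ⟨even_two, by omega⟩).add_one
  obtain ⟨a, ha⟩ := exists_fixed P hodd
  refine ⟨a, ha, ?_⟩
  have h4 : 4 ≤ 2 ^ k := (show 4 = 2 ^ 2 by norm_num) ▸ Nat.pow_le_pow_right (by norm_num) hk
  let e := Fintype.equivFinOfCardEq hn
  let top : Fin (2 ^ k + 1) := ⟨2 ^ k - 1, by omega⟩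
  let c : Perm α := (e.trans (Fin.cycleRange top)).trans e.symm
  have hc : ∀ i : ℕ, ∀ u, e ((c ^ i) u) = (Fin.cycleRange top ^ i) (e u) := by
    intro i
    induction i with
    | zero => simp
    | succ i ih => intro u; rw [pow_succ, pow_succ, Perm.mul_apply, Perm.mul_apply, ih]; simp [c]
  have hcyc : (Fin.cycleRange top).IsCycle :=
    Fin.isCycle_cycleRange (fun h => by simp [top, Fin.ext_iff] at h; omega)
  have hord : orderOf (Fin.cycleRange top) = 2 ^ k := by
    rw [← lcm_cycleType, Fin.cycleType_cycleRange (fun h => by simp [top, Fin.ext_iff] at h; omega)]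
    simp [top]; omega
  have hsupp : ∀ u : Fin (2 ^ k + 1), u ≠ Fin.last _ → Fin.cycleRange top u ≠ u := by
    intro u hu
    have hu' : (u : ℕ) ≤ 2 ^ k - 1 := by
      have := u.2
      have : (u : ℕ) ≠ 2 ^ k := fun h => hu (Fin.ext h)
      omega
    intro h
    have h' := congrArg Fin.val h
    rw [Fin.coe_cycleRange_of_le (show u ≤ top from hu')] at h'
    split_ifs at h' with h0
    · have h0' := congrArg Fin.val h0
      simp [top] at h0'
      omega
    · omega
  have hct : c ^ 2 ^ k = 1 := by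
    ext u
    have hz := pow_orderOf_eq_one (Fin.cycleRange top)
    rw [hord] at hz
    exact e.injective (by rw [hc, hz]; rfl)
  have hp : IsPGroup 2 (Subgroup.zpowers c) := by
    refine IsPGroup.iff_orderOf.2 fun g => ?_
    obtain ⟨m, -, hm⟩ := (Nat.dvd_prime_pow Nat.prime_two).1
      ((Subgroup.orderOf_dvd_natCard _ g.2).trans
        (by rw [Nat.card_zpowers]; exact orderOf_dvd_of_pow_eq_one hct))
    exact ⟨m, by rw [← Subgroup.orderOf_coe, hm]⟩
  obtain ⟨Q, hQ⟩ := hp.exists_le_sylow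
  obtain ⟨g, hg⟩ := MulAction.exists_smul_eq (Perm α) Q P
  have hmem : g * c * g⁻¹ ∈ (P : Subgroup (Perm α)) := by
    rw [← hg]; exact ⟨c, hQ (Subgroup.mem_zpowers c), rfl⟩
  have hga : e (g⁻¹ a) = Fin.last _ := by
    by_contra h
    apply hsupp _ h
    have h1 := ha _ hmem
    have h2 : c (g⁻¹ a) = g⁻¹ a := by
      have := congrArg (⇑g⁻¹) h1
      simpa [Perm.mul_apply] using this
    have := congrArg e h2
    simpa [c] using this
  intro x y hx hy
  have hne : ∀ z, z ≠ a → Fin.cycleRange top (e (g⁻¹ z)) ≠ e (g⁻¹ z) := fun z hz =>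
    hsupp _ fun h => hz (g⁻¹.injective (e.injective (h.trans hga.symm)))
  obtain ⟨i, hi⟩ := (hcyc.sameCycle (hne x hx) (hne y hy)).exists_nat_pow_eq
  refine ⟨g * c ^ i * g⁻¹, ?_, ?_⟩
  · rw [← conj_pow]; exact pow_mem hmem i
  · rw [Perm.mul_apply, Perm.mul_apply]
    have : (c ^ i) (g⁻¹ x) = g⁻¹ y := e.injective (by rw [hc, hi])
    rw [this]; simp

/-- The even elements of `P` are still transitive off the fixed point. -/
theorem transitive_even (P : Sylow 2 (Perm α)) {a : α} (ha : ∀ g ∈ P, g a = a)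
    (htr : ∀ x y, x ≠ a → y ≠ a → ∃ g ∈ (P : Subgroup (Perm α)), g x = y)
    (h5 : 5 ≤ Fintype.card α) (x y : α) (hx : x ≠ a) (hy : y ≠ a) :
    ∃ g ∈ (P : Subgroup (Perm α)), g ∈ alternatingGroup α ∧ g x = y := by
  classical
  obtain ⟨g, hg, hgx⟩ := htr x y hx hy
  rcases Int.units_eq_one_or (sign g) with h | h
  · exact ⟨g, hg, h, hgx⟩
  obtain ⟨τ, hτ, hτx⟩ := exists_swap_moving P ha hx
  obtain ⟨z, hz⟩ : ∃ z, z ∉ ({a, x, τ x} : Finset α) := by
    by_contra hc
    push Not at hc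
    have := Finset.card_le_card (show (Finset.univ : Finset α) ⊆ {a, x, τ x} from fun z _ => hc z)
    rw [Finset.card_univ] at this
    have := this.trans Finset.card_le_three
    omega
  simp at hz
  obtain ⟨τ', hτ', hτ'z⟩ := exists_swap_moving P ha hz.1
  have hfix : τ' x = x := by
    by_contra hne
    have e := swaps_common P.2 hτ hτ' hτx hne
    rw [← e, swap_of_moved hτ.1 hτx, swap_apply_of_ne_of_ne hz.2.1 hz.2.2] at hτ'z
    exact hτ'z rfl
  refine ⟨g * τ', mul_mem hg hτ'.2, ?_, by rw [Perm.mul_apply, hfix, hgx]⟩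
  rw [mem_alternatingGroup, map_mul, h, hτ'.1.sign_eq]; rfl

/-- A group containing the even part of `P` and moving the fixed point is primitive. -/
theorem preprimitive_over (G : Subgroup (Perm α)) {a : α}
    (htr : ∀ x y, x ≠ a → y ≠ a → ∃ g ∈ G, g a = a ∧ g x = y) (hmove : ∃ g ∈ G, g a ≠ a) :
    IsPreprimitive G α := by
  classical
  haveI : IsPretransitive G α := by
    obtain ⟨g, hg, hga⟩ := hmove
    have hall : ∀ x, ∃ h ∈ G, h a = x := by
      intro x
      by_cases hx : x = a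
      · exact ⟨1, one_mem G, hx.symm⟩
      obtain ⟨h, hh, -, e⟩ := htr (g a) x hga hx
      exact ⟨h * g, mul_mem hh hg, by rw [Perm.mul_apply, e]⟩
    refine ⟨fun x y => ?_⟩
    obtain ⟨h, hh, ex⟩ := hall x
    obtain ⟨h', hh', ey⟩ := hall y
    exact ⟨⟨h' * h⁻¹, mul_mem hh' (inv_mem hh)⟩, by
      show (h' * h⁻¹) x = y
      rw [← ex, Perm.mul_apply]; simpa using ey⟩
  refine IsPreprimitive.of_isTrivialBlock_base a fun {B} haB hB => ?_
  by_cases hsub : B.Subsingleton
  · exact Or.inl hsub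
  right
  obtain ⟨b, hbB, hba⟩ := (Set.not_subsingleton_iff.1 hsub).exists_ne a
  refine Set.eq_univ_iff_forall.2 fun x => ?_
  by_cases hx : x = a
  · exact hx ▸ haB
  obtain ⟨h, hh, hha, e⟩ := htr b x hba hx
  have hB' : (⟨h, hh⟩ : G) • B = B :=
    hB.smul_eq_of_mem haB (show (⟨h, hh⟩ : G) • a ∈ B by
      show h a ∈ B
      rwa [hha])
  rw [← hB']
  exact ⟨b, hbB, e⟩

/-- From degree nine on a three-cycle appears. -/
theorem exists_three_cycle (P : Sylow 2 (Perm α)) {a : α} (ha : ∀ g ∈ P, g a = a)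
    (h9 : 9 ≤ Fintype.card α) (G : Subgroup (Perm α))
    (hG : ∀ g ∈ (P : Subgroup (Perm α)), g ∈ alternatingGroup α → g ∈ G)
    (hmove : ∃ g ∈ G, g a ≠ a) : ∃ c ∈ G, IsThreeCycle c := by
  classical
  set T := swaps (P : Subgroup (Perm α))
  obtain ⟨g, hg, hga⟩ := hmove
  set x₁ := g a with hx1
  obtain ⟨τi, hτi, hi⟩ := exists_swap_moving P ha hga
  set y₁ := τi x₁ with hy1
  have ey : g⁻¹ y₁ ≠ a := fun e => hi (by
    rw [hx1, ← e]; simp)
  obtain ⟨τl, hτl, hl⟩ := exists_swap_moving P ha ey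
  set z := g (τl (g⁻¹ y₁)) with hz
  have hzy : z ≠ y₁ := fun e => hl (g.injective (by rw [← hz, e]; simp))
  have hzx : z ≠ x₁ := fun e => ey (τl.injective (by
    rw [ha τl hτl.2]; exact g.injective e))
  have hcard : 4 ≤ Nat.card T := by
    show 4 ≤ Nat.card (swaps (P : Subgroup (Perm α)))
    have := card_swaps_ge P; omega
  -- swaps avoiding finitely many points
  have avoid : ∀ (S : Finset α), S.card ≤ 3 → ∃ τ ∈ T, ∀ s ∈ S, τ s = s := by
    intro S hS
    by_contra hc
    push Not at hc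
    choose w hw hw' using hc
    have : Nat.card T ≤ S.card := by
      rw [← Nat.card_eq_finsetCard S]
      refine Nat.card_le_card_of_injective (fun τ => (⟨w τ.1 τ.2, hw _ τ.2⟩ : S)) fun τ τ' h => ?_
      have h' : w τ.1 τ.2 = w τ'.1 τ'.2 := congrArg Subtype.val h
      exact Subtype.ext (swaps_common P.2 τ.2 τ'.2 (hw' _ τ.2) (h' ▸ hw' _ τ'.2))
    omega
  obtain ⟨τj, hτj, hj⟩ := avoid {x₁, y₁, z} Finset.card_le_three
  simp only [Finset.forall_mem_insert, Finset.mem_singleton, forall_eq] at hj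
  obtain ⟨hjx, hjy, hjz⟩ := hj
  obtain ⟨u, v, huv, ej⟩ := hτj.1
  have hju : τj u ≠ u := by rw [ej, swap_apply_left]; exact huv.symm
  have hjv : τj v ≠ v := by rw [ej, swap_apply_right]; exact huv
  obtain ⟨τm, hτm, hm⟩ := avoid {g⁻¹ y₁, g⁻¹ u, g⁻¹ v} Finset.card_le_three
  simp only [Finset.forall_mem_insert, Finset.mem_singleton, forall_eq] at hm
  obtain ⟨hmy, hmu, hmv⟩ := hm
  set D' := g * τm * g⁻¹ with hD'
  have hD'fix : ∀ w, τm (g⁻¹ w) = g⁻¹ w → D' w = w := fun w h => by
    rw [hD', Perm.mul_apply, Perm.mul_apply, h]; simp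
  have dy := hD'fix y₁ hmy
  have du := hD'fix u hmu
  have dv := hD'fix v hmv
  have dx : D' x₁ = x₁ := hD'fix x₁ (by
    rw [hx1]; simp only [Perm.coe_inv, Equiv.symm_apply_apply]; exact ha τm hτm.2)
  have dz : D' z = z := hD'fix z (by
    rw [hz]; simp only [Perm.coe_inv, Equiv.symm_apply_apply]
    by_contra h
    have hne : τl (τl (g⁻¹ y₁)) ≠ τl (g⁻¹ y₁) := fun e => hl (τl.injective e)
    have e := swaps_common P.2 hτm hτl h hne
    exact hl (e ▸ hmy))
  set A := swap y₁ x₁ with hA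
  set C := swap y₁ z with hC
  have hAi : τi = A := by rw [hA, swap_comm]; exact swap_of_moved hτi.1 hi
  have hCl : g * τl * g⁻¹ = C := by
    rw [swap_of_moved hτl.1 hl, ← Equiv.swap_apply_apply, hC, hz]
    simp
  have c1 : Commute τj A := comm_swaps τj hjy hjx
  have c2 : Commute τj C := comm_swaps τj hjy hjz
  have c3 : Commute D' A := comm_swaps D' dy dx
  have c4 : Commute D' C := comm_swaps D' dy dz
  have c5 : Commute D' τj := ej ▸ comm_swaps D' du dv
  have hj2 : τj * τj = 1 := by rw [ej, swap_mul_self]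
  have hD2 : D' * D' = 1 := by
    obtain ⟨p, r, -, em⟩ := hτm.1
    rw [hD', em]; simp [mul_assoc, ← mul_assoc (swap p r)]
  have hDmem : A * τj ∈ G := by
    refine hG _ (mul_mem (hAi ▸ hτi.2) hτj.2) ?_
    rw [← hAi, mem_alternatingGroup, map_mul, hτi.1.sign_eq, hτj.1.sign_eq]; rfl
  have hEmem : C * D' ∈ G := by
    rw [← hCl, hD', show g * τl * g⁻¹ * (g * τm * g⁻¹) = g * (τl * τm) * g⁻¹ by group]
    refine mul_mem (mul_mem hg (hG _ (mul_mem hτl.2 hτm.2) ?_)) (inv_mem hg)
    rw [mem_alternatingGroup, map_mul, hτl.1.sign_eq, hτm.1.sign_eq]; rfl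
  refine ⟨(A * τj * (C * D')) * (A * τj * (C * D')), mul_mem (mul_mem hDmem hEmem) (mul_mem hDmem hEmem), ?_⟩
  have e1 : A * τj * (C * D') = (A * C) * (τj * D') := by
    rw [mul_assoc, ← mul_assoc τj, c2.eq]; group
  have c6 : Commute (τj * D') (A * C) :=
    Commute.mul_left (c1.mul_right c2) (c3.mul_right c4)
  rw [e1, show (A * C) * (τj * D') * ((A * C) * (τj * D')) =
    (A * C) * ((τj * D') * (A * C)) * (τj * D') by group, c6.eq,
    show (A * C) * ((A * C) * (τj * D')) * (τj * D') =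
    (A * C) * (A * C) * ((τj * D') * (τj * D')) by group,
    show (τj * D') * (τj * D') = τj * (D' * τj) * D' by group, c5.eq,
    show τj * (τj * D') * D' = (τj * τj) * (D' * D') by group, hj2, hD2, mul_one, mul_one]
  have h3 : IsThreeCycle (A * C) :=
    isThreeCycle_swap_mul_swap_same (fun e => hi e) hzy.symm hzx.symm
  have hpow : A * C * (A * C) = (A * C)⁻¹ := by
    rw [eq_inv_iff_mul_eq_one]
    have := pow_orderOf_eq_one (A * C)
    rwa [h3.orderOf, pow_succ, pow_two] at this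
  rw [hpow]
  exact h3.inv

theorem unique_sym (P : Sylow 2 (Perm α)) {k : ℕ} (hk : 2 ≤ k) (hn : Fintype.card α = 2 ^ k + 1) :
    UniqueOver (P : Subgroup (Perm α)) := by
  classical
  obtain ⟨a, ha, htr⟩ := exists_fixed_transitive P hk hn
  have h4 : 4 ≤ 2 ^ k := (show 4 = 2 ^ 2 by norm_num) ▸ Nat.pow_le_pow_right (by norm_num) hk
  obtain ⟨b, hb⟩ := Fintype.exists_ne_of_one_lt_card (show 1 < Fintype.card α by omega) a
  have hs : Nat.card α ≠ 2 * ({a} : Set α).ncard := by
    rw [Set.ncard_singleton, Nat.card_eq_fintype_card]; omega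
  obtain ⟨hco, -⟩ := coatom_set (Set.singleton_nonempty a) ⟨b, hb⟩ hs
  refine ⟨_, ⟨hco, fun g hg => ?_⟩, fun M ⟨hM, hPM⟩ => ?_⟩
  · show g • ({a} : Set α) = {a}
    rw [Set.smul_set_singleton, Perm.smul_def, ha g hg]
  by_contra hne
  have hmove : ∃ g ∈ M, g a ≠ a := by
    by_contra hc
    push Not at hc
    refine hne ((hM.le_iff.1 fun g hg => ?_).resolve_left hco.1).symm
    show g • ({a} : Set α) = {a}
    rw [Set.smul_set_singleton, Perm.smul_def, hc g hg]
  have hprim := preprimitive_over M (fun x y hx hy => by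
    obtain ⟨g, hg, e⟩ := htr x y hx hy
    exact ⟨g, hPM hg, ha g hg, e⟩) hmove
  obtain ⟨τ, hτ, -⟩ := exists_swap_moving P ha hb
  exact hM.1 (subgroup_eq_top_of_isPreprimitive_of_isSwap_mem hprim τ hτ.1 (hPM hτ.2))

theorem unique_alt (P : Sylow 2 (Perm α)) (R : Subgroup (alternatingGroup α))
    (hR : ∀ r : alternatingGroup α, r ∈ R ↔ (r : Perm α) ∈ (P : Subgroup (Perm α))) {k : ℕ}
    (hk : 2 ≤ k) (hn : Fintype.card α = 2 ^ k + 1) : UniqueOver R := by
  classical
  obtain ⟨a, ha, htr⟩ := exists_fixed_transitive P hk hn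
  have h4 : 4 ≤ 2 ^ k := (show 4 = 2 ^ 2 by norm_num) ▸ Nat.pow_le_pow_right (by norm_num) hk
  obtain ⟨b, hb⟩ := Fintype.exists_ne_of_one_lt_card (show 1 < Fintype.card α by omega) a
  have hs : Nat.card α ≠ 2 * ({a} : Set α).ncard := by
    rw [Set.ncard_singleton, Nat.card_eq_fintype_card]; omega
  obtain ⟨-, hco⟩ := coatom_set (Set.singleton_nonempty a) ⟨b, hb⟩ hs
  refine ⟨_, ⟨hco, fun r hr => ?_⟩, fun M ⟨hM, hRM⟩ => ?_⟩
  · show (r : Perm α) • ({a} : Set α) = {a}
    rw [Set.smul_set_singleton, Perm.smul_def, ha _ ((hR r).1 hr)]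
  by_contra hne
  set G := M.map (alternatingGroup α).subtype
  have hRG : ∀ g ∈ (P : Subgroup (Perm α)), g ∈ alternatingGroup α → g ∈ G := fun g hg hgA =>
    ⟨⟨g, hgA⟩, hRM ((hR _).2 hg), rfl⟩
  have hmove : ∃ g ∈ G, g a ≠ a := by
    by_contra hc
    push Not at hc
    refine hne ((hM.le_iff.1 fun g hg => ?_).resolve_left hco.1).symm
    show (g : Perm α) • ({a} : Set α) = {a}
    rw [Set.smul_set_singleton, Perm.smul_def, hc (g : Perm α) ⟨g, hg, rfl⟩]
  have htr' : ∀ x y, x ≠ a → y ≠ a → ∃ g ∈ G, g a = a ∧ g x = y := fun x y hx hy => by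
    obtain ⟨g, hg, hgA, e⟩ := transitive_even P ha htr (by omega) x y hx hy
    exact ⟨g, hRG g hg hgA, ha g hg, e⟩
  have hprim := preprimitive_over G htr' hmove
  apply hM.1
  rcases Nat.lt_or_ge k 3 with hk3 | hk3
  · -- degree five: the order is at least twenty
    obtain rfl : k = 2 := by omega
    by_contra htop
    have hidx := PermGp.alternating_index_ge (by omega) htop
    haveI : IsPretransitive G α := hprim.toIsPretransitive
    have h1 : Fintype.card α ∣ Nat.card G := by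
      rw [← Nat.card_eq_fintype_card, ← index_stabilizer_of_transitive G a]
      exact Subgroup.index_dvd_card _
    have hstab : (Fintype.card α - 1) ∣ Nat.card (stabilizer G a) := by
      have horb : orbit (stabilizer G a) b = {a}ᶜ := by
        ext x
        constructor
        · rintro ⟨⟨g, hg⟩, rfl⟩ e
          exact hb (g.1.injective (e.trans (show g.1 a = a from hg).symm))
        · intro hx
          obtain ⟨g, hg, hga, e⟩ := htr' b x hb hx
          exact ⟨⟨⟨g, hg⟩, hga⟩, e⟩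
      rw [← Nat.card_eq_fintype_card, ← Set.ncard_singleton a, ← Set.ncard_compl, ← horb,
        ← index_stabilizer]
      exact Subgroup.index_dvd_card _
    have h20 : 20 ∣ Nat.card G := by
      rw [← (stabilizer G a).card_mul_index, index_stabilizer_of_transitive, Nat.card_eq_fintype_card (α := α),
        hn, mul_comm]
      rw [hn] at hstab
      norm_num at hstab ⊢
      exact Nat.mul_dvd_mul_left 5 hstab
    rw [Subgroup.card_subtype] at h20
    have h60 := M.card_mul_index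
    have : Nontrivial α := ⟨a, b, Ne.symm hb⟩
    have hA := two_mul_nat_card_alternatingGroup (α := α)
    rw [Nat.card_perm, Nat.card_eq_fintype_card (α := α), hn] at hA
    rw [show Nat.factorial (2 ^ 2 + 1) = 120 from rfl] at hA
    obtain ⟨t, ht⟩ := h20
    rw [ht] at h60
    rw [hn] at hidx
    norm_num at hidx
    have hA' : Nat.card (alternatingGroup α) = 60 := by omega
    rw [hA'] at h60
    have hpos : 0 < Nat.card M := Nat.card_pos
    have ht0 : 0 < t := by omega
    nlinarith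
  · obtain ⟨c, hc, hc3⟩ := exists_three_cycle P ha (by
      have : 8 ≤ 2 ^ k := (show 8 = 2 ^ 3 by norm_num) ▸ Nat.pow_le_pow_right (by norm_num) hk3
      omega) G hRG hmove
    have := alternatingGroup_le_of_isPreprimitive_of_isThreeCycle_mem hprim hc3 hc
    rw [eq_top_iff]
    intro x _
    obtain ⟨x', hx', he⟩ := this x.2
    exact Subtype.ext he ▸ hx'

end Cfsg.Agent.SylTwoMax
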