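import Cfsg.Agent.Lib.CT.SelfCentralPPerm
import Cfsg.Agent.Lib.PermGp.TwoClassGraph
import Cfsg.Agent.Lib.PermGp.JordanCycle
import Cfsg.Agent.Lib.PermGp.Basic
import Mathlib.GroupTheory.GroupAction.Jordan
import Mathlib.GroupTheory.NoncommCoprod

/-!
# Primitive groups of degree `2p`
-/

set_option autoImplicit false
set_option linter.unusedSectionVars false

namespace Cfsg.Agent.PermGp.TwiceP

open MulAction Equiv Cfsg.Agent.CT
open scoped ComplexConjugate

section general

variable {G : Type*} [Group G] {α : Type*} [MulAction G α]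

/-- In a transitive normal subgroup of a primitive group with non-trivial point stabilizer, a point
stabilizer fixes one point only. -/
theorem stabilizer_inf_eq [Finite G] [IsPreprimitive G α] [FaithfulSMul G α] (M : Subgroup G) [M.Normal]
    [IsPretransitive M α] {a c : α} (hca : c ≠ a) (hfix : ∀ m ∈ M, m • a = a → m • c = c) :
    ∀ m ∈ M, m • a = a → m = 1 := by
  let B : Set α := {y | ∀ m ∈ M, (m • y = y ↔ m • a = a)}
  have hBa : a ∈ B := fun m _ => Iff.rfl
  have hBc : c ∈ B := by
    obtain ⟨t, ht⟩ := exists_smul_eq M a c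
    intro m hm
    refine ⟨fun hc => ?_, hfix m hm⟩
    have hinj : Function.Injective (fun z : {m : M // m • a = a} =>
        (⟨t⁻¹ * z.1 * t, by
          rw [mul_smul, mul_smul, ht, inv_smul_eq_iff, ht]
          exact hfix _ z.1.2 z.2⟩ : {m : M // m • a = a})) := fun z w e => by
      have := congrArg Subtype.val e
      exact Subtype.ext (mul_left_cancel (mul_right_cancel this))
    have hz : (t⁻¹ * ⟨m, hm⟩ * t : M) • a = a := by
      rw [mul_smul, mul_smul, ht, inv_smul_eq_iff, ht]
      exact hc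
    obtain ⟨w, hw⟩ := (Finite.injective_iff_surjective.mp hinj) ⟨_, hz⟩
    have := congrArg Subtype.val hw
    have h' : w.1 = (⟨m, hm⟩ : M) := mul_left_cancel (mul_right_cancel this)
    have := w.2
    rw [h'] at this
    exact this
  have hblock : IsBlock G B := by
    rw [isBlock_iff_smul_eq_of_nonempty]
    intro g hne
    obtain ⟨y, ⟨x, hx, rfl⟩, hy⟩ := hne
    have hconj : ∀ m ∈ M, g⁻¹ * m * g ∈ M := fun m hm => by
      simpa using ‹M.Normal›.conj_mem m hm g⁻¹
    have e : ∀ (m : G) (z : α), m • g • z = g • z ↔ (g⁻¹ * m * g) • z = z := fun m z => by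
      rw [mul_smul, mul_smul, inv_smul_eq_iff]
    have key : ∀ m ∈ M, ((g⁻¹ * m * g) • a = a ↔ m • a = a) := fun m hm => by
      rw [← hx _ (hconj m hm), ← e]
      exact hy m hm
    ext z
    rw [Set.mem_smul_set_iff_inv_smul_mem]
    constructor
    · intro hz m hm
      rw [← key m hm, ← hz _ (hconj m hm), ← e, smul_inv_smul]
    · intro hz m hm
      have hm' : g * m * g⁻¹ ∈ M := ‹M.Normal›.conj_mem m hm g
      have e1 := e (g * m * g⁻¹) (g⁻¹ • z)
      have e2 := key _ hm'
      rw [show g⁻¹ * (g * m * g⁻¹) * g = m by group] at e1 e2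
      rw [smul_inv_smul] at e1
      rw [← e1, hz _ hm', ← e2]
  rcases IsPreprimitive.isTrivialBlock_of_isBlock hblock with h | h
  · exact absurd (h hBc hBa) hca
  · intro m hm ha
    refine FaithfulSMul.eq_of_smul_eq_smul (α := α) fun y => ?_
    rw [one_smul]
    exact ((show y ∈ B by rw [h]; trivial) m hm).mpr ha

end general

section rank

variable {G : Type*} [Group G] [Fintype G] {α : Type*} [Fintype α] [MulAction G α]

theorem two_trans_of_rank [IsPretransitive G α] (a : α)
    (hr : Nat.card (orbitRel.Quotient (stabilizer G a) α) ≤ 2) : IsMultiplyPretransitive G α 2 := by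
  classical
  let cls : α → orbitRel.Quotient (stabilizer G a) α := fun y => Quotient.mk'' y
  have : Finite (orbitRel.Quotient (stabilizer G a) α) := inferInstance
  have := Fintype.ofFinite (orbitRel.Quotient (stabilizer G a) α)
  rw [is_two_pretransitive_iff]
  intro x y z w hxy hzw
  have key : ∀ u v : α, u ≠ a → v ≠ a → ∃ g : G, g • a = a ∧ g • u = v := by
    intro u v hu hv
    have hne : ∀ u, u ≠ a → cls u ≠ cls a := fun u hu e => by
      obtain ⟨⟨g, hg⟩, hgu⟩ : u ∈ orbit (stabilizer G a) a := Quotient.exact' e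
      exact hu (hgu.symm.trans hg)
    have : cls v = cls u := by
      by_contra h
      have h3 : ({cls a, cls u, cls v} : Finset _).card = 3 := Finset.card_eq_three.mpr
        ⟨_, _, _, (hne u hu).symm, (hne v hv).symm, Ne.symm h, rfl⟩
      have := Finset.card_le_univ ({cls a, cls u, cls v} : Finset _)
      rw [← Nat.card_eq_fintype_card] at this
      omega
    obtain ⟨⟨g, hg⟩, hgu⟩ : v ∈ orbit (stabilizer G a) u := Quotient.exact' this
    exact ⟨g, hg, hgu⟩
  obtain ⟨g₁, hg₁⟩ := exists_smul_eq G x a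
  obtain ⟨g₂, hg₂⟩ := exists_smul_eq G z a
  obtain ⟨g, hga, hgv⟩ := key (g₁ • y) (g₂ • w)
    (fun e => hxy (MulAction.injective g₁ (hg₁.trans e.symm)))
    (fun e => hzw (MulAction.injective g₂ (hg₂.trans e.symm)))
  exact ⟨g₂⁻¹ * g * g₁, by rw [mul_smul, mul_smul, hg₁, hga, inv_smul_eq_iff, hg₂],
    by rw [mul_smul, mul_smul, hgv, inv_smul_smul]⟩

theorem rank_le_of_le (M : Subgroup G) (a : α) :
    Nat.card (orbitRel.Quotient (stabilizer G a) α) ≤ Nat.card (orbitRel.Quotient (stabilizer M a) α) := by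
  refine Nat.card_le_card_of_surjective
    (Quotient.map' id fun x y hxy => ?_) fun q => ?_
  · obtain ⟨⟨⟨g, hgM⟩, hg⟩, hgy⟩ := hxy
    exact ⟨⟨g, hg⟩, hgy⟩
  · induction q using Quotient.inductionOn' with
    | h y => exact ⟨Quotient.mk'' y, rfl⟩

/-- The permutation character is regular on the orbits of a fixed-point-free subgroup. -/
theorem mu_perm {P : Subgroup G} [Fintype P] {p : ℕ} (hP : Nat.card P = p)
    (hcomm : ∀ a b : P, a * b = b * a) (hcard : Fintype.card α = 2 * p)
    (hfree : ∀ y ∈ P, y ≠ 1 → ∀ z : α, y • z ≠ z) (x : IrrCharacter P) :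
    SelfCentralP.mu P (permChar G α) x = 2 := by
  classical
  have e := SelfCentralP.mu_spec (P := P) (isCharacter_permChar (G := G) (Ω := α)) x
  have h1 : classInner (fun y : P => permChar G α y) (x : P → ℂ) = 2 := by
    have hp0 : (p : ℂ) ≠ 0 := by
      rw [← hP]; exact CT.card_ne_zero
    rw [classInner, Finset.sum_eq_single (1 : P) (fun y _ hy => ?_) (fun h => absurd (Finset.mem_univ _) h),
      OneMemClass.coe_one, permChar_one, hcard, irr_degree_one_of_comm hcomm x.2, map_one, mul_one, hP,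
      Nat.cast_mul, Nat.cast_two]
    · field_simp
    · have : fixedBy α (y : G) = ∅ := Set.eq_empty_iff_forall_notMem.mpr fun z hz =>
        hfree y y.2 (fun e => hy (Subtype.ext e)) z hz
      simp [permChar, this]
  rw [h1] at e
  exact_mod_cast e.symm

/-- The two degrees when the restriction to a subgroup is known. -/
theorem degrees_of_restrict {M : Subgroup G} [Fintype M] [IsPretransitive G α] [IsPretransitive M α]
    {p : ℕ} (hp : 2 ≤ p) (hcard : Fintype.card α = 2 * p) (a₀ : α)
    (hr : Nat.card (orbitRel.Quotient (stabilizer G a₀) α) = 3) (a b : IrrCharacter M)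
    (hdec : permChar M α = (fun _ => 1) + (a : M → ℂ) + (b : M → ℂ))
    (ha : deg (a : M → ℂ) = p - 1) (hb : deg (b : M → ℂ) = p) :
    ∃ χ₁ χ₂ : G → ℂ, IsIrrCharacter G χ₁ ∧ IsIrrCharacter G χ₂ ∧
      ((fun g : G => (Nat.card (fixedBy α g) : ℂ)) = fun g => 1 + χ₁ g + χ₂ g) ∧
      χ₁ 1 = (p : ℂ) - 1 ∧ χ₂ 1 = p := by
  classical
  have : Nonempty α := ⟨a₀⟩
  have hπ := isCharacter_permChar (G := G) (Ω := α)
  obtain ⟨s, hs1, hs2, hsc, hsr⟩ := exists_mult_sums (G := G) (Ω := α) a₀
  rw [hr] at hsr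
  set s' := s.filter fun χ : IrrCharacter G => mult (permChar G α) χ ≠ 0 with hs'
  have hsum' : ∑ χ ∈ s', mult (permChar G α) χ ^ 2 = 2 := by
    rw [hs', Finset.sum_filter_of_ne]
    · omega
    · intro χ _ h e; exact h (by rw [e]; rfl)
  have hone : ∀ χ ∈ s', mult (permChar G α) χ = 1 := by
    intro χ hχ
    have h0 := (Finset.mem_filter.mp hχ).2
    have hle := Finset.single_le_sum (f := fun χ : IrrCharacter G => mult (permChar G α) χ ^ 2)
      (fun _ _ => Nat.zero_le _) hχ
    rw [hsum'] at hle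
    have hlt : mult (permChar G α) (χ : G → ℂ) < 2 := by
      by_contra hc
      have := Nat.pow_le_pow_left (Nat.le_of_not_lt hc) 2
      omega
    omega
  have hcard2 : s'.card = 2 := by
    rw [Finset.card_eq_sum_ones, ← hsum']
    exact Finset.sum_congr rfl fun χ hχ => by rw [hone χ hχ]; rfl
  obtain ⟨X, Y, hXY, hsXY⟩ := Finset.card_eq_two.mp hcard2
  have hX : X ∈ s' := by rw [hsXY]; simp
  have hY : Y ∈ s' := by rw [hsXY]; simp
  have hXt : X ≠ trivIrr G := fun e => hs1 X (Finset.mem_filter.mp hX).1 (congrArg Subtype.val e)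
  have hYt : Y ≠ trivIrr G := fun e => hs1 Y (Finset.mem_filter.mp hY).1 (congrArg Subtype.val e)
  have hdecG : permChar G α = (fun _ => 1) + (X : G → ℂ) + (Y : G → ℂ) := by
    have h1 : mult (permChar G α) (trivIrr G) = 1 := by
      have e := classInner_permChar_one (G := G) (Ω := α)
      rw [show (fun _ : G => (1 : ℂ)) = (trivIrr G : G → ℂ) from rfl,
        mult_spec hπ (isCharacter_of_isIrr (trivIrr G).2)] at e
      exact_mod_cast e
    conv_lhs => rw [character_eq_sum hπ]
    rw [← Finset.sum_subset (Finset.subset_univ ({trivIrr G, X, Y} : Finset (IrrCharacter G))) fun χ _ hχ => ?_]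
    · rw [Finset.sum_insert (by simp [hXt.symm, hYt.symm]), Finset.sum_pair hXY, h1, hone X hX, hone Y hY,
        Nat.cast_one, one_smul, one_smul, one_smul, add_assoc]
      rfl
    · have h0 : mult (permChar G α) χ = 0 := by
        by_contra h0
        simp only [Finset.mem_insert, Finset.mem_singleton, not_or] at hχ
        have hmem : χ ∈ s := hs2 χ (fun e => hχ.1 (Subtype.ext e))
          (by rw [mult_spec hπ (isCharacter_of_isIrr χ.2)]; exact_mod_cast h0)
        have : χ ∈ s' := Finset.mem_filter.mpr ⟨hmem, h0⟩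
        rw [hsXY] at this
        simp only [Finset.mem_insert, Finset.mem_singleton] at this
        rcases this with e | e
        · exact hχ.2.1 e
        · exact hχ.2.2 e
      rw [h0, Nat.cast_zero, zero_smul]
  have hres : (fun z : M => (X : G → ℂ) z) + (fun z : M => (Y : G → ℂ) z) = (a : M → ℂ) + (b : M → ℂ) := by
    funext z
    have e1 := congrFun hdecG (z : G)
    have e2 := congrFun hdec z
    have e3 : permChar M α z = permChar G α (z : G) := rfl
    rw [e3, e1] at e2
    simp only [Pi.add_apply] at e2 ⊢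
    linear_combination e2
  have hab : a ≠ b := fun e => by rw [e, hb] at ha; omega
  have hXc := isCharacter_restrict M (isCharacter_of_isIrr X.2)
  have hYc := isCharacter_restrict M (isCharacter_of_isIrr Y.2)
  have hm : ∀ c : IrrCharacter M, mult (fun z : M => (X : G → ℂ) z) c + mult (fun z : M => (Y : G → ℂ) z) c =
      (if c = a then 1 else 0) + (if c = b then 1 else 0) := by
    intro c
    have e := congrArg (fun f => classInner f (c : M → ℂ)) hres
    simp only [classInner_add_left, irr_inner_subtype, mult_spec hXc (isCharacter_of_isIrr c.2),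
      mult_spec hYc (isCharacter_of_isIrr c.2), eq_comm (a := c)] at e ⊢
    have : ((mult (fun z : M => (X : G → ℂ) z) c + mult (fun z : M => (Y : G → ℂ) z) c : ℕ) : ℂ) =
        (((if a = c then 1 else 0) + (if b = c then 1 else 0) : ℕ) : ℂ) := by
      push_cast; exact e
    exact_mod_cast this
  have hdeg : ∀ (Z : IrrCharacter G), (∀ c : IrrCharacter M, mult (fun z : M => (Z : G → ℂ) z) c ≤
      (if c = a then 1 else 0) + (if c = b then 1 else 0)) →
      deg (Z : G → ℂ) = p - 1 ∨ deg (Z : G → ℂ) = p ∨ 2 * p - 1 ≤ deg (Z : G → ℂ) := by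
    intro Z hle
    have hZc := isCharacter_restrict M (isCharacter_of_isIrr Z.2)
    have e := congrFun (character_eq_sum hZc) 1
    rw [Finset.sum_eq_add_of_mem a b (Finset.mem_univ a) (Finset.mem_univ b) hab fun c _ hc => by
        have := hle c
        rw [if_neg hc.1, if_neg hc.2] at this
        rw [show mult (fun z : M => (Z : G → ℂ) z) c = 0 by omega, Nat.cast_zero, zero_smul]] at e
    simp only [Pi.add_apply, Pi.smul_apply, smul_eq_mul, OneMemClass.coe_one,
      deg_eq (isCharacter_of_isIrr Z.2), deg_eq (isCharacter_of_isIrr a.2),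
      deg_eq (isCharacter_of_isIrr b.2), ha, hb] at e
    have e' : deg (Z : G → ℂ) = mult (fun z : M => (Z : G → ℂ) z) a * (p - 1) +
        mult (fun z : M => (Z : G → ℂ) z) b * p := by exact_mod_cast e
    have h1 := hle a
    have h2 := hle b
    rw [if_pos rfl, if_neg hab] at h1
    rw [if_neg hab.symm, if_pos rfl] at h2
    have := deg_pos Z.2
    rcases Nat.le_one_iff_eq_zero_or_eq_one.mp (show mult (fun z : M => (Z : G → ℂ) z) a ≤ 1 by omega) with u | u <;>
      rcases Nat.le_one_iff_eq_zero_or_eq_one.mp (show mult (fun z : M => (Z : G → ℂ) z) b ≤ 1 by omega) with v | v <;>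
      rw [u, v] at e' <;> omega
  have hXd := hdeg X fun c => by have := hm c; omega
  have hYd := hdeg Y fun c => by have := hm c; omega
  have hsum : deg (X : G → ℂ) + deg (Y : G → ℂ) = 2 * p - 1 := by
    have e := congrFun hdecG 1
    rw [permChar_one, hcard] at e
    simp only [Pi.add_apply, deg_eq (isCharacter_of_isIrr X.2), deg_eq (isCharacter_of_isIrr Y.2)] at e
    have e' : 2 * p = 1 + deg (X : G → ℂ) + deg (Y : G → ℂ) := by exact_mod_cast e
    omega
  have hX0 := deg_pos X.2
  have hY0 := deg_pos Y.2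
  rcases (show (deg (X : G → ℂ) = p - 1 ∧ deg (Y : G → ℂ) = p) ∨
      (deg (Y : G → ℂ) = p - 1 ∧ deg (X : G → ℂ) = p) by omega) with ⟨h1, h2⟩ | ⟨h1, h2⟩
  · exact ⟨_, _, X.2, Y.2, hdecG, by rw [deg_eq (isCharacter_of_isIrr X.2), h1, Nat.cast_sub (by omega)]; simp,
      by rw [deg_eq (isCharacter_of_isIrr Y.2), h2]⟩
  · exact ⟨_, _, Y.2, X.2, hdecG.trans (add_right_comm _ _ _),
      by rw [deg_eq (isCharacter_of_isIrr Y.2), h1, Nat.cast_sub (by omega)]; simp,
      by rw [deg_eq (isCharacter_of_isIrr X.2), h2]⟩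

/-- A rank four group with constituents of degree `p` (real) and a pair of non-real ones. -/
theorem no_rank_four [IsPretransitive G α] {p : ℕ} (hp : p % 4 = 3) (hcard : Fintype.card α = 2 * p)
    (a₀ : α) (hr : Nat.card (orbitRel.Quotient (stabilizer G a₀) α) = 4)
    (hfix : ∀ c : α, c ≠ a₀ → ∃ g : G, g • a₀ = a₀ ∧ g • c ≠ c)
    {χ : G → ℂ} (hχ : IsIrrCharacter G χ) (hχ1 : χ ≠ fun _ => 1)
    (hm : classInner (permChar G α) χ = 1) (hd : deg χ = p) (hreal : ∀ g, conj (χ g) = χ g)
    {θ : G → ℂ} (hθ : IsIrrCharacter G θ) (hθm : classInner (permChar G α) θ ≠ 0)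
    (hθr : ∃ g, conj (θ g) ≠ θ g) : False := by
  classical
  obtain ⟨E, hEinv, hEE, htr, hErow, hEsymm⟩ := exists_idempotent_symm hχ hχ1 hm hreal
  rw [deg_eq (isCharacter_of_isIrr hχ), hd] at htr
  obtain ⟨F, hFinv, hFF, hFtr, hFrow, hFsymm⟩ :=
    exists_complement_idempotent (show 0 < p by omega) hcard hEinv hEE htr hErow hEsymm
  -- a suborbit which is not self-paired
  have hns : ¬ ∀ u v : α, ∃ g : G, g • u = v ∧ g • v = u := fun hall => by
    obtain ⟨g, hg⟩ := hθr
    exact hg ((mf_and_real_of_symmetric (self_paired_iff_symmetric.mp hall)).2 θ hθ hθm g)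
  push Not at hns
  obtain ⟨u, v, huv⟩ := hns
  obtain ⟨t, ht⟩ := exists_smul_eq G u a₀
  set b := t • v with hb
  have hnb : ∀ g : G, g • a₀ = b → g • b ≠ a₀ := fun g h1 h2 => huv (t⁻¹ * g * t)
    (by rw [mul_smul, mul_smul, ht, h1, hb, inv_smul_smul])
    (by rw [mul_smul, mul_smul, ← hb, h2, inv_smul_eq_iff, ht])
  obtain ⟨g₀, hg₀⟩ := exists_smul_eq G b a₀
  set b' := g₀ • a₀ with hb'
  let cls : α → orbitRel.Quotient (stabilizer G a₀) α := fun y => Quotient.mk'' y
  have hcls : ∀ y y', cls y = cls y' ↔ ∃ g : G, g • a₀ = a₀ ∧ g • y' = y := fun y y' =>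
    ⟨fun e => by
      obtain ⟨⟨g, hg⟩, hgy⟩ : y ∈ orbit (stabilizer G a₀) y' := Quotient.exact' e
      exact ⟨g, hg, hgy⟩,
     fun ⟨g, hg, hgy⟩ => Quotient.sound' ⟨⟨g, hg⟩, hgy⟩⟩
  have hclsa : ∀ y, cls y = cls a₀ → y = a₀ := fun y e => by
    obtain ⟨g, hg, rfl⟩ := (hcls y a₀).mp e
    exact hg
  have hba : b ≠ a₀ := fun e => hnb 1 (by rw [one_smul, e]) (by rw [one_smul, e])
  have hb'a : b' ≠ a₀ := fun e => hba (MulAction.injective g₀ (hg₀.trans e.symm))
  have hbb' : cls b ≠ cls b' := fun e => by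
    obtain ⟨g, hg, hgy⟩ := (hcls b b').mp e
    exact hnb (g * g₀) (by rw [mul_smul]; exact hgy) (by rw [mul_smul, hg₀, hg])
  have : Finite (orbitRel.Quotient (stabilizer G a₀) α) := inferInstance
  have := Fintype.ofFinite (orbitRel.Quotient (stabilizer G a₀) α)
  have h3 : ({cls a₀, cls b, cls b'} : Finset _).card = 3 := Finset.card_eq_three.mpr
    ⟨_, _, _, fun e => hba (hclsa b e.symm), fun e => hb'a (hclsa b' e.symm), hbb', rfl⟩
  have h1 : ((Finset.univ : Finset (orbitRel.Quotient (stabilizer G a₀) α)) \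
      {cls a₀, cls b, cls b'}).card = 1 := by
    rw [Finset.card_sdiff, Finset.inter_univ, Finset.card_univ, ← Nat.card_eq_fintype_card, hr, h3]
  obtain ⟨q, hq⟩ := Finset.card_eq_one.mp h1
  obtain ⟨c, rfl⟩ : ∃ c, cls c = q := Quotient.mk''_surjective q
  have hcnot : cls c ∉ ({cls a₀, cls b, cls b'} : Finset _) :=
    (Finset.mem_sdiff.mp (hq ▸ Finset.mem_singleton_self _ : cls c ∈ _ \ _)).2
  simp only [Finset.mem_insert, Finset.mem_singleton, not_or] at hcnot
  have hcov : ∀ y, y = a₀ ∨ cls y = cls b ∨ cls y = cls b' ∨ cls y = cls c := fun y => by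
    by_cases h : cls y ∈ ({cls a₀, cls b, cls b'} : Finset _)
    · simp only [Finset.mem_insert, Finset.mem_singleton] at h
      rcases h with h | h | h
      · exact Or.inl (hclsa y h)
      · exact Or.inr (Or.inl h)
      · exact Or.inr (Or.inr (Or.inl h))
    · have : cls y ∈ ({cls c} : Finset _) := hq ▸ Finset.mem_sdiff.mpr ⟨Finset.mem_univ _, h⟩
      exact Or.inr (Or.inr (Or.inr (Finset.mem_singleton.mp this)))
  have hca : c ≠ a₀ := fun e => hcnot.1 (by rw [e])
  -- the third suborbit is self-paired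
  have hswap : ∃ g : G, g • a₀ = c ∧ g • c = a₀ := by
    obtain ⟨g, hg⟩ := exists_smul_eq G c a₀
    rcases hcov (g • a₀) with e | e | e | e
    · exact absurd (MulAction.injective g (hg.trans e.symm)) hca
    · exfalso
      obtain ⟨k, hk, hkb⟩ := (hcls b (g • a₀)).mp e.symm
      refine hcnot.2.2 ((hcls c b').mpr ⟨(g₀ * k * g)⁻¹, ?_, ?_⟩)
      · rw [inv_smul_eq_iff, mul_smul, mul_smul, hkb, hg₀]
      · rw [inv_smul_eq_iff, mul_smul, mul_smul, hg, hk]
    · exfalso
      obtain ⟨k, hk, hkb⟩ := (hcls b' (g • a₀)).mp e.symm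
      refine hcnot.2.1 ((hcls c b).mpr ⟨(g₀⁻¹ * k * g)⁻¹, ?_, ?_⟩)
      · rw [inv_smul_eq_iff, mul_smul, mul_smul, hkb, hb', inv_smul_smul]
      · rw [inv_smul_eq_iff, mul_smul, mul_smul, hg, hk, eq_inv_smul_iff, hg₀]
    · obtain ⟨k, hk, hkc⟩ := (hcls c (g • a₀)).mp e.symm
      exact ⟨k * g, by rw [mul_smul, hkc], by rw [mul_smul, hg, hk]⟩
  have hout : b ∉ orbit (stabilizer G a₀) c := fun h => hcnot.2.1 (Quotient.sound' (by exact h) : cls b = cls c).symm
  have hout' : b' ∉ orbit (stabilizer G a₀) c := fun h => hcnot.2.2 (Quotient.sound' (by exact h) : cls b' = cls c).symm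
  have hconst : ∀ H : α → α → ℂ, (∀ (g : G) x y, H (g • x) (g • y) = H x y) → (∀ x y, H x y = H y x) →
      ∀ y, y ≠ a₀ → y ∉ orbit (stabilizer G a₀) c → H a₀ y = H a₀ b := by
    intro H hH hHs y hy hyc
    rcases hcov y with e | e | e | e
    · exact absurd e hy
    · obtain ⟨g, hg, rfl⟩ := (hcls y b).mp e
      nth_rewrite 1 [← hg]
      rw [hH]
    · obtain ⟨g, hg, rfl⟩ := (hcls y b').mp e
      nth_rewrite 1 [← hg]
      rw [hH, hHs]
      exact (congrArg (H b') hg₀.symm).trans (hH g₀ a₀ b)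
    · exact absurd (Quotient.exact' e) hyc
  obtain ⟨e, μ, r1, r2⟩ := two_class_relations hca hba hout hconst hswap hFinv hFF hFrow hFsymm
    (show 2 ≤ p by omega) hcard hFtr
  refine two_class_arith hp ?_ ?_ r1 r2
  · by_contra hlt
    obtain ⟨g, hg, hgc⟩ := hfix c hca
    have hmem : g • c ∈ orbit (stabilizer G a₀) c := ⟨⟨g, hg⟩, rfl⟩
    have : Subsingleton (orbit (stabilizer G a₀) c) := Finite.card_le_one_iff_subsingleton.mp (by omega)
    exact hgc (congrArg Subtype.val (this.elim ⟨_, hmem⟩ ⟨_, mem_orbit_self c⟩))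
  · have hsub : (orbit (stabilizer G a₀) c).toFinset ⊆ Finset.univ \ {a₀, b, b'} := by
      intro y hy
      rw [Set.mem_toFinset] at hy
      refine Finset.mem_sdiff.mpr ⟨Finset.mem_univ _, ?_⟩
      simp only [Finset.mem_insert, Finset.mem_singleton, not_or]
      refine ⟨fun e => ?_, fun e => hout (e ▸ hy), fun e => hout' (e ▸ hy)⟩
      obtain ⟨⟨g, hg⟩, hgy⟩ := hy
      exact hca (MulAction.injective g ((hgy.trans e).trans hg.symm))
    have := Finset.card_le_card hsub
    have hbne : b ≠ b' := fun e => hbb' (by rw [e])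
    rw [Finset.card_sdiff, Finset.inter_univ, Finset.card_univ, hcard,
      Finset.card_eq_three.mpr ⟨a₀, b, b', hba.symm, hb'a.symm, hbne, rfl⟩, Set.toFinset_card,
      ← Nat.card_eq_fintype_card] at this
    have hp3 : 3 ≤ p := by omega
    omega

end rank

end Cfsg.Agent.PermGp.TwiceP
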