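import Cfsg.Agent.Lib.PermGp.Subdegree
import Cfsg.Agent.Lib.CT.Integral
import Mathlib.GroupTheory.GroupAction.Primitive

/-! Rank three groups of Wielandt type. -/

set_option autoImplicit false
set_option linter.unusedSectionVars false

namespace Cfsg.Agent.PermGp

open Matrix MulAction Cfsg.Agent.CT
open scoped ComplexConjugate

universe u v

variable {G : Type u} [Group G] [Fintype G] {Ω : Type v} [Fintype Ω] [MulAction G Ω]

theorem irr_convolution {χ : G → ℂ} (hχ : IsIrrCharacter G χ) (h : G) :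
    χ 1 * ∑ g, χ g⁻¹ * χ (g * h) = (Nat.card G : ℂ) * χ h := by
  obtain ⟨n, ρ, hρ, rfl⟩ := hχ
  have := hρ
  have hcl : IsClassFunction G (fun g => ρ.character g⁻¹) :=
    CT.isClassFunction_of_isCharacter (CT.isCharacter_inv_arg ⟨n, ρ, rfl⟩)
  have hinv : ∑ g, ρ.character g⁻¹ * ρ.character g = (Nat.card G : ℂ) := by
    rw [← CT.sum_conj_char_mul (ρ := ρ)]
    exact Finset.sum_congr rfl fun g _ => by rw [CT.char_inv_eq_conj ⟨n, ρ, rfl⟩]
  have h1 := congrArg (fun T => LinearMap.trace ℂ _ (T ∘ₗ ρ h)) (CT.weighted_sum_scalar (ρ := ρ) hcl)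
  simp only [hinv] at h1
  have e1 : (∑ g, ρ.character g⁻¹ • ρ g) ∘ₗ ρ h = ∑ g, ρ.character g⁻¹ • ρ (g * h) := by
    rw [← Module.End.mul_eq_comp, Finset.sum_mul]
    exact Finset.sum_congr rfl fun g _ => by rw [smul_mul_assoc, ← map_mul]
  have e2 : ((Nat.card G : ℂ) / (Module.finrank ℂ (Fin n → ℂ) : ℂ)) • LinearMap.id ∘ₗ ρ h =
      ((Nat.card G : ℂ) / (Module.finrank ℂ (Fin n → ℂ) : ℂ)) • ρ h := rfl
  rw [e1, LinearMap.smul_comp] at h1
  rw [map_sum, LinearMap.id_comp, map_smul] at h1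
  simp only [map_smul, smul_eq_mul] at h1
  have hne : (Module.finrank ℂ (Fin n → ℂ) : ℂ) ≠ 0 := by
    rw [← CT.deg_eq_finrank ρ]
    exact Nat.cast_ne_zero.mpr (CT.deg_pos ⟨n, ρ, hρ, rfl⟩).ne'
  have hd : ρ.character 1 = (Module.finrank ℂ (Fin n → ℂ) : ℂ) := Representation.char_one ρ
  show ρ.character 1 * ∑ g, ρ.character g⁻¹ * (LinearMap.trace ℂ _ (ρ (g * h))) =
    (Nat.card G : ℂ) * (LinearMap.trace ℂ _ (ρ h))
  rw [h1, hd]
  field_simp

/-- The idempotent of a constituent of multiplicity one. -/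
theorem exists_idempotent [DecidableEq Ω] {χ : G → ℂ} (hχ : IsIrrCharacter G χ)
    (hχ1 : χ ≠ fun _ => 1) (hmult : classInner (permChar G Ω) χ = 1) :
    ∃ E : Matrix Ω Ω ℂ, (∀ (g : G) x y, E (g • x) (g • y) = E x y) ∧ E * E = E ∧
      Matrix.trace E = χ 1 ∧ ∀ x, ∑ y, E x y = 0 := by
  classical
  set c : ℂ := χ 1 / (Nat.card G : ℂ) with hc
  let E : Matrix Ω Ω ℂ := fun x y => c * ∑ g, if g • y = x then χ g⁻¹ else 0
  have hN : (Nat.card G : ℂ) ≠ 0 := CT.card_ne_zero
  have hcf := CT.isClassFunction_of_isIrr hχ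
  refine ⟨E, fun k x y => ?_, ?_, ?_, fun x => ?_⟩
  · show c * _ = c * _
    congr 1
    refine (Fintype.sum_equiv (MulAut.conj k).toEquiv _ _ fun g => ?_).symm
    show _ = if (k * g * k⁻¹) • (k • y) = k • x then χ (k * g * k⁻¹)⁻¹ else 0
    refine if_congr (by rw [mul_smul, mul_smul, inv_smul_smul, smul_left_cancel_iff]) ?_ rfl
    rw [show (k * g * k⁻¹)⁻¹ = k * g⁻¹ * k⁻¹ by group]
    exact (hcf g⁻¹ k).symm
  · ext x z
    rw [Matrix.mul_apply]
    show ∑ y, c * (∑ g, if g • y = x then χ g⁻¹ else 0) * (c * ∑ h, if h • z = y then χ h⁻¹ else 0) =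
      c * ∑ g, if g • z = x then χ g⁻¹ else 0
    have hy : ∀ (g h : G), ∑ y : Ω, ((if g • y = x then χ g⁻¹ else 0) * if h • z = y then χ h⁻¹ else 0) =
        if (g * h) • z = x then χ g⁻¹ * χ h⁻¹ else 0 := by
      intro g h
      simp only [mul_ite, mul_zero, Finset.sum_ite_eq, Finset.mem_univ, if_true, mul_smul, ite_mul,
        zero_mul]
    calc _ = c * c * ∑ g, ∑ h, ∑ y : Ω,
          ((if g • y = x then χ g⁻¹ else 0) * if h • z = y then χ h⁻¹ else 0) := by
          conv_rhs => rw [Finset.sum_congr rfl fun g _ => Finset.sum_comm, Finset.sum_comm, Finset.mul_sum]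
          refine Finset.sum_congr rfl fun y _ => ?_
          rw [← Finset.sum_mul_sum]
          ring
    _ = c * c * ∑ k : G, (if k • z = x then ∑ g, χ g⁻¹ * χ (k⁻¹ * g) else 0) := by
          congr 1
          simp only [hy]
          calc _ = ∑ g, ∑ k : G, (if k • z = x then χ g⁻¹ * χ (k⁻¹ * g) else 0) :=
                Finset.sum_congr rfl fun g _ => Fintype.sum_equiv (Equiv.mulLeft g) _ _ fun h => by
                  simp [mul_smul, mul_assoc]
          _ = _ := by
                rw [Finset.sum_comm]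
                exact Finset.sum_congr rfl fun k _ => by split_ifs <;> simp
    _ = _ := by
          rw [Finset.mul_sum, Finset.mul_sum]
          refine Finset.sum_congr rfl fun k _ => ?_
          split_ifs with hk
          · have h1 := irr_convolution hχ k⁻¹
            have h2 : ∀ g, χ (k⁻¹ * g) = χ (g * k⁻¹) := fun g => CT.isClassFunction_mul_comm hcf _ _
            simp only [h2]
            rw [hc]
            field_simp
            linear_combination χ 1 * h1
          · simp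
  · show ∑ x, c * (∑ g, if g • x = x then χ g⁻¹ else 0) = χ 1
    rw [← Finset.mul_sum, Finset.sum_comm]
    have h1 : ∀ g : G, (∑ x : Ω, if g • x = x then χ g⁻¹ else 0) = permChar G Ω g * conj (χ g) := fun g => by
      rw [← Finset.sum_filter, Finset.sum_const, nsmul_eq_mul,
        CT.char_inv_eq_conj (CT.isCharacter_of_isIrr hχ)]
      congr 1
      simp [permChar, Nat.card_eq_fintype_card, ← Fintype.card_subtype]
    simp only [h1]
    have h2 : ∑ g : G, permChar G Ω g * conj (χ g) = (Nat.card G : ℂ) := by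
      have := hmult
      rw [classInner, inv_mul_eq_iff_eq_mul₀ hN, mul_one] at this
      exact this
    rw [h2, hc, div_mul_cancel₀ _ hN]
  · show ∑ y, c * (∑ g, if g • y = x then χ g⁻¹ else 0) = 0
    rw [← Finset.mul_sum, Finset.sum_comm]
    have h1 : ∀ g : G, (∑ y : Ω, if g • y = x then χ g⁻¹ else 0) = χ g⁻¹ := fun g => by
      rw [Finset.sum_eq_single (g⁻¹ • x)]
      · simp
      · exact fun y _ hy => if_neg fun h => hy (smul_eq_iff_eq_inv_smul g |>.mp h)
      · simp
    simp only [h1]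
    have h2 := CT.irr_inner_of_ne (CT.isIrrCharacter_one (G := G)) hχ (Ne.symm hχ1)
    rw [classInner, mul_eq_zero] at h2
    simp only [one_mul, ← CT.char_inv_eq_conj (CT.isCharacter_of_isIrr hχ)] at h2
    rw [h2.resolve_left (inv_ne_zero hN), mul_zero]

/-- The parameters of the graph of a self-paired suborbit. -/
theorem rank_three_relations [DecidableEq Ω] [IsPretransitive G Ω] {a b c : Ω} (hba : b ≠ a) (hca : c ≠ a)
    (hbc : c ∉ orbit (stabilizer G a) b)
    (hcov : ∀ y, y = a ∨ y ∈ orbit (stabilizer G a) b ∨ y ∈ orbit (stabilizer G a) c)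
    (hswap : ∃ g : G, g • a = b ∧ g • b = a) {E : Matrix Ω Ω ℂ}
    (hEinv : ∀ (g : G) x y, E (g • x) (g • y) = E x y) (hEE : E * E = E)
    (hErow : ∀ x, ∑ y, E x y = 0) {m : ℕ} (hm2 : 2 ≤ m) (hn : Fintype.card Ω = 2 * m)
    (htr : Matrix.trace E = (m : ℂ) - 1) :
    ∃ e : ℤ, ∃ μ : ℕ, ((m : ℤ) - 1) * e ^ 2 + 2 * Nat.card (orbit (stabilizer G a) b) * e + 2 * μ = 0 ∧
      (Nat.card (orbit (stabilizer G a) b) : ℤ) ^ 2 - Nat.card (orbit (stabilizer G a) b) -
        Nat.card (orbit (stabilizer G a) b) * e = μ * (2 * m - 1) := by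
  classical
  obtain ⟨s, hsa, hsb⟩ := hswap
  let R : Ω → Ω → Prop := fun x y => ∃ g : G, g • a = x ∧ g • b = y
  have hRinv : ∀ (g : G) x y, R (g • x) (g • y) ↔ R x y := fun g x y => by
    constructor
    · rintro ⟨k, h1, h2⟩
      exact ⟨g⁻¹ * k, by rw [mul_smul, h1, inv_smul_smul], by rw [mul_smul, h2, inv_smul_smul]⟩
    · rintro ⟨k, h1, h2⟩
      exact ⟨g * k, by rw [mul_smul, h1], by rw [mul_smul, h2]⟩
  have hRsymm : ∀ x y, R x y → R y x := by
    rintro x y ⟨g, rfl, rfl⟩
    exact ⟨g * s, by rw [mul_smul, hsa], by rw [mul_smul, hsb]⟩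
  have hRa : ∀ y, R a y ↔ y ∈ orbit (stabilizer G a) b := fun y =>
    ⟨fun ⟨g, h1, h2⟩ => ⟨⟨g, h1⟩, h2⟩, fun ⟨⟨g, h1⟩, h2⟩ => ⟨g, h1, h2⟩⟩
  have haB : a ∉ orbit (stabilizer G a) b := by
    rintro ⟨⟨g, hg⟩, h⟩
    exact hba (MulAction.injective g (h.trans hg.symm))
  set k := Nat.card (orbit (stabilizer G a) b) with hk
  let A : Matrix Ω Ω ℂ := fun x y => if R x y then 1 else 0
  have hAinv : ∀ (g : G) x y, A (g • x) (g • y) = A x y := fun g x y => if_congr (hRinv g x y) rfl rfl
  have hAsymm : ∀ x y, A x y = A y x := fun x y => if_congr ⟨hRsymm x y, hRsymm y x⟩ rfl rfl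
  have hArow : ∀ x, ∑ y, A x y = (k : ℂ) := fun x => by
    obtain ⟨g, rfl⟩ := exists_smul_eq G a x
    rw [← Fintype.sum_equiv (MulAction.toPerm g) (fun y => A a y) _ fun y => (hAinv g a y).symm,
      Finset.sum_boole, hk, Nat.card_eq_fintype_card, ← Fintype.card_subtype]
    congr 1
    exact Fintype.card_congr (Equiv.subtypeEquivRight hRa)
  -- the path counts
  let P : Ω → ℕ := fun y => (Finset.univ.filter fun z => R a z ∧ R z y).card
  have hP : ∀ y, ∑ z, A a z * A z y = (P y : ℂ) := fun y => by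
    simp only [A, ite_mul, one_mul, zero_mul, ← ite_and, P]
    exact Finset.sum_boole _ _
  have hstab : ∀ (g : G), g • a = a → ∀ y, ∑ z, A a z * A z (g • y) = ∑ z, A a z * A z y := fun g hg y => by
    refine (Fintype.sum_equiv (MulAction.toPerm g) _ _ fun z => ?_).symm
    show _ = A a (g • z) * A (g • z) (g • y)
    rw [hAinv]
    congr 1
    conv_rhs => rw [← hg]
    rw [hAinv]
  have hPk : P a = k := by
    rw [hk, Nat.card_eq_fintype_card, ← Set.toFinset_card]
    refine congrArg Finset.card ?_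
    ext z
    simp only [Finset.mem_filter, Finset.mem_univ, true_and, Set.mem_toFinset]
    exact ⟨fun h => (hRa z).mp h.1, fun h => ⟨(hRa z).mpr h, hRsymm _ _ ((hRa z).mpr h)⟩⟩
  have hAb : A a b = 1 := if_pos ((hRa b).mpr (mem_orbit_self b))
  have hAc : A a c = 0 := if_neg fun h => hbc ((hRa c).mp h)
  have hAa : A a a = 0 := if_neg fun h => haB ((hRa a).mp h)
  -- functions on the suborbits
  have hthree : ∀ F : Ω → ℂ, (∀ g : G, g • a = a → ∀ y, F (g • y) = F y) → ∀ y,
      F y = F c + (F b - F c) * A a y + (if y = a then F a - F c else 0) := by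
    intro F hF y
    rcases hcov y with rfl | h | h
    · rw [hAa, if_pos rfl]; ring
    · obtain ⟨⟨g, hg⟩, rfl⟩ := h
      show F (g • b) = F c + (F b - F c) * A a (g • b) + if g • b = a then F a - F c else 0
      have hAy : A a (g • b) = 1 := if_pos ⟨g, hg, rfl⟩
      rw [hF g hg, hAy, if_neg fun h => hba (MulAction.injective g (h.trans (Eq.symm hg)))]
      ring
    · obtain ⟨⟨g, hg⟩, rfl⟩ := h
      show F (g • c) = F c + (F b - F c) * A a (g • c) + if g • c = a then F a - F c else 0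
      have hAy : A a (g • c) = 0 := by
        refine if_neg fun h => hbc ?_
        obtain ⟨⟨k, hk⟩, h2⟩ := (hRa _).mp h
        refine ⟨⟨g⁻¹ * k, (stabilizer G a).mul_mem ((stabilizer G a).inv_mem hg) hk⟩, ?_⟩
        show (g⁻¹ * k) • b = c
        rw [mul_smul, show k • b = g • c from h2, inv_smul_smul]
      rw [hF g hg, hAy, if_neg fun h => hca (MulAction.injective g (h.trans (Eq.symm hg)))]
      ring
  -- the entries
  set z := E a c with hz
  set y := E a b - z with hy
  set x := E a a - z with hx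
  have hEa : ∀ t, E a t = z + y * A a t + if t = a then x else 0 := by
    refine hthree (fun t => E a t) fun g hg t => ?_
    show E a (g • t) = E a t
    conv_lhs => rw [← hg]
    rw [hEinv]
  have hE : ∀ u t, E u t = z + y * A u t + if t = u then x else 0 := fun u t => by
    obtain ⟨g, rfl⟩ := exists_smul_eq G a u
    obtain ⟨t, rfl⟩ := MulAction.surjective g t
    rw [hEinv, hAinv, hEa]
    exact congrArg₂ _ rfl (if_congr (smul_left_cancel_iff g).symm rfl rfl)
  have hn' : (Fintype.card Ω : ℂ) = 2 * (m : ℂ) := by rw [hn]; push_cast; ring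
  have hrow0 : x + y * k + 2 * m * z = 0 := by
    have h := hErow a
    simp only [hEa, Finset.sum_add_distrib, Finset.sum_const, Finset.card_univ, nsmul_eq_mul,
      ← Finset.mul_sum, hArow, Finset.sum_ite_eq', Finset.mem_univ, if_true, hn'] at h
    linear_combination h
  have htr' : 2 * m * (x + z) = (m : ℂ) - 1 := by
    rw [← htr]
    show _ = ∑ u, E u u
    have : ∀ u, A u u = 0 := fun u => by
      obtain ⟨g, rfl⟩ := exists_smul_eq G a u
      rw [hAinv, hAa]
    simp only [hE, this, mul_zero, add_zero, if_true, Finset.sum_const, Finset.card_univ, nsmul_eq_mul, hn']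
    ring
  have hsq : ∀ t, E a t = 2 * m * z * z + 2 * x * z + 2 * y * z * k + 2 * x * y * A a t + y * y * P t +
      if t = a then x * x else 0 := by
    intro t
    have h := congrFun (congrFun hEE a) t
    rw [Matrix.mul_apply] at h
    rw [← h]
    simp only [hE, add_mul, mul_add, Finset.sum_add_distrib, ite_mul, mul_ite, zero_mul, mul_zero,
      Finset.sum_ite_eq, Finset.sum_ite_eq', Finset.mem_univ, if_true, Finset.sum_const, Finset.card_univ,
      nsmul_eq_mul, hn']
    have e1 : ∑ u, z * (y * A u t) = z * y * k := by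
      rw [Finset.sum_congr rfl (g := fun u => z * y * A t u) fun u _ => by rw [hAsymm u t]; ring,
        ← Finset.mul_sum, hArow]
    have e2 : ∑ u, y * A a u * z = y * z * k := by
      rw [Finset.sum_congr rfl (g := fun u => y * z * A a u) fun u _ => by ring, ← Finset.mul_sum, hArow]
    have e3 : ∑ u, y * A a u * (y * A u t) = y * y * P t := by
      rw [Finset.sum_congr rfl (g := fun u => y * y * (A a u * A u t)) fun u _ => by ring, ← Finset.mul_sum, hP]
    rw [e1, e2, e3]
    split_ifs <;> ring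
  have eb := (hE a b).symm.trans (hsq b)
  have ec := (hE a c).symm.trans (hsq c)
  have ea := (hE a a).symm.trans (hsq a)
  rw [hAa, if_pos rfl, if_pos rfl, hPk] at ea
  rw [hAb, if_neg hba, if_neg hba] at eb
  rw [hAc, if_neg hca, if_neg hca] at ec
  -- the path counts add up
  have hcount : (k : ℂ) * k = k + P b * k + P c * (2 * (m : ℂ) - 1 - k) := by
    have h1 : ∑ t, ∑ u, A a u * A u t = (k : ℂ) * k := by
      rw [Finset.sum_comm]
      simp only [← Finset.mul_sum, hArow, ← Finset.sum_mul]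
    have h2 := hthree (fun t => ∑ u, A a u * A u t) hstab
    simp only [hP] at h1 h2
    rw [← h1, Finset.sum_congr rfl fun t _ => h2 t]
    simp only [Finset.sum_add_distrib, Finset.sum_const, Finset.card_univ, nsmul_eq_mul, ← Finset.mul_sum,
      hArow, Finset.sum_ite_eq', Finset.mem_univ, if_true, hn', hPk]
    ring
  set e : ℤ := (P b : ℤ) - P c with he
  refine ⟨e, P c, ?_, ?_⟩
  · have hy0 : y ≠ 0 := by
      intro hy0
      rw [hy0] at ea ec hrow0
      have hxx : x * (x - 1) = 0 := by linear_combination ec - ea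
      have hx : 2 * (m : ℂ) * x - x = (m : ℂ) - 1 := by linear_combination htr' - hrow0
      rcases mul_eq_zero.mp hxx with h | h
      · rw [h] at hx
        have h1 : (m : ℂ) = 1 := by linear_combination -hx
        have : m = 1 := by exact_mod_cast h1
        omega
      · rw [sub_eq_zero.mp h] at hx
        have h1 : (m : ℂ) = 0 := by linear_combination hx
        have : m = 0 := by exact_mod_cast h1
        omega
    have h1 : 2 * x + y * (e : ℂ) = 1 := by
      refine mul_left_cancel₀ hy0 ?_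
      rw [he]; push_cast
      linear_combination ec - eb
    have h2 : x * x + y * y * ((k : ℂ) - P c) = x := by linear_combination ec - ea
    have h3 : y * ((2 * (m : ℂ) - 1) * e + 2 * k) = 1 := by
      linear_combination -2 * htr' + 2 * hrow0 + (2 * (m : ℂ) - 1) * h1
    have h4 : ((2 * (m : ℂ) - 1) * e + 2 * k) ^ 2 = (e : ℂ) ^ 2 + 4 * ((k : ℂ) - P c) := by
      apply mul_left_cancel₀ (mul_ne_zero hy0 hy0)
      linear_combination (y * ((2 * (m : ℂ) - 1) * e + 2 * k) + 1) * h3 - 4 * h2 + (2 * x - 1 - y * e) * h1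
    have h4' : ((2 * (m : ℤ) - 1) * e + 2 * k) ^ 2 = e ^ 2 + 4 * ((k : ℤ) - P c) := by exact_mod_cast h4
    have h5 : (k : ℤ) * k = k + P b * k + P c * (2 * (m : ℤ) - 1 - k) := by exact_mod_cast hcount
    have h6 : 4 * (m : ℤ) * (((m : ℤ) - 1) * e ^ 2 + 2 * k * e + 2 * P c) = 0 := by
      rw [he] at h4' ⊢
      linear_combination h4' - 4 * h5
    exact (mul_eq_zero.mp h6).resolve_left (by omega)
  · have h5 : (k : ℤ) * k = k + P b * k + P c * (2 * (m : ℤ) - 1 - k) := by exact_mod_cast hcount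
    rw [he]
    linear_combination h5

theorem wielandt_arith {m k : ℕ} (hm : 2 ≤ m) (hk : 2 ≤ k) (hkm : k + 1 ≤ m) {e : ℤ} {μ : ℕ}
    (h1 : ((m : ℤ) - 1) * e ^ 2 + 2 * k * e + 2 * μ = 0)
    (h2 : (k : ℤ) ^ 2 - k - k * e = μ * (2 * m - 1)) :
    ∃ a : ℕ, 0 < a ∧ m = 2 * a ^ 2 + 2 * a + 1 ∧ k = a * (2 * a + 1) := by
  obtain ⟨u, rfl⟩ : ∃ u, m = k + u := ⟨m - k, by omega⟩
  push_cast at h1 h2
  have he : e = -1 := by
    rcases lt_trichotomy e (-1) with h | h | h
    · exfalso
      have hμ : (1 : ℤ) ≤ μ := by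
        rcases Nat.eq_zero_or_pos μ with rfl | hpos
        · push_cast at h2
          have : (k : ℤ) * ((k : ℤ) - 1 - e) = 0 := by linear_combination h2
          rcases mul_eq_zero.mp this with h' | h' <;> omega
        · omega
      have hf : (0 : ℤ) ≤ -e - 2 := by omega
      have hk1 : (k : ℤ) ≤ (k : ℤ) + u - 1 := by omega
      nlinarith [mul_le_mul_of_nonneg_right hk1 (show (0 : ℤ) ≤ -e by omega),
        mul_nonneg (mul_nonneg (show (0 : ℤ) ≤ (k : ℤ) + u - 1 by omega) hf) (show (0 : ℤ) ≤ -e by omega)]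
    · exact h
    · exfalso
      have he0 : 0 ≤ e := by omega
      have hμ : (μ : ℤ) = 0 := by nlinarith [mul_nonneg (show (0:ℤ) ≤ (k:ℤ) + u - 1 by omega) (sq_nonneg e), mul_nonneg (show (0:ℤ) ≤ 2 * (k:ℤ) by omega) he0]
      have he' : e = 0 := by nlinarith [mul_nonneg (show (0:ℤ) ≤ (k:ℤ) + u - 1 by omega) (sq_nonneg e)]
      rw [hμ, he'] at h2
      nlinarith
  subst he
  have hμ : 2 * (μ : ℤ) = 2 * k - ((k : ℤ) + u - 1) := by linear_combination h1
  have hu : (k : ℤ) + u = 2 * u ^ 2 - 2 * u + 1 := by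
    linear_combination -2 * h2 - (2 * ((k : ℤ) + u) - 1) * hμ
  refine ⟨u - 1, by
    rcases Nat.lt_or_ge u 2 with h | h
    · interval_cases u <;> push_cast at hu <;> omega
    · omega, ?_, ?_⟩
  · obtain ⟨a, rfl⟩ : ∃ a, u = a + 1 := ⟨u - 1, by omega⟩
    have : ((k + (a + 1) : ℕ) : ℤ) = ((2 * a ^ 2 + 2 * a + 1 : ℕ) : ℤ) := by
      push_cast at hu ⊢
      linear_combination hu
    simpa using (Int.natCast_inj.mp this)
  · obtain ⟨a, rfl⟩ : ∃ a, u = a + 1 := ⟨u - 1, by omega⟩
    have : ((k : ℕ) : ℤ) = ((a * (2 * a + 1) : ℕ) : ℤ) := by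
      push_cast at hu ⊢
      linear_combination hu
    simpa using (Int.natCast_inj.mp this)

end Cfsg.Agent.PermGp
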