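import Cfsg.Agent.Lib.PermGp.TwiceP
import Cfsg.Agent.S0719

/-!
# Wielandt's theorem on primitive groups of degree `2p`
-/

set_option autoImplicit false
set_option linter.unusedSectionVars false

namespace Cfsg.Agent.PermGp.TwiceP

open MulAction Equiv Cfsg.Agent.CT
open scoped ComplexConjugate

universe u

variable {α : Type u} [Fintype α] [DecidableEq α]

theorem two_trans_of_alternating {G : Subgroup (Perm α)} (h : alternatingGroup α ≤ G)
    (hn : 4 ≤ Fintype.card α) : IsMultiplyPretransitive G α 2 := by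
  have := alternatingGroup.isMultiplyPretransitive α
  have h2 : IsMultiplyPretransitive (alternatingGroup α) α 2 :=
    MulAction.isMultiplyPretransitive_of_le (n := Nat.card α - 2)
      (by rw [Nat.card_eq_fintype_card]; omega) (Nat.sub_le _ _)
  rw [is_two_pretransitive_iff] at h2 ⊢
  intro a b c d hab hcd
  obtain ⟨⟨g, hg⟩, h1, h1'⟩ := h2 hab hcd
  exact ⟨⟨g, h hg⟩, h1, h1'⟩

theorem no_fixed_or_cycle {p : ℕ} (hp : p.Prime) (hα : Fintype.card α = 2 * p) {g : Perm α}
    (hg : orderOf g = p) {a : α} (ha : g a = a) : g.IsCycle ∧ g.support.card = p := by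
  have hlt : g.support.card < 2 * p := by
    rw [← hα]
    exact Finset.card_lt_univ_of_notMem (Perm.notMem_support.mpr ha)
  have hc : g.IsCycle := Perm.isCycle_of_prime_order (hg ▸ hp) (hg.symm ▸ hlt)
  exact ⟨hc, by rw [← hg, hc.orderOf]⟩

theorem stabilizer_ne_bot {G : Subgroup (Perm α)} (hG : IsPreprimitive G α) (a : α) {q : ℕ}
    (hq : q.Prime) (hqd : q ∣ Fintype.card α) (hne : q ≠ Fintype.card α) (h2 : 2 ≤ Fintype.card α) :
    stabilizer G a ≠ ⊥ := by
  intro hb
  have := hG
  haveI : Nontrivial α := Fintype.one_lt_card_iff_nontrivial.mp h2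
  have hco : IsCoatom (stabilizer G a) := (isCoatom_stabilizer_iff_preprimitive (G := G) a).mpr hG
  have hcard : Nat.card G = Fintype.card α := by
    rw [← Nat.card_eq_fintype_card, ← index_stabilizer_of_transitive G a, hb, Subgroup.index_bot]
  haveI : Fact q.Prime := ⟨hq⟩
  obtain ⟨x, hx⟩ := exists_prime_orderOf_dvd_card' q (hcard ▸ hqd : q ∣ Nat.card G)
  rcases eq_or_ne (Subgroup.zpowers x) ⊤ with h | h
  · have := congrArg (fun H : Subgroup G => Nat.card H) h
    simp only [Nat.card_zpowers, hx, Nat.card_congr Subgroup.topEquiv.toEquiv, hcard] at this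
    exact hne this
  · have hle : stabilizer G a < Subgroup.zpowers x := by
      rw [hb, bot_lt_iff_ne_bot, Ne, Subgroup.zpowers_eq_bot]
      intro e
      rw [e, orderOf_one] at hx
      exact hq.one_lt.ne hx
    exact h (hco.2 _ hle)

/-- Wielandt's theorem. -/
theorem wielandt {p : ℕ} (hp : p.Prime) (hα : Fintype.card α = 2 * p) (G : Subgroup (Perm α))
    (hG : IsPreprimitive G α) (a₀ : α) :
    IsMultiplyPretransitive G α 2 ∨
    (Nat.card (orbitRel.Quotient (stabilizer G a₀) α) = 3 ∧ ∃ a : ℕ, 0 < a ∧ p = 2 * a ^ 2 + 2 * a + 1 ∧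
      ∀ b : α, b ≠ a₀ → Nat.card (orbit (stabilizer G a₀) b) = a * (2 * a + 1) ∨
        Nat.card (orbit (stabilizer G a₀) b) = (a + 1) * (2 * a + 1)) := by
  classical
  have := hG
  have hp2 := hp.two_le
  haveI : Nonempty α := ⟨a₀⟩
  haveI := Fintype.ofFinite G
  haveI : Fact p.Prime := ⟨hp⟩
  have hpn : p ≠ Fintype.card α := by omega
  have hsb := stabilizer_ne_bot hG a₀ hp (hα ▸ dvd_mul_left p 2) hpn (by omega)
  by_cases hp2' : p = 2
  · -- degree four
    left
    subst hp2'
    by_contra hno
    obtain ⟨⟨x, hx⟩, hx1⟩ : ∃ x : stabilizer G a₀, x ≠ 1 :=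
      (Subgroup.nontrivial_iff_exists_ne_one _).mp (Subgroup.nontrivial_iff_ne_bot _ |>.mpr hsb) |>.elim
        fun x hx => ⟨⟨x, hx.1⟩, fun e => hx.2 (congrArg Subtype.val e)⟩
    haveI : IsPretransitive (⊤ : Subgroup G) α := ⟨fun u v => by
      obtain ⟨g, hg⟩ := exists_smul_eq G u v
      exact ⟨⟨g, trivial⟩, hg⟩⟩
    have hmove : ∀ c, c ≠ a₀ → ∃ g : G, g • a₀ = a₀ ∧ g • c ≠ c := by
      intro c hc
      by_contra h
      push Not at h
      exact hx1 (Subtype.ext (stabilizer_inf_eq (⊤ : Subgroup G) hc (fun m _ hm => h m hm) x trivial hx))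
    refine hno (two_trans_of_rank a₀ ?_)
    let cls : α → orbitRel.Quotient (stabilizer G a₀) α := fun y => Quotient.mk'' y
    have := Fintype.ofFinite (orbitRel.Quotient (stabilizer G a₀) α)
    by_contra hr
    push Not at hr
    -- a class different from that of `a₀` has at least two elements
    have hcount : Fintype.card α = ∑ q : orbitRel.Quotient (stabilizer G a₀) α,
        (Finset.univ.filter fun y => cls y = q).card :=
      (Finset.card_eq_sum_card_fiberwise fun y _ => Finset.mem_univ _)
    have hle : ∀ q, q ≠ cls a₀ → 2 ≤ (Finset.univ.filter fun y => cls y = q).card := by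
      intro q hq
      obtain ⟨c, rfl⟩ : ∃ c, cls c = q := Quotient.mk''_surjective q
      obtain ⟨g, hga, hgc⟩ := hmove c fun e => hq (by rw [e])
      exact Finset.one_lt_card.mpr ⟨c, by simp, g • c,
        by simp only [Finset.mem_filter, Finset.mem_univ, true_and]; exact Quotient.sound' ⟨⟨g, hga⟩, rfl⟩,
        Ne.symm hgc⟩
    rw [← Finset.add_sum_erase _ _ (Finset.mem_univ (cls a₀))] at hcount
    have h1 : 1 ≤ (Finset.univ.filter fun y => cls y = cls a₀).card := Finset.card_pos.mpr ⟨a₀, by simp⟩
    have h2 : (Finset.univ.erase (cls a₀)).card * 2 ≤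
        ∑ q ∈ Finset.univ.erase (cls a₀), (Finset.univ.filter fun y => cls y = q).card := by
      rw [← smul_eq_mul]
      exact Finset.card_nsmul_le_sum _ _ _ fun q hq => hle q (Finset.ne_of_mem_erase hq)
    rw [Finset.card_erase_of_mem (Finset.mem_univ _), Finset.card_univ, ← Nat.card_eq_fintype_card] at h2
    omega
  have hp3 : 3 ≤ p := by omega
  by_cases hcyc : ∃ g ∈ G, g.IsCycle ∧ g.support.card = p
  · obtain ⟨g, hg, hgc, hgs⟩ := hcyc
    exact Or.inl (two_trans_of_alternating
      (alternating_le_of_prime_cycle hG hp (by omega) hgc hgs hg) (by omega))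
  have hfree : ∀ x : G, orderOf x = p → ∀ z : α, x • z ≠ z := fun x hx z e => by
    obtain ⟨hc, hs⟩ := no_fixed_or_cycle hp hα (g := (x : Perm α)) (by rw [Subgroup.orderOf_coe, hx]) e
    exact hcyc ⟨x, x.2, hc, hs⟩
  have hsq : ¬ p ^ 2 ∣ Nat.card G := by
    intro hd
    obtain ⟨K, hK⟩ := Sylow.exists_subgroup_card_pow_prime p hd
    haveI := Fintype.ofFinite K
    -- the stabilizer of a point in a group of order `p ^ 2` is not trivial
    have e : Nat.card (orbit K a₀) * Nat.card (stabilizer K a₀) = p ^ 2 := by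
      rw [← hK, Nat.card_congr (MulAction.orbitEquivQuotientStabilizer K a₀),
        ← Subgroup.index_eq_card, Subgroup.index_mul_card]
    have hle : Nat.card (orbit K a₀) ≤ 2 * p := by
      rw [← hα, ← Nat.card_eq_fintype_card]
      exact Nat.card_le_card_of_injective _ Subtype.val_injective
    have hpd : p ∣ Nat.card (stabilizer K a₀) := by
      obtain ⟨i, hi, hi'⟩ := (Nat.dvd_prime_pow hp).mp (Dvd.intro_left _ e)
      rcases Nat.eq_zero_or_pos i with h0 | hpos
      · rw [h0, pow_zero] at hi'
        rw [hi', mul_one] at e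
        nlinarith
      · rw [hi']; exact dvd_pow_self p hpos.ne'
    obtain ⟨y, hy⟩ := exists_prime_orderOf_dvd_card' p hpd
    exact hfree ((y : K) : G) (by rw [Subgroup.orderOf_coe, Subgroup.orderOf_coe, hy]) a₀ y.2
  obtain ⟨x, hx⟩ := exists_prime_orderOf_dvd_card' p (show p ∣ Nat.card G from
    (Dvd.intro_left 2 rfl).trans (hα ▸ (Nat.card_eq_fintype_card (α := α)) ▸
      (index_stabilizer_of_transitive G a₀) ▸ Subgroup.index_dvd_card _))
  -- the even part
  let M : Subgroup G := ((Perm.sign : Perm α →* ℤˣ).comp G.subtype).ker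
  haveI : M.Normal := MonoidHom.normal_ker _
  haveI := Fintype.ofFinite M
  have hodd : Odd p := hp.odd_of_ne_two hp2'
  have hxM : x ∈ M := by
    rw [MonoidHom.mem_ker]
    have h1 := congrArg ((Perm.sign : Perm α →* ℤˣ).comp G.subtype) (hx ▸ pow_orderOf_eq_one x : x ^ p = 1)
    rw [map_pow, map_one] at h1
    rcases Int.units_eq_one_or (((Perm.sign : Perm α →* ℤˣ).comp G.subtype) x) with e | e
    · exact e
    · rw [e, hodd.neg_one_pow] at h1; exact absurd h1 (by decide)
  have hMb : M ≠ ⊥ := fun e => by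
    rw [e, Subgroup.mem_bot] at hxM
    rw [hxM, orderOf_one] at hx
    omega
  haveI hMt : IsPretransitive M α := normal_transitive M hMb
  let P : Subgroup M := Subgroup.zpowers ⟨x, hxM⟩
  haveI := Fintype.ofFinite P
  have hPcard : Nat.card P = p := by rw [Nat.card_zpowers, ← Subgroup.orderOf_coe, hx]
  have hsqM : ¬ p ^ 2 ∣ Nat.card M := fun hd => hsq (hd.trans (Subgroup.card_subgroup_dvd_card M))
  -- the centralizer of `x` among the even permutations
  have hcent : ∀ y : M, (∀ z ∈ P, y * z = z * y) → y ∈ P := by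
    intro y hy
    have hyx : Commute (y : G) x := congrArg Subtype.val (hy _ (Subgroup.mem_zpowers _))
    have hpow : ∀ (i : ℤ) (u : α), x ^ i • u = u → x ^ i = 1 := fun i u hu => by
      by_contra hne
      refine hfree (x ^ i) (orderOf_eq_prime ?_ hne) u hu
      rw [← zpow_natCast, ← zpow_mul, mul_comm, zpow_mul, zpow_natCast, ← hx, pow_orderOf_eq_one, one_zpow]
    let O : α → Set α := fun u => orbit (Subgroup.zpowers x) u
    have hO : ∀ u v, v ∈ O u ↔ ∃ i : ℤ, x ^ i • u = v := fun u v => by
      constructor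
      · rintro ⟨⟨z, hz⟩, rfl⟩
        obtain ⟨i, rfl⟩ := Subgroup.mem_zpowers_iff.mp hz
        exact ⟨i, rfl⟩
      · rintro ⟨i, rfl⟩; exact ⟨⟨x ^ i, ⟨i, rfl⟩⟩, rfl⟩
    have hOc : ∀ u, Nat.card (O u) = p := fun u => by
      rw [← hx, ← Nat.card_zpowers, ← Nat.card_congr (Equiv.ofBijective
        (fun z : Subgroup.zpowers x => (⟨z • u, mem_orbit u z⟩ : O u)) ⟨fun z w e => ?_, fun w => ?_⟩)]
      · have e' : (z : G) • u = (w : G) • u := congrArg Subtype.val e
        obtain ⟨i, hi⟩ := Subgroup.mem_zpowers_iff.mp (mul_mem (inv_mem w.2) z.2)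
        refine Subtype.ext (inv_mul_eq_one.mp ?_).symm
        rw [← hi]
        exact hpow i u (by rw [hi, mul_smul, e', inv_smul_smul])
      · obtain ⟨z, hz⟩ := w.2; exact ⟨z, Subtype.ext hz⟩
    -- two orbits
    obtain ⟨b, hb⟩ : ∃ b, b ∉ O a₀ := by
      by_contra h
      push Not at h
      have : Nat.card (O a₀) = 2 * p := by
        rw [← hα, ← Nat.card_eq_fintype_card]
        exact Nat.card_congr (Equiv.subtypeUnivEquiv h)
      have := hOc a₀; omega
    have hcov : ∀ v, v ∈ O a₀ ∨ v ∈ O b := by
      intro v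
      by_contra h
      push Not at h
      have hdisj : Disjoint (O a₀).toFinset (O b).toFinset := Finset.disjoint_left.mpr fun u h1 h2 => hb (by
        rw [Set.mem_toFinset] at h1 h2
        show b ∈ orbit _ a₀
        rw [← orbit_eq_iff.mpr h1, orbit_eq_iff.mpr h2]
        exact mem_orbit_self b)
      have hv : v ∉ (O a₀).toFinset ∪ (O b).toFinset := by simpa using h
      have := Finset.card_lt_univ_of_notMem hv
      rw [Finset.card_union_of_disjoint hdisj, Set.toFinset_card, Set.toFinset_card,
        ← Nat.card_eq_fintype_card, ← Nat.card_eq_fintype_card, hOc, hOc, hα] at this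
      omega
    -- an element fixing the point `a₀`
    have fixA : ∀ z : G, Commute z x → z • a₀ = a₀ → z = 1 := by
      intro z hzx hza
      have hzO : ∀ (i : ℤ) (u : α), z • (x ^ i • u) = x ^ i • (z • u) := fun i u => by
        rw [← mul_smul, ← mul_smul, (hzx.zpow_right i).eq]
      have hfixO : ∀ v ∈ O a₀, z • v = v := fun v hv => by
        obtain ⟨i, rfl⟩ := (hO _ _).mp hv
        rw [hzO, hza]
      obtain ⟨j, hj⟩ : ∃ j : ℤ, x ^ j • b = z • b := by
        rcases hcov (z • b) with h | h
        · exact absurd (MulAction.injective z (hfixO _ h) ▸ h) hb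
        · exact (hO _ _).mp h
      have hzp : z ^ p = 1 := by
        refine FaithfulSMul.eq_of_smul_eq_smul (α := α) fun v => ?_
        rw [one_smul]
        have hn : ∀ n : ℕ, (v ∈ O a₀ → z ^ n • v = v) ∧ (v ∈ O b → z ^ n • v = (x ^ j) ^ n • v) := by
          intro n
          induction n with
          | zero => simp
          | succ n ih =>
            refine ⟨fun h => by rw [pow_succ', mul_smul, ih.1 h, hfixO v h], fun h => ?_⟩
            rw [pow_succ', mul_smul, ih.2 h]
            obtain ⟨i, rfl⟩ := (hO _ _).mp h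
            rw [← mul_smul ((x ^ j) ^ n), ← zpow_natCast (x ^ j), ← zpow_mul, ← zpow_add, hzO, ← hj,
              pow_succ', mul_smul, ← mul_smul, ← zpow_add, ← mul_smul, ← mul_smul, ← zpow_natCast (x ^ j),
              ← zpow_mul, ← zpow_add, ← zpow_add]
            congr 2; ring
        rcases hcov v with h | h
        · exact (hn p).1 h
        · rw [(hn p).2 h, ← zpow_natCast (x ^ j), ← zpow_mul, mul_comm, zpow_mul, zpow_natCast, ← hx,
            pow_orderOf_eq_one, one_zpow, one_smul]
      by_contra hz1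
      have hzo := orderOf_eq_prime hzp hz1
      exact hfree z hzo a₀ hza
    have hP : ∀ z : G, z ∈ Subgroup.zpowers x → ∀ hz : z ∈ M, (⟨z, hz⟩ : M) ∈ P := fun z hz hzM => by
      obtain ⟨i, rfl⟩ := Subgroup.mem_zpowers_iff.mp hz
      exact ⟨i, Subtype.ext (by simp)⟩
    rcases hcov ((y : G) • a₀) with h | h
    · obtain ⟨i, hi⟩ := (hO _ _).mp h
      have := fixA ((x ^ i)⁻¹ * (y : G)) ((((Commute.refl x).zpow_left i).inv_left).mul_left hyx)
        (by rw [mul_smul, inv_smul_eq_iff, hi])
      exact hP _ (by rw [← inv_mul_eq_one.mp this]; exact ⟨i, rfl⟩) y.2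
    · exfalso
      -- `y` exchanges the two orbits
      obtain ⟨i, hi⟩ := (hO _ _).mp h
      have hyO : ∀ (k : ℤ) (u : α), (y : G) • (x ^ k • u) = x ^ k • ((y : G) • u) := fun k u => by
        rw [← mul_smul, ← mul_smul, (hyx.zpow_right k).eq]
      have hyb : (y : G) • b ∈ O a₀ := by
        rcases hcov ((y : G) • b) with h' | h'
        · exact h'
        · exfalso
          obtain ⟨k, hk⟩ := (hO _ _).mp h'
          refine hb ((hO _ _).mpr ⟨k - i, MulAction.injective (y : G) ?_⟩)
          show (y : G) • (x ^ (k - i) • a₀) = (y : G) • b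
          rw [hyO, ← hi, ← mul_smul, ← zpow_add, sub_add_cancel, hk]
      obtain ⟨k, hk⟩ := (hO _ _).mp hyb
      have hy2 : (y : G) * y = x ^ (i + k) := by
        have := fixA ((x ^ (i + k))⁻¹ * ((y : G) * y))
          ((((Commute.refl x).zpow_left (i + k)).inv_left).mul_left (hyx.mul_left hyx))
          (by rw [mul_smul, mul_smul, ← hi, hyO, ← hk, inv_smul_eq_iff, ← mul_smul, ← zpow_add])
        exact (inv_mul_eq_one.mp this).symm
      obtain ⟨r, hr⟩ := hodd
      set w := (y : G) * (x ^ ((i + k) * (r : ℤ))) with hw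
      have hw2 : w * w = 1 := by
        have hc : Commute (y : G) (x ^ ((i + k) * (r : ℤ))) := hyx.zpow_right _
        rw [hw, hc.symm.mul_mul_mul_comm, hy2, ← zpow_add, ← zpow_add]
        rw [show i + k + ((i + k) * r + (i + k) * r) = (p : ℤ) * (i + k) by rw [hr]; push_cast; ring,
          zpow_mul, zpow_natCast, ← hx, pow_orderOf_eq_one, one_zpow]
      have hwM : w ∈ M := mul_mem y.2 (zpow_mem hxM _)
      have hwfree : ∀ v : α, w • v ≠ v := by
        intro v e
        rcases hcov v with hv | hv <;> obtain ⟨l, rfl⟩ := (hO _ _).mp hv <;>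
          rw [hw, mul_smul, ← mul_smul (x ^ _), ← zpow_add, hyO] at e
        · rw [← hi, ← mul_smul, ← zpow_add] at e
          refine hb ((hO _ _).mpr ⟨-((i + k) * r + l + i) + l, ?_⟩)
          rw [zpow_add, mul_smul, zpow_neg, inv_smul_eq_iff]
          exact e.symm
        · rw [← hk, ← mul_smul, ← zpow_add] at e
          refine hb ((hO _ _).mpr ⟨-l + ((i + k) * r + l + k), ?_⟩)
          rw [zpow_add, mul_smul, zpow_neg, inv_smul_eq_iff]
          exact e
      have hw1 : (w : Perm α) ^ 2 = 1 := by
        rw [pow_two, ← Subgroup.coe_mul, hw2, Subgroup.coe_one]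
      have hsupp : (w : Perm α).support = Finset.univ :=
        Finset.eq_univ_of_forall fun v => Perm.mem_support.mpr (hwfree v)
      have hct := Perm.cycleType_of_pow_prime_eq_one (p := 2) hw1
      have hsum := (w : Perm α).sum_cycleType
      rw [hct, Multiset.sum_replicate, hsupp, Finset.card_univ, hα, smul_eq_mul] at hsum
      have hsign := Perm.sign_of_cycleType (w : Perm α)
      rw [show Perm.sign (w : Perm α) = 1 from MonoidHom.mem_ker.mp hwM, Perm.sum_cycleType, hsupp,
        Finset.card_univ, hα] at hsign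
      rw [show (Perm.cycleType (w : Perm α)).card = p by omega,
        show 2 * p + p = 2 * p + (2 * r + 1) by omega,
        (show Odd (2 * p + (2 * r + 1)) from ⟨p + r, by ring⟩).neg_one_pow] at hsign
      exact absurd hsign (by decide)
  have h : SelfCentralP.Hyp M P p := ⟨hp, hPcard, hcent, hsqM⟩
  -- normal subgroups
  have hOG : ∀ H : Subgroup G, H.Normal → ¬ p ∣ Nat.card H → H = ⊥ := by
    intro H hH hd
    by_contra hne
    haveI := normal_transitive (α := α) H hne
    refine hd ((Dvd.intro_left 2 rfl).trans ?_)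
    rw [← hα, ← Nat.card_eq_fintype_card, ← index_stabilizer_of_transitive H a₀]
    exact Subgroup.index_dvd_card _
  have hOM := fun H hH hd => SelfCentralP.pprime_normal_of_normal hp (L := M) hOG H hH hd
  have hPn : ¬ P.Normal := by
    intro hN
    let Q : Sylow p M := Sylow.ofCard P (by
      rw [hPcard]
      have h1 := (hp.dvd_iff_one_le_factorization Nat.card_pos.ne').mp
        (hPcard ▸ Subgroup.card_subgroup_dvd_card P : p ∣ Nat.card M)
      have h2 : ¬ 2 ≤ (Nat.card M).factorization p := fun h2 =>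
        hsqM ((hp.pow_dvd_iff_le_factorization Nat.card_pos.ne').mpr h2)
      rw [show (Nat.card M).factorization p = 1 by omega, pow_one])
    haveI : (Q : Subgroup M).Normal := hN
    haveI := Sylow.unique_of_normal Q hN
    haveI : (P.map M.subtype).Normal := ⟨fun u hu g => by
      obtain ⟨z, hz, rfl⟩ := hu
      have e : (P.map (MulAut.conjNormal g : MulAut M).toMonoidHom) = P := by
        have hc : Nat.card (P.map (MulAut.conjNormal g : MulAut M).toMonoidHom) = p := by
          rw [← hPcard]
          exact (Nat.card_congr (Subgroup.equivMapOfInjective P _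
            (MulAut.conjNormal g : MulAut M).injective).toEquiv).symm
        have h0 : Nat.card (Q : Subgroup M) = p := hPcard
        let Q' : Sylow p M := Sylow.ofCard (P.map (MulAut.conjNormal g : MulAut M).toMonoidHom) (by
          rw [hc]; exact h0.symm.trans (Sylow.card_eq_multiplicity Q))
        exact congrArg (fun R : Sylow p M => (R : Subgroup M)) (Subsingleton.elim Q' Q)
      refine ⟨(MulAut.conjNormal g : MulAut M) z, ?_, by simp⟩
      have hm := Subgroup.mem_map_of_mem (MulAut.conjNormal g : MulAut M).toMonoidHom hz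
      rw [e] at hm
      exact hm⟩
    have hne : P.map M.subtype ≠ ⊥ := by
      rw [Ne, Subgroup.map_eq_bot_iff_of_injective _ (Subgroup.subtype_injective M)]
      intro e
      rw [e, Subgroup.card_bot] at hPcard
      omega
    haveI := normal_transitive (α := α) (P.map M.subtype) hne
    have hd : Fintype.card α ∣ p := by
      rw [← Nat.card_eq_fintype_card, ← index_stabilizer_of_transitive (P.map M.subtype : Subgroup G) a₀]
      refine (Subgroup.index_dvd_card _).trans ?_
      rw [← Nat.card_congr (Subgroup.equivMapOfInjective P _ (Subgroup.subtype_injective M)).toEquiv, hPcard]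
    have := Nat.le_of_dvd hp.pos hd
    omega
  -- linear constituents
  have hπ := isCharacter_permChar (G := M) (Ω := α)
  have hlin : ∀ χ : IrrCharacter M, χ ≠ trivIrr M → mult (permChar M α) χ ≠ 0 → (χ : M → ℂ) 1 ≠ 1 := by
    intro χ hχ hm h1
    obtain ⟨lam, hlam⟩ := exists_hom_of_degree_one (isCharacter_of_isIrr χ.2) h1
    have hnc : commutator M ≠ ⊥ := by
      intro hc
      have hab : ∀ u v : M, u * v = v * u := fun u v => by
        have := Subgroup.commutator_mem_commutator (Subgroup.mem_top u) (Subgroup.mem_top v)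
        rw [← commutator_def, hc, Subgroup.mem_bot, commutatorElement_eq_one_iff_mul_comm] at this
        exact this
      have htop : P = ⊤ := eq_top_iff.mpr fun u _ => hcent u fun z _ => hab u z
      exact hPn (htop ▸ inferInstance)
    haveI : ((commutator M).map M.subtype).Normal := ⟨fun u hu g => by
      obtain ⟨z, hz, rfl⟩ := hu
      have hle : (commutator M).map (MulAut.conjNormal g : MulAut M).toMonoidHom ≤ commutator M := by
        rw [commutator_def, Subgroup.map_commutator]
        exact Subgroup.commutator_mono le_top le_top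
      exact ⟨_, hle (Subgroup.mem_map_of_mem _ hz), by simp⟩⟩
    haveI ht := normal_transitive (α := α) ((commutator M).map M.subtype) (by
      rw [Ne, Subgroup.map_eq_bot_iff_of_injective _ (Subgroup.subtype_injective M)]; exact hnc)
    -- the character is trivial on a point stabilizer
    have hfix : ∀ z : M, z • a₀ = a₀ → lam z = 1 := by
      haveI := Fintype.ofFinite (stabilizer M a₀)
      have hne : classInner (permChar M α) (χ : M → ℂ) ≠ 0 := by
        rw [mult_spec hπ (isCharacter_of_isIrr χ.2)]; exact_mod_cast hm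
      have hperm : permChar M α = indFun (stabilizer M a₀) (fun _ => (1 : ℂ)) := funext fun z => by
        rw [indFun_one_eq_fixedBy α a₀ z]
        rfl
      rw [hperm, frobenius_reciprocity _ _ (isClassFunction_of_isIrr χ.2)] at hne
      have hl := eq_of_inner_ne_zero isIrrCharacter_one
        (show IsIrrCharacter (stabilizer M a₀) (fun z => (χ : M → ℂ) z) from
          hlam ▸ isIrrCharacter_lin (lam.comp (stabilizer M a₀).subtype)) hne
      intro z hz
      have := congrFun hl ⟨z, hz⟩
      rw [hlam] at this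
      exact Units.ext this.symm
    refine hχ (Subtype.ext (hlam.trans (funext fun z => ?_)))
    obtain ⟨⟨u, hu⟩, hua⟩ := exists_smul_eq ((commutator M).map M.subtype) a₀ (z • a₀)
    obtain ⟨c, hc, rfl⟩ := hu
    have e1 : lam (c⁻¹ * z) = 1 := hfix _ (by
      rw [mul_smul, inv_smul_eq_iff]; exact hua.symm)
    rw [map_mul, map_inv, show lam c = 1 from
      MonoidHom.mem_ker.mp (Abelianization.commutator_subset_ker lam hc), inv_one, one_mul] at e1
    show ((lam z : ℂˣ) : ℂ) = 1
    rw [e1, Units.val_one]
  have hfreeP : ∀ y ∈ P, y ≠ 1 → ∀ z : α, y • z ≠ z := by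
    intro y hy hy1 z
    refine hfree (y : G) ?_ z
    obtain ⟨i, rfl⟩ := Subgroup.mem_zpowers_iff.mp hy
    rw [Subgroup.orderOf_coe]
    refine orderOf_eq_prime ?_ hy1
    rw [← zpow_natCast, ← zpow_mul, mul_comm, zpow_mul, zpow_natCast,
      show (⟨x, hxM⟩ : M) ^ p = 1 from Subtype.ext (by simp [← hx, pow_orderOf_eq_one]), one_zpow]
  have h1 : mult (permChar M α) (trivIrr M) = 1 := by
    have e := classInner_permChar_one (G := M) (Ω := α)
    rw [show (fun _ : M => (1 : ℂ)) = (trivIrr M : M → ℂ) from rfl,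
      mult_spec hπ (isCharacter_of_isIrr (trivIrr M).2)] at e
    exact_mod_cast e
  have hrank : Nat.card (orbitRel.Quotient (stabilizer G a₀) α) ≤
      Nat.card (orbitRel.Quotient (stabilizer M a₀) α) := rank_le_of_le M a₀
  rcases h.classify hp2' hOM hPn hπ (fun z => by simp [permChar]) h1
      (mu_perm hPcard h.comm_P hα hfreeP) hlin with
    h2 | ⟨h3, a, b, hdec, ha, hb⟩ | ⟨hp4, h4, ⟨χ₀, hχ1, hχm, hχd, hχr⟩, θ, hθ, hθm, hθr⟩
  · rw [classInner_permChar_self a₀] at h2
    have h2' : Nat.card (orbitRel.Quotient (stabilizer M a₀) α) = 2 := by exact_mod_cast h2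
    exact Or.inl (two_trans_of_rank a₀ (by omega))
  · rw [classInner_permChar_self a₀] at h3
    have h3' : Nat.card (orbitRel.Quotient (stabilizer M a₀) α) = 3 := by exact_mod_cast h3
    by_cases hr : Nat.card (orbitRel.Quotient (stabilizer G a₀) α) ≤ 2
    · exact Or.inl (two_trans_of_rank a₀ hr)
    · have hr3 : Nat.card (orbitRel.Quotient (stabilizer G a₀) α) = 3 := by omega
      refine Or.inr ⟨hr3, ?_⟩
      obtain ⟨χ₁, χ₂, i1, i2, hd, d1, d2⟩ := degrees_of_restrict hp2 hα a₀ hr3 a b hdec ha hb
      exact Cfsg.Agent.S0719.result hG hα a₀ hr3 χ₁ χ₂ i1 i2 hd d1 d2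
  · exfalso
    rw [classInner_permChar_self a₀] at h4
    refine no_rank_four (G := M) hp4 hα a₀ (by exact_mod_cast h4) ?_ χ₀.2
      (fun e => hχ1 (Subtype.ext e)) hχm hχd hχr hθ hθm hθr
    intro c hc
    by_contra hh
    push Not at hh
    have hbot := stabilizer_inf_eq M hc fun m hm hma => hh ⟨m, hm⟩ hma
    -- `M` is regular, so `P` has index two
    have hMst : stabilizer M a₀ = ⊥ := (Subgroup.eq_bot_iff_forall _).mpr fun z hz =>
      Subtype.ext (hbot z z.2 hz)
    have hMc : Nat.card M = 2 * p := by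
      rw [← hα, ← Nat.card_eq_fintype_card (α := α), ← index_stabilizer_of_transitive M a₀, hMst,
        Subgroup.index_bot]
    refine hPn (Subgroup.normal_of_index_eq_two ?_)
    have := P.index_mul_card
    rw [hPcard, hMc] at this
    exact Nat.eq_of_mul_eq_mul_right hp.pos this

end Cfsg.Agent.PermGp.TwiceP
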