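import Cfsg.Agent.Lib.PermGp.PrimeTwoPCore
import Cfsg.Agent.Lib.PermGp.TwicePMain
import Cfsg.Agent.Lib.CT.PGroupSchur
import Cfsg.Agent.Lib.OddChar.Lattice
import Cfsg.Agent.S0720
import Cfsg.Agent.S0717
import Mathlib.GroupTheory.Transfer

/-!
# Primitive groups of degree `2p` with Sylow normaliser of order `2p`
-/

set_option autoImplicit false
set_option linter.unusedSectionVars false

namespace Cfsg.Agent.PermGp.TwicePTwo

open MulAction Equiv Cfsg.Agent Cfsg.Agent.PermGp.PrimeTwoP
open scoped ComplexConjugate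

universe u

variable {α : Type u} [Fintype α] [DecidableEq α] {p : ℕ} (hp : p.Prime) (hp3 : 3 < p)
  (hα : Fintype.card α = 2 * p) {G : Subgroup (Perm α)} (hG : IsPreprimitive G α)
  (hn2 : ¬ IsMultiplyPretransitive G α 2)

include hp hp3 hα hG hn2

theorem free {x : G} (hx : orderOf x = p) (z : α) : x • z ≠ z := by
  intro e
  obtain ⟨hc, hs⟩ := TwiceP.no_fixed_or_cycle hp hα (g := (x : Perm α))
    (by rw [Subgroup.orderOf_coe, hx]) e
  exact hn2 (TwiceP.two_trans_of_alternating
    (alternating_le_of_prime_cycle hG hp (by omega) hc hs x.2) (by omega))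

theorem card_of_normalizer [Fact p.Prime] (P : Sylow p G)
    (hN : Nat.card (Subgroup.normalizer ((P : Subgroup G) : Set G)) = 2 * p) :
    Nat.card (P : Subgroup G) = p := by
  obtain ⟨k, hk⟩ := IsPGroup.iff_card.mp P.2
  have hd : p ^ k ∣ 2 * p := by
    rw [← hk, ← hN]; exact Subgroup.card_dvd_of_le Subgroup.le_normalizer
  have hk1 : k ≤ 1 := by
    by_contra h
    have h2 : p ^ 2 ∣ 2 * p := (pow_dvd_pow p (by omega : 2 ≤ k)).trans hd
    have := Nat.le_of_dvd two_pos (Nat.dvd_of_mul_dvd_mul_right hp.pos (by rwa [← pow_two]))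
    omega
  have hk0 : k ≠ 0 := by
    rintro rfl
    have hcard : p ∣ Nat.card G := by
      refine (dvd_mul_left p 2).trans ?_
      rw [← hN]
      exact Subgroup.card_subgroup_dvd_card _
    have h1 := P.card_eq_multiplicity
    rw [hk, pow_zero] at h1
    have := hp.factorization_pos_of_dvd Nat.card_pos.ne' hcard
    have := Nat.one_lt_pow this.ne' hp.one_lt
    omega
  rw [hk, show k = 1 by omega, pow_one]

theorem hyp [Fact p.Prime] (P : Sylow p G)
    (hN : Nat.card (Subgroup.normalizer ((P : Subgroup G) : Set G)) = 2 * p) :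
    Hyp2 G (P : Subgroup G) p ∧ (∀ y ∈ (P : Subgroup G), y ≠ 1 → ∀ z : α, y • z ≠ z) := by
  classical
  have := hG
  have hPc := card_of_normalizer hp hp3 hα hG hn2 P hN
  have hordP : ∀ y ∈ (P : Subgroup G), y ≠ 1 → orderOf y = p := fun y hy hy1 => by
    have h1 := orderOf_dvd_natCard (⟨y, hy⟩ : (P : Subgroup G))
    rw [hPc, ← Subgroup.orderOf_coe] at h1
    rcases (Nat.dvd_prime hp).mp h1 with h | h
    · exact absurd (orderOf_eq_one_iff.mp h) hy1
    · exact h
  have hfree : ∀ y ∈ (P : Subgroup G), y ≠ 1 → ∀ z : α, y • z ≠ z := fun y hy hy1 z =>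
    free hp hp3 hα hG hn2 (hordP y hy hy1) z
  refine ⟨⟨hp, by omega, hPc, ?_, hN⟩, hfree⟩
  intro g hg
  by_contra hgP
  haveI : Fact (Nat.Prime 2) := ⟨Nat.prime_two⟩
  set C := Subgroup.centralizer ((P : Subgroup G) : Set G) with hC
  have hgC : g ∈ C := Subgroup.mem_centralizer_iff.mpr fun y hy => (hg y hy).symm
  have hcomm : ∀ a ∈ (P : Subgroup G), ∀ b ∈ (P : Subgroup G), a * b = b * a := fun a ha b hb => by
    haveI := isCyclic_of_prime_card hPc
    exact congrArg Subtype.val ((IsCyclic.commGroup (α := (P : Subgroup G))).mul_comm ⟨a, ha⟩ ⟨b, hb⟩)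
  have hPC : (P : Subgroup G) ≤ C := fun y hy => Subgroup.mem_centralizer_iff.mpr fun z hz =>
    hcomm z hz y hy
  have hCN : C ≤ Subgroup.normalizer ((P : Subgroup G) : Set G) := by
    intro c hc
    refine Subgroup.mem_normalizer_iff.mpr fun y => ⟨fun hy => ?_, fun hy => ?_⟩
    · rw [(Subgroup.mem_centralizer_iff.mp hc y hy).symm, mul_inv_cancel_right]; exact hy
    · have h1 := Subgroup.mem_centralizer_iff.mp (inv_mem hc) _ hy
      have : y = c * y * c⁻¹ := by
        calc y = c⁻¹ * (c * y * c⁻¹) * c := by group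
          _ = c * y * c⁻¹ := by rw [← h1]; group
      rw [this]; exact hy
  have hC2 : 2 ∣ Nat.card C := by
    have h1 : p ∣ Nat.card C := by
      have := Subgroup.card_dvd_of_le hPC
      rwa [hPc] at this
    have h2 : Nat.card C ∣ 2 * p := by rw [← hN]; exact Subgroup.card_dvd_of_le hCN
    have h3 : Nat.card C ≠ p := fun e => hgP (by
      have := Subgroup.eq_of_le_of_card_ge hPC (by rw [hPc, e])
      rw [this]; exact hgC)
    obtain ⟨m, hm⟩ := h1
    rw [hm, mul_comm 2 p] at h2
    have h4 := Nat.dvd_of_mul_dvd_mul_left hp.pos h2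
    rcases (Nat.dvd_prime Nat.prime_two).mp h4 with e | e
    · rw [e, mul_one] at hm; exact absurd hm h3
    · rw [hm, e]; exact dvd_mul_left 2 p
  obtain ⟨w₀, hw₀⟩ := exists_prime_orderOf_dvd_card' 2 hC2
  set w : G := (w₀ : G)
  have hwo : orderOf w = 2 := by rw [Subgroup.orderOf_coe, hw₀]
  have hwc : ∀ y ∈ (P : Subgroup G), y * w = w * y := Subgroup.mem_centralizer_iff.mp w₀.2
  have hww : (w : Perm α) ^ 2 = 1 := by
    rw [← Subgroup.coe_pow, show w ^ 2 = 1 by rw [← hwo, pow_orderOf_eq_one], Subgroup.coe_one]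
  -- `w` has no fixed point
  have hwfree : ∀ z : α, w • z ≠ z := by
    intro z hz
    haveI : Fintype (P : Subgroup G) := Fintype.ofFinite _
    let O : α → Finset α := fun v => Finset.univ.image fun y : (P : Subgroup G) => (y : G) • v
    have hOc : ∀ v, (O v).card = p := fun v => by
      rw [Finset.card_image_of_injective _ ?_, Finset.card_univ, ← Nat.card_eq_fintype_card, hPc]
      intro a b hab
      by_contra hne
      refine hfree ((b : G)⁻¹ * a) (mul_mem (inv_mem b.2) a.2) (fun e => hne ?_) v ?_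
      · exact (Subtype.ext (inv_mul_eq_one.mp e)).symm
      · rw [mul_smul, show (a : G) • v = (b : G) • v from hab, inv_smul_smul]
    set F := Finset.univ.filter fun v : α => w • v = v with hF
    have hOF : ∀ v ∈ F, O v ⊆ F := by
      intro v hv u hu
      obtain ⟨y, -, rfl⟩ := Finset.mem_image.mp hu
      refine Finset.mem_filter.mpr ⟨Finset.mem_univ _, ?_⟩
      rw [← mul_smul, ← hwc y y.2, mul_smul, (Finset.mem_filter.mp hv).2]
    have hFsupp : F.card + (w : Perm α).support.card = 2 * p := by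
      rw [← hα, ← Finset.card_univ, ← Finset.card_filter_add_card_filter_not (s := Finset.univ)
        (fun v : α => w • v = v)]
      congr 1
    have heven : 2 ∣ (w : Perm α).support.card := by
      have := Perm.cycleType_of_pow_prime_eq_one (p := 2) hww
      have hsum := (w : Perm α).sum_cycleType
      rw [this, Multiset.sum_replicate, smul_eq_mul] at hsum
      exact ⟨_, by rw [← hsum, mul_comm]⟩
    have hzF : z ∈ F := Finset.mem_filter.mpr ⟨Finset.mem_univ _, hz⟩
    obtain ⟨u, huF, huO⟩ : ∃ u ∈ F, u ∉ O z := by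
      by_contra hh
      push Not at hh
      have : F = O z := Finset.Subset.antisymm hh (hOF z hzF)
      rw [this, hOc] at hFsupp
      obtain ⟨k, hk⟩ := heven
      obtain ⟨r, hr⟩ := hp.odd_of_ne_two (by omega)
      omega
    have hdisj : Disjoint (O z) (O u) := by
      rw [Finset.disjoint_left]
      intro v h1 h2
      obtain ⟨a, -, rfl⟩ := Finset.mem_image.mp h1
      obtain ⟨b, -, hb⟩ := Finset.mem_image.mp h2
      refine huO (Finset.mem_image.mpr ⟨⟨(b : G)⁻¹ * a, mul_mem (inv_mem b.2) a.2⟩, Finset.mem_univ _, ?_⟩)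
      show ((b : G)⁻¹ * (a : G)) • z = u
      rw [mul_smul, ← hb, inv_smul_smul]
    have hle := Finset.card_le_card (Finset.union_subset (hOF z hzF) (hOF u huF))
    rw [Finset.card_union_of_disjoint hdisj, hOc, hOc] at hle
    have hs0 : (w : Perm α).support.card = 0 := by omega
    have : (w : Perm α) = 1 := Perm.card_support_eq_zero.mp hs0
    have : w = 1 := Subtype.ext this
    rw [this, orderOf_one] at hwo
    norm_num at hwo
  -- so `w` is odd
  let sg : G →* ℤˣ := (Perm.sign : Perm α →* ℤˣ).comp G.subtype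
  have hsw : sg w = -1 := by
    have hsupp : (w : Perm α).support = Finset.univ :=
      Finset.eq_univ_of_forall fun v => Perm.mem_support.mpr (hwfree v)
    have hct := Perm.cycleType_of_pow_prime_eq_one (p := 2) hww
    have hsum := (w : Perm α).sum_cycleType
    rw [hct, Multiset.sum_replicate, hsupp, Finset.card_univ, hα, smul_eq_mul] at hsum
    have hsign := Perm.sign_of_cycleType (w : Perm α)
    obtain ⟨r, hr⟩ := hp.odd_of_ne_two (by omega)
    rw [Perm.sum_cycleType, hsupp, Finset.card_univ, hα,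
      show (Perm.cycleType (w : Perm α)).card = p by omega,
      (show Odd (2 * p + p) from ⟨p + r, by omega⟩).neg_one_pow] at hsign
    exact hsign
  set M := sg.ker
  have hPM : (P : Subgroup G) ≤ M := by
    intro y hy
    rw [MonoidHom.mem_ker]
    have h1 : sg y ^ p = 1 := by
      rw [← map_pow, show y ^ p = 1 by
        have := pow_card_eq_one' (x := (⟨y, hy⟩ : (P : Subgroup G)))
        rw [hPc] at this
        simpa using congrArg Subtype.val this, map_one]
    rcases Int.units_eq_one_or (sg y) with e | e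
    · exact e
    · rw [e, (hp.odd_of_ne_two (by omega)).neg_one_pow] at h1; exact absurd h1 (by decide)
  haveI : Fintype G := Fintype.ofFinite G
  let Q : Sylow p M := P.subtype hPM
  have hQc : Nat.card (Q : Subgroup M) = p := by
    rw [show (Q : Subgroup M) = (P : Subgroup G).subgroupOf M from Sylow.coe_subtype P hPM,
      Nat.card_congr (Subgroup.subgroupOfEquivOfLe hPM).toEquiv, hPc]
  have hNM : (Subgroup.normalizer ((P : Subgroup G) : Set G)) ⊓ M = (P : Subgroup G) := by
    refine (Subgroup.eq_of_le_of_card_ge (le_inf Subgroup.le_normalizer hPM) ?_).symm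
    have h1 : Nat.card ↥(Subgroup.normalizer ((P : Subgroup G) : Set G) ⊓ M) ∣ 2 * p := by
      rw [← hN]; exact Subgroup.card_dvd_of_le inf_le_left
    have h2 : p ∣ Nat.card ↥(Subgroup.normalizer ((P : Subgroup G) : Set G) ⊓ M) := by
      have := Subgroup.card_dvd_of_le (le_inf Subgroup.le_normalizer hPM :
        (P : Subgroup G) ≤ Subgroup.normalizer ((P : Subgroup G) : Set G) ⊓ M)
      rwa [hPc] at this
    have h3 : Nat.card ↥(Subgroup.normalizer ((P : Subgroup G) : Set G) ⊓ M) ≠ 2 * p := fun e => by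
      have := Subgroup.eq_of_le_of_card_ge (inf_le_left :
        Subgroup.normalizer ((P : Subgroup G) : Set G) ⊓ M ≤ _) (by rw [e, hN])
      have hwN : w ∈ Subgroup.normalizer ((P : Subgroup G) : Set G) := hCN w₀.2
      rw [← this] at hwN
      have := MonoidHom.mem_ker.mp hwN.2
      rw [hsw] at this
      exact absurd this (by decide)
    obtain ⟨m, hm⟩ := h2
    rw [hm, mul_comm 2 p] at h1
    rcases (Nat.dvd_prime Nat.prime_two).mp (Nat.dvd_of_mul_dvd_mul_left hp.pos h1) with e | e
    · rw [hm, e, mul_one, hPc]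
    · exact absurd (by rw [hm, e, mul_comm]) h3
  have hQM : ∀ y : M, y ∈ (Q : Subgroup M) ↔ (y : G) ∈ (P : Subgroup G) := fun y => by
    rw [show (Q : Subgroup M) = (P : Subgroup G).subgroupOf M from Sylow.coe_subtype P hPM,
      Subgroup.mem_subgroupOf]
  have hBurn : Subgroup.normalizer ((Q : Subgroup M) : Set M) ≤
      Subgroup.centralizer ((Q : Subgroup M) : Set M) := by
    intro n hn
    have hnP : (n : G) ∈ (P : Subgroup G) := by
      rw [← hNM]
      refine ⟨Subgroup.mem_normalizer_iff.mpr fun y => ?_, n.2⟩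
      constructor
      · intro hy
        exact (hQM _).mp ((Subgroup.mem_normalizer_iff.mp hn ⟨y, hPM hy⟩).mp ((hQM _).mpr hy))
      · intro hy
        have hyM : y ∈ M := by
          have := mul_mem (mul_mem (inv_mem n.2) (hPM hy)) n.2
          simpa [mul_assoc] using this
        exact (hQM _).mp ((Subgroup.mem_normalizer_iff.mp hn ⟨y, hyM⟩).mpr ((hQM _).mpr hy))
    exact Subgroup.mem_centralizer_iff.mpr fun z hz =>
      Subtype.ext (hcomm _ ((hQM z).mp hz) _ hnP)
  haveI : (Q : Subgroup M).FiniteIndex := inferInstance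
  set φ := MonoidHom.transferSylow Q hBurn
  have hcompl := MonoidHom.ker_transferSylow_isComplement' Q hBurn
  set K := φ.ker
  have hKp : ¬ p ∣ Nat.card K := MonoidHom.not_dvd_card_ker_transferSylow Q hBurn
  have hKn : (K.map M.subtype).Normal := ⟨fun k hk x => by
    obtain ⟨k, hkK, rfl⟩ := hk
    refine ⟨(MulAut.conjNormal x : MulAut M) k, ?_, by simp⟩
    show _ ∈ K
    rw [MonoidHom.mem_ker]
    set v := (MulAut.conjNormal x : MulAut M) k
    have h1 : orderOf (φ v) ∣ p := by
      have := orderOf_dvd_natCard (φ v)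
      rwa [hQc] at this
    have h2 : orderOf (φ v) ∣ Nat.card K := by
      refine (orderOf_map_dvd φ v).trans ?_
      rw [show orderOf v = orderOf k from MulEquiv.orderOf_eq _ k]
      have := orderOf_dvd_natCard (⟨k, hkK⟩ : K)
      rwa [← Subgroup.orderOf_coe] at this
    exact orderOf_eq_one_iff.mp (Nat.eq_one_of_dvd_coprimes ((hp.coprime_iff_not_dvd).mpr hKp) h1 h2)⟩
  have hdiv : ∀ H : Subgroup G, H.Normal → H ≠ ⊥ → Fintype.card α ∣ Nat.card H := fun H hH hne => by
    haveI := hH
    haveI := normal_transitive (α := α) H hne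
    obtain ⟨a⟩ : Nonempty α := Fintype.card_pos_iff.mp (by omega)
    rw [← Nat.card_eq_fintype_card, ← index_stabilizer_of_transitive H a]
    exact Subgroup.index_dvd_card _
  have hKbot : K = ⊥ := by
    by_contra hne
    have hne' : K.map M.subtype ≠ ⊥ := by
      rw [Ne, Subgroup.map_eq_bot_iff_of_injective _ M.subtype_injective]; exact hne
    have := hdiv _ hKn hne'
    rw [hα, ← Nat.card_congr (Subgroup.equivMapOfInjective K _ M.subtype_injective).toEquiv] at this
    exact hKp ((dvd_mul_left p 2).trans this)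
  have hMc : Nat.card M = p := by
    have := hcompl.card_mul_card
    rw [hKbot, Subgroup.card_bot, one_mul, hQc] at this
    exact this.symm
  have hMne : M ≠ ⊥ := fun e => by
    rw [e, Subgroup.card_bot] at hMc; exact hp.one_lt.ne hMc
  have := Nat.le_of_dvd (by rw [hMc]; exact hp.pos) (hdiv M (MonoidHom.normal_ker _) hMne)
  rw [hMc, hα] at this
  omega


omit hp hn2 in
set_option maxHeartbeats 2000000 in
/-- The theorem: the group has order 60 and self-centralizing subgroups of order five. -/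
theorem main [Fact p.Prime] (hn2 : ¬ IsMultiplyPretransitive G α 2) (P : Sylow p G)
    (hN : Nat.card (Subgroup.normalizer ((P : Subgroup G) : Set G)) = 2 * p) :
    p = 5 ∧ Nat.card G = 60 ∧ Hyp2 G (P : Subgroup G) p := by
  classical
  have hp : p.Prime := Fact.out
  obtain ⟨h, hfree⟩ := hyp hp hp3 hα hG hn2 P hN
  have := hG
  haveI : Fintype G := Fintype.ofFinite G
  haveI : Fintype (P : Subgroup G) := Fintype.ofFinite _
  obtain ⟨a₀⟩ : Nonempty α := Fintype.card_pos_iff.mp (by omega)
  obtain ⟨hrank, a₁, ha₁, hpa, -⟩ := (S0720.result hp hα G hG a₀).resolve_left hn2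
  set π : G → ℂ := permChar G α
  have hπ : IsCharacter G π := isCharacter_permChar
  obtain ⟨S, hS1, hS2, hSd, hSr⟩ := exists_mult_sums (G := G) (Ω := α) a₀
  rw [hrank] at hSr
  have hSr : 3 = 1 + ∑ χ ∈ S, CT.mult π χ ^ 2 := hSr
  have hSd : Fintype.card α = 1 + ∑ χ ∈ S, CT.mult π χ * CT.deg (χ : G → ℂ) := hSd
  set s' := S.filter fun χ : IrrCharacter G => CT.mult π χ ≠ 0
  have hsum' : ∑ χ ∈ s', CT.mult π χ ^ 2 = 2 := by
    rw [Finset.sum_filter_of_ne fun χ _ hne => by
      intro e; exact hne (by rw [e]; simp)]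
    omega
  have hm1 : ∀ χ ∈ s', CT.mult π χ = 1 := by
    intro χ hχ
    have h0 := (Finset.mem_filter.mp hχ).2
    have hle := Finset.single_le_sum (f := fun χ : IrrCharacter G => CT.mult π χ ^ 2)
      (fun _ _ => Nat.zero_le _) hχ
    rw [hsum'] at hle
    by_contra hne
    have h2 : 2 ≤ CT.mult π χ := by omega
    have h4 := Nat.pow_le_pow_left h2 2
    omega
  have hs2 : s'.card = 2 := by
    rw [Finset.sum_congr rfl fun χ hχ => by rw [hm1 χ hχ]] at hsum'
    simpa using hsum'
  obtain ⟨a, b, hab, hsab⟩ := Finset.card_eq_two.mp hs2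
  have haS : a ∈ s' := by rw [hsab]; exact Finset.mem_insert_self _ _
  have hbS : b ∈ s' := by rw [hsab]; exact Finset.mem_insert_of_mem (Finset.mem_singleton_self _)
  have hdeg : CT.deg (a : G → ℂ) + CT.deg (b : G → ℂ) = 2 * p - 1 := by
    have e : ∑ χ ∈ S, CT.mult π χ * CT.deg (χ : G → ℂ) = ∑ χ ∈ s', CT.mult π χ * CT.deg (χ : G → ℂ) :=
      (Finset.sum_filter_of_ne fun χ _ hne => by
        intro e; exact hne (by rw [e]; simp)).symm
    rw [e, hsab, Finset.sum_pair hab, hm1 a haS, hm1 b hbS, one_mul, one_mul, hα] at hSd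
    omega
  let one : G → ℂ := fun _ => 1
  have h1i : IsIrrCharacter G one := CT.isIrrCharacter_one
  have haT : (a : G → ℂ) ≠ one := hS1 a (Finset.mem_filter.mp haS).1
  have hbT : (b : G → ℂ) ≠ one := hS1 b (Finset.mem_filter.mp hbS).1
  have habf : (a : G → ℂ) ≠ (b : G → ℂ) := fun e => hab (Subtype.ext e)
  have hπi : ∀ χ : IrrCharacter G, classInner π (χ : G → ℂ) =
      classInner one (χ : G → ℂ) + classInner (a : G → ℂ) (χ : G → ℂ) + classInner (b : G → ℂ) (χ : G → ℂ) := by
    intro χ
    by_cases h1 : (χ : G → ℂ) = one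
    · have : Nonempty α := ⟨a₀⟩
      rw [h1, show classInner π one = 1 from classInner_permChar_one, CT.irr_inner_self h1i,
        CT.irr_inner_of_ne a.2 h1i haT, CT.irr_inner_of_ne b.2 h1i hbT]
      ring
    rw [CT.irr_inner_of_ne h1i χ.2 (Ne.symm h1), CT.irr_inner_subtype, CT.irr_inner_subtype, zero_add]
    by_cases ha : a = χ
    · subst ha
      rw [if_pos rfl, if_neg hab.symm, CT.mult_spec hπ (CT.isCharacter_of_isIrr a.2), hm1 a haS]
      simp
    by_cases hb : b = χ
    · subst hb
      rw [if_pos rfl, if_neg hab, CT.mult_spec hπ (CT.isCharacter_of_isIrr b.2), hm1 b hbS]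
      simp
    rw [if_neg ha, if_neg hb, add_zero]
    by_contra hne
    have hχS : χ ∈ s' := Finset.mem_filter.mpr ⟨hS2 χ h1 hne, fun e => hne (by
      rw [CT.mult_spec hπ (CT.isCharacter_of_isIrr χ.2), e]; simp)⟩
    rw [hsab, Finset.mem_insert, Finset.mem_singleton] at hχS
    rcases hχS with e | e
    · exact ha e.symm
    · exact hb e.symm
  have hπeq : π = one + (a : G → ℂ) + (b : G → ℂ) :=
    CT.classFunction_ext (CT.isClassFunction_of_isCharacter hπ)
      (CT.isClassFunction_of_isCharacter (CT.isCharacter_add (CT.isCharacter_add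
        (CT.isCharacter_of_isIrr h1i) (CT.isCharacter_of_isIrr a.2)) (CT.isCharacter_of_isIrr b.2)))
      fun χ => by rw [hπi, CT.classInner_add_left, CT.classInner_add_left]
  -- the two coefficients
  let u : IrrCharacter (P : Subgroup G) → IrrCharacter G → ℤ := fun c χ =>
    (CT.mult (fun z : (P : Subgroup G) => (χ : G → ℂ) z) (CT.trivIrr (P : Subgroup G) : ↥(P : Subgroup G) → ℂ) : ℤ) -
      CT.mult (fun z : (P : Subgroup G) => (χ : G → ℂ) z) (c : ↥(P : Subgroup G) → ℂ)
  have hu : ∀ (c : IrrCharacter (P : Subgroup G)) (χ : IrrCharacter G), classInner (h.gam c) (χ : G → ℂ) = (u c χ : ℂ) := fun c χ => by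
    rw [h.gam_inner_eq c (CT.isCharacter_of_isIrr χ.2)]; simp [u]
  have iΓ1 : ∀ c, c ≠ CT.trivIrr (P : Subgroup G) → classInner (h.gam c) one = 1 := fun c hc => by
    rw [h.gam_inner c (CT.isClassFunction_of_isIrr h1i), CT.classInner_sub_left]
    show classInner (CT.trivIrr (P : Subgroup G) : ↥(P : Subgroup G) → ℂ) (CT.trivIrr (P : Subgroup G) : ↥(P : Subgroup G) → ℂ) -
      classInner (c : ↥(P : Subgroup G) → ℂ) (CT.trivIrr (P : Subgroup G) : ↥(P : Subgroup G) → ℂ) = 1
    rw [CT.irr_inner_subtype, CT.irr_inner_subtype, if_pos rfl, if_neg hc, sub_zero]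
  have iΓπ : ∀ c, classInner (h.gam c) π = 0 := fun c => by
    rw [h.gam_inner c (CT.isClassFunction_of_isCharacter hπ), classInner]
    rw [Finset.sum_eq_zero, mul_zero]
    intro y _
    by_cases hy : y = 1
    · subst hy; rw [Pi.sub_apply, h.irr_one, sub_self, zero_mul]
    · have : π (y : G) = 0 := by
        have hempty : fixedBy α (y : G) = ∅ := Set.eq_empty_iff_forall_notMem.mpr fun z hz =>
          hfree y y.2 (fun e => hy (Subtype.ext e)) z hz
        simp [π, permChar, hempty]
      rw [this, map_zero, mul_zero]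
  have huv : ∀ c, c ≠ CT.trivIrr (P : Subgroup G) →
      (u c a = -1 ∧ u c b = 0) ∨ (u c a = 0 ∧ u c b = -1) := by
    intro c hc
    have e1 : 1 + u c a + u c b = 0 := by
      have := iΓπ c
      rw [hπeq, CT.classInner_add_right, CT.classInner_add_right, iΓ1 c hc, hu, hu] at this
      exact_mod_cast this
    have e2 : ∑ χ : IrrCharacter G, u c χ ^ 2 = 3 := by
      have := h.gam_gam hc hc
      rw [if_pos rfl, if_neg (Ne.symm (h.bar_ne hc)), add_zero,
        CT.classInner_eq_sum (g := h.gam c) (CT.isClassFunction_indFun _ _)] at this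
      simp only [hu, map_intCast, ← pow_two] at this
      norm_num at this
      exact_mod_cast this
    have e3 : u c (CT.trivIrr G) = 1 := by
      have := hu c (CT.trivIrr G)
      rw [show (CT.trivIrr G : G → ℂ) = one from rfl, iΓ1 c hc] at this
      exact_mod_cast this.symm
    have e4 : u c (CT.trivIrr G) ^ 2 + (u c a ^ 2 + u c b ^ 2) ≤ 3 := by
      rw [← e2]
      have hne1 : CT.trivIrr G ≠ a := fun e => haT (congrArg Subtype.val e).symm
      have hne2 : CT.trivIrr G ≠ b := fun e => hbT (congrArg Subtype.val e).symm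
      calc _ = ∑ χ ∈ ({CT.trivIrr G, a, b} : Finset _), u c χ ^ 2 := by
            rw [Finset.sum_insert (by simp [hne1, hne2]), Finset.sum_pair hab]
        _ ≤ _ := Finset.sum_le_univ_sum_of_nonneg fun χ => sq_nonneg _
    rw [e3] at e4
    have hb' : u c b = -1 - u c a := by omega
    have h5 : -1 ≤ u c a ∧ u c a ≤ 0 := by
      rw [hb'] at e4
      constructor <;> nlinarith
    omega
  -- exceptional characters
  have hX : ∀ (c : IrrCharacter (P : Subgroup G)) (x : IrrCharacter G), c ≠ CT.trivIrr (P : Subgroup G) →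
      (x : G → ℂ) ≠ one → u c x = -1 → IsIrrCharacter G (h.gam c + (x : G → ℂ) - one) ∧
        classInner (h.gam c + (x : G → ℂ) - one) (x : G → ℂ) = 0 ∧
        classInner (h.gam c + (x : G → ℂ) - one) one = 0 := by
    intro c x hc hx hux
    have i1 : classInner (h.gam c + (x : G → ℂ) - one) (x : G → ℂ) = 0 := by
      rw [CT.classInner_sub_left, CT.classInner_add_left, hu, hux, CT.irr_inner_self x.2,
        CT.irr_inner_of_ne h1i x.2 (Ne.symm hx)]
      norm_num
    have i2 : classInner (h.gam c + (x : G → ℂ) - one) one = 0 := by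
      rw [CT.classInner_sub_left, CT.classInner_add_left, iΓ1 c hc, CT.irr_inner_self h1i,
        CT.irr_inner_of_ne x.2 h1i hx]
      norm_num
    refine ⟨?_, i1, i2⟩
    have hgen : IsGeneralizedCharacter G (h.gam c + (x : G → ℂ) - one) :=
      ⟨indFun _ (fun _ => (1 : ℂ)) + (x : G → ℂ), indFun _ (c : ↥(P : Subgroup G) → ℂ) + one,
        CT.isCharacter_add (CT.isCharacter_indFun _ CT.isCharacter_one) (CT.isCharacter_of_isIrr x.2),
        CT.isCharacter_add (CT.isCharacter_indFun _ (CT.isCharacter_of_isIrr c.2)) (CT.isCharacter_of_isIrr h1i),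
        by simp only [Hyp2.gam, CT.indFun_sub]; abel⟩
    have hn : classInner (h.gam c + (x : G → ℂ) - one) (h.gam c + (x : G → ℂ) - one) = 1 := by
      simp only [CT.classInner_sub_left, CT.classInner_sub_right, CT.classInner_add_left,
        CT.classInner_add_right, h.gam_gam hc hc, hu, hux, iΓ1 c hc, CT.irr_inner_self x.2,
        CT.irr_inner_self h1i, CT.irr_inner_of_ne h1i x.2 (Ne.symm hx), CT.irr_inner_of_ne x.2 h1i hx]
      rw [← CT.classInner_conj_symm (h.gam c) (x : G → ℂ), hu, hux,
        ← CT.classInner_conj_symm (h.gam c) one, iΓ1 c hc, if_neg (Ne.symm (h.bar_ne hc))]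
      simp only [if_true, map_one, map_intCast]
      norm_num
    refine CT.isIrr_of_isGen_norm_one hgen hn ?_
    have hv : (h.gam c + (x : G → ℂ) - one) 1 = (CT.deg (x : G → ℂ) : ℂ) - 1 := by
      simp [one, h.gam_one, CT.deg_eq (CT.isCharacter_of_isIrr x.2)]
    rw [hv, Complex.sub_re, Complex.natCast_re, Complex.one_re, sub_pos, Nat.one_lt_cast]
    by_contra hle
    have hd1 : CT.deg (x : G → ℂ) = 1 := by have := CT.deg_pos x.2; omega
    rcases OddChar.isSigned_of_norm_one hgen hn with e | e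
    · exact CT.irr_one_ne_zero e (by rw [hv, hd1]; simp)
    · exact CT.irr_one_ne_zero e (by rw [Pi.neg_apply, hv, hd1]; simp)
  obtain ⟨c₁, hc₁⟩ : ∃ c : IrrCharacter (P : Subgroup G), c ≠ CT.trivIrr (P : Subgroup G) := by
    have h1 := h.card_irr'
    haveI : Nontrivial (IrrCharacter (P : Subgroup G)) :=
      Fintype.one_lt_card_iff_nontrivial.mp (by rw [h1]; omega)
    exact exists_ne _
  have hmixed : ¬ ∃ c d, c ≠ CT.trivIrr (P : Subgroup G) ∧ d ≠ CT.trivIrr (P : Subgroup G) ∧
      u c a = -1 ∧ u d b = -1 := by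
    rintro ⟨c, d, hc, hd, huc, hud⟩
    obtain ⟨hXi, -, hX1⟩ := hX c a hc haT huc
    obtain ⟨hYi, -, hY1⟩ := hX d b hd hbT hud
    have hcb : u c b = 0 := by rcases huv c hc with e | e <;> omega
    have hda : u d a = 0 := by rcases huv d hd with e | e <;> omega
    have hcd : c ≠ d ∧ c ≠ h.bar d := by
      refine ⟨fun e => by subst e; omega, fun e => ?_⟩
      have hg : h.gam c = h.gam d := by
        subst e
        funext g
        have hcf : ∀ v : IrrCharacter (P : Subgroup G), ∀ y : (P : Subgroup G), h.gam v y =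
            2 - (v : ↥(P : Subgroup G) → ℂ) y - (h.bar v : ↥(P : Subgroup G) → ℂ) y := fun v y => by
          have := congrFun (h.gam_restrict v) y
          simpa using this
        by_cases hg : ∃ x : G, x⁻¹ * g * x ∈ (P : Subgroup G)
        · obtain ⟨x, hx⟩ := hg
          have hcl : ∀ v, h.gam v g = h.gam v (x⁻¹ * g * x) := fun v => by
            have := CT.isClassFunction_indFun (P : Subgroup G)
              ((fun _ => (1 : ℂ)) - (v : ↥(P : Subgroup G) → ℂ)) g x⁻¹
            simpa [Hyp2.gam] using this.symm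
          rw [hcl, hcl, hcf _ ⟨_, hx⟩, hcf _ ⟨_, hx⟩, h.bar_bar]
          ring
        · push Not at hg
          rw [Hyp2.gam, Hyp2.gam, CT.indFun_eq_zero_of_not_conj_mem _ _ hg,
            CT.indFun_eq_zero_of_not_conj_mem _ _ hg]
      have : classInner (h.gam c) (a : G → ℂ) = classInner (h.gam d) (a : G → ℂ) := by rw [hg]
      rw [hu, hu, huc, hda] at this
      norm_num at this
    have hin : classInner (h.gam c + (a : G → ℂ) - one) (h.gam d + (b : G → ℂ) - one) = 1 := by
      simp only [CT.classInner_sub_left, CT.classInner_sub_right, CT.classInner_add_left,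
        CT.classInner_add_right, h.gam_gam hc hd, if_neg hcd.1, if_neg hcd.2, hu, hcb,
        iΓ1 c hc, CT.irr_inner_self h1i, CT.irr_inner_of_ne h1i b.2 (Ne.symm hbT),
        CT.irr_inner_of_ne a.2 h1i haT, CT.irr_inner_of_ne a.2 b.2 habf]
      rw [← CT.classInner_conj_symm (h.gam d) (a : G → ℂ), hu, hda,
        ← CT.classInner_conj_symm (h.gam d) one, iΓ1 d hd]
      simp only [map_one, map_intCast]
      norm_num
    by_cases e : (h.gam c + (a : G → ℂ) - one) = (h.gam d + (b : G → ℂ) - one)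
    · have := congrFun e 1
      simp only [Pi.sub_apply, Pi.add_apply, h.gam_one, zero_add, one, CT.deg_eq (CT.isCharacter_of_isIrr a.2),
        CT.deg_eq (CT.isCharacter_of_isIrr b.2), sub_left_inj, Nat.cast_inj] at this
      omega
    · rw [CT.irr_inner_of_ne hXi hYi e] at hin
      exact zero_ne_one hin
  -- the constituent with value `-1` on `P`
  obtain ⟨θ, hθS, η, hηθ, hall⟩ : ∃ θ ∈ s', ∃ η : IrrCharacter G, (η ∈ s' ∧ η ≠ θ) ∧
      ∀ c, c ≠ CT.trivIrr (P : Subgroup G) → u c θ = -1 ∧ u c η = 0 := by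
    rcases huv c₁ hc₁ with e | e
    · refine ⟨a, haS, b, ⟨hbS, hab.symm⟩, fun c hc => ?_⟩
      rcases huv c hc with e' | e'
      · exact e'
      · exact absurd ⟨c₁, c, hc₁, hc, e.1, e'.2⟩ hmixed
    · refine ⟨b, hbS, a, ⟨haS, hab⟩, fun c hc => ?_⟩
      rcases huv c hc with e' | e'
      · exact absurd ⟨c, c₁, hc, hc₁, e'.1, e.2⟩ hmixed
      · exact ⟨e'.2, e'.1⟩
  have hdeg' : CT.deg (θ : G → ℂ) + CT.deg (η : G → ℂ) = 2 * p - 1 := by
    have h1 := hθS
    have h2 := hηθ.1
    rw [hsab, Finset.mem_insert, Finset.mem_singleton] at h1 h2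
    rcases h1 with rfl | rfl <;> rcases h2 with rfl | rfl
    · exact absurd rfl hηθ.2
    · exact hdeg
    · omega
    · exact absurd rfl hηθ.2
  -- degrees
  set t0 := CT.trivIrr (P : Subgroup G)
  let m : IrrCharacter G → IrrCharacter (P : Subgroup G) → ℕ := fun χ c =>
    CT.mult (fun z : (P : Subgroup G) => (χ : G → ℂ) z) (c : ↥(P : Subgroup G) → ℂ)
  have hdegm : ∀ χ : IrrCharacter G, CT.deg (χ : G → ℂ) = m χ t0 + ∑ c ∈ Finset.univ.erase t0, m χ c := by
    intro χ
    have e := congrFun (CT.character_eq_sum (CT.isCharacter_restrict (P : Subgroup G)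
      (CT.isCharacter_of_isIrr χ.2))) 1
    simp only [Finset.sum_apply, Pi.smul_apply, smul_eq_mul, h.irr_one, mul_one, OneMemClass.coe_one,
      CT.deg_eq (CT.isCharacter_of_isIrr χ.2)] at e
    rw [Finset.add_sum_erase _ _ (Finset.mem_univ t0)]
    exact_mod_cast e
  have hEc : (Finset.univ.erase t0).card = p - 1 := by
    rw [Finset.card_erase_of_mem (Finset.mem_univ _), Finset.card_univ, h.card_irr']
  have hθd : CT.deg (θ : G → ℂ) = p * m θ t0 + (p - 1) := by
    rw [hdegm θ, Finset.sum_congr rfl fun c hc => (show m θ c = m θ t0 + 1 by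
      have := (hall c (Finset.ne_of_mem_erase hc)).1
      change ((m θ t0 : ℤ) - m θ c = -1) at this
      omega), Finset.sum_const, hEc, smul_eq_mul]
    have : p = (p - 1) + 1 := by omega
    nth_rewrite 2 [this]
    ring
  have hηd : CT.deg (η : G → ℂ) = p * m η t0 := by
    rw [hdegm η, Finset.sum_congr rfl fun c hc => (show m η c = m η t0 by
      have := (hall c (Finset.ne_of_mem_erase hc)).2
      change ((m η t0 : ℤ) - m η c = 0) at this
      omega), Finset.sum_const, hEc, smul_eq_mul]
    have : p = (p - 1) + 1 := by omega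
    nth_rewrite 2 [this]
    ring
  have hmm : m θ t0 = 0 ∧ m η t0 = 1 := by
    have hη0 : m η t0 ≠ 0 := fun e => by
      have := CT.deg_pos η.2
      rw [hηd, e, mul_zero] at this
      omega
    have e : p * (m θ t0 + m η t0) = p * 1 := by
      rw [mul_one, Nat.mul_add]; omega
    have := Nat.eq_of_mul_eq_mul_left hp.pos e
    omega
  have hθp : CT.deg (θ : G → ℂ) = p - 1 := by rw [hθd, hmm.1, mul_zero, zero_add]
  have hθone : (θ : G → ℂ) 1 = (p : ℂ) - 1 := by
    rw [CT.deg_eq (CT.isCharacter_of_isIrr θ.2), hθp, Nat.cast_sub hp.one_le, Nat.cast_one]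
  have honP : ∀ y ∈ (P : Subgroup G), y ≠ 1 → (θ : G → ℂ) y = -1 := by
    intro y hy hy1
    rw [show (θ : G → ℂ) y = (θ : G → ℂ) ((⟨y, hy⟩ : (P : Subgroup G)) : G) from rfl,
      h.restrict_eq (CT.isCharacter_of_isIrr θ.2) (y := ⟨y, hy⟩) (fun e => hy1 (congrArg Subtype.val e))]
    have h0 := h.sum_irr_eq_zero (y := ⟨y, hy⟩) (fun e => hy1 (congrArg Subtype.val e))
    rw [← Finset.add_sum_erase _ _ (Finset.mem_univ t0), h.gam_triv, CT.classInner_zero_left, zero_mul,
      zero_add, Finset.sum_congr rfl fun c hc => by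
        rw [hu c θ, (hall c (Finset.ne_of_mem_erase hc)).1]]
    rw [← Finset.add_sum_erase _ _ (Finset.mem_univ t0), CT.trivIrr_apply] at h0
    push_cast
    simp only [neg_mul, one_mul, Finset.sum_neg_distrib, neg_neg]
    linear_combination h0
  -- invariance of the constituent
  have huniq : ∀ χ : IrrCharacter G, classInner π (χ : G → ℂ) ≠ 0 → CT.deg (χ : G → ℂ) = p - 1 → χ = θ := by
    intro χ hne hd
    have h1 : (χ : G → ℂ) ≠ one := fun e => by
      rw [show CT.deg (χ : G → ℂ) = 1 by rw [e]; simp [CT.deg, one]] at hd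
      omega
    have hχS : χ ∈ s' := Finset.mem_filter.mpr ⟨hS2 χ h1 hne, fun e => hne (by
      rw [CT.mult_spec hπ (CT.isCharacter_of_isIrr χ.2), e]; simp)⟩
    by_contra hne'
    have hχη : χ = η := by
      have e1 := hθS
      have e2 := hηθ.1
      have e3 := hηθ.2
      rw [hsab, Finset.mem_insert, Finset.mem_singleton] at hχS e1 e2
      rcases hχS with rfl | rfl <;> rcases e1 with rfl | rfl <;> rcases e2 with rfl | rfl <;>
        first | rfl | exact absurd rfl e3 | exact absurd rfl hne'
    rw [hχη, hηd, hmm.2] at hd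
    omega
  have hθπ : classInner π (θ : G → ℂ) ≠ 0 := by
    rw [CT.mult_spec hπ (CT.isCharacter_of_isIrr θ.2), hm1 θ hθS]; simp
  have hrat : ∀ j : ℕ, j.Coprime (Nat.card G) → ∀ g : G, (θ : G → ℂ) (g ^ j) = (θ : G → ℂ) g := by
    intro j hj g
    let θ' : IrrCharacter G := ⟨_, OddChar.isIrr_map_pow θ.2 hj⟩
    suffices θ' = θ from congrFun (congrArg Subtype.val this) g
    have hπj : ∀ x : G, π (x ^ j) = π x := by
      intro x
      have e : fixedBy α (x ^ j) = fixedBy α x := by
        refine Set.Subset.antisymm (fun z hz => ?_) fun z hz => ?_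
        · obtain ⟨n, hn⟩ := exists_pow_eq_self_of_coprime (Nat.Coprime.coprime_dvd_right (orderOf_dvd_natCard x) hj)
          rw [← hn]
          exact Subgroup.pow_mem (stabilizer G z) (show x ^ j ∈ stabilizer G z from hz) n
        · exact Subgroup.pow_mem (stabilizer G z) (show x ∈ stabilizer G z from hz) j
      simp only [π, permChar, e]
    refine huniq θ' ?_ ?_
    · have e : classInner π (θ' : G → ℂ) = classInner π (θ : G → ℂ) := by
        simp only [classInner]
        congr 1
        rw [← Equiv.sum_comp (powCoprime (G := G) (Nat.Coprime.symm hj)) (fun x => π x * conj ((θ : G → ℂ) x))]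
        exact Finset.sum_congr rfl fun x _ => by
          show π x * conj ((θ : G → ℂ) (x ^ j)) = π (x ^ j) * conj ((θ : G → ℂ) (x ^ j))
          rw [hπj]
      rw [e]; exact hθπ
    · rw [← hθp]
      show CT.deg (fun x : G => (θ : G → ℂ) (x ^ j)) = CT.deg (θ : G → ℂ)
      exact congrArg (fun z : ℂ => ⌊z.re⌋₊) (congrArg (θ : G → ℂ) (one_pow j))
  -- realness and self-pairing
  have hπr : ∀ x, conj (π x) = π x := fun x => by simp [π, permChar]
  have hreal : ∀ χ : IrrCharacter G, classInner π (χ : G → ℂ) ≠ 0 →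
      classInner π (χ : G → ℂ) = 1 ∧ ∀ g, conj ((χ : G → ℂ) g) = (χ : G → ℂ) g := by
    intro χ hne
    by_cases h1 : (χ : G → ℂ) = one
    · have : Nonempty α := ⟨a₀⟩
      rw [h1]
      exact ⟨classInner_permChar_one, fun g => map_one _⟩
    have hχS : χ ∈ s' := Finset.mem_filter.mpr ⟨hS2 χ h1 hne, fun e => hne (by
      rw [CT.mult_spec hπ (CT.isCharacter_of_isIrr χ.2), e]; simp)⟩
    refine ⟨by rw [CT.mult_spec hπ (CT.isCharacter_of_isIrr χ.2), hm1 χ hχS]; simp, ?_⟩
    let χb : IrrCharacter G := ⟨_, CT.SelfCentralP.isIrr_conj' χ.2⟩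
    have hb0 : classInner π (χb : G → ℂ) ≠ 0 := by
      show classInner π (fun g => conj ((χ : G → ℂ) g)) ≠ 0
      rw [show π = fun g => conj (π g) from funext fun g => (hπr g).symm,
        CT.SelfCentralP.inner_conj_conj]
      exact fun e => hne ((map_eq_zero _).mp e)
    have hdb : CT.deg (χb : G → ℂ) = CT.deg (χ : G → ℂ) := by
      simp only [χb, CT.deg, Complex.conj_re]
    intro g
    suffices χb = χ from congrFun (congrArg Subtype.val this) g
    by_cases hd : CT.deg (χ : G → ℂ) = p - 1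
    · rw [huniq χ hne hd, huniq χb hb0 (hdb.trans hd)]
    · have hb1 : (χb : G → ℂ) ≠ one := fun e => h1 (funext fun g => by
        have := congrArg conj (congrFun e g)
        simpa [χb, one] using this)
      have hbS' : χb ∈ s' := Finset.mem_filter.mpr ⟨hS2 χb hb1 hb0, fun e => hb0 (by
        rw [CT.mult_spec hπ (CT.isCharacter_of_isIrr χb.2), e]; simp)⟩
      have hne1 : χ ≠ θ := fun e => hd (by rw [e, hθp])
      have hne2 : χb ≠ θ := fun e => hd (by rw [← hdb, e, hθp])
      have e1 := hθS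
      have e2 := hηθ.1
      have e3 := hηθ.2
      rw [hsab, Finset.mem_insert, Finset.mem_singleton] at hχS hbS' e1
      rcases hχS with h | h <;> rcases hbS' with h' | h' <;> rcases e1 with h'' | h'' <;>
        first | exact h'.trans h.symm | exact absurd (h.trans h''.symm) hne1 | exact absurd (h'.trans h''.symm) hne2
  have hpair : ∀ x y : α, ∃ g : G, g • x = y ∧ g • y = x :=
    S0717.result.mpr fun χ hχ hne => hreal ⟨χ, hχ⟩ hne
  -- the indicators
  have hF : ∑ g : G, fixN G α (g * g) = ∑ g : G, fixN G α g * fixN G α g := by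
    simp only [fixN_sq_eq_sum]
    simp only [fixN_eq_sum, Finset.sum_mul_sum]
    rw [Finset.sum_comm]
    conv_rhs => rw [Finset.sum_comm]
    refine Finset.sum_congr rfl fun x _ => ?_
    rw [Finset.sum_comm]
    conv_rhs => rw [Finset.sum_comm]
    refine Finset.sum_congr rfl fun y _ => ?_
    obtain ⟨g₀, hg₀, hg₀'⟩ := hpair x y
    refine Fintype.sum_equiv (Equiv.mulLeft g₀) _ _ fun g => ?_
    simp only [Equiv.coe_mulLeft, mul_smul, ← ite_and, ite_mul, one_mul, zero_mul]
    refine if_congr ?_ rfl rfl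
    constructor
    · rintro ⟨e1, e2⟩; exact ⟨by rw [e1, hg₀'], by rw [e2, hg₀]⟩
    · rintro ⟨e1, e2⟩
      exact ⟨(smul_left_cancel_iff g₀).mp (e1.trans hg₀'.symm), (smul_left_cancel_iff g₀).mp (e2.trans hg₀.symm)⟩
  have hθT : (θ : G → ℂ) ≠ one := fun e => by
    have := hθone; rw [e] at this
    have h2 : (p : ℂ) = 2 := by simp only [one] at this; linear_combination -this
    have : p = 2 := by exact_mod_cast h2
    omega
  have hindsum : CharFS.ind π = 3 := by
    have h1 : classInner π π = 3 := by rw [classInner_permChar_self a₀, hrank]; norm_num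
    simp only [classInner, hπr] at h1
    simp only [π, permChar_eq_fixN, ← Nat.cast_mul, ← Nat.cast_sum] at h1
    rw [← hF] at h1
    simpa [CharFS.ind, π, permChar_eq_fixN] using h1
  have horth : CharFS.ind (θ : G → ℂ) = 1 := by
    have hadd : CharFS.ind π = CharFS.ind one + CharFS.ind (a : G → ℂ) + CharFS.ind (b : G → ℂ) := by
      rw [hπeq]
      simp only [CharFS.ind, Pi.add_apply, Finset.sum_add_distrib, mul_add]
    have hone' : CharFS.ind one = 1 := by
      simp [CharFS.ind, one, inv_mul_cancel₀, Nat.card_eq_fintype_card, Fintype.card_ne_zero]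
    rw [hindsum, hone'] at hadd
    have hca := CharFS.ind_cases a.2
    have hcb := CharFS.ind_cases b.2
    have hab' : CharFS.ind (a : G → ℂ) = 1 ∧ CharFS.ind (b : G → ℂ) = 1 := by
      rcases hca with ⟨ea, -⟩ | ⟨ea | ea, -⟩ <;> rcases hcb with ⟨eb, -⟩ | ⟨eb | eb, -⟩ <;>
        rw [ea, eb] at hadd <;> norm_num at hadd
      exact ⟨ea, eb⟩
    have e1 := hθS
    rw [hsab, Finset.mem_insert, Finset.mem_singleton] at e1
    rcases e1 with rfl | rfl
    · exact hab'.1
    · exact hab'.2
  -- faithfulness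
  have hf : ∀ g : G, (θ : G → ℂ) g = (θ : G → ℂ) 1 → g = 1 := by
    intro g hg
    by_contra hg1
    set K := CT.kerChar (θ : G → ℂ)
    have hKn : K.Normal := CT.PGroupSchur.kerChar_normal' (CT.isClassFunction_of_isIrr θ.2)
    have hKne : K ≠ ⊥ := fun e => hg1 (by
      have := (CT.mem_kerChar_iff (CT.isCharacter_of_isIrr θ.2)).mpr hg
      rwa [show CT.kerChar (θ : G → ℂ) = ⊥ from e, Subgroup.mem_bot] at this)
    haveI := hKn
    haveI := normal_transitive (α := α) K hKne
    have hpK : p ∣ Nat.card K := by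
      refine (dvd_mul_left p 2).trans ?_
      rw [← hα, ← Nat.card_eq_fintype_card, ← index_stabilizer_of_transitive K a₀]
      exact Subgroup.index_dvd_card _
    obtain ⟨y, hy⟩ := exists_prime_orderOf_dvd_card' p hpK
    have hyo : orderOf (y : G) = p := by rw [Subgroup.orderOf_coe, hy]
    obtain ⟨R, hR⟩ := (IsPGroup.of_card (p := p) (n := 1)
      (by rw [Nat.card_zpowers, hyo, pow_one]) : IsPGroup p (Subgroup.zpowers (y : G))).exists_le_sylow
    obtain ⟨x, hx⟩ := MulAction.exists_smul_eq G R P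
    have hmem : x * (y : G) * x⁻¹ ∈ (P : Subgroup G) := by
      have h1 : (MulAut.conj x) (y : G) ∈ ((x • R : Sylow p G) : Subgroup G) := by
        rw [Sylow.coe_subgroup_smul]
        exact Subgroup.smul_mem_pointwise_smul _ _ _ (hR (Subgroup.mem_zpowers _))
      rw [hx] at h1
      simpa using h1
    have hne : x * (y : G) * x⁻¹ ≠ 1 := fun e => by
      rw [mul_inv_eq_one, mul_eq_left] at e
      rw [e, orderOf_one] at hyo
      exact hp.one_lt.ne hyo
    have h2 := (CT.mem_kerChar_iff (CT.isCharacter_of_isIrr θ.2)).mp (hKn.conj_mem _ y.2 x)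
    rw [honP _ hmem hne, hθone] at h2
    have h3 : (p : ℂ) = 0 := by linear_combination -h2
    exact hp.ne_zero (by exact_mod_cast h3)
  have D : CharData G (P : Subgroup G) p (θ : G → ℂ) := ⟨h, θ.2, hθone, honP, horth⟩
  obtain ⟨hcard, n, hn⟩ := D.order hf hrat
  have ha1 : a₁ = 1 := by
    have h2 : 2 * (a₁ * (a₁ + 1)) = 2 ^ n := by
      rw [← hn, hpa]
      have : 2 * a₁ ^ 2 + 2 * a₁ + 1 - 1 = 2 * a₁ ^ 2 + 2 * a₁ := by omega
      rw [this]; ring
    have hd : a₁ ∣ 2 ^ n ∧ a₁ + 1 ∣ 2 ^ n :=
      ⟨h2 ▸ dvd_mul_of_dvd_right (dvd_mul_right _ _) 2, h2 ▸ dvd_mul_of_dvd_right (dvd_mul_left _ _) 2⟩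
    obtain ⟨i, -, hi⟩ := (Nat.dvd_prime_pow Nat.prime_two).mp hd.1
    obtain ⟨k, -, hk⟩ := (Nat.dvd_prime_pow Nat.prime_two).mp hd.2
    rcases i with _ | i
    · simpa using hi
    · rcases k with _ | k
      · simp at hk; omega
      · rw [pow_succ] at hi hk; omega
  subst ha1
  have hp5 : p = 5 := by rw [hpa]; norm_num
  exact ⟨hp5, by rw [hcard, hp5], h⟩

end Cfsg.Agent.PermGp.TwicePTwo
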